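import Cfsg.Agent.Lib.BlockArith.CyclicQuotientBound

/-!
# `k(B)` for abelian defect groups with few generators

* `card_le_of_two_gen`: `k(B) ≤ p ^ d` if the defect group is abelian on two generators.
* `card_pow_three_le_of_three_gen`: `k(B) ^ 3 ≤ p ^ (5 d)` if it is abelian on three generators.
-/

set_option autoImplicit false

noncomputable section

namespace CfsgLib.AbelianDefect

open Cfsg CfsgLib.Char CfsgLib.Blocks CfsgLib.BlockArith CfsgLib.BrauerPairs CfsgLib.CycQuotBound
open scoped Classical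

universe u

/-- The block of `C(x)`, the subgroup `⟨x⟩` of its centre and the quotient. -/
theorem exists_setup {M : Ideal AlgInt} [M.IsMaximal] {p : ℕ} [Fact p.Prime] {G : Type u} [Group G]
    [Fintype G] (hM : IsPModular p M) {B : Set (IrrCharacter G)} (hB : IsPBlock M B) {D : Subgroup G}
    (hD : IsDefectGroup p M B D) (hab : ∀ u ∈ D, ∀ v ∈ D, u * v = v * u) (a : D) :
    ∃ (b : Set (IrrCharacter (Subgroup.centralizer ({(a : G)} : Set G))))
      (Q : Subgroup (Subgroup.centralizer ({(a : G)} : Set G))) (_ : Q.Normal)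
      (E : Subgroup (Subgroup.centralizer ({(a : G)} : Set G)))
      (φ : D →* (Subgroup.centralizer ({(a : G)} : Set G)) ⧸ Q),
      (∃ k : ℕ, orderOf (a : G) = p ^ k) ∧
      IsInducedBlock M (Subgroup.centralizer ({(a : G)} : Set G)) b B ∧
      blockDefect p b = blockDefect p B ∧ IsPGroup p Q ∧
      (∃ k : ℕ, (Subgroup.centralizer
        (Q : Set (Subgroup.centralizer ({(a : G)} : Set G)))).index = p ^ k) ∧
      Nat.card Q = orderOf (a : G) ∧ IsDefectGroup p M b E ∧
      E.map (QuotientGroup.mk' Q) = φ.range ∧ φ a = 1 := by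
  obtain ⟨b, hind, hbd, hE⟩ := exists_major_subsection hM hB hD a.2 fun d hd => hab d hd a a.2
  have hDC : D ≤ Subgroup.centralizer ({(a : G)} : Set G) := fun d hd =>
    Subgroup.mem_centralizer_singleton_iff.mpr (hab d hd a a.2)
  have hmem : (a : G) ∈ Subgroup.centralizer ({(a : G)} : Set G) := hDC a.2
  set a' : Subgroup.centralizer ({(a : G)} : Set G) := ⟨a, hmem⟩ with ha'
  have hxc : Subgroup.zpowers a' ≤ Subgroup.center _ :=
    Subgroup.zpowers_le.mpr (mem_center_centralizer hmem)
  have hn' : (Subgroup.zpowers a').Normal := ⟨fun y hy g => by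
    rw [Subgroup.mem_center_iff.mp (hxc hy) g, mul_inv_cancel_right]; exact hy⟩
  have hcard : Nat.card (Subgroup.zpowers a') = orderOf (a : G) := by
    rw [Nat.card_zpowers, ha', Subgroup.orderOf_mk]
  obtain ⟨k, hk⟩ := IsPGroup.iff_orderOf.mp (IsDefectGroup.isPGroup hD) a
  have hk' : orderOf (a : G) = p ^ k := by rw [Subgroup.orderOf_coe, hk]
  refine ⟨b, _, hn', _, (QuotientGroup.mk' (Subgroup.zpowers a')).comp (Subgroup.inclusion hDC),
    ⟨k, hk'⟩, hind, hbd, IsPGroup.of_card (n := k) (by rw [hcard, hk']),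
    centralizer_central_index hxc, hcard, hE, ?_, ?_⟩
  · rw [MonoidHom.range_comp, Subgroup.inclusion_range]
  · exact (QuotientGroup.eq_one_iff _).mpr (Subgroup.mem_zpowers a')

/-- The image of the generators. -/
theorem range_le_of_gen {D K : Type*} [Group D] [Group K] (φ : D →* K) (S : Finset D)
    (hS : Subgroup.closure (S : Set D) = ⊤) (a : D) (ha : φ a = 1) :
    φ.range = Subgroup.closure (φ '' ((S : Set D) \ {a})) := by
  rw [MonoidHom.range_eq_map, ← hS, MonoidHom.map_closure]
  refine le_antisymm ?_ (Subgroup.closure_mono (Set.image_mono fun y hy => ?_))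
  · rw [Subgroup.closure_le]
    rintro _ ⟨y, hy, rfl⟩
    by_cases h : y = a
    · rw [h, ha]; exact one_mem _
    · exact Subgroup.subset_closure ⟨y, ⟨hy, h⟩, rfl⟩
  · exact hy.1

/-- `k(B) ≤ p ^ d` for an abelian defect group on two generators. -/
theorem card_le_of_two_gen {M : Ideal AlgInt} [M.IsMaximal] {p : ℕ} [Fact p.Prime] {G : Type u}
    [Group G] [Fintype G] (hM : IsPModular p M) {B : Set (IrrCharacter G)} (hB : IsPBlock M B)
    {D : Subgroup G} (hD : IsDefectGroup p M B D) (hab : ∀ u ∈ D, ∀ v ∈ D, u * v = v * u)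
    (S : Finset D) (hS : Subgroup.closure (S : Set D) = ⊤) (hc : S.card ≤ 2) :
    Nat.card B ≤ p ^ blockDefect p B := by
  rcases S.eq_empty_or_nonempty with rfl | ⟨a, ha⟩
  · have hbot : D = ⊥ := by
      rw [Finset.coe_empty, Subgroup.closure_empty] at hS
      rw [← Subgroup.range_subtype D, MonoidHom.range_eq_map, ← hS, Subgroup.map_bot]
    have h := card_defectGroup hM hB hD
    rw [hbot, Subgroup.card_bot] at h
    have h0 : blockDefect p B = 0 := by
      by_contra h0
      exact (Nat.one_lt_pow h0 (Fact.out : p.Prime).one_lt).ne h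
    rw [card_eq_one_of_defect_zero hM hB h0, h0, pow_zero]
  obtain ⟨b, Q, _, E, φ, hx, hind, hbd, hQ, hC, -, hE, hmap, hφa⟩ := exists_setup hM hB hD hab a
  refine CfsgLib.CycQuotBound.card_le_of_cyclic_quotient hM hx hind hbd Q hQ hC hE ?_
  rw [hmap, range_le_of_gen φ S hS a hφa, ← Finset.coe_erase]
  have h1 : (S.erase a).card ≤ 1 := by rw [Finset.card_erase_of_mem ha]; omega
  rcases (S.erase a).eq_empty_or_nonempty with h | ⟨c, hc'⟩
  · rw [h, Finset.coe_empty, Set.image_empty, Subgroup.closure_empty]; infer_instance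
  · rw [(Finset.card_le_one_iff_subset_singleton.mp h1).choose_spec.antisymm (by
      intro y hy
      have := (Finset.card_le_one_iff_subset_singleton.mp h1).choose_spec hc'
      rw [Finset.mem_singleton] at this hy
      rw [hy, ← this]; exact hc'), Finset.coe_singleton, Set.image_singleton,
      ← Subgroup.zpowers_eq_closure]
    infer_instance

/-- An abelian group on three generators has order at most the cube of the largest generator order. -/
theorem card_le_prod_orderOf {D : Type*} [CommGroup D] [Finite D] (S : Finset D)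
    (hS : Subgroup.closure (S : Set D) = ⊤) : Nat.card D ≤ ∏ s ∈ S, orderOf s := by
  classical
  suffices h : ∀ T : Finset D, Nat.card (Subgroup.closure (T : Set D)) ≤ ∏ s ∈ T, orderOf s by
    simpa [hS] using h S
  intro T
  induction T using Finset.induction with
  | empty => simp
  | insert c T hc ih =>
    rw [Finset.prod_insert hc, Finset.coe_insert, Set.insert_eq, Subgroup.closure_union,
      ← Subgroup.zpowers_eq_closure]
    refine le_trans ?_ (Nat.mul_le_mul_left _ ih)
    rw [← Nat.card_zpowers, ← Nat.card_prod]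
    refine Nat.card_le_card_of_surjective
      (fun z : Subgroup.zpowers c × Subgroup.closure (T : Set D) =>
        (⟨z.1.1 * z.2.1, Subgroup.mul_mem_sup z.1.2 z.2.2⟩ :
          (Subgroup.zpowers c ⊔ Subgroup.closure (T : Set D) : Subgroup D))) ?_
    rintro ⟨z, hz⟩
    obtain ⟨u, hu, v, hv, rfl⟩ := Subgroup.mem_sup.mp hz
    exact ⟨(⟨u, hu⟩, ⟨v, hv⟩), rfl⟩

/-- `k(B) ^ 3 ≤ p ^ (5 d)` for an abelian defect group on three generators. -/
theorem card_pow_three_le_of_three_gen {M : Ideal AlgInt} [M.IsMaximal] {p : ℕ} [Fact p.Prime]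
    {G : Type u} [Group G] [Fintype G] (hM : IsPModular p M) {B : Set (IrrCharacter G)}
    (hB : IsPBlock M B) {D : Subgroup G} (hD : IsDefectGroup p M B D)
    (hab : ∀ u ∈ D, ∀ v ∈ D, u * v = v * u) (S : Finset D)
    (hS : Subgroup.closure (S : Set D) = ⊤) (hc : S.card = 3) :
    Nat.card B ^ 3 ≤ p ^ (5 * blockDefect p B) := by
  set d := blockDefect p B
  obtain ⟨a, ha, hmax⟩ := S.exists_max_image (fun s => orderOf s) (Finset.card_pos.mp (by omega))
  obtain ⟨b, Q, _, E, φ, hx, hind, hbd, hQ, hC, hQc, hE, hmap, hφa⟩ := exists_setup hM hB hD hab a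
  have : Fintype ((Subgroup.centralizer ({(a : G)} : Set G)) ⧸ Q) := Fintype.ofFinite _
  set bb := inflSet Q b with hbb
  have hbb' : IsPBlock M bb := isPBlock_inflSet hM hQ hC hind.1
  obtain ⟨D', hD'⟩ := exists_isDefectGroup (p := p) hbb'
  -- the defect group of the quotient is abelian on two generators
  letI hDc : CommGroup D := { (inferInstance : Group D) with
    mul_comm := fun u v => Subtype.ext (hab u u.2 v v.2) }
  obtain ⟨T, hT, hTc, hT2⟩ : ∃ T : Finset D', Subgroup.closure (T : Set D') = ⊤ ∧ T.card ≤ 2 ∧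
      ∀ u ∈ D', ∀ v ∈ D', u * v = v * u := by
    have hc' := isPBlock_inflSet hM hQ hC hind.1
    obtain ⟨y, hy⟩ := exists_defect_le_image hM hQ hC hind.1 hE hD'
    have hcard : Nat.card (cj y D') = Nat.card (E.map (QuotientGroup.mk' Q)) := by
      rw [card_cj, card_defectGroup hM hc' hD']
      exact (card_image_eq hM hQ hC hind.1 hE).symm
    have heq := Subgroup.eq_of_le_of_card_ge hy hcard.ge
    let ψ : D →* D' := {
      toFun := fun u => ⟨y⁻¹ * φ u * y, mem_cj.mp (by rw [heq, hmap]; exact ⟨u, rfl⟩)⟩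
      map_one' := Subtype.ext (by simp)
      map_mul' := fun u v => Subtype.ext (by simp [mul_assoc]) }
    have hsurj : Function.Surjective ψ := fun z => by
      have hz : y * (z : (Subgroup.centralizer ({(a : G)} : Set G)) ⧸ Q) * y⁻¹ ∈ φ.range := by
        rw [← hmap, ← heq, mem_cj]
        simpa [mul_assoc] using z.2
      obtain ⟨u, hu⟩ := hz
      exact ⟨u, Subtype.ext (by
        show y⁻¹ * φ u * y = _
        rw [hu]; group)⟩
    refine ⟨(S.erase a).image ψ, ?_, Finset.card_image_le.trans (by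
      rw [Finset.card_erase_of_mem ha]; omega), fun u hu v hv => ?_⟩
    · have hψa : ψ a = 1 := Subtype.ext (by simp [ψ, hφa])
      rw [Finset.coe_image, Finset.coe_erase, ← range_le_of_gen ψ S hS a hψa, MonoidHom.range_eq_top.mpr hsurj]
    · obtain ⟨u', hu'⟩ := hsurj ⟨u, hu⟩
      obtain ⟨v', hv'⟩ := hsurj ⟨v, hv⟩
      have := congrArg Subtype.val ((map_mul ψ u' v').symm.trans
        ((congrArg ψ (hDc.mul_comm u' v')).trans (map_mul ψ v' u')))
      rwa [hu', hv'] at this
  have hk := card_le_of_two_gen hM hbb' hD' hT2 T hT hTc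
  obtain ⟨v, hv⟩ := hx
  have hdd : d = blockDefect p bb + v := by
    rw [show d = blockDefect p b from hbd.symm, blockDefect_inflSet hM hQ hC hind.1, hQc, hv,
      Nat.Prime.factorization_pow (Fact.out : p.Prime), Finsupp.single_eq_same]
  have hl : blockRank p b ≤ p ^ blockDefect p bb :=
    (blockRank_inflSet hM hQ hC hind.1).trans_le ((blockRank_le_card bb).trans hk)
  have hkB : Nat.card B ≤ p ^ (blockDefect p bb + d) := by
    refine (CfsgLib.CycQuotBound.card_le_rank_mul_pow hM ⟨v, hv⟩ hind hbd).trans ?_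
    rw [pow_add]
    exact Nat.mul_le_mul_right _ hl
  have hd3 : d ≤ 3 * v := by
    have h1 := card_le_prod_orderOf S hS
    have h2 : ∏ s ∈ S, orderOf s ≤ (p ^ v) ^ 3 := by
      rw [← hv, ← hc, Subgroup.orderOf_coe]
      exact Finset.prod_le_pow_card _ _ _ hmax
    rw [card_defectGroup hM hB hD] at h1
    rw [← pow_mul] at h2
    have := (Nat.pow_le_pow_iff_right (Fact.out : p.Prime).one_lt).mp (h1.trans h2)
    omega
  calc Nat.card B ^ 3 ≤ (p ^ (blockDefect p bb + d)) ^ 3 := Nat.pow_le_pow_left hkB 3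
    _ = p ^ ((blockDefect p bb + d) * 3) := by rw [pow_mul]
    _ ≤ _ := Nat.pow_le_pow_right (Fact.out : p.Prime).pos (by omega)

end CfsgLib.AbelianDefect
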