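import Mathlib

/-!
# The kernel of `k[G] → k[G ⧸ Q]` for a normal `p`-subgroup `Q` in characteristic `p`

* `aug_isNilpotent_of_normal_pGroup`: its elements are nilpotent.
-/

set_option autoImplicit false

namespace CfsgLib.BlockArith

variable {G : Type*} [Group G] [Finite G] {k : Type*} [Field k] {p : ℕ} [Fact p.Prime] [CharP k p]

/-- A nonzero module of a `p`-group in characteristic `p` has a nonzero fixed vector. -/
theorem exists_fixed_ne_zero_module {Q : Subgroup G} (hQ : IsPGroup p Q) {V : Type*}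
    [AddCommGroup V] [Module (MonoidAlgebra k G) V] {x : V} (hx : x ≠ 0) :
    ∃ v : V, v ≠ 0 ∧ ∀ q ∈ Q, MonoidAlgebra.single q (1 : k) • v = v := by
  let _ : Module k V := Module.compHom V (algebraMap k (MonoidAlgebra k G))
  have hp0 : ∀ v : V, p • v = 0 := fun v => by
    rw [← Nat.cast_smul_eq_nsmul k, CharP.cast_eq_zero, zero_smul]
  let act : G → V → V := fun g v => MonoidAlgebra.single g (1 : k) • v
  have hmul : ∀ a b v, act (a * b) v = act a (act b v) := fun a b v => by
    simp only [act, smul_smul, MonoidAlgebra.single_mul_single, one_mul]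
  have hone : ∀ v, act 1 v = v := fun v => by
    simp only [act, ← MonoidAlgebra.one_def, one_smul]
  let U : AddSubgroup V := AddSubgroup.closure (Set.range fun r : Q => act r x)
  have hU : ∀ q : Q, ∀ v ∈ U, act q v ∈ U := fun q v hv => by
    induction hv using AddSubgroup.closure_induction with
    | mem v hv =>
      obtain ⟨r, rfl⟩ := hv
      exact AddSubgroup.subset_closure ⟨q * r, by simp [hmul]⟩
    | zero => simp only [act, smul_zero]; exact U.zero_mem
    | add a b _ _ ha hb => simp only [act, smul_add]; exact U.add_mem ha hb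
    | neg a _ ha => simp only [act, smul_neg]; exact U.neg_mem ha
  have : AddGroup.FG U := (AddGroup.fg_iff_addSubgroup_fg U).mpr
    ⟨(Set.finite_range fun r : Q => act r x).toFinset, by rw [Set.Finite.coe_toFinset]⟩
  have : Finite U := AddCommGroup.finite_of_fg_torsion U fun v =>
    isOfFinAddOrder_iff_nsmul_eq_zero.mpr
      ⟨p, (Fact.out : p.Prime).pos, Subtype.ext (hp0 v.1)⟩
  let _ : MulAction Q U :=
    { smul := fun q v => ⟨act q v.1, hU q v.1 v.2⟩
      one_smul := fun v => Subtype.ext (hone v.1)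
      mul_smul := fun a b v => Subtype.ext (by
        show act ((a * b : Q) : G) v.1 = act a (act b v.1)
        rw [Subgroup.coe_mul]; exact hmul _ _ _) }
  have hxU : x ∈ U := AddSubgroup.subset_closure ⟨1, by simp [hone]⟩
  have hdvd : p ∣ Nat.card U := by
    have hord : addOrderOf (⟨x, hxU⟩ : U) = p :=
      addOrderOf_eq_prime (Subtype.ext (hp0 x)) (fun h => hx (congrArg Subtype.val h))
    rw [← hord]
    exact addOrderOf_dvd_natCard _
  obtain ⟨⟨v, hvU⟩, hfix, hne⟩ := hQ.exists_fixed_point_of_prime_dvd_card_of_fixed_point U hdvd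
    (a := 0) (fun q => Subtype.ext (smul_zero _))
  exact ⟨v, fun h => hne (Subtype.ext h.symm), fun q hq => congrArg Subtype.val (hfix ⟨q, hq⟩)⟩

/-- Elements of the kernel of `k[G] → k[G ⧸ Q]` are nilpotent. -/
theorem aug_isNilpotent_of_normal_pGroup {Q : Subgroup G} [Q.Normal] (hQ : IsPGroup p Q)
    {y : MonoidAlgebra k G}
    (hy : MonoidAlgebra.mapDomainRingHom k (QuotientGroup.mk' Q) y = 0) : IsNilpotent y := by
  classical
  have : Module.Finite k (MonoidAlgebra k G) := by
    have := Fintype.ofFinite G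
    exact Module.Finite.equiv ((MonoidAlgebra.coeffLinearEquiv k).trans
      (Finsupp.linearEquivFunOnFinite k k G)).symm
  have : IsNoetherianRing (MonoidAlgebra k G) := isNoetherian_of_tower k inferInstance
  let π := MonoidAlgebra.mapDomainRingHom k (QuotientGroup.mk' Q)
  let S : Set (Ideal (MonoidAlgebra k G)) :=
    {W | ∀ z : MonoidAlgebra k G, π z = 0 → ∃ n : ℕ, ∀ w ∈ W, z ^ n * w = 0}
  obtain ⟨W, hW, hmax⟩ := (IsWellFounded.wf (r := ((· > ·) :
      Ideal (MonoidAlgebra k G) → Ideal (MonoidAlgebra k G) → Prop))).has_min S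
    ⟨⊥, fun z _ => ⟨0, fun w hw => by rw [(Submodule.mem_bot _).mp hw, mul_zero]⟩⟩
  by_cases htop : W = ⊤
  · obtain ⟨n, hn⟩ := hW y hy
    exact ⟨n, by simpa using hn 1 (htop ▸ Submodule.mem_top)⟩
  exfalso
  have hnt : Nontrivial (MonoidAlgebra k G ⧸ W) := Submodule.Quotient.nontrivial_iff.mpr htop
  obtain ⟨x, hx⟩ := exists_ne (0 : MonoidAlgebra k G ⧸ W)
  obtain ⟨v, hv0, hfix⟩ := exists_fixed_ne_zero_module (k := k) (p := p) hQ hx
  have hkill : ∀ z, π z = 0 → z • v = 0 := fun z hz => by
    have key : ∀ z : MonoidAlgebra k G,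
        z • v = MonoidAlgebra.mapDomain Quotient.out (π z) • v := by
      intro z
      induction z using MonoidAlgebra.induction_linear with
      | zero => simp [π]
      | add a b ha hb => rw [add_smul, ha, hb, map_add, MonoidAlgebra.mapDomain_add, add_smul]
      | single g a =>
        simp only [π, MonoidAlgebra.mapDomainRingHom_apply, MonoidAlgebra.mapDomain_single,
          QuotientGroup.mk'_apply]
        obtain ⟨q, hq⟩ := QuotientGroup.mk_out_eq_mul Q g
        change MonoidAlgebra.single g a • v =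
          MonoidAlgebra.single (Quotient.out (g : G ⧸ Q)) a • v
        rw [hq]
        conv_lhs => rw [← hfix q.1 q.2]
        rw [smul_smul, MonoidAlgebra.single_mul_single, mul_one]
    rw [key z, hz, MonoidAlgebra.mapDomain_zero, zero_smul]
  obtain ⟨w, rfl⟩ := Submodule.Quotient.mk_surjective W v
  have hwW : w ∉ W := fun h => hv0 ((Submodule.Quotient.mk_eq_zero W).mpr h)
  refine hmax (W ⊔ Ideal.span {w}) (fun z hz => ?_) ?_
  · obtain ⟨n, hn⟩ := hW z hz
    refine ⟨n + 1, fun a ha => ?_⟩
    obtain ⟨b, hb, c, hc, rfl⟩ := Submodule.mem_sup.mp ha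
    obtain ⟨d, rfl⟩ := Ideal.mem_span_singleton'.mp hc
    rw [pow_succ, mul_assoc]
    refine hn _ ?_
    rw [mul_add, ← mul_assoc z d w]
    refine W.add_mem (W.mul_mem_left z hb) ((Submodule.Quotient.mk_eq_zero W).mp ?_)
    rw [← smul_eq_mul, Submodule.Quotient.mk_smul]
    exact hkill _ (by rw [map_mul, hz, zero_mul])
  · exact lt_of_le_of_ne le_sup_left fun h => hwW (h ▸ Submodule.mem_sup_right
      (Ideal.mem_span_singleton_self w))

end CfsgLib.BlockArith
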