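import Cfsg.Agent.Lib.BlockArith.Contribution

/-!
# A conjugate above a weighted average

* `exists_conjugate_sum_ge`: totally nonnegative nonzero algebraic integers have, for some
  automorphism of `ℂ`, weighted sum at least the sum of the weights.
-/

set_option autoImplicit false

noncomputable section

namespace CfsgLib.BlockArith

/-- Weighted inequality of arithmetic and geometric means over the conjugates. -/
theorem exists_conjugate_sum_ge {α : Type*} (s : Finset α) (f : α → ℂ) (w : α → ℕ)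
    (hint : ∀ a ∈ s, IsIntegral ℤ (f a)) (hne : ∀ a ∈ s, f a ≠ 0)
    (hnn : ∀ a ∈ s, ∀ σ : ℂ ≃+* ℂ, ∃ r : ℝ, 0 ≤ r ∧ σ (f a) = (r : ℂ)) :
    ∃ σ : ℂ ≃+* ℂ, ((∑ a ∈ s, w a : ℕ) : ℝ) ≤ ∑ a ∈ s, (w a : ℝ) * (σ (f a)).re := by
  classical
  have hreal : ∀ σ : ℂ ≃+* ℂ, ∀ a ∈ s, σ (f a) = ((σ (f a)).re : ℂ) ∧ 0 < (σ (f a)).re := by
    intro σ a ha
    obtain ⟨r, hr, he⟩ := hnn a ha σ
    have hre : (σ (f a)).re = r := by rw [he, Complex.ofReal_re]
    refine ⟨by rw [hre]; exact he, hre ▸ lt_of_le_of_ne hr ?_⟩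
    rintro rfl
    exact hne a ha ((map_eq_zero_iff σ σ.injective).mp (he.trans Complex.ofReal_zero))
  have hmap : ∀ σ : ℂ ≃+* ℂ, σ (∏ a ∈ s, f a ^ w a) =
      ((∏ a ∈ s, (σ (f a)).re ^ w a : ℝ) : ℂ) := fun σ => by
    rw [map_prod, Complex.ofReal_prod]
    exact Finset.prod_congr rfl fun a ha => by rw [map_pow, Complex.ofReal_pow, ← (hreal σ a ha).1]
  obtain ⟨σ, hσ⟩ := exists_conjugate_ge_one (z := ∏ a ∈ s, f a ^ w a)
    (IsIntegral.prod _ fun a ha => (hint a ha).pow _)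
    (Finset.prod_ne_zero_iff.mpr fun a ha => pow_ne_zero _ (hne a ha))
    (fun σ => ⟨_, Finset.prod_nonneg fun a ha => pow_nonneg (hreal σ a ha).2.le _, hmap σ⟩)
  rw [hmap σ, Complex.ofReal_re] at hσ
  refine ⟨σ, ?_⟩
  have h2 := Real.log_nonneg hσ
  rw [Real.log_prod (fun a ha => (pow_pos (hreal σ a ha).2 _).ne')] at h2
  simp only [Real.log_pow] at h2
  have h3 : ∑ a ∈ s, (w a : ℝ) * Real.log (σ (f a)).re ≤
      ∑ a ∈ s, (w a : ℝ) * ((σ (f a)).re - 1) :=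
    Finset.sum_le_sum fun a ha =>
      mul_le_mul_of_nonneg_left (Real.log_le_sub_one_of_pos (hreal σ a ha).2) (Nat.cast_nonneg _)
  simp only [mul_sub, mul_one, Finset.sum_sub_distrib] at h3
  push_cast
  linarith

end CfsgLib.BlockArith
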