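import Cfsg.Agent.Lib.Char.Integral
import Mathlib.RepresentationTheory.Irreducible

/-!
# Blichfeldt's lemma

In an irreducible representation of a simple group no element can have an eigenvalue within
sixty degrees of which all the others lie, unless it is a scalar: `blichfeldt`.

* `avgInner`: an invariant inner product;
* `fixed_stable`: every conjugate of such an element stabilizes the eigenspace.
-/

set_option autoImplicit false

noncomputable section

open scoped ComplexConjugate

namespace CfsgLib.BlockArith.Blichfeldt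

variable {G : Type*} [Group G] [Fintype G] {n : ℕ} (ρ : Representation ℂ G (Fin n → ℂ))

/-- The averaged inner product. -/
def avgInner (x y : Fin n → ℂ) : ℂ := ∑ g : G, ∑ i, conj (ρ g x i) * ρ g y i

/-- Its square norm. -/
def avgNorm (x : Fin n → ℂ) : ℝ := ∑ g : G, ∑ i, Complex.normSq (ρ g x i)

theorem avgInner_self (x : Fin n → ℂ) : avgInner ρ x x = (avgNorm ρ x : ℂ) := by
  simp only [avgInner, avgNorm, Complex.ofReal_sum]
  exact Finset.sum_congr rfl fun g _ => Finset.sum_congr rfl fun i _ =>
    (Complex.normSq_eq_conj_mul_self).symm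

theorem avgInner_conj (x y : Fin n → ℂ) : conj (avgInner ρ x y) = avgInner ρ y x := by
  simp only [avgInner, map_sum, map_mul, Complex.conj_conj, mul_comm]

theorem avgInner_act (g : G) (x y : Fin n → ℂ) : avgInner ρ (ρ g x) (ρ g y) = avgInner ρ x y := by
  refine Fintype.sum_equiv (Equiv.mulRight g) _ _ fun h => ?_
  simp only [Equiv.coe_mulRight, map_mul, Module.End.mul_apply]

theorem avgInner_smul_left (c : ℂ) (x y : Fin n → ℂ) : avgInner ρ (c • x) y = conj c * avgInner ρ x y := by
  simp only [avgInner, map_smul, Pi.smul_apply, smul_eq_mul, map_mul, Finset.mul_sum, mul_assoc]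

theorem avgInner_smul_right (c : ℂ) (x y : Fin n → ℂ) : avgInner ρ x (c • y) = c * avgInner ρ x y := by
  simp only [avgInner, map_smul, Pi.smul_apply, smul_eq_mul, Finset.mul_sum, mul_left_comm]

theorem avgInner_sum_left {ι : Type*} (s : Finset ι) (f : ι → Fin n → ℂ) (y : Fin n → ℂ) :
    avgInner ρ (∑ a ∈ s, f a) y = ∑ a ∈ s, avgInner ρ (f a) y := by
  simp only [avgInner, map_sum, Finset.sum_apply, Finset.sum_mul]
  exact (Finset.sum_congr rfl fun g _ => Finset.sum_comm).trans Finset.sum_comm

theorem avgInner_sum_right {ι : Type*} (s : Finset ι) (f : ι → Fin n → ℂ) (x : Fin n → ℂ) :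
    avgInner ρ x (∑ a ∈ s, f a) = ∑ a ∈ s, avgInner ρ x (f a) := by
  simp only [avgInner, map_sum, Finset.sum_apply, Finset.mul_sum]
  exact (Finset.sum_congr rfl fun g _ => Finset.sum_comm).trans Finset.sum_comm

theorem avgInner_sub_right (x y z : Fin n → ℂ) :
    avgInner ρ x (y - z) = avgInner ρ x y - avgInner ρ x z := by
  simp only [avgInner, map_sub, Pi.sub_apply, mul_sub, Finset.sum_sub_distrib]

theorem avgInner_sub_left (x y z : Fin n → ℂ) :
    avgInner ρ (x - y) z = avgInner ρ x z - avgInner ρ y z := by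
  simp only [avgInner, map_sub, Pi.sub_apply, sub_mul, Finset.sum_sub_distrib]

theorem avgNorm_nonneg (x : Fin n → ℂ) : 0 ≤ avgNorm ρ x :=
  Finset.sum_nonneg fun _ _ => Finset.sum_nonneg fun _ _ => Complex.normSq_nonneg _

theorem eq_zero_of_avgNorm {x : Fin n → ℂ} (h : avgNorm ρ x ≤ 0) : x = 0 := by
  have h0 := le_antisymm h (avgNorm_nonneg ρ x)
  rw [avgNorm, Finset.sum_eq_zero_iff_of_nonneg fun _ _ => Finset.sum_nonneg fun _ _ => Complex.normSq_nonneg _] at h0
  have h1 := h0 1 (Finset.mem_univ _)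
  rw [Finset.sum_eq_zero_iff_of_nonneg fun _ _ => Complex.normSq_nonneg _] at h1
  funext i
  simpa using Complex.normSq_eq_zero.mp (h1 i (Finset.mem_univ _))

variable (c : ℂ)

/-- The twisted action. -/
def twist (g : G) : (Fin n → ℂ) →ₗ[ℂ] (Fin n → ℂ) := c • ρ g

theorem twist_apply (g : G) (x : Fin n → ℂ) : twist ρ c g x = c • ρ g x := rfl

theorem twist_twist (g h : G) (x : Fin n → ℂ) : twist ρ c g (twist ρ c h x) = (c * c) • ρ (g * h) x := by
  simp only [twist_apply, map_smul, smul_smul, map_mul, Module.End.mul_apply]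

theorem twist_injective (hc : c ≠ 0) (g : G) : Function.Injective (twist ρ c g) := fun x y h => by
  simpa [← Module.End.mul_apply, ← map_mul] using
    congrArg (ρ g⁻¹) (smul_right_injective _ hc (show c • ρ g x = c • ρ g y from h))

theorem avgInner_twist (hc : conj c * c = 1) (g : G) (x y : Fin n → ℂ) :
    avgInner ρ (twist ρ c g x) (twist ρ c g y) = avgInner ρ x y := by
  rw [twist_apply, twist_apply, avgInner_smul_left, avgInner_smul_right, avgInner_act, ← mul_assoc, hc, one_mul]

theorem avgNorm_twist (hc : conj c * c = 1) (g : G) (x : Fin n → ℂ) :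
    avgNorm ρ (twist ρ c g x) = avgNorm ρ x := by
  have := avgInner_twist ρ c hc g x x
  rwa [avgInner_self, avgInner_self, Complex.ofReal_inj] at this

theorem avgNorm_neg (x : Fin n → ℂ) : avgNorm ρ (-x) = avgNorm ρ x := by
  simp [avgNorm]

variable {c}

/-- The conjugate of a near-scalar element stabilizes its fixed space. -/
theorem fixed_stable (hc : conj c * c = 1) {p : ℕ} (hp : 0 < p) (hcp : c ^ p = 1) {s : G} (hs : s ^ p = 1)
    {κ : ℝ} (hκ0 : 0 ≤ κ) (hκ1 : κ < 1) (hκ : ∀ x, avgNorm ρ (twist ρ c s x - x) ≤ κ * avgNorm ρ x) (g : G)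
    {w : Fin n → ℂ} (hw : twist ρ c s w = w) :
    twist ρ c s (twist ρ c (g * s * g⁻¹) w) = twist ρ c (g * s * g⁻¹) w := by
  have hc0 : c ≠ 0 := fun h => by rw [h, mul_zero] at hc; exact zero_ne_one hc
  let W : Submodule ℂ (Fin n → ℂ) := LinearMap.ker (twist ρ c s - 1)
  have hW : ∀ x, x ∈ W ↔ twist ρ c s x = x := fun x => by
    simp [W, LinearMap.mem_ker, sub_eq_zero]
  let t : ℕ → G := Nat.rec (g * s * g⁻¹) fun _ u => u * s * u⁻¹
  have ht : ∀ k, t (k + 1) = t k * s * (t k)⁻¹ := fun k => rfl
  have hsw : ∀ k x, twist ρ c (t (k + 1)) (twist ρ c (t k) x) = twist ρ c (t k) (twist ρ c s x) := fun k x => by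
    rw [twist_twist, twist_twist, ht, inv_mul_cancel_right]
  have htp : ∀ k, t k ^ p = 1 := fun k => by
    rcases k with _ | k
    · show (g * s * g⁻¹) ^ p = 1
      rw [conj_pow, hs, mul_one, mul_inv_cancel]
    · rw [ht, conj_pow, hs, mul_one, mul_inv_cancel]
  -- descent
  have hdown : ∀ k, (∀ x ∈ W, twist ρ c (t (k + 1)) x ∈ W) → ∀ x ∈ W, twist ρ c (t k) x ∈ W := by
    intro k hk
    set R := twist ρ c (t k) with hR
    set T := twist ρ c (t (k + 1)) with hT
    have hfix : ∀ x ∈ W, T (R x) = R x := fun x hx => by rw [hT, hR, hsw, (hW x).1 hx]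
    have hpre : ∀ x ∈ W, ∃ y ∈ W, R y = x := by
      intro u hu
      have hiter : ∀ j, (T ^ j) u ∈ W := fun j => by
        induction j with
        | zero => exact hu
        | succ j ih => rw [pow_succ', Module.End.mul_apply]; exact hk _ ih
      set Pu : Fin n → ℂ := (p : ℂ)⁻¹ • ∑ j ∈ Finset.range p, (T ^ j) u with hPu
      have hPW : Pu ∈ W := W.smul_mem _ (W.sum_mem fun j _ => hiter j)
      have hTp : T ^ p = 1 := by
        rw [hT, twist, smul_pow, hcp, ← map_pow]
        exact (one_smul ℂ _).trans ((congrArg ρ (htp (k + 1))).trans (map_one ρ))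
      have hTPu : T Pu = Pu := by
        rw [hPu, map_smul, map_sum]
        congr 1
        simp only [← Module.End.mul_apply, ← pow_succ']
        have h1 := Finset.sum_range_succ' (fun j => (T ^ j) u) p
        rw [Finset.sum_range_succ] at h1
        simp only [hTp, pow_zero] at h1
        exact (add_right_cancel h1).symm
      set b := u - Pu with hb
      have horth : ∀ y, T y = y → avgInner ρ y b = 0 := fun y hy => by
        have hj : ∀ j, avgInner ρ y ((T ^ j) u) = avgInner ρ y u := fun j => by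
          induction j with
          | zero => rfl
          | succ j ih =>
            rw [pow_succ', Module.End.mul_apply]
            conv_lhs => rw [← hy]
            rw [hT, avgInner_twist ρ c hc, ih]
        rw [hb, avgInner_sub_right, hPu, avgInner_smul_right, avgInner_sum_right, Finset.sum_congr rfl fun j _ => hj j,
          Finset.sum_const, Finset.card_range, nsmul_eq_mul, ← mul_assoc,
          inv_mul_cancel₀ (Nat.cast_ne_zero.2 hp.ne'), one_mul, sub_self]
      have hbW : b ∈ W := W.sub_mem hu hPW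
      let v : Fin n → ℂ := c⁻¹ • ρ (t k)⁻¹ b
      have hRv : R v = b := by
        rw [hR, twist_apply, map_smul, smul_smul, mul_inv_cancel₀ hc0, one_smul, ← Module.End.mul_apply,
          ← map_mul, mul_inv_cancel, map_one, Module.End.one_apply]
      have h1 : ∀ y ∈ W, avgInner ρ y v = 0 := fun y hy => by
        rw [← avgInner_twist ρ c hc (t k), ← hR, hRv]
        exact horth _ (hfix y hy)
      have h2 : avgInner ρ b v = 0 := h1 b hbW
      have h3 : avgInner ρ v b = 0 := by rw [← avgInner_conj, h2, map_zero]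
      have hκR : avgNorm ρ (R v - v) ≤ κ * avgNorm ρ v := by
        obtain ⟨h, hh⟩ : ∃ h, t k = h * s * h⁻¹ := by
          rcases k with _ | k
          · exact ⟨g, rfl⟩
          · exact ⟨t k, ht k⟩
        have e : R v = twist ρ 1 h (twist ρ c s (twist ρ 1 h⁻¹ v)) := by
          simp only [hR, hh, twist_apply, one_smul, map_smul]
          rw [map_mul, map_mul]
          rfl
        have e2 : twist ρ 1 h (twist ρ 1 h⁻¹ v) = v := by
          simp only [twist_apply, one_smul]
          rw [← Module.End.mul_apply, ← map_mul, mul_inv_cancel, map_one, Module.End.one_apply]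
        calc avgNorm ρ (R v - v) = avgNorm ρ (twist ρ c s (twist ρ 1 h⁻¹ v) - twist ρ 1 h⁻¹ v) := by
              rw [e]
              conv_lhs => arg 2; arg 2; rw [← e2]
              rw [← map_sub, avgNorm_twist ρ 1 (by simp)]
          _ ≤ κ * avgNorm ρ (twist ρ 1 h⁻¹ v) := hκ _
          _ = κ * avgNorm ρ v := by rw [avgNorm_twist ρ 1 (by simp)]
      have hsum : avgNorm ρ (R v - v) = avgNorm ρ b + avgNorm ρ v := by
        rw [← Complex.ofReal_inj]
        push_cast
        rw [← avgInner_self, ← avgInner_self, ← avgInner_self, hRv]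
        clear_value b
        rw [avgInner_sub_left, avgInner_sub_right, avgInner_sub_right, h2, h3]
        ring
      have hbv : avgNorm ρ b = avgNorm ρ v := by rw [← hRv, hR, avgNorm_twist ρ c hc]
      have hv0 : v = 0 := eq_zero_of_avgNorm ρ (by
        nlinarith [avgNorm_nonneg ρ v])
      have hb0 : b = 0 := by rw [← hRv, hv0, map_zero]
      have hTu : T u = u := by
        have : u = Pu := sub_eq_zero.1 hb0
        rw [this]; exact hTPu
      refine ⟨c⁻¹ • ρ (t k)⁻¹ u, ?_, ?_⟩
      · rw [hW]
        apply twist_injective ρ c hc0 (t k)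
        rw [← hsw, ← hT]
        have e : twist ρ c (t k) (c⁻¹ • ρ (t k)⁻¹ u) = u := by
          rw [twist_apply, map_smul, smul_smul, mul_inv_cancel₀ hc0, one_smul, ← Module.End.mul_apply,
            ← map_mul, mul_inv_cancel, map_one, Module.End.one_apply]
        rw [e, hTu]
      · rw [hR, twist_apply, map_smul, smul_smul, mul_inv_cancel₀ hc0, one_smul, ← Module.End.mul_apply,
          ← map_mul, mul_inv_cancel, map_one, Module.End.one_apply]
    have hinj : Function.Injective R := twist_injective ρ c hc0 (t k)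
    have heq : W = W.map R := Submodule.eq_of_le_of_finrank_eq
      (fun x hx => (hpre x hx).elim fun y hy => ⟨y, hy.1, hy.2⟩)
      (W.equivMapOfInjective R hinj).finrank_eq
    intro x hx
    rw [heq]
    exact ⟨x, hx, rfl⟩
  -- termination
  obtain ⟨a, ha⟩ := Finite.exists_infinite_fiber (fun k => t (k + 1))
  rw [Set.infinite_coe_iff] at ha
  have hdec : ∀ k, ∀ x ∈ W, avgNorm ρ (twist ρ c (t k) x - x) ≤ κ ^ k * avgNorm ρ (twist ρ c (t 0) x - x) := by
    intro k x hx
    induction k with
    | zero => simp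
    | succ k ih =>
      refine le_trans ?_ (le_of_le_of_eq (mul_le_mul_of_nonneg_left ih hκ0) (by rw [pow_succ']; ring))
      have hfix : twist ρ c (t (k + 1)) (twist ρ c (t k) x) = twist ρ c (t k) x := by
        rw [hsw, (hW x).1 hx]
      set y := x - twist ρ c (t k) x with hy
      have e : twist ρ c (t (k + 1)) x - x = twist ρ c (t (k + 1)) y - y := by
        rw [hy, map_sub, hfix]; abel
      have e1 : twist ρ 1 (t k)⁻¹ (twist ρ c (t (k + 1)) y) = twist ρ c s (twist ρ 1 (t k)⁻¹ y) := by
        simp only [ht, twist_apply, one_smul, map_smul]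
        rw [← Module.End.mul_apply, ← Module.End.mul_apply, ← map_mul, ← map_mul, show (t k)⁻¹ * (t k * s * (t k)⁻¹) = s * (t k)⁻¹ by group]
      calc avgNorm ρ (twist ρ c (t (k + 1)) x - x)
          = avgNorm ρ (twist ρ c s (twist ρ 1 (t k)⁻¹ y) - twist ρ 1 (t k)⁻¹ y) := by
            rw [e, ← e1, ← map_sub, avgNorm_twist ρ 1 (by simp)]
        _ ≤ κ * avgNorm ρ (twist ρ 1 (t k)⁻¹ y) := hκ _
        _ = κ * avgNorm ρ (twist ρ c (t k) x - x) := by
            rw [avgNorm_twist ρ 1 (by simp), hy, ← avgNorm_neg, neg_sub]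
  have hafix : ∀ x ∈ W, twist ρ c a x = x := fun x hx => by
    refine sub_eq_zero.1 (eq_zero_of_avgNorm ρ (le_of_forall_pos_le_add fun ε hε => ?_))
    set B := avgNorm ρ (twist ρ c (t 0) x - x) with hB
    have hB0 : 0 ≤ B := avgNorm_nonneg ρ _
    clear_value B
    refine le_of_le_of_eq ?_ (zero_add ε).symm
    obtain ⟨N, hN⟩ := exists_pow_lt_of_lt_one (div_pos hε (by linarith : (0 : ℝ) < B + 1)) hκ1
    obtain ⟨k, hk, hkN⟩ := ha.exists_gt N
    have h1 : avgNorm ρ (twist ρ c a x - x) ≤ κ ^ (k + 1) * B := by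
      have h0 := hdec (k + 1) x hx
      rw [← hB, show t (k + 1) = a from hk] at h0
      exact h0
    have h2 : κ ^ (k + 1) * B ≤ κ ^ N * B :=
      mul_le_mul_of_nonneg_right (pow_le_pow_of_le_one hκ0 hκ1.le (by omega)) hB0
    have h3 : κ ^ N * B ≤ ε := by
      have h4 := (lt_div_iff₀ (by linarith : (0 : ℝ) < B + 1)).1 hN
      nlinarith [pow_nonneg hκ0 N]
    linarith
  obtain ⟨k, hk⟩ := ha.nonempty
  have hall : ∀ j ≤ k + 1, ∀ x ∈ W, twist ρ c (t (k + 1 - j)) x ∈ W := by
    intro j hj
    induction j with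
    | zero => intro x hx; rw [Nat.sub_zero, show t (k + 1) = a from hk, hafix x hx]; exact hx
    | succ j ih =>
      refine hdown _ ?_
      rw [show k + 1 - (j + 1) + 1 = k + 1 - j by omega]
      exact ih (by omega)
  have h0 := hall (k + 1) le_rfl w ((hW w).2 hw)
  rw [Nat.sub_self, hW] at h0
  exact h0

/-- **Blichfeldt's lemma** for simple groups. -/
theorem blichfeldt [IsSimpleGroup G] [hirr : ρ.IsIrreducible] (hinj : Function.Injective ρ)
    (hcen : ∀ z : G, (∀ g, g * z = z * g) → z = 1) (hc : conj c * c = 1) {p : ℕ} (hp : 0 < p) (hcp : c ^ p = 1)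
    {s : G} (hs : s ^ p = 1) {κ : ℝ} (hκ0 : 0 ≤ κ) (hκ1 : κ < 1)
    (hκ : ∀ x, avgNorm ρ (twist ρ c s x - x) ≤ κ * avgNorm ρ x) {w : Fin n → ℂ} (hw : w ≠ 0)
    (hws : twist ρ c s w = w) : s = 1 := by
  have hc0 : c ≠ 0 := fun h => by rw [h, mul_zero] at hc; exact zero_ne_one hc
  let W : Submodule ℂ (Fin n → ℂ) := LinearMap.ker (twist ρ c s - 1)
  have hW : ∀ x, x ∈ W ↔ twist ρ c s x = x := fun x => by
    simp [W, LinearMap.mem_ker, sub_eq_zero]
  let H : Submonoid G :=
    { carrier := {g | ∀ x ∈ W, ρ g x ∈ W}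
      mul_mem' := fun {a b} ha hb x hx => by rw [map_mul]; exact ha _ (hb x hx)
      one_mem' := fun x hx => by rw [map_one]; exact hx }
  let K : Subgroup G :=
    { H with
      inv_mem' := fun {a} ha => by
        rw [← mul_right_injective a |>.eq_iff.mp (show a * a ^ (orderOf a - 1) = a * a⁻¹ by
          rw [← pow_succ', Nat.sub_add_cancel (orderOf_pos a), pow_orderOf_eq_one, mul_inv_cancel])]
        exact pow_mem (show a ∈ H from ha) _ }
  have hconj : ∀ g : G, g * s * g⁻¹ ∈ K := fun g x hx => by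
    have h := fixed_stable ρ hc hp hcp hs hκ0 hκ1 hκ g ((hW x).1 hx)
    rw [hW]
    apply smul_right_injective _ hc0
    show c • twist ρ c s (ρ (g * s * g⁻¹) x) = _
    rw [← map_smul]
    exact h
  by_contra hs1
  have hle : Subgroup.normalClosure {s} ≤ K := (Subgroup.closure_le K).2 fun x hx => by
    obtain ⟨y, rfl, hy⟩ := Group.mem_conjugatesOfSet_iff.1 hx
    obtain ⟨g, rfl⟩ := isConj_iff.1 hy
    exact hconj g
  rcases Subgroup.Normal.eq_bot_or_eq_top (Subgroup.normalClosure_normal (s := {s})) with h | h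
  · exact hs1 (Subgroup.mem_bot.1 (h ▸ Subgroup.subset_normalClosure rfl))
  let S : Subrepresentation ρ := ⟨W, fun g x hx => (h ▸ hle) (Subgroup.mem_top g) x hx⟩
  have htop : W = ⊤ := by
    rcases hirr.eq_bot_or_eq_top S with hS | hS
    · exfalso
      have hmem : w ∈ S.toSubmodule := (hW w).2 hws
      rw [hS] at hmem
      exact hw ((Submodule.mem_bot ℂ).1 hmem)
    · exact congrArg Subrepresentation.toSubmodule hS
  refine hs1 (hcen s fun g => hinj ?_)
  rw [map_mul, map_mul]
  apply LinearMap.ext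
  intro x
  have h1 : ∀ y, c • ρ s y = y := fun y => (hW y).1 (htop ▸ Submodule.mem_top)
  apply smul_right_injective _ hc0
  show c • ρ g (ρ s x) = c • ρ s (ρ g x)
  rw [← map_smul, h1, h1]

end CfsgLib.BlockArith.Blichfeldt
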