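import Cfsg.Agent.Lib.BlockArith.QuotientBound
import Cfsg.Agent.Lib.BrauerPairs.MajorSubsection

/-!
# The theorem of Brauer and Feit

* `exists_major_order_prime`: a major subsection at an element of order `p`, with its quotient block;
* `brauer_feit`: `k(B) ≤ p^d` for `d ≤ 2` and `k(B) ≤ p^(2d-2)` for `d ≥ 3`.
-/

set_option autoImplicit false

noncomputable section

namespace CfsgLib.BlockArith

open Cfsg CfsgLib.Char CfsgLib.Blocks

universe u

attribute [local instance 10000] Fintype.ofFinite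

variable {G : Type u} [Group G] [Fintype G] {M : Ideal AlgInt} [M.IsMaximal] {p : ℕ} [hp : Fact p.Prime]

omit [M.IsMaximal] in
theorem centralizer_central_index {C : Type*} [Group C] {Q : Subgroup C} (hQ : Q ≤ Subgroup.center C) :
    ∃ k : ℕ, (Subgroup.centralizer (Q : Set C)).index = p ^ k :=
  ⟨0, by rw [Subgroup.centralizer_eq_top_iff_subset.mpr hQ, Subgroup.index_top, pow_zero]⟩

/-- A major subsection at an element of order `p` of the centre of a defect group. -/
theorem exists_major_order_prime (hM : IsPModular p M) {B : Set (IrrCharacter G)} (hB : IsPBlock M B)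
    (hd : 0 < blockDefect p B) :
    ∃ (x : G) (b : Set (IrrCharacter (Subgroup.centralizer ({x} : Set G))))
      (Q : Subgroup (Subgroup.centralizer ({x} : Set G))) (_ : Q.Normal),
      orderOf x = p ∧ IsInducedBlock M (Subgroup.centralizer ({x} : Set G)) b B ∧
      blockDefect p b = blockDefect p B ∧ IsPGroup p Q ∧
      (∃ k : ℕ, (Subgroup.centralizer (Q : Set (Subgroup.centralizer ({x} : Set G)))).index = p ^ k) ∧
      blockRank p b = blockRank p (inflSet Q b) ∧ IsPBlock M (inflSet Q b) ∧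
      blockDefect p B = blockDefect p (inflSet Q b) + 1 := by
  classical
  obtain ⟨D, hD⟩ := exists_isDefectGroup (p := p) hB
  have hDp := IsDefectGroup.isPGroup hD
  have hcard := card_defectGroup hM hB hD
  have : Nontrivial D := Finite.one_lt_card_iff_nontrivial.mp (hcard ▸ Nat.one_lt_pow hd.ne' hp.out.one_lt)
  have := hDp.center_nontrivial
  obtain ⟨n, hn, hZ⟩ := IsPGroup.nontrivial_iff_card (p := p) (hDp.to_subgroup (Subgroup.center D)) |>.mp
    hDp.center_nontrivial
  obtain ⟨z, hz⟩ := exists_prime_orderOf_dvd_card' (G := Subgroup.center D) p (hZ ▸ dvd_pow_self p hn.ne')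
  set x : G := ((z : D) : G) with hx
  have hxo : orderOf x = p := by rw [hx, Subgroup.orderOf_coe, Subgroup.orderOf_coe, hz]
  obtain ⟨b, hind, hbd, -⟩ := CfsgLib.BrauerPairs.exists_major_subsection hM hB hD (z := x) (z : D).2
    fun d hd => congrArg Subtype.val (Subgroup.mem_center_iff.mp z.2 ⟨d, hd⟩)
  have hmem : x ∈ Subgroup.centralizer ({x} : Set G) := Subgroup.mem_centralizer_singleton_iff.mpr rfl
  set x' : Subgroup.centralizer ({x} : Set G) := ⟨x, hmem⟩
  have hxc : Subgroup.zpowers x' ≤ Subgroup.center _ :=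
    Subgroup.zpowers_le.mpr (mem_center_centralizer hmem)
  have hn' : (Subgroup.zpowers x').Normal := ⟨fun a ha g => by
    rw [Subgroup.mem_center_iff.mp (hxc ha) g, mul_inv_cancel_right]; exact ha⟩
  have hQcard : Nat.card (Subgroup.zpowers x') = p := by
    rw [Nat.card_zpowers, Subgroup.orderOf_mk, hxo]
  have hQ : IsPGroup p (Subgroup.zpowers x') := IsPGroup.of_card (n := 1) (by rw [hQcard, pow_one])
  have hC := centralizer_central_index (p := p) hxc
  refine ⟨x, b, _, hn', hxo, hind, hbd, hQ, hC, blockRank_inflSet hM hQ hC hind.1,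
    isPBlock_inflSet hM hQ hC hind.1, ?_⟩
  rw [← hbd, blockDefect_inflSet hM hQ hC hind.1, hQcard, hp.out.factorization_self]

theorem card_heightZero_add_le {B : Set (IrrCharacter G)} :
    Nat.card {χ : IrrCharacter G // χ ∈ B ∧ blockHeight p B (χ : G → ℂ) = 0} ≤ Nat.card B ∧
    Nat.card {χ : IrrCharacter G // χ ∈ B ∧ blockHeight p B (χ : G → ℂ) = 0} +
      p ^ 2 * (Nat.card B - Nat.card {χ : IrrCharacter G // χ ∈ B ∧ blockHeight p B (χ : G → ℂ) = 0}) ≤
    ∑ᶠ ψ ∈ B, p ^ (2 * blockHeight p B (ψ : G → ℂ)) := by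
  classical
  set t := Finset.univ.filter fun χ : IrrCharacter G => χ ∈ B with ht
  set s := t.filter fun χ : IrrCharacter G => blockHeight p B (χ : G → ℂ) = 0 with hs
  have h0 : Nat.card {χ : IrrCharacter G // χ ∈ B ∧ blockHeight p B (χ : G → ℂ) = 0} = s.card := by
    rw [Nat.card_eq_fintype_card, Fintype.card_subtype]
    congr 1; ext; simp [hs, ht]
  have h1 : Nat.card B = t.card := by
    rw [Nat.card_eq_fintype_card, ← Set.toFinset_card]; congr 1; ext; simp [ht]
  have hst : s ⊆ t := Finset.filter_subset _ _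
  rw [h0, h1, finsum_mem_eq_finite_toFinset_sum _ B.toFinite,
    show B.toFinite.toFinset = t by ext; simp [ht]]
  refine ⟨Finset.card_le_card hst, ?_⟩
  rw [← Finset.sum_sdiff hst, add_comm, ← Finset.card_sdiff_of_subset hst, mul_comm,
    Finset.sum_congr rfl (s₁ := s) (g := fun _ => 1) fun ψ hψ => by
      rw [(Finset.mem_filter.mp hψ).2, mul_zero, pow_zero],
    Finset.sum_const, smul_eq_mul, mul_one]
  refine Nat.add_le_add_right ?_ _
  rw [← smul_eq_mul, ← Finset.sum_const]
  refine Finset.sum_le_sum fun ψ hψ => Nat.pow_le_pow_right hp.out.pos ?_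
  obtain ⟨hψt, hψs⟩ := Finset.mem_sdiff.mp hψ
  have : blockHeight p B (ψ : G → ℂ) ≠ 0 := fun h => hψs (Finset.mem_filter.mpr ⟨hψt, h⟩)
  omega

theorem le_of_two_bounds {q N k₀ k : ℕ} (hq : 4 ≤ q) (hk0 : k₀ ≤ k)
    (h1 : 4 * (k₀ + q * (k - k₀)) ≤ q * N + 4) (h2 : k₀ * (k₀ + q * (k - k₀)) ≤ N * N) : k ≤ N := by
  by_contra hc
  push Not at hc
  by_cases hN : k₀ ≤ N
  · obtain ⟨e, rfl⟩ : ∃ e, N = k₀ + e := ⟨N - k₀, by omega⟩
    have hle : e + 1 ≤ k - k₀ := by omega
    have a1 : 4 * (k₀ + q * (e + 1)) ≤ q * (k₀ + e) + 4 :=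
      le_trans (by gcongr) h1
    have a2 : k₀ * (k₀ + q * (e + 1)) ≤ (k₀ + e) * (k₀ + e) := le_trans (by gcongr) h2
    have a3 : 4 * k₀ + 3 * (q * e) ≤ q * k₀ := by nlinarith
    have a4 : e ≤ q * k₀ := by nlinarith
    nlinarith [Nat.mul_le_mul_left e a3, Nat.mul_le_mul_left e a4]
  · push Not at hN
    have a2 : k₀ * k₀ ≤ N * N := le_trans (Nat.mul_le_mul_left _ (Nat.le_add_right _ _)) h2
    nlinarith

/-- **Brauer–Feit.** -/
theorem brauer_feit {p : ℕ} [hp : Fact p.Prime] {M : Ideal AlgInt} [M.IsMaximal] (hM : IsPModular p M)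
    (d : ℕ) : ∀ (G : Type u) [Group G] [Fintype G] (B : Set (IrrCharacter G)), IsPBlock M B →
      blockDefect p B = d →
      (d ≤ 2 → Nat.card B ≤ p ^ d) ∧ (3 ≤ d → Nat.card B ≤ p ^ (2 * d - 2)) := by
  induction d using Nat.strong_induction_on with
  | _ d ih =>
  intro G _ _ B hB hd
  classical
  rcases Nat.eq_zero_or_pos d with rfl | hpos
  · exact ⟨fun _ => by rw [card_eq_one_of_defect_zero hM hB hd, pow_zero], fun h => by omega⟩
  obtain ⟨x, b, Q, hQn, hxo, hind, hbd, hQ, hC, hl, hbb, hdd⟩ :=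
    exists_major_order_prime hM hB (hd ▸ hpos)
  have hx : ∃ k : ℕ, orderOf x = p ^ k := ⟨1, by rw [hxo, pow_one]⟩
  obtain ⟨hk0, hsum⟩ := card_heightZero_add_le (p := p) (B := B)
  have hw := heightZero_mul_sum_le hM hx hind hbd
  rw [hd] at hdd hw
  refine ⟨fun h2 => ?_, fun h3 => ?_⟩
  · rcases (show d = 1 ∨ d = 2 by omega) with rfl | rfl
    · have hall : ∀ χ ∈ B, blockHeight p B (χ : G → ℂ) = 0 := fun χ hχ => by
        by_contra h
        have := height_le hM hB hχ h
        omega
      have heq : Nat.card {χ : IrrCharacter G // χ ∈ B ∧ blockHeight p B (χ : G → ℂ) = 0} = Nat.card B :=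
        Nat.card_congr (Equiv.subtypeEquivRight fun χ => ⟨fun h => h.1, fun h => ⟨h, hall χ h⟩⟩)
      rw [hl, blockRank_eq_one_of_defect_zero hM hbb (by omega)] at hw
      rw [heq] at hw hsum
      rw [Nat.sub_self, mul_zero, add_zero] at hsum
      have := le_trans (Nat.mul_le_mul_left _ hsum) hw
      rw [pow_one]
      rw [mul_one, ← sq, mul_one 2] at this
      exact (Nat.pow_le_pow_iff_left two_ne_zero).mp this
    · exact hd ▸ card_le_of_defect_one_quotient hM hx hind hbd Q hQ hC (by omega)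
  · have hU : blockRank p b ≤ p ^ (2 * d - 4) := by
      rw [hl]
      refine (blockRank_le_card _).trans ?_
      obtain ⟨h1, h2⟩ := ih (d - 1) (by omega) _ (inflSet Q b) hbb (by omega)
      rcases (show d = 3 ∨ 4 ≤ d by omega) with rfl | h4
      · exact h1 le_rfl
      · have := h2 (by omega)
        rwa [show 2 * (d - 1) - 2 = 2 * d - 4 by omega] at this
    have h4 := sum_sq_height_le hM hB
    rw [hd] at h4
    refine le_of_two_bounds (q := p ^ 2) ?_ hk0 ?_ ?_
    · exact le_trans (by norm_num) (Nat.pow_le_pow_left hp.out.two_le 2)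
    · rw [← pow_add, show 2 + (2 * d - 2) = 2 * d by omega]
      exact le_trans (Nat.mul_le_mul_left 4 hsum) h4
    · refine le_trans (Nat.mul_le_mul_left _ hsum) (hw.trans ?_)
      refine le_trans (Nat.mul_le_mul_left _ hU) (le_of_eq ?_)
      rw [← pow_add, ← pow_add]
      congr 1
      omega

end CfsgLib.BlockArith
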