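import Cfsg.Agent.Lib.BlockArith.Subsection

/-!
# Brauer's count of the characters of a block by subsections
-/

set_option autoImplicit false

noncomputable section

namespace CfsgLib.BlockArith

open Cfsg CfsgLib.Blocks
open scoped ComplexConjugate

variable {G : Type*} [Group G] [Fintype G] {p : ℕ} [hp : Fact p.Prime]

/-- A class function summed by `p`-sections. -/
theorem sum_by_sections (X : Finset G) (hX : ∀ x ∈ X, ∃ k : ℕ, orderOf x = p ^ k)
    (hXrep : ∀ g : G, (∃ k : ℕ, orderOf g = p ^ k) → ∃! x, x ∈ X ∧ IsConj g x)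
    {F : G → ℂ} (hF : IsClassFunction G F) :
    ∑ g : G, F g = ∑ x ∈ X, (Nat.card G : ℂ) * (Nat.card (Subgroup.centralizer ({x} : Set G)) : ℂ)⁻¹ *
      ∑ᶠ s : Subgroup.centralizer ({x} : Set G), pRegularPart p (fun c : Subgroup.centralizer ({x} : Set G) => F (x * (c : G))) s := by
  classical
  choose pp hpp using exists_isPPart (p := p) (G := G)
  have hpord : ∀ g, ∃ k : ℕ, orderOf (pp g) = p ^ k := fun g => by
    obtain ⟨y, -, -, h, -⟩ := hpp g
    exact h
  choose rep hrep using fun g => (hXrep (pp g) (hpord g)).exists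
  have hruniq : ∀ g x, x ∈ X → IsConj (pp g) x → rep g = x := fun g x hx hc =>
    (hXrep (pp g) (hpord g)).unique (hrep g) ⟨hx, hc⟩
  rw [← Finset.sum_fiberwise_of_maps_to (t := X) (g := rep) (fun g _ => (hrep g).1) F]
  refine Finset.sum_congr rfl fun x hx => ?_
  let _ := Fintype.ofFinite (Subgroup.centralizer ({x} : Set G))
  set C := Subgroup.centralizer ({x} : Set G)
  rw [finsum_eq_sum_of_fintype]
  set sReg := (Finset.univ : Finset C).filter fun s => ¬ p ∣ orderOf s with hReg
  have hregsum : ∑ s : C, pRegularPart p (fun c : C => F (x * (c : G))) s = ∑ s ∈ sReg, F (x * (s : G)) := by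
    rw [Finset.sum_filter]
    refine Finset.sum_congr rfl fun s _ => ?_
    rw [pRegularPart_apply]
    split_ifs <;> simp_all
  rw [hregsum]
  -- double counting of `(w, s) ↦ w (x s) w⁻¹`
  have hconj : ∀ (w : G) (a : G), F (w * a * w⁻¹) = F a := fun w a => hF a w
  have hmaps : ∀ q ∈ (Finset.univ : Finset G) ×ˢ sReg, q.1 * (x * (q.2 : G)) * q.1⁻¹ ∈
      (Finset.univ : Finset G).filter fun g => rep g = x := by
    intro q hq
    refine Finset.mem_filter.mpr ⟨Finset.mem_univ _, hruniq _ x hx ?_⟩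
    have hreg := (Finset.mem_filter.mp (Finset.mem_product.mp hq).2).2
    rw [isPPart_unique (hpp _) (isPPart_conj (isPPart_mul (commute_of_mem_centralizer q.2) (hX x hx)
      (by rwa [Subgroup.orderOf_coe])) q.1)]
    exact (isConj_iff.mpr ⟨q.1, rfl⟩).symm
  have hfib : ∀ g ∈ (Finset.univ : Finset G).filter (fun g => rep g = x),
      ((((Finset.univ : Finset G) ×ˢ sReg).filter fun q => q.1 * (x * (q.2 : G)) * q.1⁻¹ = g).card : ℂ) =
        (Nat.card C : ℂ) := by
    intro g hg
    obtain ⟨w, hw⟩ := isConj_iff.mp ((Finset.mem_filter.mp hg).2 ▸ (hrep g).2)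
    -- `w (pp g) w⁻¹ = x`
    obtain ⟨y, hgy, hcomm, -, hy⟩ := hpp g
    rw [Nat.cast_inj, ← Nat.card_eq_finsetCard]
    refine Nat.card_congr
      { toFun := fun q => ⟨w * q.1.1, ?_⟩
        invFun := fun c => ⟨(w⁻¹ * (c : G), ⟨(c : G)⁻¹ * (w * y * w⁻¹) * c, ?_⟩),
          Finset.mem_filter.mpr ⟨Finset.mem_product.mpr ⟨Finset.mem_univ _,
            Finset.mem_filter.mpr ⟨Finset.mem_univ _, ?_⟩⟩, ?_⟩⟩
        left_inv := ?_
        right_inv := fun c => by ext; simp }
    · obtain ⟨h1, h2⟩ := Finset.mem_filter.mp q.2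
      have hreg := (Finset.mem_filter.mp (Finset.mem_product.mp h1).2).2
      have h3 := isPPart_unique (h2 ▸ isPPart_conj (isPPart_mul (commute_of_mem_centralizer q.1.2) (hX x hx)
        (by rwa [Subgroup.orderOf_coe])) q.1.1) (hpp g)
      refine Subgroup.mem_centralizer_singleton_iff.mpr ?_
      have h4 : (w * q.1.1) * x * (w * q.1.1)⁻¹ = x :=
        calc (w * q.1.1) * x * (w * q.1.1)⁻¹ = w * (q.1.1 * x * q.1.1⁻¹) * w⁻¹ := by group
          _ = w * pp g * w⁻¹ := congrArg (fun z => w * z * w⁻¹) h3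
          _ = x := hw
      exact mul_inv_eq_iff_eq_mul.mp h4
    · refine Subgroup.mul_mem _ (Subgroup.mul_mem _ (Subgroup.inv_mem _ c.2) ?_) c.2
      refine Subgroup.mem_centralizer_singleton_iff.mpr ?_
      rw [← hw]
      calc w * y * w⁻¹ * (w * pp g * w⁻¹) = w * (y * pp g) * w⁻¹ := by group
        _ = w * (pp g * y) * w⁻¹ := by rw [hcomm.eq]
        _ = w * pp g * w⁻¹ * (w * y * w⁻¹) := by group
    · rw [← Subgroup.orderOf_coe]
      change ¬ p ∣ orderOf ((c : G)⁻¹ * (w * y * w⁻¹) * c)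
      rw [show (c : G)⁻¹ * (w * y * w⁻¹) * c = MulAut.conj ((c : G)⁻¹ * w) y by simp [mul_assoc],
        MulEquiv.orderOf_eq]
      exact hy
    · change w⁻¹ * (c : G) * (x * ((c : G)⁻¹ * (w * y * w⁻¹) * c)) * (w⁻¹ * (c : G))⁻¹ = g
      have hcx : (c : G) * x = x * c := Subgroup.mem_centralizer_singleton_iff.mp c.2
      calc w⁻¹ * (c : G) * (x * ((c : G)⁻¹ * (w * y * w⁻¹) * c)) * (w⁻¹ * (c : G))⁻¹
          = w⁻¹ * ((c : G) * x) * (c : G)⁻¹ * w * y := by group
        _ = w⁻¹ * x * w * y := by rw [hcx]; group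
        _ = pp g * y := by rw [← hw]; group
        _ = g := hgy
    · intro q
      obtain ⟨h1, h2⟩ := Finset.mem_filter.mp q.2
      have hreg := (Finset.mem_filter.mp (Finset.mem_product.mp h1).2).2
      have h3 := isPPart_unique (h2 ▸ isPPart_conj (isPPart_mul (commute_of_mem_centralizer q.1.2) (hX x hx)
        (by rwa [Subgroup.orderOf_coe])) q.1.1) (hpp g)
      refine Subtype.ext (Prod.ext ?_ (Subtype.ext ?_))
      · change w⁻¹ * (w * q.1.1) = q.1.1
        group
      · change (w * q.1.1)⁻¹ * (w * y * w⁻¹) * (w * q.1.1) = (q.1.2 : G)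
        have h4 : y = q.1.1 * (q.1.2 : G) * q.1.1⁻¹ := by
          refine mul_left_cancel (a := pp g) ?_
          calc pp g * y = g := hgy
            _ = q.1.1 * (x * (q.1.2 : G)) * q.1.1⁻¹ := h2.symm
            _ = (q.1.1 * x * q.1.1⁻¹) * (q.1.1 * (q.1.2 : G) * q.1.1⁻¹) := by group
            _ = _ := congrArg (fun z => z * (q.1.1 * (q.1.2 : G) * q.1.1⁻¹)) h3
        rw [h4]
        group
  have h1 : ∑ q ∈ (Finset.univ : Finset G) ×ˢ sReg, F (q.1 * (x * (q.2 : G)) * q.1⁻¹) =
      (Nat.card C : ℂ) * ∑ g ∈ (Finset.univ : Finset G).filter (fun g => rep g = x), F g := by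
    rw [← Finset.sum_fiberwise_of_maps_to hmaps, Finset.mul_sum]
    refine Finset.sum_congr rfl fun g hg => ?_
    rw [← hfib g hg, Finset.sum_congr rfl fun q hq => by rw [(Finset.mem_filter.mp hq).2], Finset.sum_const,
      nsmul_eq_mul]
  have h2 : ∑ q ∈ (Finset.univ : Finset G) ×ˢ sReg, F (q.1 * (x * (q.2 : G)) * q.1⁻¹) =
      (Nat.card G : ℂ) * ∑ s ∈ sReg, F (x * (s : G)) := by
    rw [Finset.sum_product]
    simp only [hconj]
    rw [Finset.sum_const, Finset.card_univ, nsmul_eq_mul, Nat.card_eq_fintype_card]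
  rw [mul_comm (Nat.card G : ℂ), mul_assoc, ← h2, h1, ← mul_assoc,
    inv_mul_cancel₀ (Nat.cast_ne_zero.mpr Nat.card_pos.ne'), one_mul]

variable {M : Ideal AlgInt} [M.IsMaximal]

omit hp in
/-- Regular parts in different blocks are orthogonal. -/
theorem sum_blockPart_mul_inv (hM : IsPModular p M) {b b' : Set (IrrCharacter G)} (hb : IsPBlock M b)
    (hb' : IsPBlock M b') (hne : b ≠ b') (f h : G → ℂ) :
    ∑ s : G, pRegularPart p (blockPart b f) s * blockPart b' h s⁻¹ = 0 := by
  classical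
  have hterm : ∀ s : G, pRegularPart p (blockPart b f) s * blockPart b' h s⁻¹ =
      ∑ χ : IrrCharacter G, ∑ ψ : IrrCharacter G, (if χ ∈ b ∧ ψ ∈ b' then
        classInner f (χ : G → ℂ) * classInner h (ψ : G → ℂ) *
          (if p ∣ orderOf s then 0 else (χ : G → ℂ) s * conj ((ψ : G → ℂ) s)) else 0) := by
    intro s
    rw [pRegularPart_apply]
    split_ifs with hs
    · rw [zero_mul]
      exact (Finset.sum_eq_zero fun χ _ => Finset.sum_eq_zero fun ψ _ => by simp).symm
    · rw [blockPart_apply, blockPart_apply, Finset.sum_mul_sum]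
      refine Finset.sum_congr rfl fun χ _ => Finset.sum_congr rfl fun ψ _ => ?_
      rw [CfsgLib.Char.char_inv (CfsgLib.Char.isCharacter_of_isIrr ψ.2)]
      by_cases h1 : χ ∈ b <;> by_cases h2 : ψ ∈ b' <;> simp [h1, h2] <;> ring
  simp only [hterm]
  rw [Finset.sum_comm]
  refine Finset.sum_eq_zero fun χ _ => ?_
  rw [Finset.sum_comm]
  refine Finset.sum_eq_zero fun ψ _ => ?_
  by_cases hc : χ ∈ b ∧ ψ ∈ b'
  · simp only [if_pos hc]
    rw [← Finset.mul_sum, regular_orthogonality hM, mul_zero]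
    intro hs
    exact hne (isPBlock_eq_of_mem hb hb' hc.1 (mem_of_bomega_eq hb' hc.2 ((sameBlock_iff χ ψ).mp hs).symm))
  · simp [hc]

/-- **Brauer.** `k(B)` is the sum of `l(b)` over the subsections. -/
theorem card_eq_sum_subsections (hM : IsPModular p M) {B : Set (IrrCharacter G)} (hB : IsPBlock M B)
    (X : Finset G) (hX : ∀ x ∈ X, ∃ k : ℕ, orderOf x = p ^ k)
    (hXrep : ∀ g : G, (∃ k : ℕ, orderOf g = p ^ k) → ∃! x, x ∈ X ∧ IsConj g x) :
    Nat.card B = ∑ x ∈ X, ∑ᶠ b ∈ {b : Set (IrrCharacter ↥(Subgroup.centralizer ({x} : Set G))) |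
      IsInducedBlock M (Subgroup.centralizer ({x} : Set G)) b B}, blockRank p b := by
  classical
  let _ := Fintype.ofFinite B
  refine Nat.cast_injective (R := ℂ) ?_
  have hchi : ∀ χ : IrrCharacter G, (Nat.card G : ℂ) = ∑ g : G, (χ : G → ℂ) g * (χ : G → ℂ) g⁻¹ := fun χ => by
    have h := CfsgLib.Char.classInner_irr_self χ.2
    rw [classInner, inv_mul_eq_iff_eq_mul₀ CfsgLib.Char.card_ne_zero', mul_one] at h
    rw [← h]
    exact Finset.sum_congr rfl fun g _ => by rw [CfsgLib.Char.char_inv (CfsgLib.Char.isCharacter_of_isIrr χ.2)]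
  have hmain : ∀ x ∈ X, ∀ χ : IrrCharacter G, χ ∈ B →
      ∑ᶠ s : Subgroup.centralizer ({x} : Set G),
        pRegularPart p (fun c : Subgroup.centralizer ({x} : Set G) =>
          (χ : G → ℂ) (x * (c : G)) * (χ : G → ℂ) (x * (c : G))⁻¹) s =
      ∑ᶠ b ∈ {b : Set (IrrCharacter ↥(Subgroup.centralizer ({x} : Set G))) |
        IsInducedBlock M (Subgroup.centralizer ({x} : Set G)) b B}, ∑ᶠ s : Subgroup.centralizer ({x} : Set G),
          pRegularPart p (blockPart b fun c => (χ : G → ℂ) (x * (c : G))) s *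
            blockPart b (fun c => (χ : G → ℂ) (x⁻¹ * (c : G))) s⁻¹ := by
    intro x hx χ hχ
    let _ := Fintype.ofFinite (Subgroup.centralizer ({x} : Set G))
    let _ := Fintype.ofFinite {b : Set (IrrCharacter (Subgroup.centralizer ({x} : Set G))) // IsPBlock M b}
    have hclass : IsClassFunction (Subgroup.centralizer ({x} : Set G))
        (fun c : Subgroup.centralizer ({x} : Set G) => (χ : G → ℂ) (x⁻¹ * (c : G))) := by
      intro c w
      have hw := (commute_of_mem_centralizer w).inv_left.eq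
      dsimp only
      rw [← CfsgLib.Char.isClassFunction_of_isIrr χ.2 (x⁻¹ * (c : G)) (w : G)]
      change (χ : G → ℂ) (x⁻¹ * ((w : G) * (c : G) * (w : G)⁻¹)) = _
      congr 1
      simp only [← mul_assoc, hw]
    have himg : ((Finset.univ : Finset {b : Set (IrrCharacter (Subgroup.centralizer ({x} : Set G))) //
        IsPBlock M b}).filter fun b => IsInducedBlock M (Subgroup.centralizer ({x} : Set G)) b.1 B).map
          (Function.Embedding.subtype _) =
        (Set.toFinite {b : Set (IrrCharacter ↥(Subgroup.centralizer ({x} : Set G))) |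
          IsInducedBlock M (Subgroup.centralizer ({x} : Set G)) b B}).toFinset := by
      ext b
      simp only [Finset.mem_map, Finset.mem_filter, Finset.mem_univ, true_and, Set.Finite.mem_toFinset,
        Set.mem_setOf_eq, Function.Embedding.coe_subtype, Subtype.exists, exists_and_left, exists_prop,
        exists_eq_right_right]
      exact ⟨fun h => h.1, fun h => ⟨h, h.1⟩⟩
    rw [finsum_eq_sum_of_fintype, finsum_mem_eq_finite_toFinset_sum _ (Set.toFinite _), ← himg, Finset.sum_map]
    simp only [finsum_eq_sum_of_fintype, Function.Embedding.coe_subtype]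
    set f : Subgroup.centralizer ({x} : Set G) → ℂ := fun c => (χ : G → ℂ) (x * (c : G))
    set h : Subgroup.centralizer ({x} : Set G) → ℂ := fun c => (χ : G → ℂ) (x⁻¹ * (c : G))
    have hL : ∀ s : Subgroup.centralizer ({x} : Set G),
        pRegularPart p (fun c : Subgroup.centralizer ({x} : Set G) =>
          (χ : G → ℂ) (x * (c : G)) * (χ : G → ℂ) (x * (c : G))⁻¹) s =
        ∑ b ∈ (Finset.univ : Finset {b : Set (IrrCharacter (Subgroup.centralizer ({x} : Set G))) //
          IsPBlock M b}).filter (fun b => IsInducedBlock M (Subgroup.centralizer ({x} : Set G)) b.1 B),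
            pRegularPart p (blockPart b.1 f) s * h s⁻¹ := by
      intro s
      by_cases hs : p ∣ orderOf s
      · simp [pRegularPart_apply, hs]
      simp only [pRegularPart_apply, if_neg hs]
      have hsec := sum_inducing hM (hX x hx) hB χ hs
      rw [if_pos hχ, ← Finset.sum_filter] at hsec
      rw [← Finset.sum_mul, hsec]
      congr 1
      simp only [h]
      rw [mul_inv_rev, Subgroup.coe_inv, ((commute_of_mem_centralizer s).inv_inv).eq]
    simp only [hL]
    rw [Finset.sum_comm]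
    refine Finset.sum_congr rfl fun b _ => ?_
    have hh : ∀ s : Subgroup.centralizer ({x} : Set G), h s⁻¹ =
        ∑ b' : {b : Set (IrrCharacter (Subgroup.centralizer ({x} : Set G))) // IsPBlock M b},
          blockPart b'.1 h s⁻¹ := fun s => (sum_blockPart hclass s⁻¹).symm
    simp only [hh, Finset.mul_sum]
    rw [Finset.sum_comm, Finset.sum_eq_single b]
    · intro b' _ hb'
      exact sum_blockPart_mul_inv hM b.2 b'.2 (fun h => hb' (Subtype.ext h.symm)) f h
    · simp
  have hF : ∀ χ : IrrCharacter G, IsClassFunction G fun g => (χ : G → ℂ) g * (χ : G → ℂ) g⁻¹ := fun χ g w => by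
    have h2 := CfsgLib.Char.isClassFunction_of_isIrr χ.2
    change (χ : G → ℂ) (w * g * w⁻¹) * (χ : G → ℂ) (w * g * w⁻¹)⁻¹ = _
    rw [h2 g w, show (w * g * w⁻¹)⁻¹ = w * g⁻¹ * w⁻¹ by group, h2 g⁻¹ w]
  have hG : (Nat.card G : ℂ) ≠ 0 := CfsgLib.Char.card_ne_zero'
  calc (Nat.card B : ℂ) = ∑ χ : B, (Nat.card G : ℂ)⁻¹ * ∑ g : G, (χ.1 : G → ℂ) g * (χ.1 : G → ℂ) g⁻¹ := by
        rw [Nat.card_eq_fintype_card, ← Finset.card_univ, Finset.card_eq_sum_ones, Nat.cast_sum, Nat.cast_one]
        exact Finset.sum_congr rfl fun χ _ => by rw [← hchi χ.1, inv_mul_cancel₀ hG]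
    _ = ∑ χ : B, ∑ x ∈ X, (Nat.card (Subgroup.centralizer ({x} : Set G)) : ℂ)⁻¹ *
        ∑ᶠ b ∈ {b : Set (IrrCharacter ↥(Subgroup.centralizer ({x} : Set G))) |
          IsInducedBlock M (Subgroup.centralizer ({x} : Set G)) b B}, ∑ᶠ s : Subgroup.centralizer ({x} : Set G),
            pRegularPart p (blockPart b fun c => (χ.1 : G → ℂ) (x * (c : G))) s *
              blockPart b (fun c => (χ.1 : G → ℂ) (x⁻¹ * (c : G))) s⁻¹ := by
        refine Finset.sum_congr rfl fun χ _ => ?_
        rw [sum_by_sections X hX hXrep (hF χ.1), Finset.mul_sum]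
        refine Finset.sum_congr rfl fun x hx => ?_
        rw [hmain x hx χ.1 χ.2, ← mul_assoc, ← mul_assoc, inv_mul_cancel₀ hG, one_mul]
    _ = _ := by
        rw [Finset.sum_comm, Nat.cast_sum]
        refine Finset.sum_congr rfl fun x hx => ?_
        let _ := Fintype.ofFinite (Subgroup.centralizer ({x} : Set G))
        rw [finsum_mem_eq_finite_toFinset_sum _ (Set.toFinite _), Nat.cast_sum, ← Finset.mul_sum]
        simp only [finsum_mem_eq_finite_toFinset_sum _ (Set.toFinite _)]
        rw [Finset.sum_comm, Finset.mul_sum]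
        refine Finset.sum_congr rfl fun b hb => ?_
        rw [Set.Finite.mem_toFinset] at hb
        have h := subsection_norms hM (hX x hx) hb
        rw [finsum_mem_eq_finite_toFinset_sum _ (Set.toFinite B),
          Finset.sum_subtype _ (p := fun χ => χ ∈ B) (fun χ => Set.Finite.mem_toFinset _)] at h
        rw [h, ← mul_assoc, inv_mul_cancel₀ (Nat.cast_ne_zero.mpr Nat.card_pos.ne'), one_mul]

end CfsgLib.BlockArith
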