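import Cfsg.Agent.Lib.BlockArith.GenInd
import Cfsg.Agent.Lib.Blocks.Heights
import Cfsg.Agent.Lib.CharBlocks.Degree

/-!
# The integral matrix of `p^a`-scaled regular inner products

* `regCoef p χ ψ`: the integer `[p^a χ_reg, ψ]`;
* `regCoef_symm`, `regCoef_sum_mul`, `regCoef_eq_zero`, `pow_degree_dvd_regCoef`,
  `not_dvd_regCoef_iff`;
* `blockMat p B`: the matrix of a block divided by `p^(a-d)`;
* `sum_sq_height_le`: the weighted Brauer–Feit bound;
* `height_le`, `card_le_of_height_pos`;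
* `blockMat_vec`: the degree vector is in the image.
-/

set_option autoImplicit false

noncomputable section

namespace CfsgLib.BlockArith

open Cfsg CfsgLib.Char CfsgLib.Blocks
open scoped ComplexConjugate

variable {G : Type*} [Group G] [Fintype G] {p : ℕ} [hp : Fact p.Prime]
  {M : Ideal AlgInt} [M.IsMaximal]

/-- `p^a` times the restriction to the `p`-regular elements. -/
def paReg (p : ℕ) (θ : G → ℂ) : G → ℂ := fun x =>
  if p ∣ orderOf x then 0 else ((p ^ (Nat.card G).factorization p : ℕ) : ℂ) * θ x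

theorem isGen_paReg {θ : G → ℂ} (hθ : IsGeneralizedCharacter G θ) :
    IsGeneralizedCharacter G (paReg p θ) := by
  have h := isGen_mul (isGen_regular (G := G) (p := p)) hθ
  convert h using 1
  funext x
  simp only [paReg, Pi.mul_apply]
  split_ifs <;> simp

/-- The integer `[p^a χ_reg, ψ]`. -/
def regCoef (p : ℕ) [Fact p.Prime] (χ ψ : IrrCharacter G) : ℤ :=
  (classInner_gen_int (isGen_paReg (p := p) (isGen_of_irr χ.2)) (isGen_of_irr ψ.2)).choose

theorem regCoef_spec (χ ψ : IrrCharacter G) :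
    classInner (paReg p (χ : G → ℂ)) (ψ : G → ℂ) = (regCoef p χ ψ : ℂ) :=
  (classInner_gen_int (isGen_paReg (p := p) (isGen_of_irr χ.2)) (isGen_of_irr ψ.2)).choose_spec

theorem card_mul_regCoef (χ ψ : IrrCharacter G) :
    (Nat.card G : ℂ) * (regCoef p χ ψ : ℂ) = ((p ^ (Nat.card G).factorization p : ℕ) : ℂ) *
      ∑ x : G, (if p ∣ orderOf x then 0 else (χ : G → ℂ) x * conj ((ψ : G → ℂ) x)) := by
  rw [← regCoef_spec, card_mul_classInner, Finset.mul_sum]
  exact Finset.sum_congr rfl fun x _ => by simp only [paReg]; split_ifs <;> simp [mul_assoc]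

theorem regCoef_symm (χ ψ : IrrCharacter G) : regCoef p χ ψ = regCoef p ψ χ := by
  have h := congrArg conj (card_mul_regCoef (p := p) χ ψ)
  simp only [map_mul, map_sum, map_natCast, map_intCast, apply_ite conj, map_zero,
    Complex.conj_conj] at h
  rw [Finset.sum_congr rfl (g := fun x => if p ∣ orderOf x then 0 else
    (ψ : G → ℂ) x * conj ((χ : G → ℂ) x)) (fun x _ => by split_ifs <;> ring),
    ← card_mul_regCoef] at h
  exact_mod_cast mul_left_cancel₀ card_ne_zero' h

theorem regCoef_eq_zero (hM : IsPModular p M) {χ ψ : IrrCharacter G}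
    (h : ¬ SameBlock M (χ : G → ℂ) (ψ : G → ℂ)) : regCoef p χ ψ = 0 := by
  have h1 := card_mul_regCoef (p := p) χ ψ
  rw [regular_orthogonality hM h, mul_zero] at h1
  exact_mod_cast (mul_eq_zero.mp h1).resolve_left card_ne_zero'

theorem paReg_eq_sum (χ : IrrCharacter G) :
    paReg p (χ : G → ℂ) = ∑ ψ : IrrCharacter G, (regCoef p χ ψ : ℂ) • (ψ : G → ℂ) := by
  rw [classFun_eq_sum (isClassFunction_of_isGen (isGen_paReg (isGen_of_irr χ.2)))]
  exact Finset.sum_congr rfl fun ψ _ => by rw [regCoef_spec]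

theorem regCoef_sum_mul (χ η : IrrCharacter G) :
    ∑ ψ : IrrCharacter G, regCoef p χ ψ * regCoef p ψ η =
      (p : ℤ) ^ (Nat.card G).factorization p * regCoef p χ η := by
  have h := classInner_eq_sum (f' := paReg p (η : G → ℂ))
    (isClassFunction_of_isGen (isGen_paReg (p := p) (isGen_of_irr χ.2)))
  have h1 : classInner (paReg p (χ : G → ℂ)) (paReg p (η : G → ℂ)) =
      ((p ^ (Nat.card G).factorization p : ℕ) : ℂ) * (regCoef p χ η : ℂ) := by
    apply mul_left_cancel₀ (card_ne_zero' (G := G))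
    rw [mul_left_comm, card_mul_regCoef, card_mul_classInner, Finset.mul_sum, Finset.mul_sum]
    refine Finset.sum_congr rfl fun x _ => ?_
    simp only [paReg]
    split_ifs
    · simp
    · rw [map_mul, map_natCast]; ring
  simp only [h1, regCoef_spec, map_intCast] at h
  have h2 : ∀ ψ, regCoef p η ψ = regCoef p ψ η := fun ψ => regCoef_symm η ψ
  simp only [h2] at h
  exact_mod_cast h.symm

theorem sum_sq_regCoef (χ : IrrCharacter G) :
    ∑ ψ : IrrCharacter G, regCoef p χ ψ ^ 2 =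
      (p : ℤ) ^ (Nat.card G).factorization p * regCoef p χ χ := by
  rw [← regCoef_sum_mul]
  exact Finset.sum_congr rfl fun ψ _ => by rw [regCoef_symm ψ χ, sq]

theorem regCoef_self_nonneg (χ : IrrCharacter G) : 0 ≤ regCoef p χ χ := by
  have h := sum_sq_regCoef (p := p) χ
  have h1 : (0 : ℤ) < (p : ℤ) ^ (Nat.card G).factorization p :=
    pow_pos (by exact_mod_cast hp.out.pos) _
  exact nonneg_of_mul_nonneg_right (h ▸ Finset.sum_nonneg fun ψ _ => sq_nonneg _) h1

theorem regCoef_self_le (χ : IrrCharacter G) :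
    regCoef p χ χ ≤ (p : ℤ) ^ (Nat.card G).factorization p := by
  rcases (regCoef_self_nonneg (p := p) χ).eq_or_lt with h | h
  · rw [← h]; exact pow_nonneg (Int.natCast_nonneg p) _
  · refine le_of_mul_le_mul_left ?_ h
    rw [← sq, mul_comm, ← sum_sq_regCoef]
    exact Finset.single_le_sum (f := fun ψ => regCoef p χ ψ ^ 2) (fun ψ _ => sq_nonneg _)
      (Finset.mem_univ χ)

/-- Relation with the reduced pairing. -/
theorem regCoef_eq_zomega (χ ψ : IrrCharacter G) :
    (regCoef p χ ψ : ℂ) * ((Nat.card G / p ^ (Nat.card G).factorization p : ℕ) : ℂ) =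
      (charDegree (χ : G → ℂ) : ℂ) *
        (zomega χ (regElt M p (isCharacter_of_isIrr ψ.2)) : locRing M) := by
  rw [zomega_regElt, CfsgLib.CharBlocks.coe_charDegree_irr,
    mul_div_cancel₀ _ (irr_one_ne_zero χ.2)]
  apply mul_left_cancel₀ (a := ((p ^ (Nat.card G).factorization p : ℕ) : ℂ))
    (by exact_mod_cast pow_ne_zero _ hp.out.ne_zero)
  rw [← card_mul_regCoef, ← mul_assoc, mul_comm, ← mul_assoc, ← Nat.cast_mul, mul_comm
    (Nat.card G / p ^ (Nat.card G).factorization p), Nat.ordProj_mul_ordCompl_eq_self]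

omit [Fintype G] in
theorem int_dvd_of_div_mem (hM : IsPModular p M) {z : ℤ} {k : ℕ}
    (h : (z : ℂ) / ((p : ℂ) ^ k) ∈ locRing M) : ((p : ℤ) ^ k) ∣ z := by
  rcases eq_or_ne z 0 with rfl | hz
  · exact dvd_zero _
  have h' : (z.natAbs : ℂ) / ((p ^ k : ℕ) : ℂ) ∈ locRing M := by
    rcases Int.natAbs_eq z with hz' | hz'
    · rw [hz'] at h; simpa using h
    · rw [hz'] at h; simpa [neg_div] using h
  have hk := factorization_le_of_frac_mem hM (Int.natAbs_ne_zero.mpr hz)
    (pow_ne_zero _ hp.out.ne_zero) h'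
  rw [hp.out.factorization_pow, Finsupp.single_eq_same] at hk
  rw [← Int.natCast_pow, Int.natCast_dvd]
  exact (hp.out.pow_dvd_iff_le_factorization (Int.natAbs_ne_zero.mpr hz)).mpr hk

include M in
theorem pow_degree_dvd_regCoef (hM : IsPModular p M) (χ ψ : IrrCharacter G) :
    (p : ℤ) ^ (charDegree (χ : G → ℂ)).factorization p ∣ regCoef p χ ψ := by
  set v := (charDegree (χ : G → ℂ)).factorization p
  set m := Nat.card G / p ^ (Nat.card G).factorization p
  have hm : ¬ p ∣ m := Nat.not_dvd_ordCompl hp.out Nat.card_pos.ne'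
  have hm0 : (m : ℂ) ≠ 0 := by exact_mod_cast fun h0 : m = 0 => hm (h0 ▸ dvd_zero p)
  have h1 : (charDegree (χ : G → ℂ) : ℂ) / ((p ^ v : ℕ) : ℂ) ∈ locRing M :=
    frac_mem_locRing hM (pow_ne_zero _ hp.out.ne_zero)
      (.inr (by rw [hp.out.factorization_pow, Finsupp.single_eq_same]))
  have h2 : (1 : ℕ) / (m : ℂ) ∈ locRing M := frac_mem_locRing hM
    (fun h0 : m = 0 => hm (h0 ▸ dvd_zero p))
    (.inr (by rw [Nat.factorization_eq_zero_of_not_dvd hm]; exact Nat.zero_le _))
  refine int_dvd_of_div_mem hM ?_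
  have h := regCoef_eq_zomega (M := M) (p := p) χ ψ
  have : (regCoef p χ ψ : ℂ) / (p : ℂ) ^ v = (charDegree (χ : G → ℂ) : ℂ) / ((p ^ v : ℕ) : ℂ) *
      (zomega χ (regElt M p (isCharacter_of_isIrr ψ.2)) : locRing M) * ((1 : ℕ) / (m : ℂ)) := by
    have hpv : (p : ℂ) ^ v ≠ 0 := pow_ne_zero _ (by exact_mod_cast hp.out.ne_zero)
    push_cast
    field_simp
    linear_combination h
  rw [this]
  exact Subring.mul_mem _ (Subring.mul_mem _ h1 (zomega χ _).2) h2

/-- The exact divisibility. -/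
theorem not_dvd_regCoef_iff (hM : IsPModular p M) (χ ψ : IrrCharacter G) :
    ¬ (p : ℤ) ^ ((charDegree (χ : G → ℂ)).factorization p + 1) ∣ regCoef p χ ψ ↔
      ψ ∈ blockOf M (χ : G → ℂ) ∧ blockHeight p (blockOf M (χ : G → ℂ)) (ψ : G → ℂ) = 0 := by
  rw [← bomega_regElt_ne_zero_iff hM]
  set v := (charDegree (χ : G → ℂ)).factorization p
  set m := Nat.card G / p ^ (Nat.card G).factorization p
  obtain ⟨k, hk⟩ := pow_degree_dvd_regCoef hM χ ψ
  have hm : ¬ p ∣ m := Nat.not_dvd_ordCompl hp.out Nat.card_pos.ne'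
  have h1 : (charDegree (χ : G → ℂ) : ℂ) / ((p ^ v : ℕ) : ℂ) ∈ locRing M :=
    frac_mem_locRing hM (pow_ne_zero _ hp.out.ne_zero)
      (.inr (by rw [hp.out.factorization_pow, Finsupp.single_eq_same]))
  have hpv : (p : ℂ) ^ v ≠ 0 := pow_ne_zero _ (by exact_mod_cast hp.out.ne_zero)
  have he : (k : locRing M) * (m : locRing M) =
      ⟨_, h1⟩ * zomega χ (regElt M p (isCharacter_of_isIrr ψ.2)) := by
    apply Subtype.ext
    have h := regCoef_eq_zomega (M := M) (p := p) χ ψ
    rw [hk] at h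
    push_cast at h ⊢
    field_simp
    linear_combination h
  have hres := congrArg (res M) he
  rw [map_mul, map_mul, ← bomega_apply] at hres
  have hu : res M ⟨_, h1⟩ ≠ 0 := by
    rw [Ne, res_frac_eq_zero_iff hM (charDegree_ne_zero χ) (pow_ne_zero _ hp.out.ne_zero),
      hp.out.factorization_pow, Finsupp.single_eq_same]
    exact lt_irrefl _
  rw [hk, pow_succ, mul_dvd_mul_iff_left (pow_ne_zero _ (by exact_mod_cast hp.out.ne_zero)),
    ← res_intCast_eq_zero_iff M hM]
  refine not_congr ⟨fun h => ?_, fun h => ?_⟩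
  · rw [h, zero_mul] at hres
    exact (mul_eq_zero.mp hres.symm).resolve_left hu
  · rw [h, mul_zero] at hres
    exact (mul_eq_zero.mp hres).resolve_right fun h0 =>
      hm ((res_natCast_eq_zero_iff M hM _).mp h0)

/-! ## Blocks -/

open Classical in
/-- The matrix of a block divided by `p^(a-d)`. -/
def blockMat (p : ℕ) [Fact p.Prime] (B : Set (IrrCharacter G)) (χ ψ : IrrCharacter G) : ℤ :=
  if χ ∈ B ∧ ψ ∈ B then
    regCoef p χ ψ / (p : ℤ) ^ ((Nat.card G).factorization p - blockDefect p B) else 0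

variable {B : Set (IrrCharacter G)}

omit [Fintype G] hp in
theorem blockDefect_le : blockDefect p B ≤ (Nat.card G).factorization p := by
  unfold blockDefect; exact Nat.sub_le _ _

theorem degree_factorization (hM : IsPModular p M) (hB : IsPBlock M B) {χ : IrrCharacter G}
    (hχ : χ ∈ B) : (charDegree (χ : G → ℂ)).factorization p =
      ((Nat.card G).factorization p - blockDefect p B) + blockHeight p B (χ : G → ℂ) := by
  have := degree_height hM hB hχ
  have := blockDefect_le (p := p) (B := B)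
  omega

theorem blockMat_symm (χ ψ : IrrCharacter G) : blockMat p B χ ψ = blockMat p B ψ χ := by
  rw [blockMat, blockMat, regCoef_symm χ ψ]
  classical
  exact if_congr and_comm rfl rfl

theorem blockMat_mul (hM : IsPModular p M) (hB : IsPBlock M B) {χ : IrrCharacter G} (hχ : χ ∈ B)
    (ψ : IrrCharacter G) :
    (p : ℤ) ^ ((Nat.card G).factorization p - blockDefect p B) * blockMat p B χ ψ =
      regCoef p χ ψ := by
  by_cases hψ : ψ ∈ B
  · rw [blockMat, if_pos ⟨hχ, hψ⟩, Int.mul_ediv_cancel' ]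
    refine (pow_dvd_pow _ ?_).trans (pow_degree_dvd_regCoef hM χ ψ)
    rw [degree_factorization hM hB hχ]
    exact Nat.le_add_right _ _
  · rw [blockMat, if_neg (fun h => hψ h.2), mul_zero, regCoef_eq_zero hM]
    intro hs
    exact hψ (isPBlock_eq_blockOf hB hχ ▸ hs)

theorem pow_height_dvd_blockMat (hM : IsPModular p M) (hB : IsPBlock M B) {χ : IrrCharacter G}
    (hχ : χ ∈ B) (ψ : IrrCharacter G) :
    (p : ℤ) ^ blockHeight p B (χ : G → ℂ) ∣ blockMat p B χ ψ := by
  have h := pow_degree_dvd_regCoef hM χ ψ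
  rw [degree_factorization hM hB hχ, ← blockMat_mul hM hB hχ, pow_add] at h
  exact (mul_dvd_mul_iff_left (pow_ne_zero _ (by exact_mod_cast hp.out.ne_zero))).mp h

theorem not_dvd_blockMat_iff (hM : IsPModular p M) (hB : IsPBlock M B) {χ ψ : IrrCharacter G}
    (hχ : χ ∈ B) (hψ : ψ ∈ B) :
    ¬ (p : ℤ) ^ (blockHeight p B (χ : G → ℂ) + 1) ∣ blockMat p B χ ψ ↔
      blockHeight p B (ψ : G → ℂ) = 0 := by
  have h := not_dvd_regCoef_iff (p := p) hM χ ψ
  rw [← isPBlock_eq_blockOf hB hχ, degree_factorization hM hB hχ, ← blockMat_mul hM hB hχ,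
    add_assoc, pow_add, mul_dvd_mul_iff_left (pow_ne_zero _ (by exact_mod_cast hp.out.ne_zero)),
    and_iff_right hψ] at h
  exact h

theorem blockMat_sum_mul (hM : IsPModular p M) (hB : IsPBlock M B) {χ η : IrrCharacter G}
    (hχ : χ ∈ B) (hη : η ∈ B) :
    ∑ ψ : IrrCharacter G, blockMat p B χ ψ * blockMat p B ψ η =
      (p : ℤ) ^ blockDefect p B * blockMat p B χ η := by
  apply mul_left_cancel₀ (a := (p : ℤ) ^ ((Nat.card G).factorization p - blockDefect p B) *
    (p : ℤ) ^ ((Nat.card G).factorization p - blockDefect p B))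
    (mul_ne_zero (pow_ne_zero _ (by exact_mod_cast hp.out.ne_zero))
      (pow_ne_zero _ (by exact_mod_cast hp.out.ne_zero)))
  rw [Finset.mul_sum, Finset.sum_congr rfl (g := fun ψ => regCoef p χ ψ * regCoef p ψ η)
    fun ψ _ => by
      rw [blockMat_symm ψ η, mul_mul_mul_comm, blockMat_mul hM hB hχ, blockMat_mul hM hB hη,
        regCoef_symm η ψ],
    regCoef_sum_mul, mul_mul_mul_comm, blockMat_mul hM hB hχ, ← pow_add,
    Nat.sub_add_cancel blockDefect_le]

theorem sum_sq_blockMat (hM : IsPModular p M) (hB : IsPBlock M B) {χ : IrrCharacter G}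
    (hχ : χ ∈ B) :
    ∑ ψ : IrrCharacter G, blockMat p B χ ψ ^ 2 =
      (p : ℤ) ^ blockDefect p B * blockMat p B χ χ := by
  rw [← blockMat_sum_mul hM hB hχ hχ]
  exact Finset.sum_congr rfl fun ψ _ => by rw [blockMat_symm ψ χ, sq]

/-- The off-diagonal squares of a row. -/
theorem four_mul_sum_sq_le (hM : IsPModular p M) (hB : IsPBlock M B) {χ : IrrCharacter G}
    (hχ : χ ∈ B) (s : Finset (IrrCharacter G)) (hs : χ ∉ s) :
    4 * ∑ ψ ∈ s, blockMat p B χ ψ ^ 2 ≤ (p : ℤ) ^ (2 * blockDefect p B) := by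
  classical
  have h := sum_sq_blockMat hM hB hχ
  rw [← Finset.add_sum_erase _ _ (Finset.mem_univ χ)] at h
  have h1 : ∑ ψ ∈ s, blockMat p B χ ψ ^ 2 ≤ ∑ ψ ∈ Finset.univ.erase χ, blockMat p B χ ψ ^ 2 :=
    Finset.sum_le_sum_of_subset_of_nonneg (fun ψ hψ => Finset.mem_erase.mpr
      ⟨fun he => hs (he ▸ hψ), Finset.mem_univ ψ⟩) fun ψ _ _ => sq_nonneg _
  rw [pow_mul']
  nlinarith [sq_nonneg ((p : ℤ) ^ blockDefect p B - 2 * blockMat p B χ χ)]

theorem pow_sq_height_le (hM : IsPModular p M) (hB : IsPBlock M B) {χ₀ χ : IrrCharacter G}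
    (h₀ : χ₀ ∈ B) (h0 : blockHeight p B (χ₀ : G → ℂ) = 0) (hχ : χ ∈ B) :
    (p : ℤ) ^ (2 * blockHeight p B (χ : G → ℂ)) ≤ blockMat p B χ₀ χ ^ 2 := by
  rw [blockMat_symm, pow_mul', sq_le_sq, abs_of_nonneg (pow_nonneg (Int.natCast_nonneg p) _)]
  refine Int.le_of_dvd (abs_pos.mpr fun h => ?_) ((dvd_abs _ _).mpr
    (pow_height_dvd_blockMat hM hB hχ χ₀))
  exact (not_dvd_blockMat_iff hM hB hχ h₀).mpr h0 (h ▸ dvd_zero _)

/-- The weighted bound on the number of irreducible characters of a block. -/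
theorem sum_sq_height_le (hM : IsPModular p M) (hB : IsPBlock M B) :
    4 * ∑ᶠ χ ∈ B, p ^ (2 * blockHeight p B (χ : G → ℂ)) ≤ p ^ (2 * blockDefect p B) + 4 := by
  classical
  obtain ⟨χ₀, h₀, h0⟩ := exists_height_zero hM hB
  rw [finsum_mem_eq_finite_toFinset_sum _ (Set.toFinite B),
    ← Finset.add_sum_erase _ _ ((Set.Finite.mem_toFinset _).mpr h₀), h0, mul_zero, pow_zero,
    mul_add, mul_one, add_comm, Nat.add_le_add_iff_right]
  have h := four_mul_sum_sq_le hM hB h₀ _ (Finset.notMem_erase χ₀ (Set.toFinite B).toFinset)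
  have h2 : ((∑ χ ∈ (Set.toFinite B).toFinset.erase χ₀,
      p ^ (2 * blockHeight p B (χ : G → ℂ)) : ℕ) : ℤ) ≤
      ∑ χ ∈ (Set.toFinite B).toFinset.erase χ₀, blockMat p B χ₀ χ ^ 2 := by
    push_cast
    exact Finset.sum_le_sum fun χ hχ => pow_sq_height_le hM hB h₀ h0
      ((Set.Finite.mem_toFinset _).mp (Finset.mem_of_mem_erase hχ))
  push_cast at h2
  zify
  linarith

theorem four_mul_card_le (hM : IsPModular p M) (hB : IsPBlock M B) :
    4 * Nat.card B ≤ p ^ (2 * blockDefect p B) + 4 := by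
  classical
  refine le_trans (Nat.mul_le_mul_left 4 ?_) (sum_sq_height_le hM hB)
  rw [Nat.card_coe_set_eq, Set.ncard_eq_toFinset_card B (Set.toFinite B),
    finsum_mem_eq_finite_toFinset_sum _ (Set.toFinite B), Finset.card_eq_sum_ones]
  exact Finset.sum_le_sum fun χ _ => Nat.one_le_pow _ _ hp.out.pos

/-- Positive heights are at most `d - 2`. -/
theorem height_le (hM : IsPModular p M) (hB : IsPBlock M B) {χ : IrrCharacter G} (hχ : χ ∈ B)
    (h : blockHeight p B (χ : G → ℂ) ≠ 0) :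
    blockHeight p B (χ : G → ℂ) + 2 ≤ blockDefect p B := by
  classical
  obtain ⟨χ₀, h₀, h0⟩ := exists_height_zero hM hB
  have hne : χ₀ ≠ χ := fun he => h (he ▸ h0)
  have hrow : blockMat p B χ χ₀ ≠ 0 := fun he =>
    (not_dvd_blockMat_iff hM hB hχ h₀).mpr h0 (he ▸ dvd_zero _)
  have hdiag : (p : ℤ) ^ (blockHeight p B (χ : G → ℂ) + 1) ∣ blockMat p B χ χ :=
    not_not.mp fun hn => h ((not_dvd_blockMat_iff hM hB hχ hχ).mp hn)
  have hs := sum_sq_blockMat hM hB hχ
  have h2 : blockMat p B χ χ ^ 2 + blockMat p B χ χ₀ ^ 2 ≤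
      (p : ℤ) ^ blockDefect p B * blockMat p B χ χ := by
    rw [← hs, ← Finset.sum_pair (f := fun ψ => blockMat p B χ ψ ^ 2) (Ne.symm hne)]
    exact Finset.sum_le_sum_of_subset_of_nonneg (Finset.subset_univ _) fun ψ _ _ => sq_nonneg _
  have hq : 0 < blockMat p B χ χ₀ ^ 2 := by positivity
  have hpos : 0 < blockMat p B χ χ := by
    by_contra hle
    nlinarith [sq_nonneg (blockMat p B χ χ), pow_pos (show (0 : ℤ) < p by
      exact_mod_cast hp.out.pos) (blockDefect p B)]
  have hlt : blockMat p B χ χ < (p : ℤ) ^ blockDefect p B := by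
    by_contra hle
    nlinarith
  have hlt' := (Int.le_of_dvd hpos hdiag).trans_lt hlt
  have := (pow_lt_pow_iff_right₀ (show (1 : ℤ) < p by exact_mod_cast hp.out.one_lt)).mp hlt'
  omega

/-- A block with a character of positive height has few characters. -/
theorem card_le_of_height_pos (hM : IsPModular p M) (hB : IsPBlock M B) {χ : IrrCharacter G}
    (hχ : χ ∈ B) (h : 0 < blockHeight p B (χ : G → ℂ)) :
    2 * Nat.card B ≤ p ^ (2 * blockDefect p B - 2) := by
  classical
  obtain ⟨χ₀, h₀, h0⟩ := exists_height_zero hM hB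
  set s := (Set.toFinite B).toFinset with hs
  set s₀ := s.filter fun ψ : IrrCharacter G => blockHeight p B (ψ : G → ℂ) = 0
  set s₁ := s.filter fun ψ : IrrCharacter G => ¬ blockHeight p B (ψ : G → ℂ) = 0
  have hd := height_le hM hB hχ h.ne'
  have hmem : ∀ {ψ}, ψ ∈ s → ψ ∈ B := fun hψ => (Set.Finite.mem_toFinset _).mp hψ
  have hp2 : (0 : ℤ) < (p : ℤ) ^ 2 := pow_pos (by exact_mod_cast hp.out.pos) _
  have h1 := four_mul_sum_sq_le hM hB h₀ s₁ (fun he => (Finset.mem_filter.mp he).2 h0)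
  have h2 := four_mul_sum_sq_le hM hB hχ s₀ (fun he => h.ne' (Finset.mem_filter.mp he).2)
  have h1' : (s₁.card : ℤ) * (p : ℤ) ^ 2 ≤ ∑ ψ ∈ s₁, blockMat p B χ₀ ψ ^ 2 := by
    rw [← nsmul_eq_mul, ← Finset.sum_const]
    refine Finset.sum_le_sum fun ψ hψ => le_trans ?_
      (pow_sq_height_le hM hB h₀ h0 (hmem (Finset.mem_filter.mp hψ).1))
    exact pow_le_pow_right₀ (by exact_mod_cast hp.out.pos)
      (by have := (Finset.mem_filter.mp hψ).2; omega)
  have h2' : (s₀.card : ℤ) * (p : ℤ) ^ 2 ≤ ∑ ψ ∈ s₀, blockMat p B χ ψ ^ 2 := by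
    rw [← nsmul_eq_mul, ← Finset.sum_const]
    refine Finset.sum_le_sum fun ψ hψ => le_trans ?_
      ((pow_sq_height_le hM hB (hmem (Finset.mem_filter.mp hψ).1) (Finset.mem_filter.mp hψ).2
        hχ).trans_eq (by rw [blockMat_symm]))
    exact pow_le_pow_right₀ (by exact_mod_cast hp.out.pos) (by omega)
  have hcard : (Nat.card B : ℤ) = s₀.card + s₁.card := by
    rw [Nat.card_coe_set_eq, Set.ncard_eq_toFinset_card B (Set.toFinite B), ← hs]
    exact_mod_cast (Finset.card_filter_add_card_filter_not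
      (s := s) fun ψ : IrrCharacter G => blockHeight p B (ψ : G → ℂ) = 0).symm
  have hexp : (p : ℤ) ^ (2 * blockDefect p B) =
      (p : ℤ) ^ (2 * blockDefect p B - 2) * (p : ℤ) ^ 2 := by
    rw [← pow_add]; congr 1; omega
  have h3 : (4 * (Nat.card B : ℤ)) * (p : ℤ) ^ 2 ≤
      (2 * (p : ℤ) ^ (2 * blockDefect p B - 2)) * (p : ℤ) ^ 2 := by
    rw [hcard]; nlinarith
  have h4 := le_of_mul_le_mul_right h3 hp2
  zify
  linarith

/-- The degree vector lies in the image of the block matrix. -/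
theorem blockMat_vec (hM : IsPModular p M) (hB : IsPBlock M B) :
    ∃ z : IrrCharacter G → ℤ, ∀ χ ∈ B,
      ((p : ℤ) ^ ((Nat.card G).factorization p - blockDefect p B)) *
        ∑ ψ : IrrCharacter G, blockMat p B χ ψ * z ψ = charDegree (χ : G → ℂ) := by
  classical
  obtain ⟨z, hz, hzi, -⟩ := gen_decomp (isGen_pElements (G := G) (p := p))
  refine ⟨z, fun χ hχ => ?_⟩
  rw [Finset.mul_sum, Finset.sum_congr rfl (g := fun ψ => regCoef p χ ψ * z ψ)
    fun ψ _ => by rw [← mul_assoc, blockMat_mul hM hB hχ]]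
  set f : G → ℂ := fun x => if ∃ k, orderOf x = p ^ k then
      ((Nat.card G / p ^ (Nat.card G).factorization p : ℕ) : ℂ) else 0
  have h := classInner_eq_sum (f' := f)
    (isClassFunction_of_isGen (isGen_paReg (p := p) (isGen_of_irr χ.2)))
  simp only [regCoef_spec, hzi, map_intCast] at h
  have h1 : classInner (paReg p (χ : G → ℂ)) f = (charDegree (χ : G → ℂ) : ℂ) := by
    apply mul_left_cancel₀ (card_ne_zero' (G := G))
    rw [card_mul_classInner, Finset.sum_eq_single (1 : G)]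
    · simp only [paReg, f, orderOf_one]
      rw [if_neg hp.out.not_dvd_one, if_pos ⟨0, (pow_zero p).symm⟩, map_natCast,
        CfsgLib.CharBlocks.coe_charDegree_irr]
      rw [mul_right_comm, ← Nat.cast_mul, Nat.ordProj_mul_ordCompl_eq_self]
    · intro x _ hx
      simp only [paReg, f]
      by_cases hdvd : p ∣ orderOf x
      · simp [hdvd]
      · have hno : ¬ ∃ k, orderOf x = p ^ k := by
          rintro ⟨k, hk⟩
          refine hdvd (hk ▸ dvd_pow_self p fun hk0 => hx ?_)
          rwa [hk0, pow_zero, orderOf_eq_one_iff] at hk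
        simp [hno]
    · simp
  rw [h1] at h
  exact_mod_cast h.symm

/-- Modulo `M` the block matrix has rank one. -/
theorem res_blockMat (hM : IsPModular p M) (hB : IsPBlock M B) :
    ∃ L : Res M, L ≠ 0 ∧ ∀ χ ∈ B, ∀ ψ ∈ B,
      (blockMat p B χ ψ : Res M) * ((Nat.card G / p ^ (Nat.card G).factorization p : ℕ) : Res M) =
        kappa M p B χ * (kappa M p B ψ * L) := by
  obtain ⟨L, hL, hpair⟩ := exists_pairing (p := p) hM hB
  refine ⟨L, hL, fun χ hχ ψ hψ => ?_⟩
  have he : (blockMat p B χ ψ : locRing M) *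
      ((Nat.card G / p ^ (Nat.card G).factorization p : ℕ) : locRing M) =
      ⟨_, degree_frac_mem hM hB hχ⟩ * zomega χ (regElt M p (isCharacter_of_isIrr ψ.2)) := by
    apply Subtype.ext
    have h := regCoef_eq_zomega (M := M) (p := p) χ ψ
    rw [← blockMat_mul hM hB hχ] at h
    have hpv : (p : ℂ) ^ ((Nat.card G).factorization p - blockDefect p B) ≠ 0 :=
      pow_ne_zero _ (by exact_mod_cast hp.out.ne_zero)
    push_cast at h ⊢
    field_simp
    linear_combination h
  have h := congrArg (res M) he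
  rw [map_mul, map_mul, map_intCast, map_natCast, ← bomega_apply, hpair χ hχ ψ hψ] at h
  rw [h]
  congr 1
  rw [kappa, dif_pos (degree_frac_mem hM hB hχ)]

end CfsgLib.BlockArith
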