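import Cfsg.Agent.Lib.Blocks.SecondMain

/-!
# The regular part of a character restricted to a subgroup, seen by an induced block
-/

set_option autoImplicit false

noncomputable section

namespace CfsgLib.BlockArith

open Cfsg CfsgLib.Blocks
open scoped ComplexConjugate

variable {M : Ideal AlgInt} [M.IsMaximal] {G : Type*} [Group G] [Fintype G] {p : ℕ}
  {H : Subgroup G} [Fintype H]

theorem coe_zomega_resIn_regElt (ψ : IrrCharacter H) {θ : G → ℂ} (hθ : IsCharacter G θ) :
    ((zomega ψ (resIn H (regElt M p hθ)) : locRing M) : ℂ) =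
      (∑ h : H, if p ∣ orderOf h then 0 else conj (θ h) * (ψ : H → ℂ) h) / (ψ : H → ℂ) 1 := by
  classical
  rw [coe_zomega, omega, charLin_apply]
  congr 1
  refine Finset.sum_congr rfl fun h _ => ?_
  simp [resIn, regElt, Subgroup.orderOf_coe]

theorem bomega_resIn_regElt_ne_zero_iff [Fact p.Prime] (hM : IsPModular p M)
    {b : Set (IrrCharacter H)} {B₀ : Set (IrrCharacter G)} (hind : IsInducedBlock M H b B₀)
    {ψ : IrrCharacter H} (hψ : ψ ∈ b) (χ : IrrCharacter G) :
    bomega ψ (resIn H (regElt M p (CfsgLib.Char.isCharacter_of_isIrr χ.2))) ≠ 0 ↔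
      χ ∈ B₀ ∧ blockHeight p B₀ (χ : G → ℂ) = 0 := by
  obtain ⟨-, hB, hall⟩ := (isInducedBlock_iff H).mp hind
  obtain ⟨χ₀, hχ₀⟩ := IsPBlock.nonempty hB
  rw [← indBomega_apply, hall ψ hψ χ₀ hχ₀, bomega_regElt_ne_zero_iff hM,
    ← isPBlock_eq_blockOf hB hχ₀]

end CfsgLib.BlockArith
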