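import Cfsg.Agent.Lib.BlockArith.Subsection
import Cfsg.Agent.Lib.BlockArith.RegCoef
import Cfsg.Agent.Lib.BlockArith.RegRestrict
import Cfsg.Agent.Lib.Blocks.Laradji
import Cfsg.Agent.Lib.CharBlocks.AMGM

/-!
# Contributions of a subsection and Brauer's bound

* `contrib p x b`: the matrix of contributions, scaled by `p ^ d(b)`;
* `contrib_sum_mul`, `sum_contrib_self`, `contrib_conj`, `isIntegral_contrib`;
* `contrib_ne_zero`: nonzero modulo `M` at two characters of height zero;
* `card_heightZero_sq_le`: `k₀(B)² ≤ p^(2 d(b)) l(b)`.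
-/

set_option autoImplicit false

noncomputable section

namespace CfsgLib.BlockArith

open Cfsg CfsgLib.Char CfsgLib.Blocks
open scoped ComplexConjugate

/-- A nonzero algebraic integer with nonnegative conjugates has a conjugate at least one. -/
theorem exists_conjugate_ge_one {z : ℂ} (hz : IsIntegral ℤ z) (hne : z ≠ 0)
    (hnn : ∀ σ : ℂ ≃+* ℂ, ∃ r : ℝ, 0 ≤ r ∧ σ z = (r : ℂ)) :
    ∃ σ : ℂ ≃+* ℂ, 1 ≤ (σ z).re := by
  classical
  have hzQ : IsIntegral ℚ z := hz.tower_top
  have hm := minpoly.monic hzQ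
  have hirr := minpoly.irreducible hzQ
  set s := ((minpoly ℚ z).aroots ℂ).toFinset with hs
  have hroot : ∀ r, r ∈ s ↔ Polynomial.aeval r (minpoly ℚ z) = 0 := fun r => by
    rw [hs, Multiset.mem_toFinset, Polynomial.mem_aroots]
    exact ⟨fun h => h.2, fun h => ⟨hm.ne_zero, h⟩⟩
  have hconj : ∀ r ∈ s, ∃ σ : ℂ ≃+* ℂ, σ z = r := by
    intro r hr
    let L : IntermediateField ℚ ℂ := algebraicClosure ℚ ℂ
    haveI hL : IsAlgClosure ℚ L := algebraicClosure.isAlgClosure ℚ ℂ
    haveI : Normal ℚ L := IsAlgClosure.normal ℚ L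
    have hr0 := (hroot r).mp hr
    have hrQ : IsIntegral ℚ r := ⟨minpoly ℚ z, hm, hr0⟩
    let x : L := ⟨z, (mem_algebraicClosure_iff' ..).mpr hzQ⟩
    let y : L := ⟨r, (mem_algebraicClosure_iff' ..).mpr hrQ⟩
    have h1 : minpoly ℚ x = minpoly ℚ z := (minpoly.algHom_eq L.val L.val.injective x).symm
    have h2 : minpoly ℚ y = minpoly ℚ r := (minpoly.algHom_eq L.val L.val.injective y).symm
    have h3 : minpoly ℚ r = minpoly ℚ z := (minpoly.eq_of_irreducible_of_monic hirr hr0 hm).symm
    have hxy : IsConjRoot ℚ x y := by rw [isConjRoot_def, h1, h2, h3]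
    obtain ⟨τ, hτ⟩ := hxy.exists_algEquiv
    obtain ⟨σ, hσ⟩ := CfsgLib.CharNormal.exists_ringEquiv_extend τ.symm.toRingEquiv
    refine ⟨σ, (hσ x).trans ?_⟩
    have h4 : τ.symm x = y := by rw [← hτ, τ.symm_apply_apply]
    exact congrArg (fun w : L => (w : ℂ)) h4
  have hre : ∀ r ∈ s, ((r.re : ℝ) : ℂ) = r ∧ 0 < r.re := by
    intro r hr
    obtain ⟨σ, rfl⟩ := hconj r hr
    obtain ⟨t, ht, he⟩ := hnn σ
    rw [he, Complex.ofReal_re]
    refine ⟨rfl, lt_of_le_of_ne ht fun h0 => hne ?_⟩
    rw [← h0, Complex.ofReal_zero, map_eq_zero_iff σ σ.injective] at he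
    exact he
  have hzs : z ∈ s := (hroot z).mpr (minpoly.aeval ℚ z)
  have h := CfsgLib.CharBlocks.card_le_sum_of_galois s (fun r => r.re)
    (fun r hr => by
      rw [(hre r hr).1]
      obtain ⟨σ, rfl⟩ := hconj r hr
      exact map_isIntegral_int σ hz)
    (fun r hr => (hre r hr).2) (fun σ => by
      rw [Finset.prod_congr rfl fun r hr => (hre r hr).1, map_prod]
      have hmaps : ∀ r ∈ s, σ r ∈ s := fun r hr => by
        rw [hroot] at hr ⊢
        rw [show σ r = σ.toRingHom.toRatAlgHom r from rfl, Polynomial.aeval_algHom_apply, hr, map_zero]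
      refine Finset.prod_bij (fun r _ => σ r) hmaps (fun a _ b _ hab => σ.injective hab) ?_ fun _ _ => rfl
      intro r hr
      obtain ⟨a, ha, hae⟩ := Finset.surj_on_of_inj_on_of_card_le (fun a _ => σ a) hmaps
        (fun a b _ _ hab => σ.injective hab) le_rfl r hr
      exact ⟨a, ha, hae.symm⟩)
  obtain ⟨r, hr, hr1⟩ : ∃ r ∈ s, 1 ≤ r.re := by
    by_contra hcon
    push Not at hcon
    have h5 : ∑ r ∈ s, r.re < ∑ _r ∈ s, (1 : ℝ) := Finset.sum_lt_sum_of_nonempty ⟨z, hzs⟩ hcon
    rw [Finset.sum_const, nsmul_eq_mul, mul_one] at h5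
    exact absurd h5 (not_lt.mpr h)
  obtain ⟨σ, rfl⟩ := hconj r hr
  exact ⟨σ, hr1⟩

/-- The numbers on which an automorphism commutes with complex conjugation. -/
def conjCommute (σ : ℂ ≃+* ℂ) : Subfield ℂ :=
  (σ.toRingHom.comp (starRingEnd ℂ)).eqLocusField ((starRingEnd ℂ).comp σ.toRingHom)

variable {G : Type*} [Group G] [Fintype G] {M : Ideal AlgInt} [M.IsMaximal] {p : ℕ} [hp : Fact p.Prime]

omit [M.IsMaximal] hp in
theorem char_mem_conjCommute (σ : ℂ ≃+* ℂ) {θ : G → ℂ} (hθ : IsCharacter G θ) (g : G) :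
    θ g ∈ conjCommute σ := by
  obtain ⟨k, -, hk⟩ := CfsgLib.CharBlocks.exists_pow_galois (G := G) σ
  show σ (conj (θ g)) = conj (σ (θ g))
  rw [← char_inv hθ, hk θ hθ, hk θ hθ, inv_pow, char_inv hθ]

variable {x : G} [Fintype (Subgroup.centralizer ({x} : Set G))]

/-- The part of `χ` in the block `b` on the section of `x`. -/
def secPart (x : G) [Fintype (Subgroup.centralizer ({x} : Set G))]
    (b : Set (IrrCharacter (Subgroup.centralizer ({x} : Set G)))) (χ : IrrCharacter G) :
    Subgroup.centralizer ({x} : Set G) → ℂ :=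
  blockPart b fun c => (χ : G → ℂ) (x * (c : G))

open Classical in
/-- The contributions, scaled by `p ^ d(b)`. -/
def contrib (p : ℕ) (x : G) [Fintype (Subgroup.centralizer ({x} : Set G))]
    (b : Set (IrrCharacter (Subgroup.centralizer ({x} : Set G)))) (χ ψ : IrrCharacter G) : ℂ :=
  ((p ^ blockDefect p b : ℕ) : ℂ) / (Nat.card (Subgroup.centralizer ({x} : Set G)) : ℂ) *
    ∑ s : Subgroup.centralizer ({x} : Set G),
      if p ∣ orderOf s then 0 else secPart x b χ s * conj (secPart x b ψ s)

variable {B : Set (IrrCharacter G)} {b : Set (IrrCharacter (Subgroup.centralizer ({x} : Set G)))}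

omit [M.IsMaximal] hp in
theorem contrib_conj (χ ψ : IrrCharacter G) :
    contrib p x b ψ χ = conj (contrib p x b χ ψ) := by
  classical
  simp only [contrib, map_mul, map_div₀, map_natCast, map_sum, apply_ite conj, map_zero,
    Complex.conj_conj]
  congr 1
  exact Finset.sum_congr rfl fun s _ => by split_ifs <;> ring

omit [M.IsMaximal] hp in
theorem blockKer_conj_symm {C : Type*} [Group C] [Fintype C] (e : Set (IrrCharacter C)) (s c : C) :
    conj (blockKer p e s c) = blockKer p e c s := by
  classical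
  simp only [blockKer, Matrix.of_apply, apply_ite conj, map_zero, map_mul, map_inv₀, map_natCast, map_sum,
    or_comm (a := p ∣ orderOf s)]
  split_ifs
  · rfl
  · exact congrArg _ (Finset.sum_congr rfl fun φ _ => by
      split_ifs <;> simp [mul_comm])

omit hp in
theorem secPart_eq (hM : IsPModular p M) (hb : IsPBlock M b) (χ : IrrCharacter G)
    {s : Subgroup.centralizer ({x} : Set G)} (hs : ¬ p ∣ orderOf s) :
    secPart x b χ s = ∑ c, blockKer p b s c * (χ : G → ℂ) (x * (c : G)) :=
  blockPart_regular_eq hM hb _ hs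

omit hp in
theorem sum_blockKer_secPart (hM : IsPModular p M) (hb : IsPBlock M b) (χ : IrrCharacter G)
    {s : Subgroup.centralizer ({x} : Set G)} (hs : ¬ p ∣ orderOf s) :
    ∑ t, blockKer p b s t * secPart x b χ t = secPart x b χ s := by
  classical
  rw [secPart_eq hM hb χ hs]
  calc ∑ t, blockKer p b s t * secPart x b χ t
      = ∑ t, ∑ c, blockKer p b s t * blockKer p b t c * (χ : G → ℂ) (x * (c : G)) := by
        refine Finset.sum_congr rfl fun t _ => ?_
        by_cases ht : p ∣ orderOf t
        · rw [show blockKer p b s t = 0 by simp [blockKer, ht]]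
          simp
        · rw [secPart_eq hM hb χ ht, Finset.mul_sum]
          exact Finset.sum_congr rfl fun c _ => by ring
    _ = _ := by
        rw [Finset.sum_comm]
        exact Finset.sum_congr rfl fun c _ => by rw [← Finset.sum_mul, blockKer_sum_mul hM hb]

theorem secPart_eq_zero (hM : IsPModular p M) (hx : ∃ k : ℕ, orderOf x = p ^ k)
    (hind : IsInducedBlock M (Subgroup.centralizer ({x} : Set G)) b B) {χ : IrrCharacter G} (hχ : χ ∉ B)
    {s : Subgroup.centralizer ({x} : Set G)} (hs : ¬ p ∣ orderOf s) : secPart x b χ s = 0 :=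
  second_main hM hx (mem_blockOf_self χ) (isPBlock_blockOf χ) hind.1 (fun h => hχ (by
    rw [inducedBlock_unique _ hind h]; exact mem_blockOf_self χ)) hs

/-- Second orthogonality for the parts in a block. -/
theorem sum_secPart_mul (hM : IsPModular p M) (hx : ∃ k : ℕ, orderOf x = p ^ k) (hb : IsPBlock M b)
    {s t : Subgroup.centralizer ({x} : Set G)} (hs : ¬ p ∣ orderOf s) (ht : ¬ p ∣ orderOf t) :
    ∑ χ : IrrCharacter G, secPart x b χ t * conj (secPart x b χ s) =
      (Nat.card (Subgroup.centralizer ({x} : Set G)) : ℂ) * blockKer p b t s := by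
  classical
  have hexp : ∀ χ : IrrCharacter G, secPart x b χ t * conj (secPart x b χ s) =
      ∑ c, ∑ c', blockKer p b t c * blockKer p b s⁻¹ c' *
        ((χ : G → ℂ) (x * (c : G)) * (χ : G → ℂ) (x⁻¹ * (c' : G))) := by
    intro χ
    rw [secPart_eq hM hb χ ht, secPart_eq hM hb χ hs, map_sum, Finset.sum_mul_sum]
    refine Finset.sum_congr rfl fun c _ =>
      Fintype.sum_equiv (Equiv.inv _) _ _ fun c' => ?_
    rw [Equiv.inv_apply, blockKer_inv, map_mul, blockKer_conj_symm, Subgroup.coe_inv,
      ← char_inv (isCharacter_of_isIrr χ.2), mul_inv_rev,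
      (commute_of_mem_centralizer c').inv_left.inv_right.eq]
    ring
  simp only [hexp]
  rw [Finset.sum_comm, ← blockKer_sum_mul hM hb t s, Finset.mul_sum]
  refine Finset.sum_congr rfl fun c _ => ?_
  rw [Finset.sum_comm]
  by_cases hc : p ∣ orderOf c
  · rw [show blockKer p b t c = 0 by simp [blockKer, hc]]
    simp
  simp only [← Finset.mul_sum, mul_assoc]
  rw [sum_section_mul hx b s⁻¹ c hc, blockKer_inv]
  ring

/-- The contributions are `p ^ d(b)` times a projection. -/
theorem contrib_sum_mul (hM : IsPModular p M) (hx : ∃ k : ℕ, orderOf x = p ^ k)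
    (hind : IsInducedBlock M (Subgroup.centralizer ({x} : Set G)) b B) [DecidablePred (· ∈ B)]
    (χ η : IrrCharacter G) :
    (∑ ψ : IrrCharacter G, if ψ ∈ B then contrib p x b χ ψ * contrib p x b ψ η else 0) =
      ((p ^ blockDefect p b : ℕ) : ℂ) * contrib p x b χ η := by
  classical
  have hb := hind.1
  have hz : ∀ ψ : IrrCharacter G, ψ ∉ B → contrib p x b χ ψ = 0 := fun ψ hψ => by
    simp only [contrib]
    refine mul_eq_zero_of_right _ (Finset.sum_eq_zero fun s _ => ?_)
    split_ifs with hs
    · rfl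
    · rw [secPart_eq_zero hM hx hind hψ hs, map_zero, mul_zero]
  rw [Finset.sum_congr rfl (g := fun ψ => contrib p x b χ ψ * contrib p x b ψ η) fun ψ _ => by
    split_ifs with h
    · rfl
    · rw [hz ψ h, zero_mul]]
  simp only [contrib]
  set q := ((p ^ blockDefect p b : ℕ) : ℂ)
  set N := (Nat.card (Subgroup.centralizer ({x} : Set G)) : ℂ) with hN
  have hN0 : N ≠ 0 := CfsgLib.Char.card_ne_zero'
  calc ∑ ψ : IrrCharacter G, q / N * (∑ s : Subgroup.centralizer ({x} : Set G),
          if p ∣ orderOf s then 0 else secPart x b χ s * conj (secPart x b ψ s)) *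
        (q / N * ∑ t : Subgroup.centralizer ({x} : Set G),
          if p ∣ orderOf t then 0 else secPart x b ψ t * conj (secPart x b η t))
      = q / N * (q / N) * ∑ s : Subgroup.centralizer ({x} : Set G),
          (if p ∣ orderOf s then 0 else secPart x b χ s *
            ∑ t : Subgroup.centralizer ({x} : Set G), if p ∣ orderOf t then 0 else
              (∑ ψ : IrrCharacter G, secPart x b ψ t * conj (secPart x b ψ s)) *
                conj (secPart x b η t)) := by
        rw [Finset.sum_congr rfl fun ψ _ => mul_mul_mul_comm (q / N) _ (q / N) _, ← Finset.mul_sum]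
        congr 1
        simp only [Finset.sum_mul]
        rw [Finset.sum_comm]
        refine Finset.sum_congr rfl fun s _ => ?_
        by_cases hs : p ∣ orderOf s
        · simp [hs]
        · simp only [if_neg hs, Finset.mul_sum]
          rw [Finset.sum_comm]
          refine Finset.sum_congr rfl fun t _ => ?_
          by_cases ht : p ∣ orderOf t
          · simp [ht]
          · simp only [if_neg ht, Finset.mul_sum]
            exact Finset.sum_congr rfl fun ψ _ => by ring
    _ = q / N * (q / N) * ∑ s : Subgroup.centralizer ({x} : Set G),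
          (if p ∣ orderOf s then 0 else secPart x b χ s * (N * conj (secPart x b η s))) := by
        congr 1
        refine Finset.sum_congr rfl fun s _ => ?_
        split_ifs with hs
        · rfl
        congr 1
        conv_rhs => rw [← sum_blockKer_secPart hM hb η hs, map_sum, Finset.mul_sum]
        refine Finset.sum_congr rfl fun t _ => ?_
        by_cases ht : p ∣ orderOf t
        · rw [if_pos ht, show blockKer p b s t = 0 by simp [blockKer, ht]]
          simp
        · rw [if_neg ht, sum_secPart_mul hM hx hb hs ht, map_mul, blockKer_conj_symm]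
          ring
    _ = _ := by
        simp only [Finset.mul_sum]
        refine Finset.sum_congr rfl fun s _ => ?_
        split_ifs
        · ring
        · field_simp

theorem sum_contrib_self (hM : IsPModular p M) (hx : ∃ k : ℕ, orderOf x = p ^ k)
    (hind : IsInducedBlock M (Subgroup.centralizer ({x} : Set G)) b B) [DecidablePred (· ∈ B)] :
    (∑ χ : IrrCharacter G, if χ ∈ B then contrib p x b χ χ else 0) =
      ((p ^ blockDefect p b : ℕ) : ℂ) * (blockRank p b : ℂ) := by
  classical
  have hb := hind.1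
  rw [Finset.sum_congr rfl (g := fun χ => contrib p x b χ χ) fun χ _ => by
    split_ifs with h
    · rfl
    · simp only [contrib]
      refine (mul_eq_zero_of_right _ (Finset.sum_eq_zero fun s _ => ?_)).symm
      split_ifs with hs
      · rfl
      · rw [secPart_eq_zero hM hx hind h hs, zero_mul]]
  simp only [contrib]
  rw [← Finset.mul_sum, Finset.sum_comm, blockRank_eq_trace hM hb, Finset.mul_sum, Finset.mul_sum]
  refine Finset.sum_congr rfl fun s _ => ?_
  by_cases hs : p ∣ orderOf s
  · rw [show blockKer p b s s = 0 by simp [blockKer, hs]]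
    simp [hs]
  · simp only [if_neg hs]
    rw [sum_secPart_mul hM hx hb hs hs, ← mul_assoc, div_mul_cancel₀ _ CfsgLib.Char.card_ne_zero']

omit [M.IsMaximal] hp in
theorem mem_center_centralizer (h : x ∈ Subgroup.centralizer ({x} : Set G)) :
    (⟨x, h⟩ : Subgroup.centralizer ({x} : Set G)) ∈
      Subgroup.center (Subgroup.centralizer ({x} : Set G)) :=
  Subgroup.mem_center_iff.mpr fun c => Subtype.ext (commute_of_mem_centralizer c).eq.symm

omit [M.IsMaximal] hp in
/-- The coefficients on the section: multiplicities twisted by the scalar of `x`. -/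
theorem classInner_shift (h : x ∈ Subgroup.centralizer ({x} : Set G)) (χ : IrrCharacter G)
    (φ : IrrCharacter (Subgroup.centralizer ({x} : Set G))) :
    classInner (fun c : Subgroup.centralizer ({x} : Set G) => (χ : G → ℂ) (x * (c : G)))
        (φ : Subgroup.centralizer ({x} : Set G) → ℂ) =
      centScal φ ⟨x, h⟩ * classInner (fun c : Subgroup.centralizer ({x} : Set G) => (χ : G → ℂ) c)
        (φ : Subgroup.centralizer ({x} : Set G) → ℂ) := by
  classical
  have hres := classFun_eq_sum (isClassFunction_of_isCharacter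
    (isCharacter_res (Subgroup.centralizer ({x} : Set G)) (isCharacter_of_isIrr χ.2)))
  have hval : (fun c : Subgroup.centralizer ({x} : Set G) => (χ : G → ℂ) (x * (c : G))) =
      ∑ φ' : IrrCharacter (Subgroup.centralizer ({x} : Set G)),
        (centScal φ' ⟨x, h⟩ * classInner (fun c : Subgroup.centralizer ({x} : Set G) => (χ : G → ℂ) c)
          (φ' : _ → ℂ)) • (φ' : _ → ℂ) := by
    funext c
    have h1 := congrFun hres (⟨x, h⟩ * c)
    simp only [Finset.sum_apply, Pi.smul_apply, smul_eq_mul] at h1 ⊢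
    refine h1.trans (Finset.sum_congr rfl fun φ' _ => ?_)
    rw [char_central_mul φ' (mem_center_centralizer h)]
    ring
  rw [hval, classInner_sum_left, Finset.sum_eq_single φ (fun φ' _ hne => ?_) (by simp),
    classInner_smul_left, classInner_irr_self φ.2, mul_one]
  rw [classInner_smul_left, classInner_irr_ne φ'.2 φ.2 fun h' => hne (Subtype.ext h'), mul_zero]

theorem secPart_mem_conjCommute (σ : ℂ ≃+* ℂ) (χ : IrrCharacter G)
    (s : Subgroup.centralizer ({x} : Set G)) : secPart x b χ s ∈ conjCommute σ := by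
  classical
  rw [secPart, blockPart_apply]
  refine Subfield.sum_mem _ fun φ _ => ?_
  split_ifs
  · refine Subfield.mul_mem _ ?_ (char_mem_conjCommute σ (isCharacter_of_isIrr φ.2) s)
    rw [classInner_def]
    refine Subfield.mul_mem _ (Subfield.inv_mem _ (natCast_mem _ _)) (Subfield.sum_mem _ fun c _ => ?_)
    refine Subfield.mul_mem _ (char_mem_conjCommute σ (isCharacter_of_isIrr χ.2) _) ?_
    rw [← char_inv (isCharacter_of_isIrr φ.2)]
    exact char_mem_conjCommute σ (isCharacter_of_isIrr φ.2) _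
  · exact Subfield.zero_mem _

theorem contrib_mem_conjCommute (σ : ℂ ≃+* ℂ) (χ ψ : IrrCharacter G) :
    contrib p x b χ ψ ∈ conjCommute σ := by
  classical
  rw [contrib]
  refine Subfield.mul_mem _ (Subfield.div_mem _ (natCast_mem _ _) (natCast_mem _ _))
    (Subfield.sum_mem _ fun s _ => ?_)
  split_ifs
  · exact Subfield.zero_mem _
  · refine Subfield.mul_mem _ (secPart_mem_conjCommute σ χ s) ?_
    have hm : σ (conj (secPart x b ψ s)) = conj (σ (secPart x b ψ s)) := secPart_mem_conjCommute σ ψ s
    show σ (conj (conj (secPart x b ψ s))) = conj (σ (conj (secPart x b ψ s)))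
    rw [Complex.conj_conj, hm, Complex.conj_conj]

/-- The contributions through the block matrix of `b`. -/
theorem contrib_eq_sum (hM : IsPModular p M) (hb : IsPBlock M b) [DecidablePred (· ∈ b)]
    (h : x ∈ Subgroup.centralizer ({x} : Set G)) (χ ψ : IrrCharacter G) :
    contrib p x b χ ψ = ∑ φ : IrrCharacter (Subgroup.centralizer ({x} : Set G)),
      ∑ φ' : IrrCharacter (Subgroup.centralizer ({x} : Set G)), if φ ∈ b ∧ φ' ∈ b then
        centScal φ ⟨x, h⟩ * classInner (fun c : Subgroup.centralizer ({x} : Set G) => (χ : G → ℂ) c) (φ : _ → ℂ) *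
          conj (centScal φ' ⟨x, h⟩ *
            classInner (fun c : Subgroup.centralizer ({x} : Set G) => (ψ : G → ℂ) c) (φ' : _ → ℂ)) *
          (blockMat p b φ φ' : ℂ) else 0 := by
  classical
  set A := fun (η : IrrCharacter G) (φ : IrrCharacter (Subgroup.centralizer ({x} : Set G))) =>
    centScal φ ⟨x, h⟩ * classInner (fun c : (Subgroup.centralizer ({x} : Set G)) => (η : G → ℂ) c) (φ : (Subgroup.centralizer ({x} : Set G)) → ℂ) with hA
  have hsec : ∀ (η : IrrCharacter G) (s : (Subgroup.centralizer ({x} : Set G))), secPart x b η s =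
      ∑ φ : IrrCharacter (Subgroup.centralizer ({x} : Set G)), if φ ∈ b then A η φ * (φ : (Subgroup.centralizer ({x} : Set G)) → ℂ) s else 0 := fun η s => by
    rw [secPart, blockPart_apply]
    exact Finset.sum_congr rfl fun φ _ => by rw [classInner_shift h η φ]
  have hterm : ∀ φ φ' : IrrCharacter (Subgroup.centralizer ({x} : Set G)), φ ∈ b → φ' ∈ b →
      (blockMat p b φ φ' : ℂ) = ((p ^ blockDefect p b : ℕ) : ℂ) / (Nat.card (Subgroup.centralizer ({x} : Set G)) : ℂ) *
        ∑ s : (Subgroup.centralizer ({x} : Set G)), (if p ∣ orderOf s then 0 else (φ : (Subgroup.centralizer ({x} : Set G)) → ℂ) s * conj ((φ' : (Subgroup.centralizer ({x} : Set G)) → ℂ) s)) := by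
    intro φ φ' hφ _
    have h1 := card_mul_regCoef (p := p) φ φ'
    rw [← blockMat_mul hM hb hφ] at h1
    have hpd : ((p ^ (Nat.card (Subgroup.centralizer ({x} : Set G))).factorization p : ℕ) : ℂ) =
        ((p ^ ((Nat.card (Subgroup.centralizer ({x} : Set G))).factorization p - blockDefect p b) : ℕ) : ℂ) *
          ((p ^ blockDefect p b : ℕ) : ℂ) := by
      rw [← Nat.cast_mul, ← pow_add, Nat.sub_add_cancel blockDefect_le]
    rw [hpd] at h1
    have hne : ((p ^ ((Nat.card (Subgroup.centralizer ({x} : Set G))).factorization p - blockDefect p b) : ℕ) : ℂ) ≠ 0 := by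
      exact_mod_cast pow_ne_zero _ hp.out.ne_zero
    have hN : (Nat.card (Subgroup.centralizer ({x} : Set G)) : ℂ) ≠ 0 := card_ne_zero'
    rw [div_mul_eq_mul_div, eq_div_iff hN]
    push_cast at h1 hne ⊢
    refine mul_left_cancel₀ hne ?_
    linear_combination h1
  have hR : (∑ φ : IrrCharacter (Subgroup.centralizer ({x} : Set G)), ∑ φ' : IrrCharacter (Subgroup.centralizer ({x} : Set G)), if φ ∈ b ∧ φ' ∈ b then
      A χ φ * conj (A ψ φ') * (blockMat p b φ φ' : ℂ) else 0) =
      ((p ^ blockDefect p b : ℕ) : ℂ) / (Nat.card (Subgroup.centralizer ({x} : Set G)) : ℂ) * ∑ φ : IrrCharacter (Subgroup.centralizer ({x} : Set G)), ∑ φ' : IrrCharacter (Subgroup.centralizer ({x} : Set G)),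
        ∑ s : (Subgroup.centralizer ({x} : Set G)), if p ∣ orderOf s then 0 else
          (if φ ∈ b then A χ φ * (φ : (Subgroup.centralizer ({x} : Set G)) → ℂ) s else 0) *
            conj (if φ' ∈ b then A ψ φ' * (φ' : (Subgroup.centralizer ({x} : Set G)) → ℂ) s else 0) := by
    simp only [Finset.mul_sum]
    refine Finset.sum_congr rfl fun φ _ => Finset.sum_congr rfl fun φ' _ => ?_
    by_cases hφ : φ ∈ b
    · by_cases hφ' : φ' ∈ b
      · rw [if_pos ⟨hφ, hφ'⟩, hterm φ φ' hφ hφ', Finset.mul_sum, Finset.mul_sum]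
        refine Finset.sum_congr rfl fun s _ => ?_
        simp only [if_pos hφ, if_pos hφ', map_mul]
        split_ifs
        · ring
        · ring
      · simp [hφ']
    · simp [hφ]
  refine Eq.trans ?_ hR.symm
  rw [contrib]
  congr 1
  rw [Finset.sum_congr rfl fun s _ => show
    (if p ∣ orderOf s then (0 : ℂ) else secPart x b χ s * conj (secPart x b ψ s)) =
      ∑ φ : IrrCharacter (Subgroup.centralizer ({x} : Set G)), ∑ φ' : IrrCharacter (Subgroup.centralizer ({x} : Set G)),
        if p ∣ orderOf s then 0 else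
          (if φ ∈ b then A χ φ * (φ : Subgroup.centralizer ({x} : Set G) → ℂ) s else 0) *
            conj (if φ' ∈ b then A ψ φ' * (φ' : Subgroup.centralizer ({x} : Set G) → ℂ) s else 0) by
    split_ifs
    · simp
    · rw [hsec, hsec, map_sum, Finset.sum_mul_sum]]
  rw [Finset.sum_comm]
  exact Finset.sum_congr rfl fun φ _ => Finset.sum_comm

theorem isIntegral_contrib (hM : IsPModular p M) (hb : IsPBlock M b) (χ ψ : IrrCharacter G) :
    IsIntegral ℤ (contrib p x b χ ψ) := by
  classical
  have h : x ∈ Subgroup.centralizer ({x} : Set G) := Subgroup.mem_centralizer_singleton_iff.mpr rfl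
  rw [contrib_eq_sum hM hb h]
  have hA : ∀ (η : IrrCharacter G) (φ : IrrCharacter (Subgroup.centralizer ({x} : Set G))),
      IsIntegral ℤ (centScal φ ⟨x, h⟩ *
        classInner (fun c : Subgroup.centralizer ({x} : Set G) => (η : G → ℂ) c) (φ : _ → ℂ)) := by
    intro η φ
    obtain ⟨m, hm⟩ := classInner_char_nat (isCharacter_res _ (isCharacter_of_isIrr η.2))
      (isCharacter_of_isIrr φ.2)
    rw [hm]
    exact (isIntegral_centScal φ (mem_center_centralizer h)).mul (CfsgLib.CharBlocks.isIntegral_natCast m)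
  refine IsIntegral.sum _ fun φ _ => IsIntegral.sum _ fun φ' _ => ?_
  split_ifs
  · refine ((hA χ φ).mul ?_).mul ?_
    · exact map_isIntegral_int (starRingEnd ℂ) (hA ψ φ')
    · exact isIntegral_algebraMap (R := ℤ) (x := (blockMat p b φ φ'))
  · exact isIntegral_zero

theorem res_centScal_eq_one (hM : IsPModular p M) {C : Type*} [Group C] [Fintype C]
    (φ : IrrCharacter C) {z : C} (hz : z ∈ Subgroup.center C) {k : ℕ} (hzk : z ^ p ^ k = 1) :
    res M ⟨centScal φ z, algInt_le_locRing M (isIntegral_centScal φ hz)⟩ = 1 := by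
  have : CharP (Res M) p := res_charP M hM
  set e : locRing M := ⟨centScal φ z, algInt_le_locRing M (isIntegral_centScal φ hz)⟩
  have hpow : ∀ n : ℕ, centScal φ (z ^ n) = centScal φ z ^ n := by
    intro n
    induction n with
    | zero => rw [pow_zero, pow_zero, centScal_one]
    | succ n ih => rw [pow_succ, pow_succ, centScal_mul φ (pow_mem hz n), ih]
  have h1 : e ^ p ^ k = 1 := Subtype.ext (by
    rw [SubmonoidClass.coe_pow]
    show centScal φ z ^ p ^ k = 1
    rw [← hpow, hzk, centScal_one])
  have h2 : (res M e - 1) ^ p ^ k = 0 := by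
    rw [sub_pow_char_pow, one_pow, ← map_pow, h1, map_one, sub_self]
  exact sub_eq_zero.mp (eq_zero_of_pow_eq_zero h2)

/-- The reduced multiplicity vector of `χ` in `b`, weighted by the heights. -/
theorem exists_heightVec (hM : IsPModular p M) (hx : ∃ k : ℕ, orderOf x = p ^ k)
    (hind : IsInducedBlock M (Subgroup.centralizer ({x} : Set G)) b B) :
    ∃ v : IrrCharacter G → Res M, (∀ χ ∈ B, blockHeight p B (χ : G → ℂ) = 0 → v χ ≠ 0) ∧
      ∃ L : Res M, L ≠ 0 ∧ ∀ χ ψ : IrrCharacter G,
        res M ⟨contrib p x b χ ψ, algInt_le_locRing M (isIntegral_contrib hM hind.1 χ ψ)⟩ *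
          ((Nat.card (Subgroup.centralizer ({x} : Set G)) /
            p ^ (Nat.card (Subgroup.centralizer ({x} : Set G))).factorization p : ℕ) : Res M) =
        v χ * (v ψ * L) := by
  classical
  have hb := hind.1
  have hmul : ∀ (η : IrrCharacter G) (φ : IrrCharacter (Subgroup.centralizer ({x} : Set G))), ∃ m : ℕ,
      classInner (fun c : Subgroup.centralizer ({x} : Set G) => (η : G → ℂ) c) (φ : _ → ℂ) = m :=
    fun η φ => classInner_char_nat (isCharacter_res _ (isCharacter_of_isIrr η.2)) (isCharacter_of_isIrr φ.2)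
  choose mult hmult using hmul
  let v : IrrCharacter G → Res M := fun η =>
    ∑ φ : IrrCharacter (Subgroup.centralizer ({x} : Set G)),
      if φ ∈ b then (mult η φ : Res M) * kappa M p b φ else 0
  obtain ⟨L, hL, hpair⟩ := exists_pairing (p := p) hM hb
  obtain ⟨L', hL', hmat⟩ := res_blockMat (p := p) hM hb
  obtain ⟨ψ₀, hψ₀⟩ := IsPBlock.nonempty hb
  refine ⟨v, fun χ hχ h0 => ?_, L', hL', fun χ ψ => ?_⟩
  · intro hv
    refine (bomega_resIn_regElt_ne_zero_iff hM hind hψ₀ χ).mpr ⟨hχ, h0⟩ ?_
    have hz : zomega ψ₀ (resIn (Subgroup.centralizer ({x} : Set G))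
        (regElt M p (isCharacter_of_isIrr χ.2))) =
        ∑ φ : IrrCharacter (Subgroup.centralizer ({x} : Set G)),
          (mult χ φ : locRing M) * zomega ψ₀ (regElt M p (isCharacter_of_isIrr φ.2)) := by
      apply Subtype.ext
      rw [coe_zomega_resIn_regElt, AddSubmonoidClass.coe_finsetSum]
      simp only [Subring.coe_mul, SubringClass.coe_natCast, zomega_regElt, ← mul_div_assoc,
        ← Finset.sum_div, Finset.mul_sum]
      congr 1
      rw [Finset.sum_comm]
      refine Finset.sum_congr rfl fun c _ => ?_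
      have hres := congrFun (classFun_eq_sum (isClassFunction_of_isCharacter
        (isCharacter_res (Subgroup.centralizer ({x} : Set G)) (isCharacter_of_isIrr χ.2)))) c
      split_ifs with hc
      · simp
      · rw [hres, Finset.sum_apply, map_sum, Finset.sum_mul]
        refine Finset.sum_congr rfl fun φ _ => ?_
        rw [Pi.smul_apply, smul_eq_mul, hmult, map_mul, Complex.conj_natCast]
        ring
    have hterm : ∀ φ : IrrCharacter (Subgroup.centralizer ({x} : Set G)),
        res M ((mult χ φ : locRing M) * zomega ψ₀ (regElt M p (isCharacter_of_isIrr φ.2))) =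
          (if φ ∈ b then (mult χ φ : Res M) * kappa M p b φ else 0) * L := by
      intro φ
      rw [map_mul, map_natCast, ← bomega_apply]
      split_ifs with hφ
      · rw [hpair ψ₀ hψ₀ φ hφ]; ring
      · rw [bomega_apply, zomega_regElt_eq_zero hM, map_zero, mul_zero, zero_mul]
        exact fun hs => hφ (isPBlock_eq_blockOf hb hψ₀ ▸ hs)
    rw [bomega_apply, hz, map_sum, Finset.sum_congr rfl fun φ _ => hterm φ, ← Finset.sum_mul]
    exact mul_eq_zero_of_left hv L
  · have h : x ∈ Subgroup.centralizer ({x} : Set G) := Subgroup.mem_centralizer_singleton_iff.mpr rfl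
    obtain ⟨k, hk⟩ := hx
    have hzk : (⟨x, h⟩ : Subgroup.centralizer ({x} : Set G)) ^ p ^ k = 1 := Subtype.ext (by
      rw [SubmonoidClass.coe_pow, ← hk, pow_orderOf_eq_one]; rfl)
    have hzk' : (⟨x, h⟩ : Subgroup.centralizer ({x} : Set G))⁻¹ ^ p ^ k = 1 := by rw [inv_pow, hzk, inv_one]
    let ε : IrrCharacter (Subgroup.centralizer ({x} : Set G)) → locRing M := fun φ =>
      ⟨_, algInt_le_locRing M (isIntegral_centScal φ (mem_center_centralizer h))⟩
    let ε' : IrrCharacter (Subgroup.centralizer ({x} : Set G)) → locRing M := fun φ =>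
      ⟨_, algInt_le_locRing M (isIntegral_centScal φ (inv_mem (mem_center_centralizer h)))⟩
    have he : (⟨contrib p x b χ ψ, algInt_le_locRing M (isIntegral_contrib hM hb χ ψ)⟩ : locRing M) =
        ∑ φ : IrrCharacter (Subgroup.centralizer ({x} : Set G)),
          ∑ φ' : IrrCharacter (Subgroup.centralizer ({x} : Set G)), if φ ∈ b ∧ φ' ∈ b then
            ε φ * (mult χ φ : locRing M) * (ε' φ' * (mult ψ φ' : locRing M)) *
              (blockMat p b φ φ' : locRing M) else 0 := by
      apply Subtype.ext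
      show contrib p x b χ ψ = _
      rw [contrib_eq_sum hM hb h, AddSubmonoidClass.coe_finsetSum]
      refine Finset.sum_congr rfl fun φ _ => ?_
      rw [AddSubmonoidClass.coe_finsetSum]
      refine Finset.sum_congr rfl fun φ' _ => ?_
      split_ifs
      · simp only [Subring.coe_mul, SubringClass.coe_natCast, SubringClass.coe_intCast, ε, ε', hmult,
          map_mul, Complex.conj_natCast, conj_centScal]
      · rfl
    rw [he, map_sum, Finset.sum_mul]
    simp only [v, Finset.sum_mul, Finset.mul_sum, map_sum]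
    conv_rhs => rw [Finset.sum_comm]
    refine Finset.sum_congr rfl fun φ _ => Finset.sum_congr rfl fun φ' _ => ?_
    by_cases hφ : φ ∈ b
    · by_cases hφ' : φ' ∈ b
      · rw [if_pos ⟨hφ, hφ'⟩, if_pos hφ, if_pos hφ', map_mul, map_mul, map_mul, map_mul,
          map_natCast, map_natCast, map_intCast, res_centScal_eq_one hM φ (mem_center_centralizer h) hzk,
          res_centScal_eq_one hM φ' (inv_mem (mem_center_centralizer h)) hzk', mul_assoc, hmat φ hφ φ' hφ']
        ring
      · simp [hφ']
    · simp [hφ]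

/-- A contribution of two characters of height zero is not zero. -/
theorem contrib_ne_zero (hM : IsPModular p M) (hx : ∃ k : ℕ, orderOf x = p ^ k)
    (hind : IsInducedBlock M (Subgroup.centralizer ({x} : Set G)) b B) {χ ψ : IrrCharacter G}
    (hχ : χ ∈ B) (h0 : blockHeight p B (χ : G → ℂ) = 0)
    (hψ : ψ ∈ B) (h0' : blockHeight p B (ψ : G → ℂ) = 0) : contrib p x b χ ψ ≠ 0 := by
  obtain ⟨v, hv, L, hL, hf⟩ := exists_heightVec hM hx hind
  intro hzero
  have h := hf χ ψ
  rw [show (⟨contrib p x b χ ψ, algInt_le_locRing M (isIntegral_contrib hM hind.1 χ ψ)⟩ : locRing M) = 0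
    from Subtype.ext hzero, map_zero, zero_mul] at h
  exact mul_ne_zero (hv χ hχ h0) (mul_ne_zero (hv ψ hψ h0') hL) h.symm

/-- **Brauer's bound**: `k₀(B)² ≤ p^(2 d(b)) l(b)`. -/
theorem card_heightZero_sq_le (hM : IsPModular p M) (hx : ∃ k : ℕ, orderOf x = p ^ k)
    (hind : IsInducedBlock M (Subgroup.centralizer ({x} : Set G)) b B) :
    Nat.card {χ : IrrCharacter G // χ ∈ B ∧ blockHeight p B (χ : G → ℂ) = 0} ^ 2 ≤
      p ^ (2 * blockDefect p b) * blockRank p b := by
  classical
  have hb := hind.1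
  set s := Finset.univ.filter fun χ : IrrCharacter G => χ ∈ B ∧ blockHeight p B (χ : G → ℂ) = 0 with hs
  have hcard : Nat.card {χ : IrrCharacter G // χ ∈ B ∧ blockHeight p B (χ : G → ℂ) = 0} = s.card := by
    rw [Nat.card_eq_fintype_card, Fintype.card_subtype]
  rw [hcard]
  rcases s.eq_empty_or_nonempty with hemp | hne
  · simp [hemp]
  set z := ∏ a ∈ s ×ˢ s, contrib p x b a.1 a.2 * conj (contrib p x b a.1 a.2) with hzdef
  have hσ : ∀ (σ : ℂ ≃+* ℂ) (a : IrrCharacter G × IrrCharacter G),
      σ (contrib p x b a.1 a.2 * conj (contrib p x b a.1 a.2)) =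
        ((Complex.normSq (σ (contrib p x b a.1 a.2)) : ℝ) : ℂ) := by
    intro σ a
    have hm : σ (conj (contrib p x b a.1 a.2)) = conj (σ (contrib p x b a.1 a.2)) :=
      contrib_mem_conjCommute σ a.1 a.2
    rw [map_mul, hm, Complex.mul_conj]
  have hmem : ∀ a ∈ s ×ˢ s, contrib p x b a.1 a.2 ≠ 0 := fun a ha => by
    obtain ⟨ha1, ha2⟩ := Finset.mem_product.mp ha
    obtain ⟨-, h1, h1'⟩ := Finset.mem_filter.mp ha1
    obtain ⟨-, h2, h2'⟩ := Finset.mem_filter.mp ha2
    exact contrib_ne_zero hM hx hind h1 h1' h2 h2'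
  obtain ⟨σ, hσ1⟩ := exists_conjugate_ge_one (z := z)
    (IsIntegral.prod _ fun a _ => (isIntegral_contrib hM hb a.1 a.2).mul
      (map_isIntegral_int (starRingEnd ℂ) (isIntegral_contrib hM hb a.1 a.2)))
    (Finset.prod_ne_zero_iff.mpr fun a ha => mul_ne_zero (hmem a ha)
      ((map_ne_zero_iff _ (starRingEnd ℂ).injective).mpr (hmem a ha)))
    (fun σ => ⟨∏ a ∈ s ×ˢ s, Complex.normSq (σ (contrib p x b a.1 a.2)),
      Finset.prod_nonneg fun a _ => Complex.normSq_nonneg _, by
        rw [hzdef, map_prod, Complex.ofReal_prod]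
        exact Finset.prod_congr rfl fun a _ => hσ σ a⟩)
  rw [hzdef, map_prod, Finset.prod_congr rfl fun a _ => hσ σ a, ← Complex.ofReal_prod,
    Complex.ofReal_re] at hσ1
  have hpos : ∀ a ∈ s ×ˢ s, 0 < Complex.normSq (σ (contrib p x b a.1 a.2)) := fun a ha =>
    Complex.normSq_pos.mpr ((map_ne_zero_iff σ σ.injective).mpr (hmem a ha))
  have h1 : ((s ×ˢ s).card : ℝ) ≤ ∑ a ∈ s ×ˢ s, Complex.normSq (σ (contrib p x b a.1 a.2)) := by
    have h2 := Real.log_nonneg hσ1
    rw [Real.log_prod (fun a ha => (hpos a ha).ne')] at h2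
    have h3 : ∑ a ∈ s ×ˢ s, Real.log (Complex.normSq (σ (contrib p x b a.1 a.2))) ≤
        ∑ a ∈ s ×ˢ s, (Complex.normSq (σ (contrib p x b a.1 a.2)) - 1) :=
      Finset.sum_le_sum fun a ha => Real.log_le_sub_one_of_pos (hpos a ha)
    rw [Finset.sum_sub_distrib, Finset.sum_const, nsmul_eq_mul, mul_one] at h3
    linarith
  set t := Finset.univ.filter fun χ : IrrCharacter G => χ ∈ B with ht
  have hst : s ⊆ t := fun χ hχ =>
    Finset.mem_filter.mpr ⟨Finset.mem_univ _, (Finset.mem_filter.mp hχ).2.1⟩
  have h4 : ∑ a ∈ t ×ˢ t, Complex.normSq (σ (contrib p x b a.1 a.2)) =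
      ((p ^ (2 * blockDefect p b) * blockRank p b : ℕ) : ℝ) := by
    apply Complex.ofReal_injective
    rw [Complex.ofReal_sum, Complex.ofReal_natCast]
    rw [show (∑ a ∈ t ×ˢ t, ((Complex.normSq (σ (contrib p x b a.1 a.2)) : ℝ) : ℂ)) =
      σ (∑ χ ∈ t, ∑ ψ ∈ t, contrib p x b χ ψ * contrib p x b ψ χ) by
        rw [map_sum, Finset.sum_product]
        refine Finset.sum_congr rfl fun χ _ => ?_
        rw [map_sum]
        exact Finset.sum_congr rfl fun ψ _ => by rw [← hσ σ (χ, ψ), contrib_conj χ ψ]]
    have h5 : ∀ χ : IrrCharacter G, ∑ ψ ∈ t, contrib p x b χ ψ * contrib p x b ψ χ =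
        ((p ^ blockDefect p b : ℕ) : ℂ) * contrib p x b χ χ := fun χ => by
      rw [ht, Finset.sum_filter]; exact contrib_sum_mul hM hx hind χ χ
    simp only [h5]
    rw [← Finset.mul_sum, ht, Finset.sum_filter, sum_contrib_self hM hx hind, map_mul, map_mul,
      map_natCast, map_natCast]
    push_cast
    ring
  have h6 := h1.trans ((Finset.sum_le_sum_of_subset_of_nonneg (Finset.product_subset_product hst hst)
    fun a _ _ => Complex.normSq_nonneg _).trans_eq h4)
  rw [Finset.card_product, ← sq] at h6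
  exact_mod_cast h6

end CfsgLib.BlockArith
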