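import Cfsg.Agent.Lib.CharNormal.GlaubermanCyclic
import Cfsg.Agent.Lib.CharNormal.Galois
import Cfsg.Agent.Lib.CharNormal.Kernel
import Cfsg.Agent.Lib.Char.Induced

/-!
# Characters over a normal `p'`-subgroup that are rational on `p`-elements

For `Q` normal in `W` of order prime to `p` and index a power of `p`, with `C_W(Q) ≤ Q`, a faithful
invariant character of `Q` gives a character of `W` of no larger degree that is rational and faithful
on the `p`-elements: `exists_rational_char`.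
-/

set_option autoImplicit false

noncomputable section

open scoped Classical

namespace CfsgLib.BlockArith.Rational

open Cfsg CfsgLib.Char CfsgLib.CharNormal CfsgLib.CharNormal.CyclicGlauberman

variable {W : Type*} [Group W] [Fintype W] (Q : Subgroup W) [Q.Normal] [Fintype Q]

omit [Fintype W] [Fintype Q] in
theorem exists_crt {p E : ℕ} (hQ : (Nat.card Q).Coprime p) {k : ℕ} (hk : k.Coprime p) :
    ∃ k', k' ≡ 1 [MOD Nat.card Q] ∧ k' ≡ k [MOD p ^ E] ∧ k'.Coprime (Nat.card Q * p ^ E) := by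
  obtain ⟨k', h1, h2⟩ := Nat.chineseRemainder (hQ.pow_right E) 1 k
  refine ⟨k', h1, h2, Nat.Coprime.mul_right ?_ ?_⟩
  · rw [Nat.Coprime, h1.gcd_eq, Nat.gcd_one_left]
  · rw [Nat.Coprime, h2.gcd_eq]
    exact hk.pow_right E

/-- The sum of an orbit, induced from the canonical extension. -/
theorem exists_orbit_char {p E : ℕ} (hp : p.Prime) (hQ : ¬ p ∣ Nat.card Q) (hidx : Q.index = p ^ E)
    (θ : IrrCharacter Q) :
    ∃ Φ : W → ℂ, IsCharacter W Φ ∧ (∀ n : Q, Φ n = ∑ φ ∈ orbit Q θ, (φ : Q → ℂ) n) ∧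
      ∀ (σ : ℂ ≃+* ℂ) (k : ℕ), (∀ z : ℂ, z ^ Nat.card W = 1 → σ z = z ^ k) → k ≡ 1 [MOD Nat.card Q] →
        ∀ x, σ (Φ x) = Φ x := by
  set T := inertia Q (θ : Q → ℂ) with hT
  have hQT : Q ≤ T := le_inertia Q (isClassFunction_of_isIrr θ.2)
  let N : Subgroup T := Q.subgroupOf T
  let e : N ≃* Q := Subgroup.subgroupOfEquivOfLe hQT
  let ϑ : N → ℂ := (θ : Q → ℂ) ∘ e
  let _ : Fintype T := Fintype.ofFinite _
  let _ : Fintype N := Fintype.ofFinite _
  have hϑ : IsIrrCharacter N ϑ := isIrr_comp_mulEquiv θ.2 e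
  have hcardN : Nat.card N = Nat.card Q := Nat.card_congr e.toEquiv
  have hdvd : N.index ∣ p ^ E := hidx ▸ Dvd.intro _ (Subgroup.relIndex_mul_index hQT)
  have hcop : (Nat.card N).Coprime N.index :=
    hcardN ▸ ((hp.coprime_iff_not_dvd.2 hQ).symm.pow_right E).coprime_dvd_right hdvd
  have hinv : ∀ (g : T) (n : N), ϑ ⟨g * n * g⁻¹, (inferInstance : N.Normal).conj_mem (n : T) n.2 g⟩ = ϑ n := by
    intro g n
    exact (congrFun ((mem_inertia Q).1 g.2) (e n) : _)
  obtain ⟨η, hη, hηres, hηdet⟩ := exists_ext hϑ hcop hinv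
  refine ⟨indFun T η, isCharacter_indFun T (isCharacter_of_isIrr hη), fun n => ?_, fun σ k hσ hk x => ?_⟩
  · rw [indFun_apply, ← Finset.sum_fiberwise_of_maps_to (g := fun x : W => conjIrr Q x⁻¹ θ) (t := orbit Q θ)
      (fun x _ => (mem_orbit Q).2 ⟨x⁻¹, rfl⟩), Finset.mul_sum]
    refine Finset.sum_congr rfl fun φ hφ => ?_
    obtain ⟨g, hg⟩ := (mem_orbit Q).1 hφ
    have hcount : (Finset.univ.filter fun x : W => conjIrr Q x⁻¹ θ = φ).card = Nat.card T := by
      rw [← Fintype.card_subtype, ← Nat.card_eq_fintype_card]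
      refine Nat.card_congr
        { toFun := fun x => ⟨g * (x : W), ?_⟩
          invFun := fun t => ⟨g⁻¹ * (t : W), ?_⟩
          left_inv := fun x => Subtype.ext (by simp)
          right_inv := fun t => Subtype.ext (by simp) }
      · have hx : conjFun Q (x : W)⁻¹ (θ : Q → ℂ) = conjFun Q g (θ : Q → ℂ) :=
          (congrArg Subtype.val x.2).trans hg.symm
        refine (mem_inertia Q).2 ?_
        rw [← conjFun_conjFun Q (x : W) g, ← hx, conjFun_conjFun, inv_mul_cancel, conjFun_one]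
      · refine Subtype.ext ?_
        show conjFun Q (g⁻¹ * (t : W))⁻¹ (θ : Q → ℂ) = φ
        have ht : conjFun Q (t : W)⁻¹ (θ : Q → ℂ) = θ := (mem_inertia Q).1 (inv_mem t.2)
        rw [mul_inv_rev, inv_inv, ← conjFun_conjFun, ht, hg]
    have hterm : ∀ x ∈ Finset.univ.filter (fun x : W => conjIrr Q x⁻¹ θ = φ),
        extendByZero T η (x⁻¹ * n * x) = (φ : Q → ℂ) n := by
      intro x hx
      have hmem : x⁻¹ * (n : W) * x ∈ Q := by
        simpa using (inferInstance : Q.Normal).conj_mem (n : W) n.2 x⁻¹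
      rw [extendByZero_of_mem η (hQT hmem), ← (Finset.mem_filter.1 hx).2, conjIrr_coe, conjFun_apply]
      refine (hηres ⟨⟨_, hQT hmem⟩, hmem⟩).trans (congrArg (θ : Q → ℂ) (Subtype.ext ?_))
      show x⁻¹ * (n : W) * x = x⁻¹ * n * (x⁻¹)⁻¹
      rw [inv_inv]
    rw [Finset.sum_congr rfl hterm, Finset.sum_const, hcount, nsmul_eq_mul, ← mul_assoc,
      inv_mul_cancel₀ (Nat.cast_ne_zero.2 Nat.card_pos.ne'), one_mul]
  · have hση : σ ∘ η = η := by
      refine ext_unique hϑ hcop (isIrr_ringEquiv σ hη) hη (fun m => ?_) hηres ?_ hηdet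
      · rw [Function.comp_apply, hηres]
        show σ ((θ : Q → ℂ) (e m)) = (θ : Q → ℂ) (e m)
        rw [ringEquiv_char_apply hσ (isCharacter_of_isIrr θ.2)
          ((orderOf_dvd_natCard (e m)).trans Q.card_subgroup_dvd_card)]
        have hpk : (e m) ^ k = e m := by
          conv_rhs => rw [← pow_one (e m)]
          exact pow_eq_pow_iff_modEq.2 (hk.of_dvd (orderOf_dvd_natCard _))
        rw [hpk]
      · rw [detOrder_ringEquiv σ (isCharacter_of_isIrr hη)]; exact hηdet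
    simp only [indFun_apply, map_mul, map_sum, map_inv₀, map_natCast]
    refine congrArg _ (Finset.sum_congr rfl fun y _ => ?_)
    by_cases hy : y⁻¹ * x * y ∈ T
    · rw [extendByZero_of_mem η hy]
      exact congrFun hση _
    · rw [extendByZero_of_notMem η hy, map_zero]

/-- Stable sets of irreducible characters. -/
theorem exists_stable_char {p E : ℕ} (hp : p.Prime) (hQ : ¬ p ∣ Nat.card Q) (hidx : Q.index = p ^ E) :
    ∀ S : Finset (IrrCharacter Q), (∀ g : W, ∀ θ ∈ S, conjIrr Q g θ ∈ S) →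
      ∃ Φ : W → ℂ, IsCharacter W Φ ∧ (∀ n : Q, Φ n = ∑ φ ∈ S, (φ : Q → ℂ) n) ∧
        ∀ (σ : ℂ ≃+* ℂ) (k : ℕ), (∀ z : ℂ, z ^ Nat.card W = 1 → σ z = z ^ k) → k ≡ 1 [MOD Nat.card Q] →
          ∀ x, σ (Φ x) = Φ x := by
  intro S
  induction S using Finset.strongInduction with
  | H S ih =>
    intro hS
    rcases S.eq_empty_or_nonempty with rfl | ⟨θ, hθ⟩
    · exact ⟨0, isCharacter_zero, fun n => by simp, fun σ k _ _ x => by simp⟩
    have hsub : orbit Q θ ⊆ S := fun φ hφ => by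
      obtain ⟨g, hg⟩ := (mem_orbit Q).1 hφ
      rw [show φ = conjIrr Q g θ from Subtype.ext hg.symm]
      exact hS g θ hθ
    obtain ⟨Φ₁, h1, h2, h3⟩ := exists_orbit_char Q hp hQ hidx θ
    obtain ⟨Φ₂, k1, k2, k3⟩ := ih (S \ orbit Q θ)
      (Finset.sdiff_ssubset hsub ⟨θ, self_mem_orbit Q θ⟩) (by
        intro g φ hφ
        rw [Finset.mem_sdiff] at hφ ⊢
        refine ⟨hS g φ hφ.1, fun h => hφ.2 ?_⟩
        obtain ⟨g', hg'⟩ := (mem_orbit Q).1 h
        refine (mem_orbit Q).2 ⟨g' * g⁻¹, ?_⟩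
        rw [← conjFun_conjFun, hg', conjIrr_coe, conjFun_inv_conjFun])
    refine ⟨Φ₁ + Φ₂, isCharacter_add h1 k1, fun n => ?_, fun σ k hσ hk x => ?_⟩
    · rw [Pi.add_apply, h2, k2, add_comm, Finset.sum_sdiff hsub]
    · rw [Pi.add_apply, map_add, h3 σ k hσ hk, k3 σ k hσ hk]

/-- **Rationality on `p`-elements.** -/
theorem exists_rational_char {p E : ℕ} (hp : p.Prime) (hQ : ¬ p ∣ Nat.card Q) (hidx : Q.index = p ^ E)
    (hC : Subgroup.centralizer (Q : Set W) ≤ Q) {ξ : Q → ℂ} (hξ : IsCharacter Q ξ)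
    (hinv : ∀ g : W, conjFun Q g ξ = ξ) (hfaith : ∀ n : Q, ξ n = ξ 1 → n = 1) {d : ℕ} (hd : ξ 1 = d) :
    ∃ (Φ : W → ℂ) (d' : ℕ), IsCharacter W Φ ∧ Φ 1 = d' ∧ d' ≤ d ∧
      (∀ x : W, (∃ e, orderOf x = p ^ e) → (∃ z : ℤ, Φ x = z) ∧ (Φ x = Φ 1 → x = 1)) := by
  obtain ⟨mult, hmult, hinner⟩ := char_decomp hξ
  let S : Finset (IrrCharacter Q) := Finset.univ.filter fun θ => mult θ ≠ 0
  obtain ⟨Φ, hΦ, hres, hgal⟩ := exists_stable_char Q hp hQ hidx S fun g θ hθ => by
    simp only [S, Finset.mem_filter, Finset.mem_univ, true_and] at hθ ⊢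
    intro h0
    apply hθ
    have e1 : classInner ξ (conjIrr Q g θ : Q → ℂ) = classInner ξ (θ : Q → ℂ) := by
      rw [conjIrr_coe]
      conv_lhs => rw [← hinv g]
      exact classInner_conjFun Q g _ _
    rw [hinner, hinner, h0] at e1
    exact_mod_cast e1.symm
  obtain ⟨d', hd'⟩ := exists_degree hΦ
  refine ⟨Φ, d', hΦ, hd', ?_, fun x ⟨e, he⟩ => ⟨?_, fun hx => ?_⟩⟩
  · have h1 : (d' : ℂ) = ∑ φ ∈ S, (φ : Q → ℂ) 1 := by rw [← hd', ← hres 1]; rfl
    have h2 : (d : ℂ) = ∑ φ : IrrCharacter Q, (mult φ : ℂ) * (φ : Q → ℂ) 1 := by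
      rw [← hd]; conv_lhs => rw [hmult]
      simp
    choose dg hdg using fun φ : IrrCharacter Q => exists_degree (isCharacter_of_isIrr φ.2)
    simp only [hdg] at h1 h2
    have e1 : d' = ∑ φ ∈ S, dg φ := by exact_mod_cast h1
    have e2 : d = ∑ φ : IrrCharacter Q, mult φ * dg φ := by exact_mod_cast h2
    rw [e1, e2]
    refine (Finset.sum_le_sum fun φ hφ => ?_).trans (Finset.sum_le_univ_sum_of_nonneg fun φ => Nat.zero_le _)
    exact Nat.le_mul_of_pos_left _ (Nat.pos_of_ne_zero (Finset.mem_filter.1 hφ).2)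
  · by_cases he0 : x = 1
    · exact ⟨d', by rw [he0, hd', Int.cast_natCast]⟩
    refine exists_int_of_forall_coprime hΦ x fun k hk => ?_
    have he1 : e ≠ 0 := fun h => he0 (orderOf_eq_one_iff.1 (by rw [he, h, pow_zero]))
    have hkp : k.Coprime p := hk.coprime_dvd_right (he ▸ dvd_pow_self p he1)
    obtain ⟨k', h1, h2, h3⟩ := exists_crt Q (E := E) (hp.coprime_iff_not_dvd.2 hQ).symm hkp
    have hW : Nat.card W = Nat.card Q * p ^ E := by rw [← hidx, Subgroup.card_mul_index]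
    obtain ⟨σ, hσ⟩ := exists_ringEquiv_root_pow (Nat.card_pos (α := W)).ne' (hW ▸ h3)
    have hxE : orderOf x ∣ p ^ E := by
      have hdvd : p ^ e ∣ Nat.card Q * p ^ E := hW ▸ he ▸ orderOf_dvd_natCard x
      rw [he]
      exact ((hp.coprime_iff_not_dvd.2 hQ).pow_left e).dvd_of_dvd_mul_left hdvd
    rw [← pow_eq_pow_iff_modEq.2 (h2.of_dvd hxE), ← ringEquiv_char_apply hσ hΦ (orderOf_dvd_natCard x),
      hgal σ k' hσ h1]
  · have hxK : x ∈ charKer hΦ := mem_charKer.2 hx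
    have := charKer_normal hΦ
    have hbot : ∀ n : Q, (n : W) ∈ charKer hΦ → n = 1 := by
      intro n hn
      refine hfaith n ?_
      have hn' : ∀ φ ∈ S, (φ : Q → ℂ) n = (φ : Q → ℂ) 1 := by
        intro φ hφ
        have hb : ∀ ψ : IrrCharacter Q, ((ψ : Q → ℂ) n).re ≤ ((ψ : Q → ℂ) 1).re := fun ψ =>
          (Complex.re_le_norm _).trans (norm_char_le (isCharacter_of_isIrr ψ.2) n)
        have hsum : ∑ ψ ∈ S, ((ψ : Q → ℂ) n).re = ∑ ψ ∈ S, ((ψ : Q → ℂ) 1).re := by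
          rw [← Complex.re_sum, ← Complex.re_sum, ← hres, ← hres]
          exact congrArg Complex.re (mem_charKer.1 hn)
        have hre := (Finset.sum_eq_sum_iff_of_le fun ψ _ => hb ψ).1 hsum φ hφ
        obtain ⟨m, hm⟩ := exists_degree (isCharacter_of_isIrr φ.2)
        have hnorm := norm_char_le (isCharacter_of_isIrr φ.2) n
        rw [hm, Complex.natCast_re] at hre hnorm
        rw [hm]
        refine Complex.ext (by simpa using hre) ?_
        have h4 : ((φ : Q → ℂ) n).re ^ 2 + ((φ : Q → ℂ) n).im ^ 2 ≤ (m : ℝ) ^ 2 := by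
          rw [← Complex.sq_norm_sub_sq_re, add_sub_cancel]
          exact pow_le_pow_left₀ (norm_nonneg _) hnorm 2
        rw [hre] at h4
        simpa using (pow_eq_zero_iff two_ne_zero).1 (le_antisymm (by linarith) (sq_nonneg ((φ : Q → ℂ) n).im))
      conv_lhs => rw [hmult]
      conv_rhs => rw [hmult]
      simp only [Finset.sum_apply, Pi.smul_apply, smul_eq_mul]
      refine Finset.sum_congr rfl fun φ _ => ?_
      by_cases hφ : mult φ = 0
      · simp [hφ]
      · rw [hn' φ (Finset.mem_filter.2 ⟨Finset.mem_univ _, hφ⟩)]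
    have hxQ : x ∈ Q := hC (Subgroup.mem_centralizer_iff.2 fun n hn => by
      have h1 : n * x * n⁻¹ * x⁻¹ ∈ charKer hΦ :=
        mul_mem ((charKer_normal hΦ).conj_mem x hxK n) (inv_mem hxK)
      have h2 : n * x * n⁻¹ * x⁻¹ ∈ Q := by
        rw [show n * x * n⁻¹ * x⁻¹ = n * (x * n⁻¹ * x⁻¹) by group]
        exact mul_mem hn ((inferInstance : Q.Normal).conj_mem n⁻¹ (inv_mem hn) x)
      have h3 : n * x * n⁻¹ * x⁻¹ = 1 := congrArg Subtype.val (hbot ⟨_, h2⟩ h1)
      calc n * x = n * x * n⁻¹ * x⁻¹ * (x * n) := by group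
        _ = x * n := by rw [h3, one_mul])
    exact congrArg Subtype.val (hbot ⟨x, hxQ⟩ hxK)

end CfsgLib.BlockArith.Rational
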