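import Cfsg.Agent.Lib.BlockArith.QuotientRank

/-!
# Blocks with a single modular character

* `blockRank_le_card`, `blockRank_pos`, `blockRank_eq_one_of_defect_zero`, `blockRank_eq_one_of_central`.
-/

set_option autoImplicit false

noncomputable section

namespace CfsgLib.BlockArith

open Cfsg CfsgLib.Char CfsgLib.Blocks

variable {G : Type*} [Group G] [Fintype G] {p : ℕ} [hp : Fact p.Prime] {M : Ideal AlgInt} [M.IsMaximal]

omit hp in
theorem blockRank_le_card (B : Set (IrrCharacter G)) : blockRank p B ≤ Nat.card B := by
  classical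
  rw [blockRank]
  refine le_trans (finrank_span_le_card _) ?_
  rw [Nat.card_eq_fintype_card, Set.toFinset_image]
  exact Finset.card_image_le.trans (by rw [Set.toFinset_card])

theorem blockRank_pos {B : Set (IrrCharacter G)} (hB : IsPBlock M B) : 0 < blockRank p B := by
  classical
  obtain ⟨χ, hχ⟩ := IsPBlock.nonempty hB
  rw [blockRank]
  refine Nat.pos_of_ne_zero fun h => ?_
  rw [Submodule.finrank_eq_zero] at h
  have h1 : pRegularPart p (χ : G → ℂ) = 0 :=
    (Submodule.mem_bot ℂ).mp (h ▸ Submodule.subset_span ⟨χ, hχ, rfl⟩)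
  have h2 := congrFun h1 1
  rw [pRegularPart_apply, if_neg (by rw [orderOf_one]; exact hp.out.not_dvd_one)] at h2
  exact irr_one_ne_zero χ.2 h2

theorem card_eq_one_of_defect_zero (hM : IsPModular p M) {B : Set (IrrCharacter G)} (hB : IsPBlock M B)
    (h : blockDefect p B = 0) : Nat.card B = 1 := by
  have h1 := four_mul_card_le hM hB
  rw [h, mul_zero, pow_zero] at h1
  have : Nonempty B := (IsPBlock.nonempty hB).to_subtype
  have h2 : 0 < Nat.card B := Nat.card_pos
  omega

theorem blockRank_eq_one_of_defect_zero (hM : IsPModular p M) {B : Set (IrrCharacter G)}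
    (hB : IsPBlock M B) (h : blockDefect p B = 0) : blockRank p B = 1 := by
  have h1 := blockRank_le_card (p := p) B
  rw [card_eq_one_of_defect_zero hM hB h] at h1
  have := blockRank_pos (p := p) hB
  omega

/-- A block with central defect group has one modular character. -/
theorem blockRank_eq_one_of_central (hM : IsPModular p M) {B : Set (IrrCharacter G)} (hB : IsPBlock M B)
    {P : Subgroup G} (hD : IsDefectGroup p M B P) (hPZ : P ≤ Subgroup.center G) : blockRank p B = 1 := by
  have : P.Normal := ⟨fun n hn g => by
    rw [Subgroup.mem_center_iff.mp (hPZ hn) g, mul_inv_cancel_right]; exact hn⟩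
  have := Fintype.ofFinite (G ⧸ P)
  have hP := IsDefectGroup.isPGroup hD
  have hC : ∃ k : ℕ, (Subgroup.centralizer (P : Set G)).index = p ^ k :=
    ⟨0, by rw [Subgroup.centralizer_eq_top_iff_subset.mpr hPZ, Subgroup.index_top, pow_zero]⟩
  rw [blockRank_inflSet hM hP hC hB]
  refine blockRank_eq_one_of_defect_zero hM (isPBlock_inflSet hM hP hC hB) ?_
  have h1 := blockDefect_inflSet hM hP hC hB
  rw [card_defectGroup hM hB hD, Nat.Prime.factorization_pow hp.out, Finsupp.single_eq_same] at h1
  omega

end CfsgLib.BlockArith
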