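import Cfsg.Agent.Lib.BlockArith.HeightBound
import Mathlib.NumberTheory.NumberField.Cyclotomic.Basic

/-!
# Averages of contributions over a cyclotomic field of two-power conductor

* `exists_avg`: a real integer of the field has average an integer of the same residue;
* `exists_diag_avg`: the averages `A χ` of the diagonal contributions, with their sum;
* `sum_sq_le_avg`: the row bound `∑ N ψ ^ 2 ≤ 2 ^ d(b) * A χ`;
* `contrib_dvd`: `p ^ h(ψ)` divides `contrib χ ψ` in a major subsection, with zero residue quotient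
  when `χ` has positive height.
-/

set_option autoImplicit false

noncomputable section

namespace CfsgLib.BlockArith

open Cfsg CfsgLib.Char CfsgLib.Blocks Polynomial IntermediateField
open scoped ComplexConjugate

section field

variable {n : ℕ} {ζ : ℂ}

theorem totient_two_pow_succ (n : ℕ) : Nat.totient (2 ^ (n + 1)) = 2 ^ n := by
  rw [Nat.totient_prime_pow_succ Nat.prime_two]; simp

theorem pow_half_eq_neg_one (hζ : IsPrimitiveRoot ζ (2 ^ (n + 1))) : ζ ^ 2 ^ n = -1 :=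
  (hζ.pow (Nat.two_pow_pos _) (pow_succ 2 n)).eq_neg_one_of_two_right

/-- An integer of the field is a polynomial of degree below `2 ^ n` with integer coefficients. -/
theorem exists_poly_of_integral (hζ : IsPrimitiveRoot ζ (2 ^ (n + 1))) {z : ℂ}
    (hz : z ∈ ℚ⟮ζ⟯) (hi : IsIntegral ℤ z) :
    ∃ P : ℤ[X], P.natDegree < 2 ^ n ∧ z = aeval ζ P := by
  have : NeZero (2 ^ (n + 1)) := ⟨(Nat.two_pow_pos _).ne'⟩
  have hcyc : IsCyclotomicExtension {2 ^ (n + 1)} ℚ ℚ⟮ζ⟯ := by
    change IsCyclotomicExtension {2 ^ (n + 1)} ℚ (ℚ⟮ζ⟯).toSubalgebra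
    rw [adjoin_simple_toSubalgebra_of_isAlgebraic
      ((hζ.isIntegral (Nat.two_pow_pos _)).tower_top (A := ℚ)).isAlgebraic]
    exact hζ.adjoin_isCyclotomicExtension ℚ
  let ζ' : ℚ⟮ζ⟯ := ⟨ζ, mem_adjoin_simple_self ℚ ζ⟩
  have hζ' : IsPrimitiveRoot ζ' (2 ^ (n + 1)) :=
    IsPrimitiveRoot.of_map_of_injective (f := (ℚ⟮ζ⟯).val) hζ (ℚ⟮ζ⟯).val.injective
  have := Fact.mk Nat.prime_two
  have hcl := IsCyclotomicExtension.Rat.isIntegralClosure_adjoin_singleton_of_prime_pow hζ'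
  have hi' : IsIntegral ℤ (⟨z, hz⟩ : ℚ⟮ζ⟯) :=
    (isIntegral_algHom_iff ((ℚ⟮ζ⟯).val.restrictScalars ℤ) (ℚ⟮ζ⟯).val.injective).mp hi
  obtain ⟨y, hy⟩ := (hcl.isIntegral_iff).mp hi'
  obtain ⟨Q, hQ⟩ := (Algebra.adjoin_singleton_eq_range_aeval ℤ ζ').le y.2
  have hQz : aeval ζ Q = z := by
    have h := congrArg ((ℚ⟮ζ⟯).val.restrictScalars ℤ)
      (show aeval ζ' Q = ⟨z, hz⟩ from hQ.trans hy)
    rwa [← aeval_algHom_apply] at h
  refine ⟨Q %ₘ cyclotomic (2 ^ (n + 1)) ℤ, ?_, ?_⟩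
  · have hd : (cyclotomic (2 ^ (n + 1)) ℤ).natDegree = 2 ^ n := by
      rw [natDegree_cyclotomic, totient_two_pow_succ]
    refine (natDegree_modByMonic_lt _ (cyclotomic.monic _ _) fun h => ?_).trans_eq hd
    rw [h, natDegree_one] at hd
    exact (Nat.two_pow_pos n).ne hd
  · have hroot : aeval ζ (cyclotomic (2 ^ (n + 1)) ℤ) = 0 := by
      rw [aeval_def, ← eval_map, map_cyclotomic]
      exact hζ.isRoot_cyclotomic (Nat.two_pow_pos _)
    conv_lhs => rw [← hQz, ← modByMonic_add_div Q (cyclotomic (2 ^ (n + 1)) ℤ)]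
    rw [map_add, map_mul, hroot, zero_mul, add_zero]

/-- The powers `1, ζ, …, ζ ^ (2 ^ n - 1)` are independent. -/
theorem poly_eq_zero (hζ : IsPrimitiveRoot ζ (2 ^ (n + 1))) {P : ℤ[X]}
    (hd : P.natDegree < 2 ^ n) (h : aeval ζ P = 0) : P = 0 := by
  by_contra hP
  have hdvd : minpoly ℤ ζ ∣ P :=
    minpoly.isIntegrallyClosed_dvd (hζ.isIntegral (Nat.two_pow_pos _)) h
  have := natDegree_le_of_dvd hdvd hP
  rw [← cyclotomic_eq_minpoly hζ (Nat.two_pow_pos _), natDegree_cyclotomic, totient_two_pow_succ]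
    at this
  omega

theorem exists_galois_family (hζ : IsPrimitiveRoot ζ (2 ^ (n + 1))) :
    ∃ S : Fin (2 ^ n) → (ℂ ≃+* ℂ), ∀ i, S i ζ = ζ ^ (2 * (i : ℕ) + 1) := by
  have h : ∀ i : Fin (2 ^ n), ∃ σ : ℂ ≃+* ℂ, σ ζ = ζ ^ (2 * (i : ℕ) + 1) := fun i => by
    obtain ⟨σ, hσ⟩ := CfsgLib.CharNormal.exists_ringEquiv_root_pow (n := 2 ^ (n + 1))
      (k := 2 * (i : ℕ) + 1) (Nat.two_pow_pos _).ne'
      (Nat.Coprime.pow_right _ (Nat.coprime_two_right.mpr ⟨i, rfl⟩))
    exact ⟨σ, hσ ζ hζ.pow_eq_one⟩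
  choose S hS using h
  exact ⟨S, hS⟩

variable {S : Fin (2 ^ n) → (ℂ ≃+* ℂ)}

theorem sum_galois_pow (hζ : IsPrimitiveRoot ζ (2 ^ (n + 1)))
    (hS : ∀ i, S i ζ = ζ ^ (2 * (i : ℕ) + 1)) {j : ℕ} (hj : j < 2 ^ n) :
    ∑ i, S i (ζ ^ j) = if j = 0 then ((2 ^ n : ℕ) : ℂ) else 0 := by
  split_ifs with h0
  · subst h0; simp
  · have h1 : ζ ^ (2 * j) ≠ 1 := hζ.pow_ne_one_of_pos_of_lt (by omega) (by rw [pow_succ]; omega)
    have h2 : ∑ i : Fin (2 ^ n), (ζ ^ (2 * j)) ^ (i : ℕ) = 0 := by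
      rw [Fin.sum_univ_eq_sum_range (fun i => (ζ ^ (2 * j)) ^ i)]
      refine (mul_eq_zero.mp ?_).resolve_right (sub_ne_zero.mpr h1)
      rw [geom_sum_mul, ← pow_mul, show 2 * j * 2 ^ n = 2 ^ (n + 1) * j by rw [pow_succ]; ring,
        pow_mul, hζ.pow_eq_one, one_pow, sub_self]
    rw [Finset.sum_congr rfl fun i _ => show S i (ζ ^ j) = ζ ^ j * (ζ ^ (2 * j)) ^ (i : ℕ) by
      rw [map_pow, hS, ← pow_mul, ← pow_mul, ← pow_add]; ring_nf,
      ← Finset.mul_sum, h2, mul_zero]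

variable {M : Ideal AlgInt} [M.IsMaximal]

/-- A real integer of the field has average an integer, of the same residue. -/
theorem exists_avg (hM : IsPModular 2 M) (hζ : IsPrimitiveRoot ζ (2 ^ (n + 1)))
    (hS : ∀ i, S i ζ = ζ ^ (2 * (i : ℕ) + 1)) {z : ℂ} (hz : z ∈ ℚ⟮ζ⟯) (hi : IsIntegral ℤ z)
    (hc : conj z = z) :
    ∃ A : ℤ, ∑ i, S i z = ((2 ^ n : ℕ) : ℂ) * (A : ℂ) ∧
      res M ⟨z, algInt_le_locRing M hi⟩ = (A : Res M) := by
  obtain ⟨P, hP, rfl⟩ := exists_poly_of_integral hζ hz hi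
  obtain ⟨D, hD⟩ : ∃ D, D = 2 ^ n := ⟨_, rfl⟩
  rw [← hD] at hP
  have hD1 : 0 < D := hD ▸ Nat.two_pow_pos n
  have hsum : aeval ζ P = ∑ j ∈ Finset.range D, (P.coeff j : ℂ) * ζ ^ j := by
    rw [aeval_eq_sum_range' hP]
    simp [zsmul_eq_mul]
  refine ⟨P.coeff 0, ?_, ?_⟩
  · rw [Finset.sum_congr rfl fun i _ => show S i (aeval ζ P) =
      ∑ j ∈ Finset.range D, (P.coeff j : ℂ) * S i (ζ ^ j) by
        rw [hsum, map_sum]; simp only [map_mul, map_intCast],
      Finset.sum_comm, Finset.sum_eq_single 0]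
    · rw [← Finset.mul_sum, sum_galois_pow hζ hS (hD ▸ hD1), if_pos rfl, mul_comm]
    · intro j hj h0
      rw [← Finset.mul_sum, sum_galois_pow hζ hS (hD ▸ Finset.mem_range.mp hj), if_neg h0, mul_zero]
    · exact fun h => absurd (Finset.mem_range.mpr hD1) h
  · have : CharP (Res M) 2 := res_charP M hM
    have := Fact.mk Nat.prime_two
    let e : locRing M := ⟨ζ, algInt_le_locRing M (hζ.isIntegral (Nat.two_pow_pos _))⟩
    have he : res M e = 1 := by
      have h1 : e ^ 2 ^ (n + 1) = 1 := Subtype.ext hζ.pow_eq_one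
      refine sub_eq_zero.mp (eq_zero_of_pow_eq_zero (n := 2 ^ (n + 1)) ?_)
      rw [sub_pow_char_pow, one_pow, ← map_pow, h1, map_one, sub_self]
    have hz' : (⟨aeval ζ P, algInt_le_locRing M hi⟩ : locRing M) =
        ∑ j ∈ Finset.range D, (P.coeff j : locRing M) * e ^ j := by
      apply Subtype.ext
      rw [AddSubmonoidClass.coe_finsetSum]
      exact hsum.trans (Finset.sum_congr rfl fun j _ => rfl)
    rw [hz', map_sum, Finset.sum_congr rfl fun j _ => show
      res M ((P.coeff j : locRing M) * e ^ j) = ((P.coeff j : ℤ) : Res M) by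
        rw [map_mul, map_pow, he, one_pow, mul_one, map_intCast]]
    rw [← Int.cast_sum]
    congr 1
    let T : ℤ[X] := ∑ j ∈ Finset.Ico 1 D, C (P.coeff j + P.coeff (D - j)) * X ^ j
    have hconj : ∀ j ∈ Finset.Ico 1 D, P.coeff j + P.coeff (D - j) = 0 := by
      intro j hj
      have hTd : T.natDegree < D := by
        refine lt_of_le_of_lt (natDegree_sum_le_of_forall_le _ _ (n := D - 1) fun i hi => ?_) (by omega)
        exact (natDegree_C_mul_X_pow_le _ _).trans (by have := Finset.mem_Ico.mp hi; omega)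
      have hT : aeval ζ T = 0 := by
        have hpos : ∀ i ∈ Finset.Ico 1 D, conj (ζ ^ i) = -ζ ^ (D - i) := by
          intro i hi
          have hin : ‖ζ ^ i‖ = 1 := by
            rw [norm_pow, Complex.norm_eq_one_of_pow_eq_one hζ.pow_eq_one (Nat.two_pow_pos _).ne', one_pow]
          rw [← Complex.inv_eq_conj hin]
          refine inv_eq_of_mul_eq_one_right ?_
          rw [mul_neg, ← pow_add, show i + (D - i) = D by have := Finset.mem_Ico.mp hi; omega,
            hD, pow_half_eq_neg_one hζ, neg_neg]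
        rw [hsum, Finset.range_eq_Ico, Finset.sum_eq_sum_Ico_succ_bot hD1, map_add, map_sum] at hc
        simp only [map_mul, map_intCast, pow_zero, map_one, mul_one, zero_add] at hc
        have hc' := add_left_cancel hc
        rw [Finset.sum_congr rfl fun i hi => by rw [hpos i hi]] at hc'
        simp only [T, map_sum, map_mul, map_pow, aeval_X, map_add, aeval_C, map_intCast,
          algebraMap_int_eq, eq_intCast, add_mul, Finset.sum_add_distrib]
        conv_lhs => arg 1; rw [← hc']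
        rw [show ∑ i ∈ Finset.Ico 1 D, (P.coeff (D - i) : ℂ) * ζ ^ i =
            ∑ i ∈ Finset.Ico 1 D, (P.coeff i : ℂ) * ζ ^ (D - i) from
          Finset.sum_nbij' (fun i => D - i) (fun i => D - i)
            (fun i hi => by simp only [Finset.mem_Ico] at hi ⊢; omega)
            (fun i hi => by simp only [Finset.mem_Ico] at hi ⊢; omega)
            (fun i hi => by simp only [Finset.mem_Ico] at hi; omega)
            (fun i hi => by simp only [Finset.mem_Ico] at hi; omega)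
            (fun i hi => by
              have hi' := Finset.mem_Ico.mp hi
              rw [show D - (D - i) = i by omega])]
        simp only [mul_neg, Finset.sum_neg_distrib, neg_add_cancel]
      have h := congrArg (fun R : ℤ[X] => R.coeff j) (poly_eq_zero hζ (hD ▸ hTd) hT)
      simp only [T, finsetSum_coeff, coeff_C_mul_X_pow, coeff_zero, Finset.sum_ite_eq, hj, if_true] at h
      exact h
    have h2 : ∑ i ∈ Finset.Ico 1 D, P.coeff (D - i) = ∑ i ∈ Finset.Ico 1 D, P.coeff i :=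
      Finset.sum_nbij' (fun i => D - i) (fun i => D - i)
        (fun i hi => by simp only [Finset.mem_Ico] at hi ⊢; omega)
        (fun i hi => by simp only [Finset.mem_Ico] at hi ⊢; omega)
        (fun i hi => by simp only [Finset.mem_Ico] at hi; omega)
        (fun i hi => by simp only [Finset.mem_Ico] at hi; omega)
        (fun i _ => rfl)
    have h3 := Finset.sum_eq_zero hconj
    rw [Finset.sum_add_distrib, h2] at h3
    rw [Finset.range_eq_Ico, Finset.sum_eq_sum_Ico_succ_bot hD1, zero_add]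
    omega

end field

variable {G : Type*} [Group G] [Fintype G] {M : Ideal AlgInt} [M.IsMaximal]
  {x : G} [Fintype (Subgroup.centralizer ({x} : Set G))]
  {B : Set (IrrCharacter G)} {b : Set (IrrCharacter (Subgroup.centralizer ({x} : Set G)))}

/-- The contributions lie in the field of the roots of unity of the order of `x`. -/
theorem contrib_mem_adjoin (hM : IsPModular 2 M) (hb : IsPBlock M b) {n : ℕ} {ζ : ℂ}
    (hζ : IsPrimitiveRoot ζ (2 ^ (n + 1))) (hxn : x ^ 2 ^ n = 1) (χ ψ : IrrCharacter G) :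
    contrib 2 x b χ ψ ∈ ℚ⟮ζ⟯ := by
  classical
  have := Fact.mk Nat.prime_two
  have h : x ∈ Subgroup.centralizer ({x} : Set G) := Subgroup.mem_centralizer_singleton_iff.mpr rfl
  have : NeZero (2 ^ (n + 1)) := ⟨(Nat.two_pow_pos _).ne'⟩
  have hcs : ∀ (φ : IrrCharacter (Subgroup.centralizer ({x} : Set G)))
      (z : Subgroup.centralizer ({x} : Set G)), z ∈ Subgroup.center _ → z ^ 2 ^ n = 1 →
      centScal φ z ∈ ℚ⟮ζ⟯ := by
    intro φ z hzc hz
    have hpow : ∀ m : ℕ, centScal φ (z ^ m) = centScal φ z ^ m := by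
      intro m
      induction m with
      | zero => rw [pow_zero, pow_zero, centScal_one]
      | succ m ih => rw [pow_succ, pow_succ, centScal_mul φ (pow_mem hzc m), ih]
    obtain ⟨i, -, hi⟩ := hζ.eq_pow_of_pow_eq_one (ξ := centScal φ z) (by
      rw [pow_succ, pow_mul, ← hpow, hz, centScal_one, one_pow])
    rw [← hi]
    exact pow_mem (mem_adjoin_simple_self ℚ ζ) i
  have hx' : (⟨x, h⟩ : Subgroup.centralizer ({x} : Set G)) ^ 2 ^ n = 1 := Subtype.ext (by
    rw [SubmonoidClass.coe_pow]; exact hxn)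
  rw [contrib_eq_sum hM hb h]
  refine sum_mem fun φ _ => sum_mem fun φ' _ => ?_
  split_ifs
  · obtain ⟨m, hm⟩ := classInner_char_nat (isCharacter_res _ (isCharacter_of_isIrr χ.2))
      (isCharacter_of_isIrr φ.2)
    obtain ⟨m', hm'⟩ := classInner_char_nat (isCharacter_res _ (isCharacter_of_isIrr ψ.2))
      (isCharacter_of_isIrr φ'.2)
    rw [hm, hm', map_mul, Complex.conj_natCast, conj_centScal]
    exact mul_mem (mul_mem (mul_mem (hcs φ _ (mem_center_centralizer h) hx') (_root_.natCast_mem _ _))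
      (mul_mem (hcs φ' _ (inv_mem (mem_center_centralizer h)) (by rw [inv_pow, hx', inv_one]))
        (_root_.natCast_mem _ _))) (_root_.intCast_mem _ _)
  · exact zero_mem _

/-- The squares of a row of contributions, under an automorphism. -/
theorem sum_normSq_row {p : ℕ} [Fact p.Prime] (hM : IsPModular p M) (hx : ∃ k : ℕ, orderOf x = p ^ k)
    (hind : IsInducedBlock M (Subgroup.centralizer ({x} : Set G)) b B) (σ : ℂ ≃+* ℂ)
    (χ : IrrCharacter G) [DecidablePred (· ∈ B)] :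
    ((∑ ψ ∈ Finset.univ.filter fun ψ : IrrCharacter G => ψ ∈ B,
      Complex.normSq (σ (contrib p x b χ ψ)) : ℝ) : ℂ) =
      σ (((p ^ blockDefect p b : ℕ) : ℂ) * contrib p x b χ χ) := by
  rw [← contrib_sum_mul hM hx hind χ χ, map_sum, Complex.ofReal_sum, Finset.sum_filter]
  refine Finset.sum_congr rfl fun ψ _ => ?_
  split_ifs
  · rw [contrib_conj χ ψ, map_mul,
      show σ (conj (contrib p x b χ ψ)) = conj (σ (contrib p x b χ ψ)) from
        contrib_mem_conjCommute σ χ ψ, Complex.mul_conj]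
  · rw [map_zero]

omit [Fintype G] [Fintype (Subgroup.centralizer ({x} : Set G))] in
theorem exists_pow_eq_one_of_orderOf {j : ℕ} (h : orderOf x = 2 ^ j) :
    ∃ ζ : ℂ, IsPrimitiveRoot ζ (2 ^ (j + 1)) ∧ x ^ 2 ^ j = 1 :=
  ⟨_, Complex.isPrimitiveRoot_exp _ (Nat.two_pow_pos _).ne', by rw [← h, pow_orderOf_eq_one]⟩

section avg

variable {n : ℕ} {ζ : ℂ} {S : Fin (2 ^ n) → (ℂ ≃+* ℂ)}

/-- The averages of the diagonal contributions. -/
theorem exists_diag_avg (hM : IsPModular 2 M)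
    (hind : IsInducedBlock M (Subgroup.centralizer ({x} : Set G)) b B)
    (hζ : IsPrimitiveRoot ζ (2 ^ (n + 1))) (hS : ∀ i, S i ζ = ζ ^ (2 * (i : ℕ) + 1))
    (hxn : x ^ 2 ^ n = 1) [DecidablePred (· ∈ B)] :
    ∃ A : IrrCharacter G → ℤ,
      (∀ χ, ∑ i, S i (contrib 2 x b χ χ) = ((2 ^ n : ℕ) : ℂ) * (A χ : ℂ)) ∧
      (∀ χ (h : IsIntegral ℤ (contrib 2 x b χ χ)),
        res M ⟨contrib 2 x b χ χ, algInt_le_locRing M h⟩ = (A χ : Res M)) ∧
      ∑ χ ∈ Finset.univ.filter (fun χ : IrrCharacter G => χ ∈ B), A χ =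
        ((2 ^ blockDefect 2 b * blockRank 2 b : ℕ) : ℤ) := by
  classical
  have := Fact.mk Nat.prime_two
  have hx : ∃ k : ℕ, orderOf x = 2 ^ k := by
    obtain ⟨k, -, hk⟩ := (Nat.dvd_prime_pow Nat.prime_two).mp (orderOf_dvd_of_pow_eq_one hxn)
    exact ⟨k, hk⟩
  have h : ∀ χ : IrrCharacter G, ∃ A : ℤ,
      ∑ i, S i (contrib 2 x b χ χ) = ((2 ^ n : ℕ) : ℂ) * (A : ℂ) ∧
      res M ⟨contrib 2 x b χ χ, algInt_le_locRing M (isIntegral_contrib hM hind.1 χ χ)⟩ = (A : Res M) :=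
    fun χ => exists_avg hM hζ hS (contrib_mem_adjoin hM hind.1 hζ hxn χ χ)
      (isIntegral_contrib hM hind.1 χ χ) (contrib_conj χ χ).symm
  choose A hA hres using h
  refine ⟨A, hA, fun χ _ => hres χ, ?_⟩
  have h1 := sum_contrib_self hM hx hind
  have h2 : ((2 ^ n : ℕ) : ℂ) * ((∑ χ ∈ Finset.univ.filter (fun χ : IrrCharacter G => χ ∈ B), A χ : ℤ) : ℂ) =
      ((2 ^ n : ℕ) : ℂ) * (((2 ^ blockDefect 2 b * blockRank 2 b : ℕ) : ℤ) : ℂ) := by
    rw [Int.cast_sum, Finset.mul_sum, Finset.sum_congr rfl fun χ _ => (hA χ).symm, Finset.sum_comm]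
    simp only [← map_sum]
    rw [Finset.sum_filter, h1]
    simp [map_ofNat]
  exact_mod_cast mul_left_cancel₀ (Nat.cast_ne_zero.mpr (Nat.two_pow_pos n).ne') h2

/-- The row bound. -/
theorem sum_sq_le_avg (hM : IsPModular 2 M) (hx : ∃ k : ℕ, orderOf x = 2 ^ k)
    (hind : IsInducedBlock M (Subgroup.centralizer ({x} : Set G)) b B) {χ : IrrCharacter G} {A : ℤ}
    (hA : ∑ i, S i (contrib 2 x b χ χ) = ((2 ^ n : ℕ) : ℂ) * (A : ℂ))
    (s : Finset (IrrCharacter G)) (hsB : ∀ ψ ∈ s, ψ ∈ B) (N : IrrCharacter G → ℕ)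
    (hw : ∀ ψ ∈ s, ∃ w : ℂ, IsIntegral ℤ w ∧ w ≠ 0 ∧ contrib 2 x b χ ψ = (N ψ : ℂ) * w) :
    ((∑ ψ ∈ s, N ψ ^ 2 : ℕ) : ℤ) ≤ ((2 ^ blockDefect 2 b : ℕ) : ℤ) * A := by
  classical
  have := Fact.mk Nat.prime_two
  choose! w hwi hw0 hwc using hw
  have hcomm : ∀ (σ : ℂ ≃+* ℂ), ∀ ψ ∈ s, N ψ ≠ 0 → σ (w ψ * conj (w ψ)) =
      ((Complex.normSq (σ (w ψ)) : ℝ) : ℂ) := by
    intro σ ψ hψ hN
    have hm : σ (conj (w ψ)) = conj (σ (w ψ)) := by
      have h1 : σ (conj (contrib 2 x b χ ψ)) = conj (σ (contrib 2 x b χ ψ)) :=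
        contrib_mem_conjCommute σ χ ψ
      rw [hwc ψ hψ, map_mul, map_mul, map_mul, map_mul, Complex.conj_natCast, map_natCast,
        Complex.conj_natCast] at h1
      exact mul_left_cancel₀ (Nat.cast_ne_zero.mpr hN) h1
    rw [map_mul, hm, Complex.mul_conj]
  set s' := s.filter fun ψ => N ψ ≠ 0 with hs'
  obtain ⟨τ, hτ⟩ := exists_conjugate_sum_ge (s' ×ˢ (Finset.univ : Finset (Fin (2 ^ n))))
    (fun a => S a.2 (w a.1 * conj (w a.1))) (fun a => N a.1 ^ 2)
    (fun a ha => by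
      have := (Finset.mem_filter.mp (Finset.mem_product.mp ha).1).1
      exact map_isIntegral_int _ ((hwi _ this).mul (map_isIntegral_int (starRingEnd ℂ) (hwi _ this))))
    (fun a ha => by
      have := (Finset.mem_filter.mp (Finset.mem_product.mp ha).1).1
      exact (map_ne_zero_iff _ (S a.2).injective).mpr (mul_ne_zero (hw0 _ this)
        ((map_ne_zero_iff _ (starRingEnd ℂ).injective).mpr (hw0 _ this))))
    (fun a ha σ => by
      obtain ⟨h1, h2⟩ := Finset.mem_filter.mp (Finset.mem_product.mp ha).1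
      exact ⟨_, Complex.normSq_nonneg _, hcomm ((S a.2).trans σ) _ h1 h2⟩)
  have hl : ∀ a ∈ s' ×ˢ (Finset.univ : Finset (Fin (2 ^ n))),
      ((N a.1 ^ 2 : ℕ) : ℝ) * (τ (S a.2 (w a.1 * conj (w a.1)))).re =
        Complex.normSq (((S a.2).trans τ) (contrib 2 x b χ a.1)) := by
    intro a ha
    obtain ⟨h1, h2⟩ := Finset.mem_filter.mp (Finset.mem_product.mp ha).1
    rw [show τ (S a.2 (w a.1 * conj (w a.1))) = ((S a.2).trans τ) (w a.1 * conj (w a.1)) from rfl,
      hcomm _ _ h1 h2, Complex.ofReal_re, hwc _ h1, map_mul, map_natCast, Complex.normSq_mul,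
      Complex.normSq_natCast]
    push_cast
    ring
  rw [Finset.sum_congr rfl hl] at hτ
  have hrow : ∀ i, ∑ ψ ∈ Finset.univ.filter (fun ψ : IrrCharacter G => ψ ∈ B),
      Complex.normSq (((S i).trans τ) (contrib 2 x b χ ψ)) =
      (τ (S i (((2 ^ blockDefect 2 b : ℕ) : ℂ) * contrib 2 x b χ χ))).re := fun i => by
    rw [← RingEquiv.trans_apply, ← sum_normSq_row hM hx hind, Complex.ofReal_re]
  have h4 : ∑ i, (τ (S i (((2 ^ blockDefect 2 b : ℕ) : ℂ) * contrib 2 x b χ χ))).re =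
      ((2 ^ n : ℕ) : ℝ) * ((((2 ^ blockDefect 2 b : ℕ) : ℤ) * A : ℤ) : ℝ) := by
    simp only [map_mul, map_natCast, Complex.mul_re, Complex.natCast_re, Complex.natCast_im,
      zero_mul, sub_zero]
    rw [← Finset.mul_sum, ← Complex.re_sum, ← map_sum, hA, map_mul, map_natCast, map_intCast,
      show ((2 ^ n : ℕ) : ℂ) * (A : ℂ) = ((((2 ^ n : ℕ) : ℤ) * A : ℤ) : ℂ) by push_cast; ring,
      Complex.intCast_re]
    push_cast
    ring
  have h5 : ((2 ^ n : ℕ) : ℝ) * ((∑ ψ ∈ s, N ψ ^ 2 : ℕ) : ℝ) ≤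
      ((2 ^ n : ℕ) : ℝ) * ((((2 ^ blockDefect 2 b : ℕ) : ℤ) * A : ℤ) : ℝ) := by
    rw [← h4, ← Finset.sum_congr rfl fun i _ => hrow i]
    refine le_trans (le_of_eq ?_) (hτ.trans ?_)
    · rw [Finset.sum_product, hs', ← Finset.sum_filter_ne_zero (s := s) (f := fun ψ => N ψ ^ 2)]
      rw [show (s.filter fun ψ => N ψ ^ 2 ≠ 0) = s.filter fun ψ => N ψ ≠ 0 by
        refine Finset.filter_congr fun ψ _ => ?_
        simp]
      push_cast
      simp [Finset.mul_sum]
    · rw [Finset.sum_product_right]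
      refine Finset.sum_le_sum fun i _ => Finset.sum_le_sum_of_subset_of_nonneg ?_
        fun ψ _ _ => Complex.normSq_nonneg _
      exact fun ψ hψ => Finset.mem_filter.mpr ⟨Finset.mem_univ _, hsB ψ (Finset.mem_filter.mp hψ).1⟩
  exact_mod_cast le_of_mul_le_mul_left h5 (Nat.cast_pos.mpr (Nat.two_pow_pos n))

end avg

/-- In a major subsection `p ^ h(ψ)` divides the contribution; the quotient has zero residue when
`χ` has positive height. -/
theorem contrib_dvd {p : ℕ} [hp : Fact p.Prime] (hM : IsPModular p M)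
    (hx : ∃ k : ℕ, orderOf x = p ^ k)
    (hind : IsInducedBlock M (Subgroup.centralizer ({x} : Set G)) b B)
    (hd : blockDefect p b = blockDefect p B) {χ ψ : IrrCharacter G} (hχ : χ ∈ B) (hψ : ψ ∈ B) :
    ∃ w : ℂ, ∃ hw : IsIntegral ℤ w,
      contrib p x b χ ψ = ((p ^ blockHeight p B (ψ : G → ℂ) : ℕ) : ℂ) * w ∧
      (blockHeight p B (χ : G → ℂ) ≠ 0 → res M ⟨w, algInt_le_locRing M hw⟩ = 0) := by
  classical
  obtain ⟨-, hB, -⟩ := (isInducedBlock_iff _).mp hind
  obtain ⟨Z, hZ⟩ := exists_contrib_eq hM hx hind.1 χ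
  set a := (Nat.card G).factorization p with ha
  set m := Nat.card G / p ^ a with hm
  have hcard : Nat.card G = p ^ a * m := (Nat.ordProj_mul_ordCompl_eq_self _ _).symm
  have hmr : (m : Res M) ≠ 0 := fun h => Nat.not_dvd_ordCompl hp.out Nat.card_pos.ne'
    ((res_natCast_eq_zero_iff M hM m).mp ((map_natCast (res M) m).trans h))
  have key : ∀ η ∈ B, contrib p x b χ η * (m : ℂ) = ((p ^ blockHeight p B (η : G → ℂ) : ℕ) : ℂ) *
      ((charDegree (η : G → ℂ) / p ^ (charDegree (η : G → ℂ)).factorization p : ℕ) : ℂ) *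
        ((zomega η Z : locRing M) : ℂ) := by
    intro η hη
    have hdeg := degree_height hM hB hη
    have h1 := (hZ η).2
    rw [← CfsgLib.CharBlocks.coe_charDegree_irr η, hd, hcard] at h1
    set v := (charDegree (η : G → ℂ)).factorization p with hv
    conv_rhs at h1 => rw [← Nat.ordProj_mul_ordCompl_eq_self (charDegree (η : G → ℂ)) p]
    refine mul_left_cancel₀ (Nat.cast_ne_zero.mpr (pow_ne_zero a hp.out.ne_zero)) ?_
    have he : p ^ blockDefect p B * p ^ v = p ^ a * p ^ blockHeight p B (η : G → ℂ) := by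
      rw [← pow_add, ← pow_add]; congr 1; omega
    have he' : ((p ^ blockDefect p B : ℕ) : ℂ) * ((p ^ v : ℕ) : ℂ) =
        ((p ^ a : ℕ) : ℂ) * ((p ^ blockHeight p B (η : G → ℂ) : ℕ) : ℂ) := by exact_mod_cast he
    push_cast at h1 he' ⊢
    linear_combination h1 + ((charDegree (η : G → ℂ) / p ^ v : ℕ) : ℂ) * (zomega η Z : ℂ) * he'
  set N := p ^ blockHeight p B (ψ : G → ℂ) with hN
  obtain ⟨α, β, hab⟩ := Int.isCoprime_iff_nat_coprime.mpr
    (show Nat.Coprime (N : ℤ).natAbs (m : ℤ).natAbs by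
      simpa using Nat.Coprime.pow_left _ (hp.out.coprime_iff_not_dvd.mpr
        (Nat.not_dvd_ordCompl hp.out Nat.card_pos.ne')))
  have hab' : (α : ℂ) * (N : ℂ) + (β : ℂ) * (m : ℂ) = 1 := by exact_mod_cast hab
  set e := charDegree (ψ : G → ℂ) / p ^ (charDegree (ψ : G → ℂ)).factorization p
  have hψ' := key ψ hψ
  set w := (α : ℂ) * contrib p x b χ ψ + (β : ℂ) * ((e : ℂ) * (zomega ψ Z : ℂ)) with hwdef
  have hw : IsIntegral ℤ w := ((isIntegral_algebraMap (x := α)).mul (isIntegral_contrib hM hind.1 χ ψ)).add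
    ((isIntegral_algebraMap (x := β)).mul ((isIntegral_algebraMap (x := (e : ℤ))).mul (hZ ψ).1))
  have hc : contrib p x b χ ψ = (N : ℂ) * w := by
    linear_combination (β : ℂ) * hψ' - contrib p x b χ ψ * hab'
  refine ⟨w, hw, hc, fun hh => ?_⟩
  have hwm : (⟨w, algInt_le_locRing M hw⟩ : locRing M) * (m : locRing M) =
      (e : locRing M) * zomega ψ Z := by
    apply Subtype.ext
    refine mul_left_cancel₀ (Nat.cast_ne_zero.mpr (show N ≠ 0 from pow_ne_zero _ hp.out.ne_zero)) ?_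
    simp only [Subring.coe_mul, SubringClass.coe_natCast]
    linear_combination hψ' - (m : ℂ) * hc
  obtain ⟨η, hη, h0⟩ := exists_height_zero hM hB
  have hω : bomega η Z = 0 := by
    obtain ⟨w', hw', -, hc'⟩ := contrib_height hM hx hind hd hη h0 hχ
    have h1 := key η hη
    rw [h0, pow_zero, Nat.cast_one, one_mul, contrib_conj η χ, hc', map_mul, Complex.conj_natCast] at h1
    have hw'' : IsIntegral ℤ (conj w') := map_isIntegral_int (starRingEnd ℂ) hw'
    have h2 := congrArg (res M) (show ((p ^ blockHeight p B (χ : G → ℂ) : ℕ) : locRing M) *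
        ⟨conj w', algInt_le_locRing M hw''⟩ * (m : locRing M) =
        ((charDegree (η : G → ℂ) / p ^ (charDegree (η : G → ℂ)).factorization p : ℕ) : locRing M) *
          zomega η Z from Subtype.ext (by simpa using h1))
    rw [map_mul, map_mul, map_mul, map_natCast, map_natCast, map_natCast, ← bomega_apply,
      show ((p ^ blockHeight p B (χ : G → ℂ) : ℕ) : Res M) = 0 from
        (map_natCast (res M) _).symm.trans ((res_natCast_eq_zero_iff M hM _).mpr (dvd_pow_self p hh)),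
      zero_mul, zero_mul] at h2
    refine (mul_eq_zero.mp h2.symm).resolve_left fun h => ?_
    exact Nat.not_dvd_ordCompl hp.out (CfsgLib.CharBlocks.charDegree_pos η.2).ne'
      ((res_natCast_eq_zero_iff M hM _).mp ((map_natCast (res M) _).trans h))
  have h3 := congrArg (res M) hwm
  rw [map_mul, map_mul, map_natCast, map_natCast, ← bomega_apply, bomega_eq_of_mem hB hψ hη, hω,
    mul_zero] at h3
  exact (mul_eq_zero.mp h3).resolve_right hmr

end CfsgLib.BlockArith
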