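import Cfsg.Agent.Lib.BlockArith.TwoForm
import Cfsg.Agent.Lib.BlockArith.TwoAverage
import Cfsg.Agent.Lib.BlockArith.SmallRank
import Cfsg.Agent.Lib.Modular.Lifting

/-!
# Major subsections with at most two irreducible Brauer characters

* `exists_secForm`: the contributions are an integral form in the coordinates of the section parts;
* `card_le_of_major_rank_le_two`: `k(B) ≤ p ^ d` for a major subsection of rank at most two.
-/

set_option autoImplicit false

noncomputable section

namespace CfsgLib.BlockArith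

open Cfsg CfsgLib.Char CfsgLib.Blocks CfsgLib.Modular
open scoped ComplexConjugate Classical

variable {M : Ideal AlgInt} [M.IsMaximal] {p : ℕ} [hp : Fact p.Prime]

/-- The block matrix is the regular inner product scaled by `p ^ d`. -/
theorem blockMat_eq_regSum {G : Type*} [Group G] [Fintype G] (hM : IsPModular p M)
    {B : Set (IrrCharacter G)} (hB : IsPBlock M B) {φ φ' : IrrCharacter G} (hφ : φ ∈ B) :
    (blockMat p B φ φ' : ℂ) = ((p ^ blockDefect p B : ℕ) : ℂ) / (Nat.card G : ℂ) *
      ∑ s : G, (if p ∣ orderOf s then 0 else (φ : G → ℂ) s * conj ((φ' : G → ℂ) s)) := by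
  have h1 := card_mul_regCoef (p := p) φ φ'
  rw [← blockMat_mul hM hB hφ] at h1
  have hpd : ((p ^ (Nat.card G).factorization p : ℕ) : ℂ) =
      ((p ^ ((Nat.card G).factorization p - blockDefect p B) : ℕ) : ℂ) *
        ((p ^ blockDefect p B : ℕ) : ℂ) := by
    rw [← Nat.cast_mul, ← pow_add, Nat.sub_add_cancel blockDefect_le]
  rw [hpd] at h1
  have hne : ((p ^ ((Nat.card G).factorization p - blockDefect p B) : ℕ) : ℂ) ≠ 0 := by
    exact_mod_cast pow_ne_zero _ hp.out.ne_zero
  have hN : (Nat.card G : ℂ) ≠ 0 := card_ne_zero'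
  rw [div_mul_eq_mul_div, eq_div_iff hN]
  push_cast at h1 hne ⊢
  refine mul_left_cancel₀ hne ?_
  linear_combination h1

/-- The scaled regular inner products of the Brauer characters of a block are integers. -/
theorem exists_ibr_form {G : Type*} [Group G] [Fintype G] (hM : IsPModular p M)
    {B : Set (IrrCharacter G)} (hB : IsPBlock M B) :
    ∃ A : (G → ℂ) → (G → ℂ) → ℤ, ∀ φ ∈ ibrOf hM B, ∀ φ' ∈ ibrOf hM B,
      (A φ φ' : ℂ) = ((p ^ blockDefect p B : ℕ) : ℂ) / (Nat.card G : ℂ) * ∑ s : G, φ s * conj (φ' s) := by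
  have hcomb : ∀ φ : G → ℂ, ∃ a : IrrCharacter G → ℤ, φ ∈ ibrOf hM B →
      φ = ∑ χ ∈ Finset.univ.filter (· ∈ B), (a χ : ℂ) • pRegularPart p (χ : G → ℂ) := fun φ => by
    by_cases h : φ ∈ ibrOf hM B
    · obtain ⟨a, ha⟩ := exists_int_combination hM hB h
      exact ⟨a, fun _ => ha⟩
    · exact ⟨0, fun h' => absurd h' h⟩
  choose a ha using hcomb
  refine ⟨fun φ φ' => ∑ η ∈ Finset.univ.filter (· ∈ B), ∑ η' ∈ Finset.univ.filter (· ∈ B),
    a φ η * a φ' η' * blockMat p B η η', fun φ hφ φ' hφ' => ?_⟩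
  conv_rhs => rw [ha φ hφ, ha φ' hφ']
  simp only [Finset.sum_apply, Pi.smul_apply, smul_eq_mul, map_sum, map_mul, map_intCast,
    pRegularPart_apply, Finset.sum_mul, Finset.mul_sum]
  push_cast
  rw [eq_comm, Finset.sum_congr rfl fun s _ => Finset.sum_comm, Finset.sum_comm]
  refine Finset.sum_congr rfl fun η hη => ?_
  rw [Finset.sum_comm]
  refine Finset.sum_congr rfl fun η' _ => ?_
  rw [blockMat_eq_regSum hM hB (Finset.mem_filter.mp hη).2, Finset.mul_sum, Finset.mul_sum]
  refine Finset.sum_congr rfl fun s _ => ?_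
  split_ifs with hs
  · simp
  · push_cast
    ring

variable {G : Type*} [Group G] [Fintype G] {x : G} [Fintype (Subgroup.centralizer ({x} : Set G))]
  {B : Set (IrrCharacter G)} {b : Set (IrrCharacter (Subgroup.centralizer ({x} : Set G)))}

/-- The contributions are an integral form in the coordinates of the section parts. -/
theorem exists_secForm (hM : IsPModular p M) (hb : IsPBlock M b)
    (h : x ∈ Subgroup.centralizer ({x} : Set G)) :
    ∃ (A : (Subgroup.centralizer ({x} : Set G) → ℂ) → (Subgroup.centralizer ({x} : Set G) → ℂ) → ℤ)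
      (u : IrrCharacter G → (Subgroup.centralizer ({x} : Set G) → ℂ) → ℂ),
      (∀ χ φ, IsIntegral ℤ (u χ φ)) ∧ (∀ (σ : ℂ ≃+* ℂ) χ φ, σ (conj (u χ φ)) = conj (σ (u χ φ))) ∧
      (∀ φ ∈ ibrOf hM b, ∀ φ' ∈ ibrOf hM b, (A φ φ' : ℂ) = ((p ^ blockDefect p b : ℕ) : ℂ) /
        (Nat.card (Subgroup.centralizer ({x} : Set G)) : ℂ) * ∑ s, φ s * conj (φ' s)) ∧
      ∀ χ ψ, contrib p x b χ ψ = ∑ φ ∈ ibrOf hM b, ∑ φ' ∈ ibrOf hM b,
        (A φ φ' : ℂ) * (u χ φ * conj (u ψ φ')) := by
  obtain ⟨A, hA⟩ := exists_ibr_form hM hb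
  choose mult hmult using fun (χ : IrrCharacter G) (η : IrrCharacter (Subgroup.centralizer ({x} : Set G))) =>
    classInner_char_nat (isCharacter_res (Subgroup.centralizer ({x} : Set G)) (isCharacter_of_isIrr χ.2))
      (isCharacter_of_isIrr η.2)
  let u : IrrCharacter G → (Subgroup.centralizer ({x} : Set G) → ℂ) → ℂ := fun χ φ =>
    ∑ η : IrrCharacter (Subgroup.centralizer ({x} : Set G)),
      if η ∈ b then centScal η ⟨x, h⟩ * (mult χ η : ℂ) * (dnum hM η φ : ℂ) else 0
  have hsec : ∀ (χ : IrrCharacter G) (s : Subgroup.centralizer ({x} : Set G)), ¬ p ∣ orderOf s →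
      secPart x b χ s = ∑ φ ∈ ibrOf hM b, u χ φ * φ s := by
    intro χ s hs
    rw [secPart, blockPart_apply]
    simp only [u, Finset.sum_mul]
    rw [Finset.sum_comm]
    refine Finset.sum_congr rfl fun η _ => ?_
    split_ifs with hη
    · have h1 := congrFun (regPart_eq_block hM hη) s
      rw [pRegularPart_apply, if_neg hs] at h1
      rw [classInner_shift h, hmult χ η, h1, Finset.sum_apply, Finset.mul_sum]
      exact Finset.sum_congr rfl fun φ _ => by simp only [Pi.smul_apply, smul_eq_mul]; ring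
    · simp
  refine ⟨A, u, fun χ φ => IsIntegral.sum _ fun η _ => ?_, fun σ χ φ => ?_, hA, fun χ ψ => ?_⟩
  · split_ifs
    · exact ((isIntegral_centScal η (mem_center_centralizer h)).mul
        (isIntegral_algebraMap (x := (mult χ η : ℤ)))).mul (isIntegral_algebraMap (x := (dnum hM η φ : ℤ)))
    · exact isIntegral_zero
  · have : u χ φ ∈ conjCommute σ := Subfield.sum_mem _ fun η _ => by
      split_ifs
      · exact Subfield.mul_mem _ (Subfield.mul_mem _
          (Subfield.div_mem _ (char_mem_conjCommute σ (isCharacter_of_isIrr η.2) _)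
            (char_mem_conjCommute σ (isCharacter_of_isIrr η.2) _)) (natCast_mem _ _)) (natCast_mem _ _)
      · exact zero_mem _
    exact this
  · rw [contrib, Finset.mul_sum]
    rw [Finset.sum_congr rfl fun φ hφ => Finset.sum_congr rfl fun φ' hφ' =>
      show (A φ φ' : ℂ) * (u χ φ * conj (u ψ φ')) = ∑ s, ((p ^ blockDefect p b : ℕ) : ℂ) /
        (Nat.card (Subgroup.centralizer ({x} : Set G)) : ℂ) * (φ s * conj (φ' s) * (u χ φ * conj (u ψ φ')))
      by
        rw [hA φ hφ φ' hφ', Finset.mul_sum, Finset.sum_mul]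
        exact Finset.sum_congr rfl fun s _ => by ring]
    rw [Finset.sum_congr rfl fun φ _ => Finset.sum_comm, Finset.sum_comm]
    refine Finset.sum_congr rfl fun s _ => ?_
    simp only [← Finset.mul_sum]
    congr 1
    split_ifs with hs
    · refine (Finset.sum_eq_zero fun φ hφ => Finset.sum_eq_zero fun φ' _ => ?_).symm
      rw [(ibrF_regular hM (ibrOf_subset hM b hφ)).1 s hs]
      ring
    · rw [hsec χ s hs, hsec ψ s hs, map_sum, Finset.sum_mul_sum]
      exact Finset.sum_congr rfl fun φ _ => Finset.sum_congr rfl fun φ' _ => by rw [map_mul]; ring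

omit [M.IsMaximal] in
theorem contrib_self_nonneg (χ : IrrCharacter G) (σ : ℂ ≃+* ℂ) :
    ∃ r : ℝ, 0 ≤ r ∧ σ (contrib p x b χ χ) = (r : ℂ) := by
  refine ⟨((p ^ blockDefect p b : ℕ) : ℝ) / (Nat.card (Subgroup.centralizer ({x} : Set G)) : ℝ) *
    ∑ s : Subgroup.centralizer ({x} : Set G),
      if p ∣ orderOf s then 0 else Complex.normSq (σ (secPart x b χ s)), ?_, ?_⟩
  · exact mul_nonneg (by positivity)
      (Finset.sum_nonneg fun s _ => by split_ifs <;> first | exact le_rfl | exact Complex.normSq_nonneg _)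
  · rw [contrib, map_mul, map_div₀, map_natCast, map_natCast, map_sum,
      Complex.ofReal_mul, Complex.ofReal_div, Complex.ofReal_natCast, Complex.ofReal_natCast,
      Complex.ofReal_sum]
    congr 1
    refine Finset.sum_congr rfl fun s _ => ?_
    split_ifs
    · simp
    · have hm : σ (conj (secPart x b χ s)) = conj (σ (secPart x b χ s)) := secPart_mem_conjCommute σ χ s
      rw [map_mul, hm, Complex.mul_conj]

/-- `k(B) ≤ p ^ d` for a major subsection with at most two irreducible Brauer characters. -/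
theorem card_le_of_major_rank_le_two (hM : IsPModular p M) (hx : ∃ k : ℕ, orderOf x = p ^ k)
    (hind : IsInducedBlock M (Subgroup.centralizer ({x} : Set G)) b B)
    (hd : blockDefect p b = blockDefect p B) (hl : blockRank p b ≤ 2) :
    Nat.card B ≤ p ^ blockDefect p B := by
  have hb := hind.1
  obtain ⟨-, hB, -⟩ := (isInducedBlock_iff _).mp hind
  have hl0 := blockRank_pos (p := p) hb
  have hq : 0 < p ^ blockDefect p B := pow_pos hp.out.pos _
  obtain ⟨χ₀, hχ₀, h0⟩ := exists_height_zero hM hB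
  have hsum : ∀ χ η : IrrCharacter G, ∑ ψ : B, contrib p x b χ ψ * contrib p x b ψ η =
      ((p ^ blockDefect p B : ℕ) : ℂ) * contrib p x b χ η := fun χ η => by
    rw [← hd, ← contrib_sum_mul hM hx hind χ η, ← Finset.sum_filter]
    exact (Finset.sum_subtype (p := fun k => k ∈ B) _ (by simp)
      (fun ψ => contrib p x b χ ψ * contrib p x b ψ η)).symm
  have htr : ∑ χ : B, contrib p x b χ χ = ((blockRank p b * p ^ blockDefect p B : ℕ) : ℂ) := by
    rw [Nat.cast_mul, mul_comm, ← hd, ← sum_contrib_self hM hx hind, ← Finset.sum_filter]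
    exact (Finset.sum_subtype (p := fun k => k ∈ B) _ (by simp) (fun χ => contrib p x b χ χ)).symm
  have hne : ∀ i j : B, blockHeight p B ((i : IrrCharacter G) : G → ℂ) = 0 → contrib p x b i j ≠ 0 := by
    intro i j hi
    obtain ⟨w, -, hw, he⟩ := contrib_height hM hx hind hd i.2 hi j.2
    rw [he]
    exact mul_ne_zero (Nat.cast_ne_zero.mpr (pow_ne_zero _ hp.out.ne_zero)) hw
  have hdiv : ∀ i : B, ∃ w : ℂ, IsIntegral ℤ w ∧ w ≠ 0 ∧
      contrib p x b i i = ((p ^ blockHeight p B ((i : IrrCharacter G) : G → ℂ) : ℕ) : ℂ) * w := fun i => by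
    obtain ⟨w, hw, he, -⟩ := contrib_dvd hM hx hind hd i.2 i.2
    refine ⟨w, hw, fun hw0 => ?_, he⟩
    rw [hw0, mul_zero] at he
    have h1 := hsum i i
    rw [he, mul_zero] at h1
    have h2 : ∑ ψ : B, Complex.normSq (contrib p x b i ψ) = 0 := by
      apply Complex.ofReal_injective
      rw [Complex.ofReal_zero, ← h1, Complex.ofReal_sum]
      exact Finset.sum_congr rfl fun ψ _ => by rw [contrib_conj (χ := i.1) (ψ := ψ.1), Complex.mul_conj]
    have h3 := (Finset.sum_eq_zero_iff_of_nonneg fun ψ _ => Complex.normSq_nonneg _).mp h2 ⟨χ₀, hχ₀⟩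
      (Finset.mem_univ _)
    rw [Complex.normSq_eq_zero, contrib_conj (χ := χ₀) (ψ := i.1), map_eq_zero] at h3
    exact hne ⟨χ₀, hχ₀⟩ i h0 h3
  rw [Nat.card_eq_fintype_card]
  rcases (by omega : blockRank p b = 1 ∨ blockRank p b = 2) with h1 | h2
  · choose w hwI hw0 hwe using hdiv
    have := card_le_of_sum (m := 1) (p ^ blockDefect p B) (fun i (_ : Unit) => w i)
      (fun i _ => p ^ blockHeight p B ((i : IrrCharacter G) : G → ℂ)) (fun i _ => hwI i)
      (fun i _ σ => by
        obtain ⟨r, hr, he⟩ := contrib_self_nonneg (p := p) (b := b) i.1 σ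
        have hpp : (0 : ℝ) < ((p ^ blockHeight p B ((i : IrrCharacter G) : G → ℂ) : ℕ) : ℝ) :=
          Nat.cast_pos.mpr (pow_pos hp.out.pos _)
        refine ⟨r / _, div_nonneg hr hpp.le, ?_⟩
        rw [hwe i, map_mul, map_natCast] at he
        rw [Complex.ofReal_div, ← he, Complex.ofReal_natCast,
          mul_div_cancel_left₀ _ (Nat.cast_ne_zero.mpr (pow_ne_zero _ hp.out.ne_zero))])
      (fun i => by
        rw [Fintype.sum_unique, if_neg (hw0 i)]
        exact pow_pos hp.out.pos _)
      (by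
        rw [h1, one_mul] at htr
        rw [← htr]
        exact Finset.sum_congr rfl fun i _ => by rw [Fintype.sum_unique, hwe i])
    rwa [one_mul] at this
  have hmem : x ∈ Subgroup.centralizer ({x} : Set G) := Subgroup.mem_centralizer_singleton_iff.mpr rfl
  obtain ⟨A, u, huI, huc, hA, hform⟩ := exists_secForm hM hb hmem
  obtain ⟨φ₀, φ₁, hne01, hF⟩ := Finset.card_eq_two.mp ((blockRank_eq_card hM hb).symm.trans h2)
  have m0 : φ₀ ∈ ibrOf hM b := by rw [hF]; simp
  have m1 : φ₁ ∈ ibrOf hM b := by rw [hF]; simp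
  have hsymm : A φ₁ φ₀ = A φ₀ φ₁ := by
    have h3 := congrArg conj (hA φ₀ m0 φ₁ m1)
    rw [map_intCast, map_mul, map_div₀, map_natCast, map_natCast, map_sum] at h3
    apply Int.cast_injective (α := ℂ)
    rw [h3, hA φ₁ m1 φ₀ m0]
    congr 1
    exact Finset.sum_congr rfl fun s _ => by rw [map_mul, Complex.conj_conj, mul_comm]
  set α := A φ₀ φ₀
  set β := A φ₀ φ₁
  set γ := A φ₁ φ₁
  have hquad : ∀ a c : ℤ, (a ≠ 0 ∨ c ≠ 0) → 0 < a * a * α + 2 * a * c * β + c * c * γ := by
    intro a c hac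
    set N : ℝ := ∑ s, Complex.normSq ((a : ℂ) * φ₀ s + (c : ℂ) * φ₁ s) with hN
    have hNpos : 0 < N := by
      refine lt_of_le_of_ne (Finset.sum_nonneg fun s _ => Complex.normSq_nonneg _) fun h0 => ?_
      have h4 := (Finset.sum_eq_zero_iff_of_nonneg fun s _ => Complex.normSq_nonneg _).mp h0.symm
      have h5 := ibrF_independent hM (s := {φ₀, φ₁}) (hF ▸ ibrOf_subset hM b)
        (c := fun φ => if φ = φ₀ then (a : ℂ) else (c : ℂ)) (by
          rw [Finset.sum_pair hne01, if_pos rfl, if_neg hne01.symm]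
          funext s
          exact Complex.normSq_eq_zero.mp (h4 s (Finset.mem_univ _)))
      rcases hac with ha | hc
      · have := h5 φ₀ (by simp)
        rw [if_pos rfl] at this
        exact ha (by exact_mod_cast this)
      · have := h5 φ₁ (by simp)
        rw [if_neg hne01.symm] at this
        exact hc (by exact_mod_cast this)
    have heq : ((a * a * α + 2 * a * c * β + c * c * γ : ℤ) : ℂ) =
        ((((p ^ blockDefect p b : ℕ) : ℝ) / (Nat.card (Subgroup.centralizer ({x} : Set G)) : ℝ) * N : ℝ) : ℂ) := by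
      push_cast
      rw [hN, Complex.ofReal_sum]
      simp only [Complex.ofReal_natCast, ← Complex.mul_conj, map_add, map_mul, map_intCast]
      rw [show (2 : ℂ) * a * c * (β : ℂ) = a * c * (β : ℂ) + a * c * ((A φ₁ φ₀ : ℤ) : ℂ) by rw [hsymm]; ring,
        hA φ₀ m0 φ₀ m0, hA φ₀ m0 φ₁ m1, hA φ₁ m1 φ₀ m0, hA φ₁ m1 φ₁ m1]
      push_cast
      simp only [Finset.mul_sum, ← Finset.sum_add_distrib]
      exact Finset.sum_congr rfl fun s _ => by ring
    have h6 : (((a * a * α + 2 * a * c * β + c * c * γ : ℤ)) : ℝ) =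
        ((p ^ blockDefect p b : ℕ) : ℝ) / (Nat.card (Subgroup.centralizer ({x} : Set G)) : ℝ) * N := by
      exact_mod_cast heq
    have h7 : (0 : ℝ) < (((a * a * α + 2 * a * c * β + c * c * γ : ℤ)) : ℝ) := h6 ▸ mul_pos (div_pos
      (Nat.cast_pos.mpr (pow_pos hp.out.pos _)) (Nat.cast_pos.mpr Nat.card_pos)) hNpos
    exact_mod_cast h7
  have hα : 0 < α := by
    have := hquad 1 0 (Or.inl one_ne_zero)
    simpa using this
  have hD : 0 < α * γ - β ^ 2 := by
    have h8 := hquad β (-α) (Or.inr (neg_ne_zero.mpr hα.ne'))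
    refine pos_of_mul_pos_right (a := α) ?_ hα.le
    linarith [show β * β * α + 2 * β * (-α) * β + -α * -α * γ = α * (α * γ - β ^ 2) by ring]
  have hform2 : ∀ i j : B, twoForm α β γ (fun k : B => u k φ₀) (fun k : B => u k φ₁) i j =
      contrib p x b i j := fun i j => by
    rw [hform, hF, Finset.sum_pair hne01, Finset.sum_pair hne01, Finset.sum_pair hne01, hsymm, twoForm]
    ring
  exact two_form_bound (p := p) hα hD hq hp.out.two_le
    (fun i : B => blockHeight p B ((i : IrrCharacter G) : G → ℂ))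
    (fun k : B => u k φ₀) (fun k : B => u k φ₁) (fun i => huI _ _) (fun i => huI _ _)
    (fun σ i => huc σ _ _) (fun σ i => huc σ _ _)
    (fun i j => by simp only [hform2]; exact hsum i j)
    (by simp only [hform2]; rw [htr, h2])
    (fun i j hi => by rw [hform2]; exact hne i j hi)
    (fun i => by simp only [hform2]; exact hdiv i)

end CfsgLib.BlockArith
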