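import Cfsg.Agent.Lib.BlockArith.QuotientBound
import Cfsg.Agent.Lib.BlockArith.MajorRankTwo
import Cfsg.Agent.Lib.Blocks.CyclicMain
import Cfsg.Agent.Lib.BrauerPairs.MajorSubsection

/-!
# Major subsections whose block has cyclic defect modulo a central `p`-subgroup

* `exists_cyclic_form`: the regular inner products of a block with cyclic defect group in the
  coordinates of its non-exceptional characters: `q [i = j] - m δ_i δ_j`.
* `card_le_rank_mul_pow`: `k(B) ≤ l(b) p ^ d` for a major subsection.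
* `isCyclic_defect_inflSet`: defect groups of `b` and of its quotient block.
* `card_le_of_cyclic_quotient`: then `k(B) ≤ p ^ d(B)`.
-/

set_option autoImplicit false

noncomputable section

namespace CfsgLib.CycQuotBound

open Cfsg CfsgLib.Char CfsgLib.Blocks CfsgLib.BlockArith CfsgLib.BrauerPairs
open scoped ComplexConjugate Classical

universe u

variable {M : Ideal AlgInt} [M.IsMaximal] {p : ℕ} [hp : Fact p.Prime]

section Form

variable {H : Type u} [Group H] [Fintype H]

/-- An idempotent rational matrix of full trace is the identity. -/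
theorem eq_one_of_idem {n : Type*} [Fintype n] [DecidableEq n] (P : Matrix n n ℚ) (h : P * P = P)
    (htr : P.trace = (Fintype.card n : ℚ)) : P = 1 := by
  have h1 : (1 - P) * (1 - P) = 1 - P := by
    rw [mul_sub, sub_mul, sub_mul, one_mul, mul_one, one_mul, h, sub_self, sub_zero]
  have hf : LinearMap.IsProj (LinearMap.range (Matrix.toLin' (1 - P))) (Matrix.toLin' (1 - P)) := by
    refine ⟨fun x => LinearMap.mem_range_self _ x, ?_⟩
    rintro x ⟨y, rfl⟩
    rw [← LinearMap.comp_apply, ← Matrix.toLin'_mul, h1]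
  have h0 := LinearMap.IsProj.trace hf
  rw [Matrix.trace_toLin'_eq, Matrix.trace_sub, Matrix.trace_one, htr, sub_self, eq_comm,
    Nat.cast_eq_zero, Submodule.finrank_eq_zero, LinearMap.range_eq_bot,
    LinearEquiv.map_eq_zero_iff, sub_eq_zero] at h0
  exact h0.symm

/-- The trace of the block matrix. -/
theorem sum_blockMat_self (hM : IsPModular p M) {B : Set (IrrCharacter H)} (hB : IsPBlock M B) :
    ∑ i ∈ Finset.univ.filter (fun i => i ∈ B), (blockMat p B i i : ℂ) =
      ((p ^ blockDefect p B * blockRank p B : ℕ) : ℂ) := by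
  have hN : (Nat.card H : ℂ) ≠ 0 := Nat.cast_ne_zero.mpr Nat.card_pos.ne'
  refine mul_left_cancel₀ hN ?_
  rw [Finset.mul_sum, Finset.sum_congr rfl fun i hi =>
    card_pow_mul_blockMat hM hB (Finset.mem_filter.mp hi).2 i,
    ← Finset.mul_sum, Nat.cast_mul, mul_left_comm, card_mul_blockRank hM hB,
    Finset.sum_filter]

/-- The data of a block with cyclic defect group needed for the bound. -/
theorem exists_cyclic_form (hM : IsPModular p M) {B : Set (IrrCharacter H)} (hB : IsPBlock M B)
    {D : Subgroup H} (hD : IsDefectGroup p M B D) (hcyc : IsCyclic D) (hne : D ≠ ⊥) :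
    ∃ (X : Finset (IrrCharacter H)) (δ : IrrCharacter H → ℤ) (m : ℕ), 1 ≤ m ∧
      X.card = blockRank p B ∧ (∀ χ ∈ X, χ ∈ B) ∧ (∀ χ, δ χ = 1 ∨ δ χ = -1) ∧
      m * X.card + 1 = p ^ blockDefect p B ∧
      (∀ χ ∈ X, ∀ ψ ∈ X, blockMat p B χ ψ =
        ((p ^ blockDefect p B : ℕ) : ℤ) * (if χ = ψ then 1 else 0) - (m : ℤ) * δ χ * δ ψ) ∧
      ∀ ψ ∈ B, ∃ c : IrrCharacter H → ℤ, ∀ g : H, ¬ p ∣ orderOf g →
        (ψ : H → ℂ) g = ∑ χ ∈ X, (c χ : ℂ) * (χ : H → ℂ) g := by
  obtain ⟨e₀, hmax⟩ := CfsgLib.BrauerPairs.exists_maximal_at hM hB hD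
  choose β hβ using fun y : D =>
    (CfsgLib.BrauerPairs.existsUnique_subpair hM (Subgroup.zpowers_le.mpr y.2) hmax.1.1).exists
  obtain ⟨S⟩ := CfsgLib.Blocks.Cyclic.exists_cycData hM hmax hcyc hne hβ
  set X := Finset.univ.filter (fun χ => χ ∈ B ∧ ∀ θ ∈ S.Θ, S.η θ ≠ χ) with hX
  set Y := S.Θ.image S.η with hY
  set q : ℕ := p ^ blockDefect p B with hq
  set m := S.Θ.card with hm
  set δ₀ := S.δ₀
  have hXY : Finset.univ.filter (fun χ => χ ∈ B) = X ∪ Y := by
    ext χ
    simp only [hX, hY, Finset.mem_filter, Finset.mem_univ, true_and, Finset.mem_union,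
      Finset.mem_image]
    constructor
    · intro h
      by_cases h2 : ∃ θ ∈ S.Θ, S.η θ = χ
      · exact Or.inr h2
      · exact Or.inl ⟨h, fun θ hθ he => h2 ⟨θ, hθ, he⟩⟩
    · rintro (⟨h, -⟩ | ⟨θ, hθ, rfl⟩)
      exacts [h, S.hηB θ hθ]
  have hdisj : Disjoint X Y := by
    rw [Finset.disjoint_left]
    intro χ h1 h2
    obtain ⟨θ, hθ, rfl⟩ := Finset.mem_image.mp h2
    exact (Finset.mem_filter.mp h1).2.2 θ hθ rfl
  have hXB : ∀ χ ∈ X, χ ∈ B := fun χ h => (Finset.mem_filter.mp h).2.1
  have hYc : Y.card = m := Finset.card_image_of_injOn S.hηinj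
  have hXc : X.card = blockRank p B := by
    have h1 : Nat.card B = X.card + Y.card := by
      rw [← Finset.card_union_of_disjoint hdisj, ← hXY, ← Fintype.card_subtype,
        Nat.card_eq_fintype_card]
    rw [S.hk, hYc] at h1
    rw [S.hl]
    omega
  have he : m * X.card + 1 = q := by
    rw [hXc, S.hl, ← S.hA, S.hΘcard, card_defectGroup hM hB hD, hq]
    have : 1 ≤ p ^ blockDefect p B := Nat.one_le_pow _ _ hp.out.pos
    omega
  have hm1 : 1 ≤ m := by
    rw [Nat.one_le_iff_ne_zero]
    intro h0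
    rw [h0, zero_mul, zero_add] at he
    exact hne (Subgroup.eq_bot_of_card_eq _ (by rw [card_defectGroup hM hB hD, ← hq, ← he]))
  have hδsq : ∀ χ, S.δ χ * S.δ χ = 1 := fun χ => by rcases S.hδ χ with h | h <;> simp [h]
  have hδ₀sq : δ₀ * δ₀ = 1 := by rcases S.hδ₀ with h | h <;> simp [δ₀, h]
  -- the kernel vectors
  have hker : ∀ χ ∈ B, ∀ η ∈ Y, δ₀ * blockMat p B χ η + ∑ ψ ∈ X, S.δ ψ * blockMat p B χ ψ = 0 := by
    intro χ hχ η hη
    obtain ⟨θ, hθ, rfl⟩ := Finset.mem_image.mp hη
    have hN : (Nat.card H : ℂ) ≠ 0 := Nat.cast_ne_zero.mpr Nat.card_pos.ne'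
    apply Int.cast_injective (α := ℂ)
    refine mul_left_cancel₀ hN ?_
    push_cast
    rw [mul_zero, mul_add, Finset.mul_sum, mul_left_comm, card_pow_mul_blockMat hM hB hχ,
      Finset.sum_congr rfl fun ψ _ => show (Nat.card H : ℂ) * ((S.δ ψ : ℂ) * (blockMat p B χ ψ : ℂ)) =
        ((p ^ blockDefect p B : ℕ) : ℂ) * ∑ g : H, (if p ∣ orderOf g then 0 else
          (χ : H → ℂ) g * conj ((S.δ ψ : ℂ) * (ψ : H → ℂ) g)) by
        rw [mul_left_comm, card_pow_mul_blockMat hM hB hχ, mul_left_comm, Finset.mul_sum]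
        congr 1
        refine Finset.sum_congr rfl fun g _ => ?_
        split_ifs
        · rw [mul_zero]
        · rw [map_mul, map_intCast]; ring,
      mul_left_comm (δ₀ : ℂ), ← Finset.mul_sum, ← mul_add, Finset.mul_sum,
      Finset.sum_comm (s := X), ← Finset.sum_add_distrib]
    refine mul_eq_zero_of_right _ (Finset.sum_eq_zero fun g _ => ?_)
    split_ifs with hg
    · simp
    · have h := congrArg conj (S.hreg θ hθ g hg)
      rw [map_add, map_mul, map_intCast, map_sum, map_zero] at h
      rw [← Finset.mul_sum, ← hX] at *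
      linear_combination (χ : H → ℂ) g * h
  let W : Matrix X X ℤ := Matrix.of fun i j => blockMat p B i.1 j.1
  let d : X → ℤ := fun i => S.δ i.1
  let s : X → ℤ := fun i => ∑ j, W i j * d j
  have hs : ∀ i : X, ∀ η ∈ Y, blockMat p B i.1 η = -(δ₀ * s i) := fun i η hη => by
    have h := hker i.1 (hXB _ i.2) η hη
    rw [← Finset.sum_coe_sort X] at h
    rw [show s i = ∑ ψ : X, S.δ ψ.1 * blockMat p B i.1 ψ.1 from
      Finset.sum_congr rfl fun ψ _ => mul_comm _ _]
    linear_combination δ₀ * h - blockMat p B i.1 η * hδ₀sq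
  have hdiag : ∀ η ∈ Y, blockMat p B η η = ∑ i : X, d i * s i := fun η hη => by
    have hηB : η ∈ B := by
      obtain ⟨θ, hθ, rfl⟩ := Finset.mem_image.mp hη
      exact S.hηB θ hθ
    have h := hker η hηB η hη
    rw [← Finset.sum_coe_sort X, Finset.sum_congr rfl fun (ψ : X) _ =>
      show S.δ ψ.1 * blockMat p B η ψ.1 = -(δ₀ * (d ψ * s ψ)) by
        rw [blockMat_symm (p := p), hs ψ η hη]; ring,
      Finset.sum_neg_distrib, ← Finset.mul_sum] at h
    linear_combination δ₀ * h - (blockMat p B η η - ∑ i : X, d i * s i) * hδ₀sq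
  let C : Matrix X X ℤ := 1 + (m : ℤ) • Matrix.vecMulVec d d
  have hWC : ∀ i j, (W * C) i j = W i j + (m : ℤ) * s i * d j := fun i j => by
    rw [mul_add, mul_one, Matrix.add_apply, Matrix.mul_smul, Matrix.smul_apply, smul_eq_mul,
      Matrix.mul_apply]
    simp only [Matrix.vecMulVec_apply, s, Finset.mul_sum, Finset.sum_mul]
    congr 1
    exact Finset.sum_congr rfl fun k _ => by ring
  have hWW : W * C * W = (q : ℤ) • W := by
    ext i j
    rw [Matrix.mul_apply, Matrix.smul_apply, smul_eq_mul]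
    have h := blockMat_sum_mul hM hB (hXB _ i.2) (hXB _ j.2)
    rw [← Finset.sum_filter_of_ne (p := fun k => k ∈ B) (fun k _ hk => by
        by_contra hk'
        exact hk (by rw [blockMat, if_neg fun h => hk' h.2, zero_mul])),
      hXY, Finset.sum_union hdisj, ← Finset.sum_coe_sort X] at h
    rw [Finset.sum_congr rfl fun η hη => show blockMat p B i.1 η * blockMat p B η j.1 = s i * s j by
        rw [blockMat_symm (p := p) η j.1, hs i η hη, hs j η hη]
        linear_combination (s i * s j) * hδ₀sq, Finset.sum_const, hYc, nsmul_eq_mul] at h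
    have e : ∑ k : X, (W * C) i k * W k j =
        (∑ k : X, W i k * W k j) + (m : ℤ) * (s i * s j) := by
      rw [Finset.sum_congr rfl fun (k : X) _ => show (W * C) i k * W k j =
        W i k * W k j + (m : ℤ) * s i * (W j k * d k) by
          rw [hWC, show W j k = W k j from blockMat_symm _ _]; ring,
        Finset.sum_add_distrib, ← Finset.mul_sum]
      simp only [s]; ring
    rw [e]
    exact h
  have htr : (W * C).trace = (q : ℤ) * X.card := by
    apply Int.cast_injective (α := ℂ)
    have h := sum_blockMat_self (p := p) hM hB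
    rw [hXY, Finset.sum_union hdisj, ← Finset.sum_coe_sort X,
      Finset.sum_congr rfl fun η hη => congrArg (Int.cast (R := ℂ)) (hdiag η hη), Finset.sum_const,
      hYc, ← hXc, nsmul_eq_mul] at h
    push_cast [Matrix.trace, Matrix.diag, hWC, hq] at h ⊢
    rw [Finset.sum_add_distrib, ← h]
    congr 1
    rw [Finset.mul_sum]
    exact Finset.sum_congr rfl fun i _ => by ring
  have hWC1 : W * C = (q : ℤ) • 1 := by
    have hq0 : (q : ℚ) ≠ 0 := Nat.cast_ne_zero.mpr (pow_ne_zero _ hp.out.ne_zero)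
    have hsq : (W * C) * (W * C) = (q : ℤ) • (W * C) := by
      rw [← Matrix.mul_assoc, hWW, Matrix.smul_mul]
    have h := eq_one_of_idem ((q : ℚ)⁻¹ • (W * C).map (Int.cast : ℤ → ℚ))
      (by
        ext i j
        have h2 := congrArg (Int.cast (R := ℚ)) (congrFun (congrFun hsq i) j)
        simp only [Matrix.smul_apply, smul_eq_mul, Matrix.mul_apply, Int.cast_sum, Int.cast_mul,
          Int.cast_natCast, Matrix.map_apply] at h2 ⊢
        rw [Finset.sum_congr rfl fun k _ => mul_mul_mul_comm (q : ℚ)⁻¹ _ (q : ℚ)⁻¹ _,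
          ← Finset.mul_sum, h2]
        field_simp)
      (by
        rw [Matrix.trace_smul, smul_eq_mul, Fintype.card_coe]
        have h2 := congrArg (Int.cast (R := ℚ)) htr
        simp only [Matrix.trace, Matrix.diag, Matrix.map_apply, Int.cast_sum, Int.cast_mul,
          Int.cast_natCast] at h2 ⊢
        rw [h2]
        field_simp)
    ext i j
    have h2 := congrFun (congrFun h i) j
    rw [Matrix.smul_apply, Matrix.map_apply, smul_eq_mul, inv_mul_eq_iff_eq_mul₀ hq0] at h2
    rw [Matrix.smul_apply, smul_eq_mul]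
    apply Int.cast_injective (α := ℚ)
    rw [h2, Matrix.one_apply, Matrix.one_apply]
    split_ifs <;> simp
  refine ⟨X, S.δ, m, hm1, hXc, hXB, S.hδ, he, fun χ hχ ψ hψ => ?_, fun ψ hψ => ?_⟩
  · let U : Matrix X X ℤ := (q : ℤ) • 1 - (m : ℤ) • Matrix.vecMulVec d d
    have hvv : Matrix.vecMulVec d d * Matrix.vecMulVec d d = (X.card : ℤ) • Matrix.vecMulVec d d := by
      ext i j
      simp only [Matrix.mul_apply, Matrix.vecMulVec_apply, Matrix.smul_apply, smul_eq_mul]
      rw [Finset.sum_congr rfl fun k _ => show d i * d k * (d k * d j) = d i * d j by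
        linear_combination (d i * d j) * hδsq k.1, Finset.sum_const, Finset.card_univ,
        Fintype.card_coe, nsmul_eq_mul]
    have hCU : C * U = (q : ℤ) • (1 : Matrix X X ℤ) := by
      have hez : (m : ℤ) * (X.card : ℤ) + 1 = (q : ℤ) := by exact_mod_cast he
      simp only [C, U, add_mul, mul_sub, one_mul, Matrix.smul_mul, Matrix.mul_smul, mul_one, hvv,
        smul_smul]
      ext i j
      simp only [Matrix.add_apply, Matrix.sub_apply, Matrix.smul_apply, smul_eq_mul]
      linear_combination -((m : ℤ) * Matrix.vecMulVec d d i j) * hez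
    have hWU : (q : ℤ) • W = (q : ℤ) • U := by
      calc (q : ℤ) • W = W * (C * U) := by rw [hCU, Matrix.mul_smul, mul_one]
        _ = _ := by rw [← Matrix.mul_assoc, hWC1, Matrix.smul_mul, one_mul]
    have h := congrFun (congrFun hWU ⟨χ, hχ⟩) ⟨ψ, hψ⟩
    simp only [Matrix.smul_apply, smul_eq_mul] at h
    have h2 := mul_left_cancel₀ (Int.natCast_ne_zero.mpr (pow_ne_zero _ hp.out.ne_zero)) h
    simp only [W, U, d, Matrix.of_apply, Matrix.sub_apply, Matrix.smul_apply, Matrix.vecMulVec_apply,
      Matrix.one_apply, smul_eq_mul, Subtype.mk.injEq] at h2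
    rw [h2, hq]
    push_cast
    ring
  · by_cases h : ψ ∈ X
    · refine ⟨fun χ => if χ = ψ then 1 else 0, fun g _ => ?_⟩
      simp [Finset.sum_ite_eq', h]
    · have hY' : ψ ∈ Y := by
        have : ψ ∈ Finset.univ.filter (fun χ => χ ∈ B) := by simpa using hψ
        rw [hXY, Finset.mem_union] at this
        exact this.resolve_left h
      obtain ⟨θ, hθ, rfl⟩ := Finset.mem_image.mp hY'
      refine ⟨fun χ => -(δ₀ * S.δ χ), fun g hg => ?_⟩
      have h1 := S.hreg θ hθ g hg
      rw [← hX] at h1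
      have h2 : (δ₀ : ℂ) * (δ₀ : ℂ) = 1 := by exact_mod_cast hδ₀sq
      push_cast
      simp only [neg_mul, mul_assoc, Finset.sum_neg_distrib, ← Finset.mul_sum]
      linear_combination (δ₀ : ℂ) * h1 - (S.η θ : H → ℂ) g * h2

end Form

variable {G : Type u} [Group G] [Fintype G] {x : G}
  [Fintype (Subgroup.centralizer ({x} : Set G))]
  {B : Set (IrrCharacter G)} {b : Set (IrrCharacter (Subgroup.centralizer ({x} : Set G)))}

theorem contrib_ne_zero (hM : IsPModular p M) (hx : ∃ k : ℕ, orderOf x = p ^ k)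
    (hind : IsInducedBlock M (Subgroup.centralizer ({x} : Set G)) b B)
    (hd : blockDefect p b = blockDefect p B) {χ : IrrCharacter G} (hχ : χ ∈ B) :
    contrib p x b χ χ ≠ 0 := by
  obtain ⟨-, hB, -⟩ := (isInducedBlock_iff _).mp hind
  obtain ⟨χ₀, hχ₀, h0⟩ := exists_height_zero hM hB
  intro hzero
  obtain ⟨w, -, hw, he⟩ := contrib_height hM hx hind hd hχ₀ h0 hχ
  have h := contrib_sum_mul hM hx hind χ χ
  rw [hzero, mul_zero] at h
  have hsum : ∑ ψ : IrrCharacter G, (if ψ ∈ B then
      Complex.normSq (contrib p x b χ ψ) else 0) = 0 := by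
    apply Complex.ofReal_injective
    rw [Complex.ofReal_zero, ← h, Complex.ofReal_sum]
    refine Finset.sum_congr rfl fun ψ _ => ?_
    split_ifs
    · rw [contrib_conj χ ψ, Complex.mul_conj]
    · rfl
  have h5 := (Finset.sum_eq_zero_iff_of_nonneg fun ψ _ => by
    split_ifs <;> [exact Complex.normSq_nonneg _; exact le_rfl]).mp hsum χ₀ (Finset.mem_univ _)
  rw [if_pos hχ₀, Complex.normSq_eq_zero, contrib_conj χ₀ χ,
    map_eq_zero_iff _ (starRingEnd ℂ).injective, he] at h5
  exact mul_ne_zero (Nat.cast_ne_zero.mpr (pow_ne_zero _ hp.out.ne_zero)) hw h5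

theorem sum_contrib_block (hM : IsPModular p M) (hx : ∃ k : ℕ, orderOf x = p ^ k)
    (hind : IsInducedBlock M (Subgroup.centralizer ({x} : Set G)) b B)
    (hd : blockDefect p b = blockDefect p B) :
    ∑ χ : B, contrib p x b χ χ = ((p ^ blockDefect p B * blockRank p b : ℕ) : ℂ) := by
  rw [Nat.cast_mul, ← hd, ← sum_contrib_self hM hx hind, ← Finset.sum_filter]
  exact (Finset.sum_subtype (p := fun k => k ∈ B) _ (by simp) (fun χ => contrib p x b χ χ)).symm

/-- `k(B) ≤ l(b) p ^ d` for a major subsection. -/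
theorem card_le_rank_mul_pow (hM : IsPModular p M) (hx : ∃ k : ℕ, orderOf x = p ^ k)
    (hind : IsInducedBlock M (Subgroup.centralizer ({x} : Set G)) b B)
    (hd : blockDefect p b = blockDefect p B) :
    Nat.card B ≤ blockRank p b * p ^ blockDefect p B := by
  rw [Nat.card_eq_fintype_card]
  have := card_le_of_sum (m := 1) (p ^ blockDefect p B * blockRank p b)
    (fun (i : B) (_ : Unit) => contrib p x b i i) (fun _ _ => 1)
    (fun i _ => by
      obtain ⟨w, hw, he, -⟩ := contrib_dvd hM hx hind hd i.2 i.2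
      rw [he]
      exact (isIntegral_algebraMap (R := ℤ) (A := ℂ)
        (x := ((p ^ blockHeight p B ((i : IrrCharacter G) : G → ℂ) : ℕ) : ℤ))).mul hw)
    (fun i _ σ => contrib_self_nonneg (p := p) (b := b) i.1 σ)
    (fun i => by simp [contrib_ne_zero hM hx hind hd i.2])
    (by simp only [Fintype.sum_unique, Nat.cast_one, one_mul]; exact sum_contrib_block hM hx hind hd)
  rw [one_mul] at this
  exact this.trans_eq (mul_comm _ _)

/-- The data of a defect class in the quotient. -/
theorem exists_image_class {C : Type u} [Group C] [Fintype C] (hM : IsPModular p M)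
    {Q : Subgroup C} [Q.Normal] [Fintype (C ⧸ Q)] (hQ : IsPGroup p Q)
    (hC : ∃ k : ℕ, (Subgroup.centralizer (Q : Set C)).index = p ^ k)
    {c : Set (IrrCharacter C)} (hc : IsPBlock M c) {D : Subgroup C} (hD : IsDefectGroup p M c D) :
    ∃ ψ : IrrCharacter (C ⧸ Q), ψ ∈ inflSet Q c ∧ ∃ g : C ⧸ Q, bomega ψ (zclass M g) ≠ 0 ∧
      IsClassDefect p g (D.map (QuotientGroup.mk' Q)) ∧
      Nat.card (D.map (QuotientGroup.mk' Q)) * Nat.card Q = Nat.card D := by
  have hc' := isPBlock_inflSet hM hQ hC hc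
  have hQD : Q ≤ D := normal_le_defect hM hc hD hQ
  obtain ⟨g, hg, hgD⟩ := isDefectGroup_iff.mp hD
  obtain ⟨ψ, hψ⟩ := IsPBlock.nonempty hc'
  set η : IrrCharacter C := ⟨_, CfsgLib.CharNormal.isIrr_comp_mk' Q ψ.2⟩ with hη
  have hω := ((isDefectClass_iff hc (show η ∈ c from hψ) g).mp hg).2
  set π := QuotientGroup.mk' Q
  set Cg := Subgroup.centralizer ({g} : Set C)
  set Cg' := Subgroup.centralizer ({π g} : Set (C ⧸ Q))
  have hle : Cg.map π ≤ Cg' := by
    rintro _ ⟨y, hy, rfl⟩
    have hy' := Subgroup.mem_centralizer_singleton_iff.mp hy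
    refine Subgroup.mem_centralizer_singleton_iff.mpr ?_
    rw [← map_mul, hy', map_mul]
  have hcg : Cg ≤ Cg'.comap π := Subgroup.map_le_iff_le_comap.mp hle
  obtain ⟨n, hn⟩ : Cg'.index ∣ Cg.index := by
    rw [← Subgroup.index_comap_of_surjective Cg' (QuotientGroup.mk'_surjective Q)]
    exact Subgroup.index_dvd_of_le hcg
  have hval : centralChar (η : C → ℂ) g = (n : ℂ) * centralChar (ψ : C ⧸ Q → ℂ) (π g) := by
    show (Cg.index : ℂ) * (ψ : C ⧸ Q → ℂ) (π g) / (ψ : C ⧸ Q → ℂ) ((1 : C) : C ⧸ Q) = _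
    rw [centralChar, hn, QuotientGroup.mk_one]
    push_cast
    ring
  have hmem : centralChar (ψ : C ⧸ Q → ℂ) (π g) ∈ locRing M :=
    algInt_le_locRing M (isIntegral_centralChar ψ.2 _)
  have hpn : ¬ p ∣ n := by
    intro hdiv
    refine hω ((bomega_zclass_eq_zero_iff η g).mpr ?_)
    have h1 : res M ((n : locRing M) * ⟨_, hmem⟩) = 0 := by
      have : CharP (Res M) p := res_charP M hM
      rw [map_mul, map_natCast, (CharP.cast_eq_zero_iff (Res M) p n).mpr hdiv, zero_mul]
    have h2 := (res_eq_zero_iff M _).mp h1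
    rw [hval]
    simpa using h2
  have hω' : bomega ψ (zclass M (π g)) ≠ 0 := by
    intro h
    have h1 : res M ((n : locRing M) * ⟨_, hmem⟩) = 0 := by
      have h3 : res M ⟨_, hmem⟩ = 0 :=
        (res_eq_zero_iff M _).mpr ((bomega_zclass_eq_zero_iff ψ _).mp h)
      rw [map_mul, h3, mul_zero]
    refine hω ((bomega_zclass_eq_zero_iff η g).mpr ?_)
    rw [hval]
    simpa using (res_eq_zero_iff M _).mp h1
  -- the image is a Sylow subgroup of the centraliser
  obtain ⟨P, hP⟩ := hgD
  have hDg : D ≤ Cg := hP ▸ Subgroup.map_subtype_le _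
  set E := D.map π with hE
  have hEg : E ≤ Cg' := (Subgroup.map_mono hDg).trans hle
  have hDp : Nat.card D = p ^ (Nat.card Cg).factorization p := by
    rw [hP, Subgroup.card_map_of_injective (Subgroup.subtype_injective _), P.card_eq_multiplicity]
  have hEc : Nat.card E * Nat.card Q = Nat.card D := by
    have h1 := Subgroup.card_eq_card_quotient_mul_card_subgroup (Q.subgroupOf D)
    rw [card_subgroupOf' hQD] at h1
    rw [h1, ← Subgroup.relIndex_ker D π, QuotientGroup.ker_mk']
    rfl
  have hvE : Nat.card E = p ^ (Nat.card Cg').factorization p := by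
    obtain ⟨kQ, hkQ⟩ := IsPGroup.iff_card.mp hQ
    obtain ⟨kE, hkE⟩ := IsPGroup.iff_card.mp ((IsDefectGroup.isPGroup hD).map π)
    rw [← hE] at hkE
    have hv : kE + kQ = (Nat.card Cg).factorization p := by
      refine Nat.pow_right_injective hp.out.two_le ?_
      show p ^ _ = p ^ _
      rw [pow_add, ← hkE, ← hkQ, hEc, hDp]
    have hn0 : n ≠ 0 := fun h => hpn (h ▸ dvd_zero p)
    have h3 : Nat.card Cg' * Nat.card Q = Nat.card Cg * n := by
      have e1 := Subgroup.card_mul_index Cg
      have e2 := Subgroup.card_mul_index Cg'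
      have e3 := Subgroup.card_eq_card_quotient_mul_card_subgroup Q
      refine mul_left_cancel₀ (Subgroup.index_ne_zero_of_finite (H := Cg')) ?_
      calc Cg'.index * (Nat.card Cg' * Nat.card Q) = Nat.card C := by
            rw [← mul_assoc, mul_comm Cg'.index, e2, ← e3]
        _ = Cg'.index * (Nat.card Cg * n) := by rw [← e1, hn]; ring
    have h4 := congrArg (fun a => a.factorization p) h3
    rw [hkQ, Nat.factorization_mul Nat.card_pos.ne' (pow_ne_zero _ hp.out.ne_zero),
      Nat.factorization_mul Nat.card_pos.ne' hn0, Finsupp.add_apply, Finsupp.add_apply,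
      Nat.factorization_eq_zero_of_not_dvd hpn, Nat.Prime.factorization_pow hp.out,
      Finsupp.single_eq_same] at h4
    rw [hkE]
    congr 1
    omega
  have hcls : IsClassDefect p (π g) E := by
    refine ⟨Sylow.ofCard (E.subgroupOf Cg') (by rw [card_subgroupOf' hEg, hvE]), ?_⟩
    rw [Sylow.coe_ofCard, Subgroup.map_subgroupOf_eq_of_le hEg]
  exact ⟨ψ, hψ, π g, hω', hcls, hEc⟩

/-- A defect group of the quotient block lies in the image of a defect group. -/
theorem exists_defect_le_image {C : Type u} [Group C] [Fintype C] (hM : IsPModular p M)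
    {Q : Subgroup C} [Q.Normal] [Fintype (C ⧸ Q)] (hQ : IsPGroup p Q)
    (hC : ∃ k : ℕ, (Subgroup.centralizer (Q : Set C)).index = p ^ k)
    {c : Set (IrrCharacter C)} (hc : IsPBlock M c) {D : Subgroup C} (hD : IsDefectGroup p M c D)
    {D' : Subgroup (C ⧸ Q)} (hD' : IsDefectGroup p M (inflSet Q c) D') :
    ∃ y : C ⧸ Q, cj y D' ≤ D.map (QuotientGroup.mk' Q) := by
  obtain ⟨ψ, hψ, g, hω', hcls, -⟩ := exists_image_class hM hQ hC hc hD
  exact defect_le_of_bomega_ne_zero hM (isPBlock_inflSet hM hQ hC hc) hD' hψ hω' hcls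

/-- The order of the image of a defect group. -/
theorem card_image_eq {C : Type u} [Group C] [Fintype C] (hM : IsPModular p M)
    {Q : Subgroup C} [Q.Normal] [Fintype (C ⧸ Q)] (hQ : IsPGroup p Q)
    (hC : ∃ k : ℕ, (Subgroup.centralizer (Q : Set C)).index = p ^ k)
    {c : Set (IrrCharacter C)} (hc : IsPBlock M c) {D : Subgroup C} (hD : IsDefectGroup p M c D) :
    Nat.card (D.map (QuotientGroup.mk' Q)) = p ^ blockDefect p (inflSet Q c) := by
  obtain ⟨ψ, hψ, g, -, -, he⟩ := exists_image_class hM hQ hC hc hD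
  obtain ⟨k, hk⟩ := IsPGroup.iff_card.mp hQ
  rw [card_defectGroup hM hc hD, blockDefect_inflSet hM hQ hC hc, hk,
    Nat.Prime.factorization_pow hp.out, Finsupp.single_eq_same, pow_add] at he
  exact Nat.eq_of_mul_eq_mul_right (pow_pos hp.out.pos k) he

/-- A defect group of the quotient block is cyclic if the image of a defect group is. -/
theorem isCyclic_defect_inflSet {C : Type u} [Group C] [Fintype C] (hM : IsPModular p M)
    {Q : Subgroup C} [Q.Normal] [Fintype (C ⧸ Q)] (hQ : IsPGroup p Q)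
    (hC : ∃ k : ℕ, (Subgroup.centralizer (Q : Set C)).index = p ^ k)
    {c : Set (IrrCharacter C)} (hc : IsPBlock M c) {D : Subgroup C} (hD : IsDefectGroup p M c D)
    (hcyc : IsCyclic (D.map (QuotientGroup.mk' Q))) {D' : Subgroup (C ⧸ Q)}
    (hD' : IsDefectGroup p M (inflSet Q c) D') : IsCyclic D' := by
  obtain ⟨y, hy⟩ := exists_defect_le_image hM hQ hC hc hD hD'
  have : IsCyclic (cj y D') := by
    exact isCyclic_of_injective (Subgroup.inclusion hy) (Subgroup.inclusion_injective hy)
  have : IsCyclic (D'.map (MulAut.conj y).toMonoidHom) := this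
  exact isCyclic_of_surjective
    (D'.equivMapOfInjective (MulAut.conj y).toMonoidHom (MulAut.conj y).injective).symm.toMonoidHom
    (MulEquiv.surjective _)

/-- A major subsection with cyclic defect modulo a central `p`-subgroup gives `k(B) ≤ p ^ d`. -/
theorem card_le_of_cyclic_quotient (hM : IsPModular p M) (hx : ∃ k : ℕ, orderOf x = p ^ k)
    (hind : IsInducedBlock M (Subgroup.centralizer ({x} : Set G)) b B)
    (hd : blockDefect p b = blockDefect p B)
    (Q : Subgroup (Subgroup.centralizer ({x} : Set G))) [Q.Normal]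
    [Fintype ((Subgroup.centralizer ({x} : Set G)) ⧸ Q)] (hQ : IsPGroup p Q)
    (hC : ∃ k : ℕ, (Subgroup.centralizer (Q : Set (Subgroup.centralizer ({x} : Set G)))).index = p ^ k)
    {D : Subgroup (Subgroup.centralizer ({x} : Set G))} (hD : IsDefectGroup p M b D)
    (hcyc : IsCyclic (D.map (QuotientGroup.mk' Q))) :
    Nat.card B ≤ p ^ blockDefect p B := by
  have hb := hind.1
  set bb := inflSet Q b with hbb
  have hbb' : IsPBlock M bb := isPBlock_inflSet hM hQ hC hb
  have hlb : blockRank p b = blockRank p bb := blockRank_inflSet hM hQ hC hb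
  obtain ⟨D', hD'⟩ := exists_isDefectGroup (p := p) hbb'
  rcases eq_or_ne D' ⊥ with hbot | hne
  · refine card_le_of_major_rank_le_two hM hx hind hd ?_
    have h0 : blockDefect p bb = 0 := by
      have h := card_defectGroup hM hbb' hD'
      rw [hbot, Subgroup.card_bot] at h
      by_contra h0
      exact (Nat.one_lt_pow h0 hp.out.one_lt).ne h
    rw [hlb, blockRank_eq_one_of_defect_zero hM hbb' h0]
    exact one_le_two
  obtain ⟨X, δ, m, hm, hXc, hXB, hδ, he, hW, hcX⟩ :=
    exists_cyclic_form hM hbb' hD' (isCyclic_defect_inflSet hM hQ hC hb hD hcyc hD') hne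
  set q := p ^ blockDefect p bb with hq
  have hmem : x ∈ Subgroup.centralizer ({x} : Set G) := Subgroup.mem_centralizer_singleton_iff.mpr rfl
  -- coordinates
  have hcomb : ∀ φ : IrrCharacter (Subgroup.centralizer ({x} : Set G)), ∃ c : IrrCharacter ((Subgroup.centralizer ({x} : Set G)) ⧸ Q) → ℤ,
      φ ∈ b → ∀ g : (Subgroup.centralizer ({x} : Set G)), ¬ p ∣ orderOf g →
        (φ : (Subgroup.centralizer ({x} : Set G)) → ℂ) g =
          ∑ i : X, (c i.1 : ℂ) * (i.1 : ((Subgroup.centralizer ({x} : Set G)) ⧸ Q) → ℂ) g := by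
    intro φ
    by_cases hφ : φ ∈ b
    · obtain ⟨c, hc⟩ := exists_quotient_combination (P := Q) hM hQ hC hb hφ
      choose! c' hc' using hcX
      refine ⟨fun χ => ∑ ψ : IrrCharacter ((Subgroup.centralizer ({x} : Set G)) ⧸ Q), if ψ ∈ bb then c ψ * c' ψ χ else 0, fun _ g hg => ?_⟩
      have hgq : ¬ p ∣ orderOf (g : ((Subgroup.centralizer ({x} : Set G)) ⧸ Q)) := fun h => hg (h.trans (orderOf_map_dvd (QuotientGroup.mk' Q) g))
      rw [hc g hg]
      push_cast
      simp only [Finset.sum_mul]
      rw [Finset.sum_comm]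
      refine Finset.sum_congr rfl fun ψ _ => ?_
      split_ifs with hψ
      · rw [hc' ψ hψ (g : ((Subgroup.centralizer ({x} : Set G)) ⧸ Q)) hgq, ← Finset.sum_coe_sort X, Finset.mul_sum]
        refine Finset.sum_congr rfl fun i _ => ?_
        push_cast
        ring
      · simp
    · exact ⟨0, fun h => absurd h hφ⟩
  choose cc hcc using hcomb
  have hmul : ∀ (χ : IrrCharacter G) (φ : IrrCharacter (Subgroup.centralizer ({x} : Set G))), ∃ k : ℕ,
      classInner (fun c : (Subgroup.centralizer ({x} : Set G)) => (χ : G → ℂ) c)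
        (φ : (Subgroup.centralizer ({x} : Set G)) → ℂ) = k :=
    fun χ φ => classInner_char_nat (isCharacter_res _ (isCharacter_of_isIrr χ.2)) (isCharacter_of_isIrr φ.2)
  choose mult hmult using hmul
  let v : IrrCharacter G → X → ℂ := fun χ i => ∑ φ : IrrCharacter (Subgroup.centralizer ({x} : Set G)),
    if φ ∈ b then centScal φ ⟨x, hmem⟩ * (mult χ φ : ℂ) * (cc φ i.1 : ℂ) else 0
  have hvint : ∀ χ i, IsIntegral ℤ (v χ i) := fun χ i => IsIntegral.sum _ fun φ _ => by
    split_ifs
    · exact ((isIntegral_centScal φ (mem_center_centralizer hmem)).mul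
        (isIntegral_algebraMap (x := (mult χ φ : ℤ)))).mul (isIntegral_algebraMap (x := cc φ i.1))
    · exact isIntegral_zero
  have hvmem : ∀ χ i, ∀ (σ : ℂ ≃+* ℂ), σ (conj (v χ i)) = conj (σ (v χ i)) := fun χ i σ => by
    have : v χ i ∈ conjCommute σ := Subfield.sum_mem _ fun φ _ => by
      split_ifs
      · exact Subfield.mul_mem _ (Subfield.mul_mem _ (centScal_mem_conjCommute σ φ _) (natCast_mem _ _))
          (intCast_mem _ _)
      · exact zero_mem _
    exact this
  have hsec : ∀ (χ : IrrCharacter G) (s : (Subgroup.centralizer ({x} : Set G))), ¬ p ∣ orderOf s →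
      secPart x b χ s = ∑ i : X, v χ i * (i.1 : ((Subgroup.centralizer ({x} : Set G)) ⧸ Q) → ℂ) s := by
    intro χ s hs
    rw [secPart, blockPart_apply]
    simp only [v, Finset.sum_mul]
    rw [Finset.sum_comm]
    refine Finset.sum_congr rfl fun φ _ => ?_
    split_ifs with hφ
    · rw [classInner_shift hmem, hmult, hcc φ hφ s hs, Finset.mul_sum]
      exact Finset.sum_congr rfl fun i _ => by ring
    · simp
  obtain ⟨kQ, hQcard⟩ := IsPGroup.iff_card.mp hQ
  have hcd : blockDefect p b = blockDefect p bb + kQ := by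
    rw [blockDefect_inflSet hM hQ hC hb, ← hbb, hQcard, Nat.Prime.factorization_pow hp.out,
      Finsupp.single_eq_same]
  have hform : ∀ χ : IrrCharacter G, contrib p x b χ χ =
      ∑ i : X, ∑ j : X, (v χ i * conj (v χ j)) * (blockMat p bb i.1 j.1 : ℂ) := by
    intro χ
    have h2 : ∑ s : (Subgroup.centralizer ({x} : Set G)),
          (if p ∣ orderOf s then 0 else secPart x b χ s * conj (secPart x b χ s)) =
        ∑ r : ((Subgroup.centralizer ({x} : Set G)) ⧸ Q), if p ∣ orderOf r then 0 else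
          ∑ i : X, ∑ j : X, (v χ i * conj (v χ j)) * ((i.1 : ((Subgroup.centralizer ({x} : Set G)) ⧸ Q) → ℂ) r * conj ((j.1 : ((Subgroup.centralizer ({x} : Set G)) ⧸ Q) → ℂ) r)) := by
      rw [← sum_regular_quotient hQ hC]
      refine Finset.sum_congr rfl fun s _ => ?_
      split_ifs with hs
      · rfl
      · rw [hsec χ s hs, map_sum, Finset.sum_mul_sum]
        exact Finset.sum_congr rfl fun i _ => Finset.sum_congr rfl fun j _ => by rw [map_mul]; ring
    have h3 : ∑ r : ((Subgroup.centralizer ({x} : Set G)) ⧸ Q), (if p ∣ orderOf r then 0 else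
          ∑ i : X, ∑ j : X, (v χ i * conj (v χ j)) * ((i.1 : ((Subgroup.centralizer ({x} : Set G)) ⧸ Q) → ℂ) r * conj ((j.1 : ((Subgroup.centralizer ({x} : Set G)) ⧸ Q) → ℂ) r))) =
        ∑ i : X, ∑ j : X, (v χ i * conj (v χ j)) * ∑ r : ((Subgroup.centralizer ({x} : Set G)) ⧸ Q),
          (if p ∣ orderOf r then 0 else (i.1 : ((Subgroup.centralizer ({x} : Set G)) ⧸ Q) → ℂ) r * conj ((j.1 : ((Subgroup.centralizer ({x} : Set G)) ⧸ Q) → ℂ) r)) := by
      simp only [Finset.mul_sum]
      rw [eq_comm, Finset.sum_congr rfl fun i _ => Finset.sum_comm, Finset.sum_comm]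
      refine Finset.sum_congr rfl fun r _ => ?_
      split_ifs <;> simp
    have hNC : (Nat.card (Subgroup.centralizer ({x} : Set G)) : ℂ) =
        (Nat.card ((Subgroup.centralizer ({x} : Set G)) ⧸ Q) : ℂ) * (Nat.card Q : ℂ) := by
      rw [← Nat.cast_mul, ← Subgroup.card_eq_card_quotient_mul_card_subgroup]
    have hp0 : (p : ℂ) ≠ 0 := by exact_mod_cast hp.out.ne_zero
    have hN0 : (Nat.card ((Subgroup.centralizer ({x} : Set G)) ⧸ Q) : ℂ) ≠ 0 := Nat.cast_ne_zero.mpr Nat.card_pos.ne'
    rw [contrib, h2, h3, hNC, hcd, hQcard, Finset.mul_sum]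
    refine Finset.sum_congr rfl fun i _ => ?_
    rw [Finset.mul_sum]
    refine Finset.sum_congr rfl fun j _ => ?_
    have h4 := card_pow_mul_blockMat hM hbb' (hXB _ i.2) j.1
    push_cast [pow_add] at h4 ⊢
    field_simp
    linear_combination (-(v χ i * conj (v χ j))) * h4
  -- the terms
  let f : B → (X ⊕ X × X) → ℂ := fun χ => Sum.elim (fun i => v χ i * conj (v χ i))
    fun ij => ((δ ij.1.1 : ℂ) * v χ ij.1 - (δ ij.2.1 : ℂ) * v χ ij.2) *
      conj ((δ ij.1.1 : ℂ) * v χ ij.1 - (δ ij.2.1 : ℂ) * v χ ij.2)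
  let w : (X ⊕ X × X) → ℕ := Sum.elim (fun _ => 2) fun _ => m
  have hval : ∀ χ : B, ∑ k, (w k : ℂ) * f χ k = 2 * contrib p x b χ χ := by
    intro χ
    have hez : (m : ℂ) * (X.card : ℂ) + 1 = (q : ℂ) := by rw [hq]; exact_mod_cast he
    have hdd : ∀ i : X, (δ i.1 : ℂ) * δ i.1 = 1 := fun i => by
      rcases hδ i.1 with h | h <;> simp [h]
    rw [hform, Fintype.sum_sum_type, Fintype.sum_prod_type]
    simp only [w, f, Sum.elim_inl, Sum.elim_inr, map_sub, map_mul, map_intCast]
    rw [Finset.sum_congr rfl fun i _ => Finset.sum_congr rfl fun j _ =>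
      show (m : ℂ) * (((δ i.1 : ℂ) * v χ i - (δ j.1 : ℂ) * v χ j) *
          ((δ i.1 : ℂ) * conj (v χ i) - (δ j.1 : ℂ) * conj (v χ j))) =
        (m : ℂ) * (v χ i * conj (v χ i)) + (m : ℂ) * (v χ j * conj (v χ j)) -
          ((m : ℂ) * δ i.1 * δ j.1 * (v χ i * conj (v χ j)) +
           (m : ℂ) * δ j.1 * δ i.1 * (v χ j * conj (v χ i))) by
        linear_combination (m : ℂ) * (v χ i * conj (v χ i)) * hdd i +
          (m : ℂ) * (v χ j * conj (v χ j)) * hdd j]
    simp only [Finset.sum_sub_distrib, Finset.sum_add_distrib, Finset.sum_const, Finset.card_univ,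
      Fintype.card_coe, nsmul_eq_mul]
    rw [Finset.sum_comm (f := fun i j : X =>
      (m : ℂ) * δ j.1 * δ i.1 * (v χ j * conj (v χ i)))]
    have hblk : ∀ i j : X, v χ i * conj (v χ j) * (blockMat p bb i.1 j.1 : ℂ) =
        (if i = j then (q : ℂ) * (v χ i * conj (v χ i)) else 0) -
          (m : ℂ) * δ i.1 * δ j.1 * (v χ i * conj (v χ j)) := fun i j => by
      have h5 := congrArg (Int.cast (R := ℂ)) (hW i.1 i.2 j.1 j.2)
      by_cases hij : i = j
      · subst hij
        rw [if_pos rfl] at h5 ⊢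
        push_cast at h5
        linear_combination (v χ i * conj (v χ i)) * h5
      · rw [if_neg fun h => hij (Subtype.ext h)] at h5
        rw [if_neg hij]
        push_cast at h5
        linear_combination (v χ i * conj (v χ j)) * h5
    rw [Finset.sum_congr rfl fun i _ => Finset.sum_congr rfl fun j _ => hblk i j,
      Finset.sum_congr rfl fun i _ => Finset.sum_sub_distrib _ _, Finset.sum_sub_distrib,
      Finset.sum_congr rfl fun i _ => Fintype.sum_ite_eq i _]
    simp only [← Finset.mul_sum, Nat.cast_ofNat]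
    linear_combination (2 * ∑ i : X, v χ i * conj (v χ i)) * hez
  have hmin : ∀ χ : B, 2 * X.card ≤ ∑ k, if f χ k = 0 then 0 else w k := by
    intro χ
    set T := Finset.univ.filter fun i : X => v χ i ≠ 0 with hT
    have hne0 : T.Nonempty := by
      by_contra hT0
      rw [Finset.not_nonempty_iff_eq_empty, Finset.filter_eq_empty_iff] at hT0
      refine contrib_ne_zero hM hx hind hd χ.2 ?_
      rw [hform]
      refine Finset.sum_eq_zero fun i _ => Finset.sum_eq_zero fun j _ => ?_
      rw [not_not.mp (hT0 (Finset.mem_univ i))]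
      ring
    have h1 : 2 * T.card + m * (2 * (T.card * Tᶜ.card)) ≤ ∑ k, (if f χ k = 0 then 0 else w k) := by
      rw [Fintype.sum_sum_type]
      refine add_le_add ?_ ?_
      · calc 2 * T.card = ∑ i ∈ T, 2 := by rw [Finset.sum_const, smul_eq_mul, mul_comm]
          _ = ∑ i ∈ T, if f χ (Sum.inl i) = 0 then 0 else w (Sum.inl i) :=
            Finset.sum_congr rfl fun i hi => by
              have : v χ i ≠ 0 := (Finset.mem_filter.mp hi).2
              simp [f, w, this]
          _ ≤ _ := Finset.sum_le_sum_of_subset (Finset.subset_univ _)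
      · calc m * (2 * (T.card * Tᶜ.card)) = ∑ ij ∈ T ×ˢ Tᶜ ∪ Tᶜ ×ˢ T, m := by
              rw [Finset.sum_const, smul_eq_mul, Finset.card_union_of_disjoint, Finset.card_product,
                Finset.card_product]
              · ring
              · rw [Finset.disjoint_left]
                rintro ⟨i, j⟩ h1 h2
                rw [Finset.mem_product] at h1 h2
                exact (Finset.mem_compl.mp h2.1) h1.1
          _ = ∑ ij ∈ T ×ˢ Tᶜ ∪ Tᶜ ×ˢ T, if f χ (Sum.inr ij) = 0 then 0 else w (Sum.inr ij) :=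
            Finset.sum_congr rfl fun ij hij => by
              have h3 : ∀ i : X, (δ i.1 : ℂ) ≠ 0 := fun i => by
                rcases hδ i.1 with h | h <;> simp [h]
              rw [Finset.mem_union, Finset.mem_product, Finset.mem_product] at hij
              rcases hij with ⟨h1, h2⟩ | ⟨h2, h1⟩
              · have h1' : v χ ij.1 ≠ 0 := (Finset.mem_filter.mp h1).2
                have h2' : v χ ij.2 = 0 := by simpa [hT] using h2
                simp [f, w, h1', h2', h3]
              · have h1' : v χ ij.2 ≠ 0 := (Finset.mem_filter.mp h1).2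
                have h2' : v χ ij.1 = 0 := by simpa [hT] using h2
                simp [f, w, h1', h2', h3]
          _ ≤ _ := Finset.sum_le_sum_of_subset (Finset.subset_univ _)
    refine le_trans ?_ h1
    have h2 : T.card + Tᶜ.card = X.card := by rw [Finset.card_add_card_compl, Fintype.card_coe]
    have h3 : 1 ≤ T.card := hne0.card_pos
    have h4 : Tᶜ.card ≤ m * (T.card * Tᶜ.card) :=
      (Nat.le_mul_of_pos_left _ h3).trans (Nat.le_mul_of_pos_left _ hm)
    rw [mul_left_comm]
    omega
  have := card_le_of_sum (m := 2 * X.card) (2 * (p ^ blockDefect p B * blockRank p b)) f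
    (fun _ k => w k)
    (fun χ k => by
      rcases k with i | ⟨i, j⟩
      · exact isIntegral_mul_conj (hvint _ _)
      · exact isIntegral_mul_conj (((isIntegral_algebraMap (x := δ i.1)).mul (hvint _ _)).sub
          ((isIntegral_algebraMap (x := δ j.1)).mul (hvint _ _))))
    (fun χ k σ => by
      rcases k with i | ⟨i, j⟩
      · exact normSq_conjugate (fun τ => hvmem _ _ τ) σ
      · refine normSq_conjugate (fun τ => ?_) σ
        simp only [map_sub, map_mul, map_intCast, hvmem])
    hmin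
    (by
      push_cast
      rw [Finset.sum_congr rfl fun χ _ => hval χ, ← Finset.mul_sum, sum_contrib_block hM hx hind hd]
      push_cast
      ring)
  rw [hlb, ← hXc] at this
  rw [Nat.card_eq_fintype_card]
  have hpos : 0 < 2 * X.card := by
    have := blockRank_pos (p := p) hbb'
    omega
  refine Nat.le_of_mul_le_mul_left ?_ hpos
  calc 2 * X.card * Fintype.card B ≤ _ := this
    _ = 2 * X.card * p ^ blockDefect p B := by ring

end CfsgLib.CycQuotBound
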