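import Cfsg.Agent.Lib.BlockArith.BrauerFeit
import Cfsg.Agent.Lib.BlockArith.SmallRank
import Cfsg.Agent.Lib.BlockArith.TwoAverage
import Cfsg.Agent.Lib.BrauerPairs.SubsectionCount
import Cfsg.Agent.Lib.Blocks.Knorr
import Mathlib.GroupTheory.Perm.Cycle.Type
import Mathlib.GroupTheory.SpecificGroups.KleinFour

/-!
# Blocks with Klein four defect groups

* `blockRank_lt_card`: `l(B) < k(B)` for positive defect;
* `blockRank_eq_one_of_central_half`: defect two with a central involution in the defect group;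
* `card_eq_four_of_rank_one`: a major subsection of an involution with `l(b) = 1` in defect two;
* `pairRank_bot`: the rank of the pair on the trivial subgroup;
* `klein_counts`: `k(B) = 4` and `l(B)` is the inertial index.
-/

set_option autoImplicit false

noncomputable section

namespace CfsgLib.BlockArith

open Cfsg CfsgLib.Char CfsgLib.Blocks
open scoped ComplexConjugate

attribute [local instance 10000] Fintype.ofFinite

universe u

variable {G : Type u} [Group G] [Fintype G] {p : ℕ} [hp : Fact p.Prime] {M : Ideal AlgInt} [M.IsMaximal]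

/-- A block of positive defect has fewer modular than ordinary characters. -/
theorem blockRank_lt_card (hM : IsPModular p M) {B : Set (IrrCharacter G)} (hB : IsPBlock M B)
    (hd : 0 < blockDefect p B) : blockRank p B < Nat.card B := by
  classical
  refine lt_of_le_of_ne (blockRank_le_card B) fun h => ?_
  have hreg : ∀ χ : IrrCharacter G, χ ∈ B → ∀ s : G, p ∣ orderOf s → (χ : G → ℂ) s = 0 := by
    have h1 := card_mul_blockRank hM hB
    have h2 : ∑ χ : IrrCharacter G, (if χ ∈ B then
        ∑ s : G, (if p ∣ orderOf s then Complex.normSq ((χ : G → ℂ) s) else 0) else 0) = 0 := by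
      apply Complex.ofReal_injective
      rw [Complex.ofReal_zero, Complex.ofReal_sum]
      have h3 : ∀ χ : IrrCharacter G, ((if χ ∈ B then
          ∑ s : G, (if p ∣ orderOf s then Complex.normSq ((χ : G → ℂ) s) else 0) else 0 : ℝ) : ℂ) =
          (if χ ∈ B then (Nat.card G : ℂ) else 0) - if χ ∈ B then
            ∑ s : G, (if p ∣ orderOf s then 0 else (χ : G → ℂ) s * conj ((χ : G → ℂ) s)) else 0 := by
        intro χ
        split_ifs
        · rw [eq_sub_iff_add_eq, Complex.ofReal_sum, ← Finset.sum_add_distrib]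
          have h4 := classInner_irr_self χ.2
          rw [classInner_def, inv_mul_eq_iff_eq_mul₀ card_ne_zero', mul_one] at h4
          rw [← h4]
          exact Finset.sum_congr rfl fun s _ => by
            split_ifs <;> simp [← Complex.mul_conj]
        · simp
      simp only [h3]
      rw [Finset.sum_sub_distrib, ← h1, ← Finset.sum_filter, Finset.sum_const, nsmul_eq_mul,
        show (Finset.univ.filter fun χ : IrrCharacter G => χ ∈ B).card = Nat.card B by
          rw [Nat.card_eq_fintype_card, ← Set.toFinset_card]; congr 1; ext; simp,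
        h, mul_comm, sub_self]
    intro χ hχ s hs
    rw [Finset.sum_eq_zero_iff_of_nonneg fun χ _ => by
      split_ifs
      · exact Finset.sum_nonneg fun s _ => by split_ifs <;> simp [Complex.normSq_nonneg]
      · exact le_rfl] at h2
    have h5 := h2 χ (Finset.mem_univ _)
    rw [if_pos hχ, Finset.sum_eq_zero_iff_of_nonneg fun s _ => by
      split_ifs <;> simp [Complex.normSq_nonneg]] at h5
    have h6 := h5 s (Finset.mem_univ _)
    rw [if_pos hs] at h6
    exact Complex.normSq_eq_zero.mp h6
  obtain ⟨χ, hχ⟩ := IsPBlock.nonempty hB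
  have h1 := Knorr.not_dvd_div_degree χ hM fun g hg => hreg χ hχ g (hg.symm ▸ dvd_rfl)
  have hdeg := degree_height hM hB hχ
  obtain ⟨e, he⟩ := CfsgLib.CharBlocks.charDegree_dvd_card χ.2
  have hd0 := CfsgLib.CharBlocks.charDegree_pos χ.2
  rw [he, Nat.mul_div_cancel_left _ hd0] at h1
  have he0 : e ≠ 0 := fun h0 => h1 (h0 ▸ dvd_zero p)
  rw [he, Nat.factorization_mul hd0.ne' he0, Finsupp.add_apply,
    Nat.factorization_eq_zero_of_not_dvd h1] at hdeg
  have h0 : ∀ χ ∈ B, (Nat.card G).factorization p ≤ (charDegree (χ : G → ℂ)).factorization p := by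
    intro η hη
    have h1 := Knorr.not_dvd_div_degree η hM fun g hg => hreg η hη g (hg.symm ▸ dvd_rfl)
    obtain ⟨e, he⟩ := CfsgLib.CharBlocks.charDegree_dvd_card η.2
    have hd0 := CfsgLib.CharBlocks.charDegree_pos η.2
    rw [he, Nat.mul_div_cancel_left _ hd0] at h1
    have he0 : e ≠ 0 := fun h0 => h1 (h0 ▸ dvd_zero p)
    rw [he, Nat.factorization_mul hd0.ne' he0, Finsupp.add_apply,
      Nat.factorization_eq_zero_of_not_dvd h1, add_zero]
  obtain ⟨η, hη, hη0⟩ := exists_height_zero hM hB
  have := degree_height hM hB hη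
  have := h0 η hη
  omega

omit [M.IsMaximal] in
theorem blockRank_eq_one_defect_one {M : Ideal AlgInt} [M.IsMaximal] (hM : IsPModular 2 M)
    {B : Set (IrrCharacter G)} (hB : IsPBlock M B) (hd : blockDefect 2 B = 1) : blockRank 2 B = 1 := by
  have := Fact.mk Nat.prime_two
  have h1 := (brauer_feit hM 1 G B hB hd).1 (by norm_num)
  have h2 := blockRank_lt_card hM hB (by omega)
  have h3 := blockRank_pos (p := 2) hB
  omega

omit [M.IsMaximal] in
/-- Defect two with a central subgroup of order two: one modular character. -/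
theorem blockRank_eq_one_of_central_half {M : Ideal AlgInt} [M.IsMaximal] (hM : IsPModular 2 M)
    {B : Set (IrrCharacter G)} (hB : IsPBlock M B) (hd : blockDefect 2 B = 2) {Q : Subgroup G}
    (hQ : Nat.card Q = 2) (hQc : Q ≤ Subgroup.center G) : blockRank 2 B = 1 := by
  have := Fact.mk Nat.prime_two
  have : Q.Normal := ⟨fun a ha g => by
    rw [Subgroup.mem_center_iff.mp (hQc ha) g, mul_inv_cancel_right]; exact ha⟩
  have hQp : IsPGroup 2 Q := IsPGroup.of_card (n := 1) (by rw [hQ, pow_one])
  have hC := centralizer_central_index (p := 2) hQc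
  rw [blockRank_inflSet hM hQp hC hB]
  refine blockRank_eq_one_defect_one hM (isPBlock_inflSet hM hQp hC hB) ?_
  have h1 := blockDefect_inflSet hM hQp hC hB
  rw [hQ, Nat.prime_two.factorization_self] at h1
  omega

section count

variable {x : G} [Fintype (Subgroup.centralizer ({x} : Set G))]
  {B : Set (IrrCharacter G)} {b : Set (IrrCharacter (Subgroup.centralizer ({x} : Set G)))}

omit [M.IsMaximal] in
/-- The contributions at an involution are rational integers. -/
theorem contrib_int {M : Ideal AlgInt} [M.IsMaximal] (hM : IsPModular 2 M) (hb : IsPBlock M b)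
    (hx : x ^ 2 = 1) (χ ψ : IrrCharacter G) : ∃ m : ℤ, contrib 2 x b χ ψ = m := by
  classical
  have := Fact.mk Nat.prime_two
  have h : x ∈ Subgroup.centralizer ({x} : Set G) := Subgroup.mem_centralizer_singleton_iff.mpr rfl
  have hc := mem_center_centralizer h
  have hcs : ∀ φ : IrrCharacter (Subgroup.centralizer ({x} : Set G)),
      centScal φ ⟨x, h⟩ = 1 ∨ centScal φ ⟨x, h⟩ = -1 := fun φ => by
    refine mul_self_eq_one_iff.mp ?_
    rw [← centScal_mul φ hc, show (⟨x, h⟩ : Subgroup.centralizer ({x} : Set G)) * ⟨x, h⟩ = 1 from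
      Subtype.ext ((pow_two x).symm.trans hx), centScal_one]
  have hmem : contrib 2 x b χ ψ ∈ (Int.castRingHom ℂ).range := by
    rw [contrib_eq_sum hM hb h]
    refine Subring.sum_mem _ fun φ _ => Subring.sum_mem _ fun φ' _ => ?_
    split_ifs
    · obtain ⟨m, hm⟩ := classInner_char_nat (isCharacter_res _ (isCharacter_of_isIrr χ.2))
        (isCharacter_of_isIrr φ.2)
      obtain ⟨m', hm'⟩ := classInner_char_nat (isCharacter_res _ (isCharacter_of_isIrr ψ.2))
        (isCharacter_of_isIrr φ'.2)
      rw [hm, hm']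
      rcases hcs φ with e | e <;> rcases hcs φ' with e' | e' <;> rw [e, e'] <;>
        simp only [map_mul, map_one, map_neg, Complex.conj_natCast] <;>
        refine Subring.mul_mem _ (Subring.mul_mem _ ?_ ?_) (intCast_mem _ _) <;>
        apply_rules [Subring.mul_mem, Subring.neg_mem, Subring.one_mem, natCast_mem]
    · exact Subring.zero_mem _
  obtain ⟨m, hm⟩ := hmem
  exact ⟨m, hm.symm⟩

omit [M.IsMaximal] in
/-- In defect two a major subsection of an involution with one modular character gives four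
characters. -/
theorem card_eq_four_of_rank_one {M : Ideal AlgInt} [M.IsMaximal] (hM : IsPModular 2 M) (hx : orderOf x = 2)
    (hind : IsInducedBlock M (Subgroup.centralizer ({x} : Set G)) b B)
    (hdb : blockDefect 2 b = 2) (hdB : blockDefect 2 B = 2) (hl : blockRank 2 b = 1) :
    Nat.card B = 4 := by
  classical
  have := Fact.mk Nat.prime_two
  have hx' : ∃ k : ℕ, orderOf x = 2 ^ k := ⟨1, by rw [hx, pow_one]⟩
  have hd : blockDefect 2 b = blockDefect 2 B := hdb.trans hdB.symm
  obtain ⟨-, hB, -⟩ := (isInducedBlock_iff _).mp hind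
  choose c hc using contrib_int hM hind.1 (show x ^ 2 = 1 by rw [← hx, pow_orderOf_eq_one])
  set t := Finset.univ.filter fun χ : IrrCharacter G => χ ∈ B with ht
  have hsum : ∑ χ ∈ t, c χ χ = 4 := by
    have h1 := sum_contrib_self hM hx' hind
    rw [← Finset.sum_filter, hdb, hl] at h1
    have h2 : ((∑ χ ∈ t, c χ χ : ℤ) : ℂ) = ((4 : ℤ) : ℂ) := by
      rw [Int.cast_sum, Finset.sum_congr rfl fun χ _ => (hc χ χ).symm, h1]
      norm_num
    exact_mod_cast h2
  have hrow : ∀ χ : IrrCharacter G, ∑ ψ ∈ t, c χ ψ ^ 2 = 4 * c χ χ := by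
    intro χ
    have h1 := sum_normSq_row hM hx' hind (RingEquiv.refl ℂ) χ
    simp only [RingEquiv.refl_apply, hc, hdb] at h1
    have h2 : ((∑ ψ ∈ t, c χ ψ ^ 2 : ℤ) : ℂ) = ((4 * c χ χ : ℤ) : ℂ) := by
      push_cast
      rw [show (4 : ℂ) = ((2 ^ 2 : ℕ) : ℂ) by norm_num, ← h1, Complex.ofReal_sum]
      refine Finset.sum_congr rfl fun ψ _ => ?_
      rw [← Complex.ofReal_intCast, Complex.normSq_ofReal]
      push_cast
      ring
    exact_mod_cast h2
  obtain ⟨η, hη, h0⟩ := exists_height_zero hM hB
  have hne : ∀ ψ ∈ t, c η ψ ≠ 0 := fun ψ hψ h => by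
    obtain ⟨w, -, hw, he⟩ := contrib_height hM hx' hind hd hη h0 (Finset.mem_filter.mp hψ).2
    rw [hc, h, Int.cast_zero] at he
    exact mul_ne_zero (Nat.cast_ne_zero.mpr (pow_ne_zero _ two_ne_zero)) hw he.symm
  have hηt : η ∈ t := Finset.mem_filter.mpr ⟨Finset.mem_univ _, hη⟩
  have hpos : ∀ χ ∈ t, 1 ≤ c χ χ := fun χ hχ => by
    have h1 : 0 < ∑ ψ ∈ t, c χ ψ ^ 2 := by
      refine Finset.sum_pos' (fun ψ _ => sq_nonneg _) ⟨η, hηt, pow_two_pos_of_ne_zero fun h => hne χ hχ ?_⟩
      have h2 := contrib_conj (p := 2) (x := x) (b := b) χ η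
      rw [hc, hc, h, Int.cast_zero, map_zero] at h2
      exact_mod_cast h2
    rw [hrow] at h1
    omega
  have hodd : Odd (c η η) := by
    have : CharP (Res M) 2 := res_charP M hM
    obtain ⟨v, hv, L, hL, hf⟩ := exists_heightVec hM hx' hind
    rw [← Int.not_even_iff_odd]
    intro he
    have h2 := hf η η
    rw [show (⟨contrib 2 x b η η, algInt_le_locRing M (isIntegral_contrib hM hind.1 η η)⟩ : locRing M) =
        ((c η η : ℤ) : locRing M) from Subtype.ext (by simp [hc]),
      map_intCast, (CharP.intCast_eq_zero_iff (Res M) 2 (c η η)).mpr (by exact_mod_cast he.two_dvd),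
      zero_mul] at h2
    exact mul_ne_zero (hv η hη h0) (mul_ne_zero (hv η hη h0) hL) h2.symm
  have hcard : Nat.card B = t.card := by
    rw [Nat.card_eq_fintype_card, ← Set.toFinset_card]; congr 1; ext; simp [ht]
  have hk2 : 2 ≤ t.card := by
    have h1 := blockRank_lt_card hM hB (by omega)
    have h2 := blockRank_pos (p := 2) hB
    omega
  have h1 := Finset.add_sum_erase t (fun χ => c χ χ) hηt
  have h2 := Finset.add_sum_erase t (fun ψ => c η ψ ^ 2) hηt
  rw [hrow] at h2
  rw [hsum] at h1
  have h3 : ((t.erase η).card : ℤ) ≤ ∑ χ ∈ t.erase η, c χ χ := by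
    have := Finset.card_nsmul_le_sum (t.erase η) (fun χ => c χ χ) 1 fun χ hχ => hpos χ (Finset.mem_of_mem_erase hχ)
    simpa using this
  have h5 := Finset.card_erase_of_mem hηt
  have h6 := hpos η hηt
  have hsq : ∀ a : ℤ, a ≠ 0 → a ^ 2 = 1 ∨ 4 ≤ a ^ 2 := fun a ha => by
    rcases lt_or_gt_of_ne ha with h | h
    · rcases eq_or_ne a (-1) with rfl | h'
      · left; norm_num
      · right; nlinarith [show a ≤ -2 by omega]
    · rcases eq_or_ne a 1 with rfl | h'
      · left; norm_num
      · right; nlinarith [show 2 ≤ a by omega]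
  have hη1 : c η η = 1 := by
    obtain ⟨i, hi⟩ := hodd
    by_contra hne'
    have h3' : c η η = 3 := by omega
    obtain ⟨ψ, hψ⟩ := Finset.card_eq_one.mp (show (t.erase η).card = 1 by omega)
    rw [hψ, Finset.sum_singleton, h3'] at h2
    have := hsq (c η ψ) (hne ψ (Finset.mem_of_mem_erase (hψ ▸ Finset.mem_singleton_self ψ)))
    omega
  rw [hη1] at h2
  have h7 : ∀ ψ ∈ t.erase η, c η ψ ^ 2 = 1 := by
    intro ψ hψ
    refine (hsq _ (hne ψ (Finset.mem_of_mem_erase hψ))).resolve_right fun h => ?_
    have := Finset.single_le_sum (f := fun χ => c η χ ^ 2) (fun χ _ => sq_nonneg _) hψ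
    omega
  rw [Finset.sum_congr rfl h7, Finset.sum_const, nsmul_eq_mul, mul_one] at h2
  omega

end count

end CfsgLib.BlockArith

namespace CfsgLib.BrauerPairs

open Cfsg CfsgLib.Blocks

universe u

variable {G : Type u} [Group G] [Fintype G] {p : ℕ} {M : Ideal AlgInt} [M.IsMaximal]

/-- A pair whose centraliser is the whole group is the block itself. -/
theorem pairRank_top {B : Set (IrrCharacter G)} {Q : Subgroup G} (hC : Cen Q = ⊤)
    {f : Set (IrrCharacter (Cen Q))} (h : IsBrauerPairOf p M B Q f) : blockRank p f = blockRank p B := by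
  classical
  have := Fintype.ofFinite (Cen Q)
  set e : Cen Q ≃* G := (MulEquiv.subgroupCongr hC).trans Subgroup.topEquiv
  rw [← blockRank_tblock e f]
  congr 1
  obtain ⟨ξ, hξ⟩ := IsPBlock.nonempty h.1.2
  have hmem : tirr e ξ ∈ tblock e f := ⟨ξ, hξ, funext fun y => congrArg (ξ : Cen Q → ℂ) (e.symm_apply_apply y)⟩
  refine isPBlock_eq_of_mem (isPBlock_tblock e h.1.2) h.2.1 hmem ?_
  by_contra hnot
  have h1 := h.2.2 ξ hξ
  have h2 : brauerOmega Q (blockCoeff B) (ξ : Cen Q → ℂ) =
      ∑ g : G, blockCoeff B g * (tirr e ξ : G → ℂ) g / (tirr e ξ : G → ℂ) 1 := by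
    rw [brauerOmega, finsum_eq_sum_of_fintype]
    refine Fintype.sum_equiv e.toEquiv _ _ fun y => ?_
    show _ = blockCoeff B (e y) * (ξ : Cen Q → ℂ) (e.symm (e y)) / (ξ : Cen Q → ℂ) (e.symm 1)
    rw [e.symm_apply_apply, map_one]
    rfl
  rw [h2, ← Finset.sum_div] at h1
  have h3 := sum_blockCoeff_mul h.2.1 (f := (tirr e ξ : G → ℂ))
    (CfsgLib.Char.isClassFunction_of_isIrr (tirr e ξ).2) 1
  simp only [mul_one] at h3
  rw [h3] at h1
  have h4 : blockPart B (tirr e ξ : G → ℂ) 1 = 0 := by
    rw [blockPart_apply]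
    refine Finset.sum_eq_zero fun φ _ => ?_
    split_ifs with hφ
    · rw [CfsgLib.Char.classInner_irr_ne (tirr e ξ).2 φ.2 fun he => hnot (by rwa [Subtype.ext he]),
        zero_mul]
    · rfl
  rw [h4, zero_div, zero_sub] at h1
  have h5 := (res_eq_zero_iff M (-1 : locRing M)).mpr (by simpa using h1)
  rw [map_neg, map_one, neg_eq_zero] at h5
  exact one_ne_zero h5

/-- The pair of the trivial subgroup is the block itself. -/
theorem pairRank_bot {B : Set (IrrCharacter G)} {Q : Subgroup G} (hQ : Q = ⊥)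
    {f : Set (IrrCharacter (Cen Q))} (h : IsBrauerPairOf p M B Q f) : blockRank p f = blockRank p B :=
  pairRank_top (by subst hQ; exact Subgroup.centralizer_eq_top_iff_subset.mpr (by simp)) h

/-- The stabiliser modulo the centraliser has order prime to `p` for an abelian maximal pair. -/
theorem not_dvd_relIndex_stab [Fact p.Prime] (hM : IsPModular p M) {B : Set (IrrCharacter G)}
    {P : Subgroup G} {e : Set (IrrCharacter (Cen P))} (hmax : IsMaximalBrauerPair p M B P e)
    (hab : ∀ x ∈ P, ∀ y ∈ P, x * y = y * x) : ¬ p ∣ (Cen P).relIndex (stab M P e) := by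
  classical
  have hb := hmax.1.1
  obtain ⟨F', hF', hgF, -⟩ := exists_stable_block hM hb.1 hb.2 (le_stab e) (cen_le_stab e)
    inf_le_left (fun y hy => hy.2)
  have hD := (fullyNormalized_iff hM (blockFusion_spec hM hmax) (Q := P) (f := e)
    Relation.ReflTransGen.refl (fun y => mem_stab_iff hb.2) hF' hgF).mp (fullyNormalized_top _)
  have h1 := not_dvd_index_stable hM (cen_le_stab e) inf_le_left hb.2 (fun y hy => hy.2) hF' hgF hD
  rwa [sup_eq_left.mpr ?_] at h1
  exact fun y hy => Subgroup.mem_centralizer_iff.mpr fun q hq => hab q hq _ (Subgroup.mem_inf.mp hy).1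

/-- `k(B) = 4` and `l(B) = e` for a Klein four defect group. -/
theorem klein_counts (hM : IsPModular 2 M) {B : Set (IrrCharacter G)} {P : Subgroup G}
    {c : Set (IrrCharacter (Cen P))} (hmax : IsMaximalBrauerPair 2 M B P c) (hV : IsKleinFour P) :
    ((Cen P).relIndex (stab M P c) = 1 ∨ (Cen P).relIndex (stab M P c) = 3) ∧
      Nat.card B = 4 ∧ blockRank 2 B = (Cen P).relIndex (stab M P c) := by
  classical
  have := Fact.mk Nat.prime_two
  have := hV
  have hab : ∀ x ∈ P, ∀ y ∈ P, x * y = y * x := fun x hx y hy => by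
    have := IsKleinFour.isMulCommutative (G := P)
    exact congrArg Subtype.val (mul_comm' (⟨x, hx⟩ : P) ⟨y, hy⟩)
  have hB := hmax.1.2.1
  have hdB : blockDefect 2 B = 2 := by
    have h1 := card_defectGroup hM hB (isDefectGroup_of_maximal hM hmax)
    rw [hV.card_four] at h1
    exact (Nat.pow_right_injective le_rfl (show 2 ^ 2 = 2 ^ blockDefect 2 B from h1)).symm
  set T := stab M P c with hT
  -- the pairs below
  have hFex : ∀ r : G, ∃ a : BrauerPairIdx G, r ∈ P → a.1 = Subgroup.zpowers r ∧
      Relation.ReflTransGen (NormalSubpairRel 2 M) a ⟨P, c⟩ := by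
    intro r
    by_cases hr : r ∈ P
    · obtain ⟨f, hf, -⟩ := existsUnique_subpair hM (Subgroup.zpowers_le.mpr hr) hmax.1.1
      exact ⟨⟨_, f⟩, fun _ => ⟨rfl, hf⟩⟩
    · exact ⟨⟨⊥, ∅⟩, fun h => absurd h hr⟩
  choose F hF using hFex
  have hord : ∀ r ∈ P, r ≠ 1 → orderOf r = 2 := fun r hr h1 => orderOf_eq_prime
    (by rw [pow_two]; exact congrArg Subtype.val (IsKleinFour.mul_self (⟨r, hr⟩ : P))) h1
  have hF1 : blockRank 2 (F 1).2 = blockRank 2 B := by
    obtain ⟨h1, h2⟩ := hF 1 P.one_mem
    exact pairRank_bot (by rw [h1, Subgroup.zpowers_one_eq_bot])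
      ((brauerPairOf_iff_of_subpair hM h2).mp hmax.1)
  have hgen : ∀ r ∈ P, r ≠ 1 → blockRank 2 (F r).2 = 1 ∧ Nat.card B = 4 := by
    intro r hr h1
    obtain ⟨hQ, hle⟩ := hF r hr
    generalize F r = a at hQ hle
    obtain ⟨Q, f⟩ := a
    dsimp at hQ ⊢
    subst hQ
    have hPC : P ≤ Cen (Subgroup.zpowers r) := fun y hy => Subgroup.mem_centralizer_iff.mpr fun q hq =>
      hab q (Subgroup.zpowers_le.mpr hr hq) y hy
    have hfd : blockDefect 2 f = 2 := by
      have hb := isBrauerPair_left (a := ⟨_, f⟩) hle hmax.1.1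
      have := Fintype.ofFinite (Cen (Subgroup.zpowers r))
      have h2 := card_defectGroup hM hb.2 (pairs_defect hM hmax hab hle)
      rw [card_subgroupOf' hPC, hV.card_four] at h2
      exact (Nat.pow_right_injective le_rfl (show 2 ^ 2 = 2 ^ blockDefect 2 f from h2)).symm
    have hpair := (brauerPairOf_iff_of_subpair hM hle).mp hmax.1
    have := Fintype.ofFinite (Cen (Subgroup.zpowers r))
    have hQC : Subgroup.zpowers r ≤ Cen (Subgroup.zpowers r) :=
      Subgroup.zpowers_le.mpr (hPC hr)
    have hl : blockRank 2 f = 1 := by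
      refine BlockArith.blockRank_eq_one_of_central_half hM hpair.1.2 hfd
        (Q := (Subgroup.zpowers r).subgroupOf (Cen (Subgroup.zpowers r))) ?_ ?_
      · rw [card_subgroupOf' hQC, Nat.card_zpowers, hord r hr h1]
      · intro q hq
        exact Subgroup.mem_center_iff.mpr fun y => Subtype.ext
          (Subgroup.mem_centralizer_iff.mp y.2 _ hq).symm
    refine ⟨hl, ?_⟩
    have hind := (brauerPairOf_iff_induced hM hpair.1.1 hpair.1.2 hB).mp hpair
    have key : ∀ H : Subgroup G, H = Cen (Subgroup.zpowers r) →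
        ∃ b : Set (IrrCharacter H), IsInducedBlock M H b B ∧ blockDefect 2 b = 2 ∧ blockRank 2 b = 1 := by
      rintro H rfl
      exact ⟨f, hind, hfd, hl⟩
    obtain ⟨b, hb1, hb2, hb3⟩ := key (Subgroup.centralizer ({r} : Set G)) (by
      show _ = Subgroup.centralizer _
      rw [Subgroup.zpowers_eq_closure, Subgroup.centralizer_closure])
    exact BlockArith.card_eq_four_of_rank_one hM (hord r hr h1) hb1 hb2 hdB hb3
  -- the action on the involutions
  set S := {y : P // y ≠ 1}
  have hTN : T ≤ Subgroup.normalizer (P : Set G) := fun y hy => hy.1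
  let ψ : MulAut P →* Equiv.Perm S :=
    { toFun := fun a => a.toEquiv.subtypeEquiv fun y => (map_ne_one_iff a a.injective).symm
      map_one' := by ext y; rfl
      map_mul' := fun a b => by ext y; rfl }
  let φ : T →* Equiv.Perm S := ψ.comp (P.normalizerMonoidHom.comp (Subgroup.inclusion hTN))
  have hφval : ∀ (t : T) (y : S), ((φ t y).1 : G) = (t : G) * ((y.1 : P) : G) * (t : G)⁻¹ := fun t y => rfl
  have hker : φ.ker = (Cen P).subgroupOf T := by
    ext t
    rw [MonoidHom.mem_ker, Subgroup.mem_subgroupOf, Subgroup.mem_centralizer_iff]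
    constructor
    · intro h q hq
      by_cases hq1 : q = 1
      · subst hq1; simp
      · have h2 := congrArg (fun z : S => ((z.1 : P) : G))
          (DFunLike.congr_fun h (⟨⟨q, hq⟩, fun hh => hq1 (congrArg Subtype.val hh)⟩ : S))
        simp only [hφval, Equiv.Perm.one_apply] at h2
        exact (mul_inv_eq_iff_eq_mul.mp h2).symm
    · intro h
      refine Equiv.ext fun y => Subtype.ext (Subtype.ext ?_)
      rw [hφval, ← h _ y.1.2, mul_inv_cancel_right]
      rfl
  have hS : Fintype.card S = 3 := by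
    rw [Fintype.card_subtype_compl, Fintype.card_subtype_eq, ← Nat.card_eq_fintype_card, hV.card_four]
  have hidx : Nat.card φ.range = (Cen P).relIndex T := by
    rw [← Subgroup.index_ker, hker]; rfl
  have hodd := not_dvd_relIndex_stab hM hmax hab
  rw [← hT, ← hidx] at hodd
  have hdvd : Nat.card φ.range ∣ 6 := by
    have h1 := Subgroup.card_subgroup_dvd_card φ.range
    rwa [Nat.card_eq_fintype_card (α := Equiv.Perm S), Fintype.card_perm, hS] at h1
  have he : Nat.card φ.range = 1 ∨ Nat.card φ.range = 3 := by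
    have h1 := Nat.le_of_dvd (by norm_num) hdvd
    interval_cases h : Nat.card φ.range <;> first | omega | simp_all
  rw [← hidx]
  refine ⟨he, ?_⟩
  obtain ⟨z, hz⟩ : ∃ z : P, z ≠ 1 := by
    have : Nontrivial P := Finite.one_lt_card_iff_nontrivial.mp (by rw [hV.card_four]; norm_num)
    exact exists_ne 1
  have hz' : (z : G) ≠ 1 := fun h => hz (Subtype.ext h)
  have hk := (hgen z z.2 hz').2
  refine ⟨hk, ?_⟩
  rcases he with he | he
  · -- trivial action
    have hfix : ∀ t ∈ T, ∀ y ∈ P, t * y * t⁻¹ = y := by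
      intro t ht y hy
      by_cases hy1 : y = 1
      · subst hy1; simp
      · have h1 : φ ⟨t, ht⟩ = 1 := Subgroup.mem_bot.mp
          (Subgroup.card_eq_one.mp he ▸ MonoidHom.mem_range.mpr ⟨⟨t, ht⟩, rfl⟩)
        have h2 := congrArg (fun z : S => ((z.1 : P) : G))
          (DFunLike.congr_fun h1 (⟨⟨y, hy⟩, fun hh => hy1 (congrArg Subtype.val hh)⟩ : S))
        simpa only [hφval, Equiv.Perm.one_apply] using h2
    have hsum := card_eq_sum_orbits hM hmax hab (Finset.univ.filter (· ∈ P))
      (fun r hr => (Finset.mem_filter.mp hr).2)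
      (fun y hy => ⟨y, Finset.mem_filter.mpr ⟨Finset.mem_univ _, hy⟩, 1, T.one_mem, by simp⟩)
      (fun r hr r' _ t ht h => (hfix t ht r (Finset.mem_filter.mp hr).2).symm.trans h) F
      (fun r hr => hF r (Finset.mem_filter.mp hr).2)
    rw [hk, ← Finset.add_sum_erase _ _ (Finset.mem_filter.mpr ⟨Finset.mem_univ (1 : G), P.one_mem⟩), hF1,
      Finset.sum_congr rfl (g := fun _ => 1) fun r hr => (hgen r
        (Finset.mem_filter.mp (Finset.mem_of_mem_erase hr)).2 (Finset.ne_of_mem_erase hr)).1,
      Finset.sum_const, smul_eq_mul, mul_one,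
      Finset.card_erase_of_mem (Finset.mem_filter.mpr ⟨Finset.mem_univ (1 : G), P.one_mem⟩),
      show (Finset.univ.filter (· ∈ P)).card = 4 by
        rw [← Fintype.card_subtype, ← Nat.card_eq_fintype_card]; exact hV.card_four] at hsum
    rw [he]
    omega
  · -- transitive action
    have htrans : ∀ y ∈ P, y ≠ 1 → ∃ t ∈ T, t * y * t⁻¹ = (z : G) := by
      intro y hy hy1
      obtain ⟨⟨a, ha⟩, hao⟩ := exists_prime_orderOf_dvd_card' (G := φ.range) 3 (he ▸ dvd_rfl)
      rw [Subgroup.orderOf_mk] at hao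
      have hcy := Equiv.Perm.isCycle_of_prime_order'' (σ := a) (by rw [hS]; exact Nat.prime_three)
        (by rw [hao, hS])
      have hsupp : a.support = Finset.univ := Finset.eq_univ_of_card _ (by rw [← hcy.orderOf, hao, hS])
      obtain ⟨i, hi⟩ := hcy.sameCycle
        (x := (⟨⟨y, hy⟩, fun hh => hy1 (congrArg Subtype.val hh)⟩ : S)) (y := ⟨z, hz⟩)
        (Equiv.Perm.mem_support.mp (hsupp ▸ Finset.mem_univ _))
        (Equiv.Perm.mem_support.mp (hsupp ▸ Finset.mem_univ _))
      obtain ⟨t, ht⟩ := MonoidHom.mem_range.mp (zpow_mem ha i)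
      refine ⟨t, t.2, ?_⟩
      have h1 := hφval t (⟨⟨y, hy⟩, fun hh => hy1 (congrArg Subtype.val hh)⟩ : S)
      rw [ht, hi] at h1
      exact h1.symm
    have hsum := card_eq_sum_orbits hM hmax hab {1, (z : G)}
      (fun r hr => by
        rcases Finset.mem_insert.mp hr with rfl | h
        · exact P.one_mem
        · exact (Finset.mem_singleton.mp h) ▸ z.2)
      (fun y hy => by
        by_cases hy1 : y = 1
        · exact ⟨1, by simp, 1, T.one_mem, by simp [hy1]⟩
        · obtain ⟨t, ht, hty⟩ := htrans y hy hy1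
          exact ⟨z, by simp, t, ht, hty⟩)
      (fun r hr r' hr' t _ h => by
        simp only [Finset.mem_insert, Finset.mem_singleton] at hr hr'
        rcases hr with rfl | rfl <;> rcases hr' with rfl | rfl
        · rfl
        · exact absurd (by simpa using h.symm) hz'
        · exact absurd (conj_eq_one_iff.mp h) hz'
        · rfl) F
      (fun r hr => hF r (by
        rcases Finset.mem_insert.mp hr with rfl | h
        · exact P.one_mem
        · exact (Finset.mem_singleton.mp h) ▸ z.2))
    rw [hk, Finset.sum_pair hz'.symm, hF1, (hgen z z.2 hz').1] at hsum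
    rw [he]
    omega

end CfsgLib.BrauerPairs
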