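import Cfsg.Agent.Lib.BlockArith.HeightSum
import Cfsg.Agent.Lib.BlockArith.KleinDefect
import Cfsg.Agent.Lib.BrauerPairs.Correspondence

/-!
# Blocks with abelian defect group and inertial index one

* `InertOne`: every maximal pair has abelian subgroup and stabiliser equal to the centraliser;
* `inertOne_local`: the property passes to the blocks of centralisers below a maximal pair;
* `inertOne_counts`: such a block has `l(B) = 1`, `k(B) = |P|` and all heights zero.
-/

set_option autoImplicit false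

noncomputable section

namespace CfsgLib.BrauerPairs

open Cfsg CfsgLib.Blocks

universe u

variable {p : ℕ} {M : Ideal AlgInt} [M.IsMaximal]

/-- Abelian defect groups and inertial index one. -/
def InertOne {G : Type u} [Group G] [Fintype G] (p : ℕ) (M : Ideal AlgInt) [M.IsMaximal]
    (B : Set (IrrCharacter G)) : Prop :=
  ∀ (P : Subgroup G) (e : Set (IrrCharacter (Cen P))), IsMaximalBrauerPair p M B P e →
    (∀ x ∈ P, ∀ y ∈ P, x * y = y * x) ∧ stab M P e ≤ Cen P

variable {G : Type u} [Group G] [Fintype G] [hp : Fact p.Prime]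

/-- The maximal pairs of a block of `C(Q)` with the full defect are maximal pairs of `B`. -/
theorem exists_up_maximal (hM : IsPModular p M) {B : Set (IrrCharacter G)} {Q : Subgroup G}
    [Fintype (Cen Q)] {f : Set (IrrCharacter (Cen Q))} (hQB : IsBrauerPairOf p M B Q f)
    (hQH : Q ≤ Cen Q) (hd : blockDefect p f = blockDefect p B) {A : Subgroup (Cen Q)}
    {e' : Set (IrrCharacter (Cen A))} (hA : IsMaximalBrauerPair p M f A e') :
    ∃ g : Set (IrrCharacter (Cen (A.map (Cen Q).subtype))),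
      Up (M := M) ⟨A, e'⟩ ⟨A.map (Cen Q).subtype, g⟩ ∧
      IsMaximalBrauerPair p M B (A.map (Cen Q).subtype) g := by
  classical
  have hfB := hQB.1
  have hQA : Q.subgroupOf (Cen Q) ≤ A := by
    have hne : br Q (gidem M (Cen Q) f) ≠ 0 := by
      have h1 : br Q (gidem M (Cen Q) f) = gidem M (Cen Q) f := by
        rw [gidem_eq_emb hfB.2]
        refine ext_coeff fun g => ?_
        rw [coeff_br]
        split_ifs with hg
        · rfl
        · rw [coeff_emb_of_notMem _ _ hg]
      rw [h1]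
      exact gidem_ne_zero hfB.2
    obtain ⟨E, hE, hQE⟩ := exists_defect_ge hM hfB.2 hfB.1 hQH hne
    obtain ⟨x, hx⟩ := defectGroups_conj hM hfB.2 hE (isDefectGroup_of_maximal hM hA)
    intro q hq
    rw [← hx]
    refine ⟨q, hQE hq, ?_⟩
    have hc : (x : Cen Q) * q = q * x := Subtype.ext (Subgroup.mem_centralizer_iff.mp x.2 _ hq).symm
    simp [MulAut.conj_apply, hc]
  have hQm : Q ≤ A.map (Cen Q).subtype := fun q hq => ⟨⟨q, hQH hq⟩, hQA hq, rfl⟩
  have hC : (Cen A).map (Cen Q).subtype = Cen (A.map (Cen Q).subtype) :=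
    map_cen_subtype A (centralizer_anti hQm)
  obtain ⟨g, hg, hu⟩ := exists_up (M := M) hp (a := ⟨A, e'⟩) hC hA.1.1.2
  refine ⟨g, hu, ?_⟩
  have hAp : IsBrauerPair p M (A.map (Cen Q).subtype) g := ⟨hA.1.1.1.map _, hg⟩
  obtain ⟨-, -, hocc⟩ := (brauerPairOf_iff hM).mp hA.1
  have hn : NormalSubpairRel p M ⟨Q, f⟩ ⟨A.map (Cen Q).subtype, g⟩ := by
    refine (normalSubpair_iff hM).mpr ⟨hfB, hAp, hQm,
      (Subgroup.map_subtype_le A).trans (Subgroup.centralizer_le_normalizer _), ?_, ?_⟩
    · rintro _ ⟨v, -, rfl⟩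
      exact (centralIn_gidem f).2 _ v.2
    · show br _ (gidem M (Cen Q) f) * pid M (⟨A.map (Cen Q).subtype, g⟩ : BrauerPairIdx G) = _
      rw [gidem_eq_emb hfB.2, hu.pid_eq, ← emb_br (fun z => cen_iff_map hC z), ← map_mul]
      rw [← gidemTop_eq hfB.2]
      exact (congrArg (emb (Cen Q)) hocc).trans hu.pid_eq.symm
  have hAB := (brauerPairOf_iff_of_subpair hM (a := ⟨Q, f⟩)
    (b := ⟨A.map (Cen Q).subtype, g⟩) (Relation.ReflTransGen.single hn)).mpr hQB
  refine isMaximal_of_card hM hAB ?_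
  rw [Subgroup.card_map_of_injective (Cen Q).subtype_injective,
    card_defectGroup hM hfB.2 (isDefectGroup_of_maximal hM hA), hd]

/-- Inertial index one passes to `C(Q)`. -/
theorem inertOne_local (hM : IsPModular p M) {B : Set (IrrCharacter G)} (hI : InertOne p M B)
    {Q : Subgroup G} [Fintype (Cen Q)] {f : Set (IrrCharacter (Cen Q))}
    (hQB : IsBrauerPairOf p M B Q f) (hQH : Q ≤ Cen Q)
    (hd : blockDefect p f = blockDefect p B) : InertOne p M f := by
  intro A e' hA
  obtain ⟨g, hu, hmax⟩ := exists_up_maximal hM hQB hQH hd hA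
  obtain ⟨hab, hst⟩ := hI _ g hmax
  refine ⟨fun x hx y hy => Subtype.ext (hab (x : G) ⟨x, hx, rfl⟩ (y : G) ⟨y, hy, rfl⟩), fun y hy => ?_⟩
  rw [cen_iff_map hu.cen]
  refine hst ⟨?_, ?_⟩
  · exact Subgroup.le_normalizer_map (Cen Q).subtype ⟨y, hy.1, rfl⟩
  · show cjA (y : G) (pid M (⟨_, g⟩ : BrauerPairIdx G)) = pid M (⟨_, g⟩ : BrauerPairIdx G)
    rw [hu.pid_eq, ← emb_cjA]
    exact congrArg (emb (Cen Q)) hy.2

/-- Abelian defect group and inertial index one: `l = 1`, `k = p ^ d`, all heights zero. -/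
theorem inertOne_counts {p : ℕ} [hp : Fact p.Prime] {M : Ideal AlgInt} [M.IsMaximal]
    (hM : IsPModular p M) (n : ℕ) :
    ∀ (G : Type u) [Group G] [Fintype G] (B : Set (IrrCharacter G)), Nat.card G = n → IsPBlock M B →
      InertOne p M B →
      blockRank p B = 1 ∧ Nat.card B = p ^ blockDefect p B ∧
        ∀ χ ∈ B, blockHeight p B (χ : G → ℂ) = 0 := by
  induction n using Nat.strong_induction_on with
  | _ n ih =>
  intro G _ _ B hn hB hI
  classical
  obtain ⟨P, hPD⟩ := exists_isDefectGroup (p := p) hB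
  obtain ⟨e, hmax⟩ := exists_maximal_at hM hB hPD
  obtain ⟨hab, hst⟩ := hI P e hmax
  have hcard := card_defectGroup hM hB hPD
  -- the pairs below
  have hFex : ∀ r : G, ∃ a : BrauerPairIdx G, r ∈ P → a.1 = Subgroup.zpowers r ∧
      Relation.ReflTransGen (NormalSubpairRel p M) a ⟨P, e⟩ := by
    intro r
    by_cases hr : r ∈ P
    · obtain ⟨f, hf, -⟩ := existsUnique_subpair hM (Subgroup.zpowers_le.mpr hr) hmax.1.1
      exact ⟨⟨_, f⟩, fun _ => ⟨rfl, hf⟩⟩
    · exact ⟨⟨⊥, ∅⟩, fun h => absurd h hr⟩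
  choose F hF using hFex
  have hPC : ∀ r ∈ P, P ≤ Cen (Subgroup.zpowers r) := fun r hr y hy =>
    Subgroup.mem_centralizer_iff.mpr fun q hq => hab q (Subgroup.zpowers_le.mpr hr hq) y hy
  have hcz : ∀ r : G, r ∈ Subgroup.center G → Cen (Subgroup.zpowers r) = ⊤ := fun r hr =>
    Subgroup.centralizer_eq_top_iff_subset.mpr (Subgroup.zpowers_le.mpr hr)
  -- the ranks
  have hpair : ∀ r ∈ P, IsBrauerPairOf p M B (F r).1 (F r).2 ∧ blockDefect p (F r).2 = blockDefect p B := by
    intro r hr
    obtain ⟨hQ, hle⟩ := hF r hr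
    refine ⟨(brauerPairOf_iff_of_subpair hM hle).mp hmax.1, ?_⟩
    have := Fintype.ofFinite (Cen (F r).1)
    have hb := isBrauerPair_left hle hmax.1.1
    have h2 := card_defectGroup hM hb.2 (pairs_defect hM hmax hab (Q := (F r).1) (f := (F r).2) hle)
    rw [card_subgroupOf' (by rw [hQ]; exact hPC r hr), hcard] at h2
    exact (Nat.pow_right_injective hp.out.two_le (show p ^ _ = p ^ _ from h2)).symm
  have hnc : ∀ r ∈ P, r ∉ Subgroup.center G → blockRank p (F r).2 = 1 := by
    intro r hr hrc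
    obtain ⟨hQ, hle⟩ := hF r hr
    obtain ⟨hp1, hp2⟩ := hpair r hr
    have := Fintype.ofFinite (Cen (F r).1)
    have hlt : Nat.card (Cen (F r).1) < n := by
      rw [← hn]
      refine lt_of_le_of_ne (Subgroup.card_le_card_group _) fun h => hrc ?_
      have h1 : Cen (F r).1 = ⊤ := Subgroup.eq_top_of_card_eq _ h
      rw [hQ, Subgroup.centralizer_eq_top_iff_subset] at h1
      exact h1 (Subgroup.mem_zpowers r)
    exact (ih _ hlt _ _ rfl hp1.1.2 (inertOne_local hM hI hp1
      (by rw [hQ]; exact (Subgroup.zpowers_le.mpr hr).trans (hPC r hr)) hp2)).1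
  have hc : ∀ r ∈ P, r ∈ Subgroup.center G → blockRank p (F r).2 = blockRank p B := fun r hr hrc =>
    pairRank_top (by rw [(hF r hr).1]; exact hcz r hrc) (hpair r hr).1
  -- the major subsections
  have hmaj : ∀ r ∈ P, ∃ b : Set (IrrCharacter (Subgroup.centralizer ({r} : Set G))),
      IsInducedBlock M (Subgroup.centralizer ({r} : Set G)) b B ∧
      blockDefect p b = blockDefect p B ∧ blockRank p b = blockRank p (F r).2 := by
    intro r hr
    have key : ∀ H : Subgroup G, H = Cen (F r).1 →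
        ∃ b : Set (IrrCharacter H), IsInducedBlock M H b B ∧ blockDefect p b = blockDefect p B ∧
          blockRank p b = blockRank p (F r).2 := by
      rintro H rfl
      have := Fintype.ofFinite (Cen (F r).1)
      exact ⟨(F r).2, (brauerPairOf_iff_induced hM (hpair r hr).1.1.1 (hpair r hr).1.1.2 hB).mp (hpair r hr).1,
        (hpair r hr).2, rfl⟩
    refine key _ ?_
    rw [(hF r hr).1]
    show _ = Subgroup.centralizer _
    rw [Subgroup.zpowers_eq_closure, Subgroup.centralizer_closure]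
  have hkle : ∀ r ∈ P, Nat.card B ≤ p ^ blockDefect p B * blockRank p (F r).2 := by
    intro r hr
    obtain ⟨k, hk⟩ := IsPGroup.iff_orderOf.mp hmax.1.1.1 ⟨r, hr⟩
    obtain ⟨b, hb1, hb2, hb3⟩ := hmaj r hr
    have := Fintype.ofFinite (Subgroup.centralizer ({r} : Set G))
    rw [← hb3]
    exact BlockArith.card_le_mul_blockRank hM ⟨k, by rwa [Subgroup.orderOf_mk] at hk⟩ hb1 hb2
  -- the count
  have hsum := card_eq_sum_orbits hM hmax hab (Finset.univ.filter (· ∈ P))
    (fun r hr => (Finset.mem_filter.mp hr).2)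
    (fun y hy => ⟨y, Finset.mem_filter.mpr ⟨Finset.mem_univ _, hy⟩, 1, (stab M P e).one_mem, by simp⟩)
    (fun r hr r' _ t ht h => by
      rw [← h, ← Subgroup.mem_centralizer_iff.mp (hst ht) r (Finset.mem_filter.mp hr).2, mul_inv_cancel_right]) F
    (fun r hr => hF r (Finset.mem_filter.mp hr).2)
  have hN : (Finset.univ.filter (· ∈ P)).card = p ^ blockDefect p B := by
    rw [← Fintype.card_subtype, ← Nat.card_eq_fintype_card]
    exact hcard
  have hl : blockRank p B = 1 := by
    by_cases hz : P ≤ Subgroup.center G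
    · exact BlockArith.blockRank_eq_one_of_central hM hB hPD hz
    · obtain ⟨x, hx, hxc⟩ := SetLike.not_le_iff_exists.mp hz
      have h1 := hkle x hx
      rw [hnc x hx hxc, mul_one, ← hN] at h1
      have h2 := BlockArith.blockRank_pos (p := p) hB
      have h1P : (1 : G) ∈ Finset.univ.filter (· ∈ P) := Finset.mem_filter.mpr ⟨Finset.mem_univ _, P.one_mem⟩
      rw [← Finset.add_sum_erase _ _ h1P, hc 1 P.one_mem (Subgroup.one_mem _)] at hsum
      have h3 : ((Finset.univ.filter (· ∈ P)).erase 1).card ≤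
          ∑ r ∈ (Finset.univ.filter (· ∈ P)).erase 1, blockRank p (F r).2 := by
        rw [Finset.card_eq_sum_ones]
        refine Finset.sum_le_sum fun r hr => ?_
        have hr' := (Finset.mem_filter.mp (Finset.mem_of_mem_erase hr)).2
        by_cases hrc : r ∈ Subgroup.center G
        · rw [hc r hr' hrc]; omega
        · rw [hnc r hr' hrc]
      have h4 := Finset.card_erase_add_one h1P
      omega
  have hall : ∀ r ∈ P, blockRank p (F r).2 = 1 := fun r hr => by
    by_cases hrc : r ∈ Subgroup.center G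
    · rw [hc r hr hrc, hl]
    · exact hnc r hr hrc
  have hk : Nat.card B = p ^ blockDefect p B := by
    rw [hsum, Finset.sum_congr rfl fun r hr => hall r (Finset.mem_filter.mp hr).2, Finset.sum_const,
      smul_eq_mul, mul_one, hN]
  refine ⟨hl, hk, fun χ hχ => ?_⟩
  obtain ⟨b, hb1, hb2, hb3⟩ := hmaj 1 P.one_mem
  have := Fintype.ofFinite (Subgroup.centralizer ({(1 : G)} : Set G))
  have h1 := BlockArith.sum_height_le hM ⟨0, by simp⟩ hb1 hb2
  rw [hb3, hall 1 P.one_mem, mul_one, ← hk] at h1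
  by_contra hh
  have h2 : ∑ χ ∈ Finset.univ.filter (fun χ : IrrCharacter G => χ ∈ B), 1 <
      ∑ χ ∈ Finset.univ.filter (fun χ : IrrCharacter G => χ ∈ B), p ^ blockHeight p B (χ : G → ℂ) :=
    Finset.sum_lt_sum (fun χ _ => Nat.one_le_pow _ _ hp.out.pos)
      ⟨χ, Finset.mem_filter.mpr ⟨Finset.mem_univ _, hχ⟩, Nat.one_lt_pow hh hp.out.one_lt⟩
  rw [← Finset.card_eq_sum_ones,
    show (Finset.univ.filter fun χ : IrrCharacter G => χ ∈ B).card = Nat.card B by
      rw [Nat.card_eq_fintype_card, ← Set.toFinset_card]; congr 1; ext; simp] at h2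
  omega

end CfsgLib.BrauerPairs
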