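import Cfsg.Agent.Lib.BlockArith.Averaging
import Cfsg.Agent.Lib.Blocks.PrincipalSection
import Cfsg.Agent.Lib.FGS.Class

/-!
# Divisibility of contributions and the weighted bound of a major subsection

* `exists_contrib_eq`: `contrib χ ψ` through the central character of `ψ`;
* `contrib_height`: `p ^ h(ψ)` divides `contrib χ ψ` exactly for `χ` of height zero;
* `heightZero_mul_sum_le`: `k₀(B) ∑ p^(2h) ≤ p^(2d) l(b)` for a major subsection.
-/

set_option autoImplicit false

noncomputable section

namespace CfsgLib.BlockArith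

open Cfsg CfsgLib.Char CfsgLib.Blocks
open scoped ComplexConjugate

variable {G : Type*} [Group G] [Fintype G] {M : Ideal AlgInt} [M.IsMaximal] {p : ℕ} [hp : Fact p.Prime]
  {x : G} [Fintype (Subgroup.centralizer ({x} : Set G))]
  {B : Set (IrrCharacter G)} {b : Set (IrrCharacter (Subgroup.centralizer ({x} : Set G)))}

omit [M.IsMaximal] hp in
theorem isIntegral_secPart (χ : IrrCharacter G) (h : x ∈ Subgroup.centralizer ({x} : Set G))
    (s : Subgroup.centralizer ({x} : Set G)) : IsIntegral ℤ (secPart x b χ s) := by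
  classical
  rw [secPart, blockPart_apply]
  refine IsIntegral.sum _ fun φ _ => ?_
  split_ifs
  · obtain ⟨m, hm⟩ := classInner_char_nat
      (isCharacter_res (Subgroup.centralizer ({x} : Set G)) (isCharacter_of_isIrr χ.2))
      (isCharacter_of_isIrr φ.2)
    rw [classInner_shift h, hm]
    exact ((isIntegral_centScal φ (mem_center_centralizer h)).mul (isIntegral_algebraMap (x := (m : ℤ)))).mul
      (char_isIntegral (isCharacter_of_isIrr φ.2) _)
  · exact isIntegral_zero

omit [M.IsMaximal] hp in
theorem secPart_conj (χ : IrrCharacter G) {c d : Subgroup.centralizer ({x} : Set G)} (h : IsConj c d) :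
    secPart x b χ c = secPart x b χ d := by
  classical
  simp only [secPart, blockPart_apply]
  exact Finset.sum_congr rfl fun φ _ => by
    rw [isClassFunction_iff.mp (isClassFunction_of_isIrr φ.2) c d h]

/-- A contribution as `p^d ψ(1) / |G|` times a central character value. -/
theorem exists_contrib_eq (hM : IsPModular p M) (hx : ∃ k : ℕ, orderOf x = p ^ k)
    (hb : IsPBlock M b) (χ : IrrCharacter G) :
    ∃ Z : Zint M G, ∀ ψ : IrrCharacter G, IsIntegral ℤ ((zomega ψ Z : locRing M) : ℂ) ∧
      contrib p x b χ ψ * (Nat.card G : ℂ) = ((p ^ blockDefect p b : ℕ) : ℂ) * (ψ : G → ℂ) 1 *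
        ((zomega ψ Z : locRing M) : ℂ) := by
  classical
  have hmem : x ∈ Subgroup.centralizer ({x} : Set G) := Subgroup.mem_centralizer_singleton_iff.mpr rfl
  have : Finite (ConjClasses (Subgroup.centralizer ({x} : Set G))) :=
    Finite.of_surjective _ ConjClasses.mk_surjective
  have := Fintype.ofFinite (ConjClasses (Subgroup.centralizer ({x} : Set G)))
  let t : ConjClasses (Subgroup.centralizer ({x} : Set G)) → ℂ := fun K =>
    if p ∣ orderOf K.out then 0 else secPart x b χ K.out
  have htint : ∀ K, IsIntegral ℤ (t K) := fun K => by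
    simp only [t]; split_ifs
    · exact isIntegral_zero
    · exact isIntegral_secPart χ hmem _
  let Z : Zint M G := ∑ K, scal M ⟨t K, algInt_le_locRing M (htint K)⟩ *
    zclass M (x * (K.out : G))⁻¹
  refine ⟨Z, fun ψ => ?_⟩
  have hZ : ((zomega ψ Z : locRing M) : ℂ) =
      ∑ K, t K * centralChar (ψ : G → ℂ) (x * (K.out : G))⁻¹ := by
    simp only [Z, map_sum, map_mul, zomega_scal, AddSubmonoidClass.coe_finsetSum, Subring.coe_mul,
      coe_zomega_zclass]
  constructor
  · rw [hZ]
    exact IsIntegral.sum _ fun K _ => (htint K).mul (isIntegral_centralChar ψ.2 _)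
  · let u : Subgroup.centralizer ({x} : Set G) → ℂ := fun c =>
      if p ∣ orderOf c then 0 else secPart x b χ c * conj ((ψ : G → ℂ) (x * (c : G)))
    have hu : ∀ c : Subgroup.centralizer ({x} : Set G), u c = u (ConjClasses.mk c).out := by
      intro c
      have hc : IsConj c (ConjClasses.mk c).out :=
        ConjClasses.mk_eq_mk_iff_isConj.mp (Quotient.out_eq (ConjClasses.mk c)).symm
      obtain ⟨w, hw⟩ := isConj_iff.mp hc
      have ho : orderOf (ConjClasses.mk c).out = orderOf c := by
        rw [← hw]; exact (SemiconjBy.conj_mk w c).orderOf_eq.symm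
      simp only [u, ho]
      split_ifs
      · rfl
      · rw [secPart_conj χ hc, ← hw]
        congr 2
        rw [Subgroup.coe_mul, Subgroup.coe_mul, Subgroup.coe_inv,
          show x * ((w : G) * (c : G) * (w : G)⁻¹) = (w : G) * (x * (c : G)) * (w : G)⁻¹ by
            rw [← mul_assoc, ← mul_assoc, ← mul_assoc, (commute_of_mem_centralizer w).eq],
          isClassFunction_of_isIrr ψ.2]
    have hsum : contrib p x b χ ψ * (Nat.card (Subgroup.centralizer ({x} : Set G)) : ℂ) =
        ((p ^ blockDefect p b : ℕ) : ℂ) * ∑ c, u c := by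
      rw [contrib, mul_right_comm, div_mul_cancel₀ _ (Nat.cast_ne_zero.mpr Nat.card_pos.ne')]
      congr 1
      calc ∑ s, (if p ∣ orderOf s then 0 else secPart x b χ s * conj (secPart x b ψ s))
          = ∑ s, ∑ c, (if p ∣ orderOf s then 0 else
              secPart x b χ s * conj (blockKer p b s c * (ψ : G → ℂ) (x * (c : G)))) := by
            refine Finset.sum_congr rfl fun s _ => ?_
            split_ifs with hs
            · simp
            · rw [secPart_eq hM hb ψ hs, map_sum, Finset.mul_sum]
        _ = ∑ c : Subgroup.centralizer ({x} : Set G),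
            conj ((ψ : G → ℂ) (x * (c : G))) * ∑ s, blockKer p b c s * secPart x b χ s := by
            rw [Finset.sum_comm]
            refine Finset.sum_congr rfl fun c _ => ?_
            rw [Finset.mul_sum]
            refine Finset.sum_congr rfl fun s _ => ?_
            split_ifs with hs
            · simp [blockKer, hs]
            · rw [map_mul, blockKer_conj_symm]; ring
        _ = ∑ c, u c := by
            refine Finset.sum_congr rfl fun c _ => ?_
            simp only [u]
            split_ifs with hc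
            · simp [blockKer, hc]
            · rw [sum_blockKer_secPart hM hb χ hc, mul_comm]
    have hfib : ∑ c, u c = ∑ K : ConjClasses (Subgroup.centralizer ({x} : Set G)),
        ((Subgroup.centralizer ({K.out} : Set (Subgroup.centralizer ({x} : Set G)))).index : ℂ) *
          u K.out := by
      rw [← Finset.sum_fiberwise Finset.univ ConjClasses.mk u]
      refine Finset.sum_congr rfl fun K _ => ?_
      rw [Finset.sum_congr rfl (g := fun _ => u K.out) fun c hc => by
        rw [hu c, (Finset.mem_filter.mp hc).2], Finset.sum_const, nsmul_eq_mul]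
      congr 2
      rw [CfsgLib.FGS.index_centralizer_eq_ncard, ← Set.ncard_coe_finset]
      congr 1
      ext c
      simp only [Finset.coe_filter, Finset.mem_univ, true_and, Set.mem_setOf_eq]
      conv_lhs => rw [← Quotient.out_eq K]
      exact (ConjClasses.mk_eq_mk_iff_isConj).trans ⟨fun h => h.symm, fun h => h.symm⟩
    have hCne : (Nat.card (Subgroup.centralizer ({x} : Set G)) : ℂ) ≠ 0 :=
      Nat.cast_ne_zero.mpr Nat.card_pos.ne'
    refine mul_right_cancel₀ hCne ?_
    rw [mul_right_comm, hsum, hfib, hZ]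
    rw [mul_assoc, mul_assoc, mul_assoc]
    congr 1
    rw [Finset.sum_mul, Finset.sum_mul, Finset.mul_sum]
    refine Finset.sum_congr rfl fun K _ => ?_
    simp only [u, t, centralChar]
    split_ifs with hK
    · simp
    · have hcard := card_centralizer_shift hx hK
      have hone := irr_one_ne_zero ψ.2
      have hset : Subgroup.centralizer ({(x * (K.out : G))⁻¹} : Set G) =
          Subgroup.centralizer ({x * (K.out : G)} : Set G) := by
        ext w
        rw [Subgroup.mem_centralizer_singleton_iff, Subgroup.mem_centralizer_singleton_iff]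
        exact Commute.inv_right_iff
      have hidx : ((Subgroup.centralizer ({(x * (K.out : G))⁻¹} : Set G)).index : ℂ) *
          (Nat.card (Subgroup.centralizer ({x} : Set G)) : ℂ) =
          ((Subgroup.centralizer ({K.out} : Set (Subgroup.centralizer ({x} : Set G)))).index : ℂ) *
            (Nat.card G : ℂ) := by
        rw [hset, ← Nat.cast_mul, ← Nat.cast_mul, Nat.cast_inj,
          ← Subgroup.card_mul_index (Subgroup.centralizer ({K.out} : Set (Subgroup.centralizer ({x} : Set G)))),
          ← Subgroup.card_mul_index (Subgroup.centralizer ({x * (K.out : G)} : Set G)), hcard]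
        ring
      rw [char_inv (isCharacter_of_isIrr ψ.2)]
      field_simp
      linear_combination (-(secPart x b χ K.out) * conj ((ψ : G → ℂ) (x * (K.out : G)))) * hidx

/-- `p ^ h(ψ)` divides the contribution of a character of height zero exactly. -/
theorem contrib_height (hM : IsPModular p M) (hx : ∃ k : ℕ, orderOf x = p ^ k)
    (hind : IsInducedBlock M (Subgroup.centralizer ({x} : Set G)) b B)
    (hd : blockDefect p b = blockDefect p B) {χ ψ : IrrCharacter G}
    (hχ : χ ∈ B) (h0 : blockHeight p B (χ : G → ℂ) = 0) (hψ : ψ ∈ B) :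
    ∃ w : ℂ, IsIntegral ℤ w ∧ w ≠ 0 ∧
      contrib p x b χ ψ = ((p ^ blockHeight p B (ψ : G → ℂ) : ℕ) : ℂ) * w := by
  classical
  obtain ⟨-, hB, -⟩ := (isInducedBlock_iff _).mp hind
  obtain ⟨Z, hZ⟩ := exists_contrib_eq hM hx hind.1 χ
  set a := (Nat.card G).factorization p with ha
  set m := Nat.card G / p ^ a with hm
  have hcard : Nat.card G = p ^ a * m := (Nat.ordProj_mul_ordCompl_eq_self _ _).symm
  have hm0 : m ≠ 0 := (Nat.ordCompl_pos p Nat.card_pos.ne').ne'
  have hcop : Nat.Coprime (p ^ blockHeight p B (ψ : G → ℂ)) m :=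
    Nat.Coprime.pow_left _ (hp.out.coprime_iff_not_dvd.mpr (Nat.not_dvd_ordCompl hp.out Nat.card_pos.ne'))
  have key : ∀ η ∈ B, contrib p x b χ η * (m : ℂ) = ((p ^ blockHeight p B (η : G → ℂ) : ℕ) : ℂ) *
      ((charDegree (η : G → ℂ) / p ^ (charDegree (η : G → ℂ)).factorization p : ℕ) : ℂ) *
        ((zomega η Z : locRing M) : ℂ) := by
    intro η hη
    have hdeg := degree_height hM hB hη
    have h1 := (hZ η).2
    rw [← CfsgLib.CharBlocks.coe_charDegree_irr η, hd, hcard] at h1
    set v := (charDegree (η : G → ℂ)).factorization p with hv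
    conv_rhs at h1 => rw [← Nat.ordProj_mul_ordCompl_eq_self (charDegree (η : G → ℂ)) p]
    have hpa : ((p ^ a : ℕ) : ℂ) ≠ 0 := Nat.cast_ne_zero.mpr (pow_ne_zero _ hp.out.ne_zero)
    refine mul_left_cancel₀ hpa ?_
    have he : p ^ blockDefect p B * p ^ v = p ^ a * p ^ blockHeight p B (η : G → ℂ) := by
      rw [← pow_add, ← pow_add]; congr 1; omega
    have he' : ((p ^ blockDefect p B : ℕ) : ℂ) * ((p ^ v : ℕ) : ℂ) =
        ((p ^ a : ℕ) : ℂ) * ((p ^ blockHeight p B (η : G → ℂ) : ℕ) : ℂ) := by exact_mod_cast he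
    push_cast at h1 he' ⊢
    linear_combination h1 + ((charDegree (η : G → ℂ) / p ^ v : ℕ) : ℂ) * (zomega η Z : ℂ) * he'
  have hres : bomega χ Z ≠ 0 := by
    intro h
    obtain ⟨v, hv, L, hL, hf⟩ := exists_heightVec hM hx hind
    have h2 := hf χ χ
    have h3 := key χ hχ
    rw [h0, pow_zero, Nat.cast_one, one_mul] at h3
    have h4 : (⟨contrib p x b χ χ, algInt_le_locRing M (isIntegral_contrib hM hind.1 χ χ)⟩ : locRing M) *
        (m : locRing M) =
          ((charDegree (χ : G → ℂ) / p ^ (charDegree (χ : G → ℂ)).factorization p : ℕ) : locRing M) *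
            zomega χ Z := Subtype.ext (by simpa using h3)
    have h5 := congrArg (res M) h4
    rw [map_mul, map_mul, ← bomega_apply, h, mul_zero, map_natCast] at h5
    rcases mul_eq_zero.mp h5 with h6 | h6
    · rw [h6, zero_mul] at h2
      exact mul_ne_zero (hv χ hχ h0) (mul_ne_zero (hv χ hχ h0) hL) h2.symm
    · exact Nat.not_dvd_ordCompl hp.out Nat.card_pos.ne' ((res_natCast_eq_zero_iff M hM m).mp ((map_natCast (res M) m).trans h6))
  have hψZ : (zomega ψ Z : locRing M) ≠ 0 := fun h => hres (by
    rw [bomega_eq_of_mem hB hχ hψ, bomega_apply, h, map_zero])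
  obtain ⟨α, β, hab⟩ := Int.isCoprime_iff_nat_coprime.mpr
    (show Nat.Coprime ((p ^ blockHeight p B (ψ : G → ℂ) : ℕ) : ℤ).natAbs (m : ℤ).natAbs by simpa using hcop)
  set N := p ^ blockHeight p B (ψ : G → ℂ) with hN
  set e := charDegree (ψ : G → ℂ) / p ^ (charDegree (ψ : G → ℂ)).factorization p
  have hab' : (α : ℂ) * (N : ℂ) + (β : ℂ) * (m : ℂ) = 1 := by exact_mod_cast hab
  have hψ' := key ψ hψ
  refine ⟨(α : ℂ) * contrib p x b χ ψ + (β : ℂ) * ((e : ℂ) * (zomega ψ Z : ℂ)), ?_, fun hw => ?_, ?_⟩
  · exact ((isIntegral_algebraMap (x := α)).mul (isIntegral_contrib hM hind.1 χ ψ)).add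
      ((isIntegral_algebraMap (x := β)).mul ((isIntegral_algebraMap (x := (e : ℤ))).mul (hZ ψ).1))
  · have h1 : contrib p x b χ ψ = 0 := by
      linear_combination (N : ℂ) * hw + (β : ℂ) * hψ' - contrib p x b χ ψ * hab'
    rw [h1, zero_mul] at hψ'
    have hN0 : (N : ℂ) ≠ 0 := Nat.cast_ne_zero.mpr (pow_ne_zero _ hp.out.ne_zero)
    have he0 : (e : ℂ) ≠ 0 := Nat.cast_ne_zero.mpr
      (Nat.ordCompl_pos p (CfsgLib.CharBlocks.charDegree_pos ψ.2).ne').ne'
    exact hψZ (Subtype.ext (((mul_eq_zero.mp hψ'.symm).resolve_left (mul_ne_zero hN0 he0)).trans rfl))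
  · linear_combination (β : ℂ) * hψ' - contrib p x b χ ψ * hab'

/-- The sum of the squared contributions, under any automorphism. -/
theorem sum_normSq_contrib (hM : IsPModular p M) (hx : ∃ k : ℕ, orderOf x = p ^ k)
    (hind : IsInducedBlock M (Subgroup.centralizer ({x} : Set G)) b B) (σ : ℂ ≃+* ℂ)
    [DecidablePred (· ∈ B)] :
    ∑ a ∈ (Finset.univ.filter fun χ : IrrCharacter G => χ ∈ B) ×ˢ
        (Finset.univ.filter fun χ : IrrCharacter G => χ ∈ B),
      Complex.normSq (σ (contrib p x b a.1 a.2)) =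
      ((p ^ (2 * blockDefect p b) * blockRank p b : ℕ) : ℝ) := by
  classical
  apply Complex.ofReal_injective
  rw [Complex.ofReal_sum, Complex.ofReal_natCast, Finset.sum_product, Finset.sum_filter]
  have h5 : ∀ χ : IrrCharacter G, (∑ ψ ∈ Finset.univ.filter fun ψ : IrrCharacter G => ψ ∈ B,
      ((Complex.normSq (σ (contrib p x b χ ψ)) : ℝ) : ℂ)) =
      σ (((p ^ blockDefect p b : ℕ) : ℂ) * contrib p x b χ χ) := by
    intro χ
    rw [← contrib_sum_mul hM hx hind χ χ, map_sum, Finset.sum_filter]
    refine Finset.sum_congr rfl fun ψ _ => ?_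
    split_ifs
    · rw [contrib_conj χ ψ, map_mul,
        show σ (conj (contrib p x b χ ψ)) = conj (σ (contrib p x b χ ψ)) from
          contrib_mem_conjCommute σ χ ψ, Complex.mul_conj]
    · rw [map_zero]
  simp only [h5]
  rw [← Finset.sum_filter, ← map_sum, ← Finset.mul_sum, Finset.sum_filter,
    sum_contrib_self hM hx hind, map_mul, map_mul, map_natCast, map_natCast]
  push_cast
  ring

/-- The weighted Brauer bound of a major subsection. -/
theorem heightZero_mul_sum_le (hM : IsPModular p M) (hx : ∃ k : ℕ, orderOf x = p ^ k)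
    (hind : IsInducedBlock M (Subgroup.centralizer ({x} : Set G)) b B)
    (hd : blockDefect p b = blockDefect p B) :
    Nat.card {χ : IrrCharacter G // χ ∈ B ∧ blockHeight p B (χ : G → ℂ) = 0} *
        ∑ᶠ ψ ∈ B, p ^ (2 * blockHeight p B (ψ : G → ℂ)) ≤
      p ^ (2 * blockDefect p B) * blockRank p b := by
  classical
  set s := Finset.univ.filter fun χ : IrrCharacter G => χ ∈ B ∧ blockHeight p B (χ : G → ℂ) = 0 with hs
  set t := Finset.univ.filter fun χ : IrrCharacter G => χ ∈ B with ht
  rw [show Nat.card {χ : IrrCharacter G // χ ∈ B ∧ blockHeight p B (χ : G → ℂ) = 0} = s.card by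
      rw [Nat.card_eq_fintype_card, Fintype.card_subtype],
    finsum_mem_eq_finite_toFinset_sum _ B.toFinite,
    show B.toFinite.toFinset = t by ext; simp [ht]]
  let q : IrrCharacter G → ℕ := fun ψ => p ^ blockHeight p B (ψ : G → ℂ)
  have hwex : ∀ a : IrrCharacter G × IrrCharacter G, ∃ w : ℂ, a ∈ s ×ˢ t →
      IsIntegral ℤ w ∧ w ≠ 0 ∧ contrib p x b a.1 a.2 = (q a.2 : ℂ) * w := by
    intro a
    by_cases ha : a ∈ s ×ˢ t
    · obtain ⟨h1, h2⟩ := Finset.mem_product.mp ha
      obtain ⟨-, h1, h1'⟩ := Finset.mem_filter.mp h1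
      obtain ⟨w, hw⟩ := contrib_height hM hx hind hd h1 h1' (Finset.mem_filter.mp h2).2
      exact ⟨w, fun _ => hw⟩
    · exact ⟨0, fun h => absurd h ha⟩
  choose w hw using hwex
  have hσ : ∀ (σ : ℂ ≃+* ℂ), ∀ a ∈ s ×ˢ t, σ (w a * conj (w a)) =
      ((Complex.normSq (σ (w a)) : ℝ) : ℂ) := by
    intro σ a ha
    have hq : (q a.2 : ℂ) ≠ 0 := Nat.cast_ne_zero.mpr (pow_ne_zero _ hp.out.ne_zero)
    have hm : σ (conj (w a)) = conj (σ (w a)) := by
      have h1 : σ (conj (contrib p x b a.1 a.2)) = conj (σ (contrib p x b a.1 a.2)) :=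
        contrib_mem_conjCommute σ a.1 a.2
      rw [(hw a ha).2.2, map_mul, map_mul, map_mul, map_mul, Complex.conj_natCast, map_natCast,
        Complex.conj_natCast] at h1
      exact mul_left_cancel₀ hq h1
    rw [map_mul, hm, Complex.mul_conj]
  obtain ⟨σ, hσ1⟩ := exists_conjugate_sum_ge (s ×ˢ t) (fun a => w a * conj (w a)) (fun a => q a.2 ^ 2)
    (fun a ha => (hw a ha).1.mul (map_isIntegral_int (starRingEnd ℂ) (hw a ha).1))
    (fun a ha => mul_ne_zero (hw a ha).2.1
      ((map_ne_zero_iff _ (starRingEnd ℂ).injective).mpr (hw a ha).2.1))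
    (fun a ha τ => ⟨_, Complex.normSq_nonneg _, hσ τ a ha⟩)
  have hl : ∀ a ∈ s ×ˢ t, ((q a.2 ^ 2 : ℕ) : ℝ) * (σ (w a * conj (w a))).re =
      Complex.normSq (σ (contrib p x b a.1 a.2)) := by
    intro a ha
    rw [hσ σ a ha, Complex.ofReal_re, (hw a ha).2.2, map_mul, map_natCast, Complex.normSq_mul,
      Complex.normSq_natCast]
    push_cast
    ring
  rw [Finset.sum_congr rfl hl] at hσ1
  have h4 : ∑ a ∈ t ×ˢ t, Complex.normSq (σ (contrib p x b a.1 a.2)) =
      ((p ^ (2 * blockDefect p b) * blockRank p b : ℕ) : ℝ) := sum_normSq_contrib hM hx hind σ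
  have h6 := hσ1.trans ((Finset.sum_le_sum_of_subset_of_nonneg
    (Finset.product_subset_product (show s ⊆ t from fun χ hχ =>
      Finset.mem_filter.mpr ⟨Finset.mem_univ _, (Finset.mem_filter.mp hχ).2.1⟩) subset_rfl)
    fun a _ _ => Complex.normSq_nonneg _).trans_eq h4)
  rw [Nat.cast_le, hd, Finset.sum_product] at h6
  simpa only [q, Finset.sum_const, smul_eq_mul, ← pow_mul, mul_comm _ 2] using h6

end CfsgLib.BlockArith
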