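import Cfsg.Agent.Lib.BlockArith.Blichfeldt
import Cfsg.Agent.Lib.Modular.Lift
import Mathlib.Analysis.SpecialFunctions.Complex.CircleAddChar

/-!
# Eigenvalues of an element of order `p` in a character of the principal `p`-block

* `pw`, `sum_pw`: the powers of an element of order `p`, indexed by `ZMod p`;
* `exists_few_eigen`: with a class of order prime to `p` and `χ 1 = p ^ i * g'` at most `g'` of the
  eigenvalues occur;
* `exists_near`: few eigenvalues can be moved close to one of them;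
* `few_eigen_bound`: hence `p ≤ 6 ^ (g' - 1)` in a simple group.
-/

set_option autoImplicit false

noncomputable section

open scoped ComplexConjugate

namespace CfsgLib.BlockArith.Blichfeldt

open Cfsg CfsgLib.Blocks

variable {G : Type*} [Group G] [Fintype G] {p : ℕ} [hp : Fact p.Prime]

/-- The powers of `y`. -/
def pw (y : G) (t : ZMod p) : G := y ^ t.val

omit [Fintype G] in
theorem pw_add {y : G} (hy : orderOf y = p) (a b : ZMod p) : pw y (a + b) = pw y a * pw y b := by
  rw [pw, pw, pw, ← pow_add, pow_eq_pow_iff_modEq, hy, ZMod.val_add]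
  exact Nat.mod_modEq _ _

omit [Fintype G] in
theorem pw_zero (y : G) : pw y (0 : ZMod p) = 1 := by rw [pw, ZMod.val_zero, pow_zero]

omit [Fintype G] in
theorem centralizer_pw {y : G} (hy : orderOf y = p) {t : ZMod p} (ht : t ≠ 0) :
    Subgroup.centralizer ({pw y t} : Set G) = Subgroup.centralizer ({y} : Set G) := by
  have h0 : t.val ≠ 0 := (ZMod.val_ne_zero t).2 ht
  have hcop : Nat.Coprime t.val (orderOf y) := by
    rw [hy]
    exact (hp.out.coprime_iff_not_dvd.2
      (Nat.not_dvd_of_pos_of_lt (Nat.pos_of_ne_zero h0) (ZMod.val_lt t))).symm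
  obtain ⟨j, hj⟩ := exists_pow_eq_self_of_coprime hcop
  ext x
  rw [Subgroup.mem_centralizer_singleton_iff, Subgroup.mem_centralizer_singleton_iff]
  exact ⟨fun h => by rw [← hj]; exact (Commute.pow_right h j).eq, fun h => (Commute.pow_right h _).eq⟩

/-- The multiplicities of the eigenvalues. -/
theorem exists_eigen_mult {χ : G → ℂ} (hχ : IsCharacter G χ) {y : G} (hy : orderOf y = p) :
    ∃ n : ZMod p → ℕ, (∀ l, ∑ t : ZMod p, ZMod.stdAddChar (-(l * t)) * χ (pw y t) = (p : ℂ) * (n l : ℂ)) ∧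
      ∑ l, (n l : ℂ) = χ 1 := by
  classical
  let _ : Fintype (Multiplicative (ZMod p)) := Fintype.ofEquiv _ Multiplicative.ofAdd
  let f : Multiplicative (ZMod p) →* G :=
    MonoidHom.mk' (fun a => pw y a.toAdd) fun a b => by rw [toAdd_mul, pw_add hy]
  have h : ∀ l : ZMod p, ∃ n : ℕ, ∑ t : ZMod p, ZMod.stdAddChar (-(l * t)) * χ (pw y t) = (p : ℂ) * (n : ℂ) := by
    intro l
    let lam : Multiplicative (ZMod p) →* ℂ :=
      { toFun := fun a => ZMod.stdAddChar (l * a.toAdd)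
        map_one' := by rw [toAdd_one, mul_zero, AddChar.map_zero_eq_one]
        map_mul' := fun a b => by rw [toAdd_mul, mul_add, AddChar.map_add_eq_mul] }
    obtain ⟨n, hn⟩ := CfsgLib.Char.classInner_char_nat (CfsgLib.Char.isCharacter_comp hχ f)
      (CfsgLib.Char.isCharacter_of_isIrr (CfsgLib.Char.isIrrCharacter_hom lam))
    refine ⟨n, ?_⟩
    rw [← hn, CfsgLib.Char.classInner_def, Nat.card_congr Multiplicative.toAdd, Nat.card_zmod, ← mul_assoc,
      mul_inv_cancel₀ (Nat.cast_ne_zero.2 hp.out.ne_zero), one_mul]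
    refine Fintype.sum_equiv Multiplicative.ofAdd _ _ fun t => ?_
    show _ = χ (pw y t) * conj (ZMod.stdAddChar (l * t))
    rw [← AddChar.map_neg_eq_conj, mul_comm]
  choose n hn using h
  refine ⟨n, hn, ?_⟩
  have hp0 : (p : ℂ) ≠ 0 := Nat.cast_ne_zero.2 hp.out.ne_zero
  refine mul_left_cancel₀ hp0 ?_
  rw [Finset.mul_sum, Finset.sum_congr rfl fun l _ => (hn l).symm, Finset.sum_comm]
  simp only [← Finset.sum_mul]
  have hsum : ∀ t : ZMod p, ∑ l : ZMod p, ZMod.stdAddChar (-(l * t)) = if t = 0 then (p : ℂ) else 0 := fun t => by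
    rw [Finset.sum_congr rfl fun l _ => by rw [← mul_neg], AddChar.sum_mulShift (-t) (ZMod.isPrimitive_stdAddChar p),
      ZMod.card]
    simp [neg_eq_zero]
  simp only [hsum, ite_mul, zero_mul, Finset.sum_ite_eq', Finset.mem_univ, if_true, pw_zero]

variable {M : Ideal AlgInt} [M.IsMaximal]

omit [Fintype G] in
theorem resI_root_eq_one (hM : IsPModular p M) {z : ℂ} (hz : z ^ p = 1) :
    CfsgLib.Modular.resI M z = 1 := by
  have := res_charP M hM
  have h := CfsgLib.Modular.resI_pow (M := M) hp.out.pos hz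
  have h2 : (CfsgLib.Modular.resI M z - 1) ^ p = 0 := by rw [sub_pow_char, h, one_pow, sub_self]
  exact sub_eq_zero.1 (eq_zero_of_pow_eq_zero h2)

/-- **Few eigenvalues** in the principal block. -/
theorem exists_few_eigen (hM : IsPModular p M) (χ : IrrCharacter G) (hχ : χ ∈ principalBlock M G) {y : G}
    (hy : orderOf y = p) (hidx : ¬ p ∣ (Subgroup.centralizer ({y} : Set G)).index) {i g' : ℕ}
    (hdeg : (χ : G → ℂ) 1 = ((p ^ i * g' : ℕ) : ℂ)) :
    ∃ n : ZMod p → ℕ, (∀ l, ∑ t : ZMod p, ZMod.stdAddChar (-(l * t)) * (χ : G → ℂ) (pw y t) = (p : ℂ) * (n l : ℂ)) ∧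
      ∑ l, (n l : ℂ) = (χ : G → ℂ) 1 ∧ (Finset.univ.filter fun l => n l ≠ 0).card ≤ g' := by
  classical
  obtain ⟨n, hn, hsum⟩ := exists_eigen_mult (CfsgLib.Char.isCharacter_of_isIrr χ.2) hy
  refine ⟨n, hn, hsum, ?_⟩
  set N := (Subgroup.centralizer ({y} : Set G)).index with hN
  have h1 : (χ : G → ℂ) 1 ≠ 0 := CfsgLib.Char.irr_one_ne_zero χ.2
  have hd0 : p ^ i * g' ≠ 0 := fun h => h1 (by rw [hdeg, h, Nat.cast_zero])
  let F : ZMod p → ℂ := fun t => (N : ℂ) * (χ : G → ℂ) (pw y t) / (χ : G → ℂ) 1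
  have hFt : ∀ t, t ≠ 0 → F t = centralChar (χ : G → ℂ) (pw y t) := fun t ht => by
    rw [centralChar, centralizer_pw hy ht, ← hN]
  have hFint : ∀ t, IsIntegral ℤ (F t) := fun t => by
    by_cases ht : t = 0
    · simp only [F, ht, pw_zero, mul_div_assoc, div_self h1, mul_one]
      simpa using isIntegral_algebraMap (R := ℤ) (A := ℂ) (x := (N : ℤ))
    · rw [hFt t ht]
      exact CfsgLib.Char.isIntegral_index_mul_div χ.2 _
  have hFres : ∀ t, res M (ofInt M ⟨F t, hFint t⟩) = res M ((N : ℕ) : locRing M) := fun t => by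
    rw [← memLocalIdeal_sub_iff]
    by_cases ht : t = 0
    · have e : F t = (N : ℂ) := by
        simp only [F, ht, pw_zero, mul_div_assoc, div_self h1, mul_one]
      show MemLocalIdeal M (F t - (N : ℂ))
      rw [e, sub_self]
      exact ⟨0, 1, M.zero_mem, fun h => Ideal.IsMaximal.ne_top ‹_› ((Ideal.eq_top_iff_one _).mpr h), by simp⟩
    · have h := hχ (pw y t)
      rw [← hFt t ht, centralChar, centralizer_pw hy ht, ← hN, mul_one, div_one] at h
      obtain ⟨a, b, ha, hb, hab⟩ := h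
      refine ⟨-a, b, M.neg_mem ha, hb, ?_⟩
      show ((-a : AlgInt) : ℂ) / (b : ℂ) = F t - (N : ℂ)
      push_cast
      rw [neg_div, hab]
      ring
  have hψ : ∀ x : ZMod p, (ZMod.stdAddChar x : ℂ) ^ p = 1 := fun x => by
    rw [← AddChar.map_nsmul_eq_pow, nsmul_eq_mul, ZMod.natCast_self, zero_mul, AddChar.map_zero_eq_one]
  have hdvd : ∀ l, p ^ i * g' ∣ N * (p * n l) ∧ ∀ z, N * (p * n l) = p ^ i * g' * z → p ∣ z := fun l => by
    let S : locRing M := ∑ t : ZMod p,
      (⟨ZMod.stdAddChar (-(l * t)), CfsgLib.Modular.root_mem_locRing hp.out.pos (hψ _)⟩ : locRing M) *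
        ofInt M ⟨F t, hFint t⟩
    have hSval : (S : ℂ) = ((N * (p * n l) : ℕ) : ℂ) / ((p ^ i * g' : ℕ) : ℂ) := by
      simp only [S, AddSubmonoidClass.coe_finsetSum, Subring.coe_mul]
      rw [← hdeg, eq_div_iff h1, Finset.sum_mul]
      push_cast
      rw [← hn l, Finset.mul_sum]
      refine Finset.sum_congr rfl fun t _ => ?_
      show ZMod.stdAddChar (-(l * t)) * F t * (χ : G → ℂ) 1 = _
      simp only [F]
      field_simp
    have hSres : res M S = 0 := by
      simp only [S, map_sum, map_mul, hFres]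
      rw [Finset.sum_congr rfl fun t _ => by
        rw [show res M (⟨ZMod.stdAddChar (-(l * t)), CfsgLib.Modular.root_mem_locRing hp.out.pos (hψ _)⟩ : locRing M) = 1
          from (CfsgLib.Modular.resI_coe _).symm.trans (resI_root_eq_one hM (hψ _)), one_mul],
        Finset.sum_const, Finset.card_univ, ZMod.card, nsmul_eq_mul]
      have := res_charP M hM
      rw [CharP.cast_eq_zero, zero_mul]
    have hSint : IsIntegral ℤ (S : ℂ) := by
      simp only [S, AddSubmonoidClass.coe_finsetSum, Subring.coe_mul]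
      refine IsIntegral.sum _ fun t _ => IsIntegral.mul ?_ (hFint t)
      exact IsIntegral.of_pow hp.out.pos (by rw [hψ]; exact isIntegral_one)
    have hd := CfsgLib.Char.dvd_of_isIntegral_div hd0 (hSval ▸ hSint)
    refine ⟨hd, fun z hz => ?_⟩
    have hSz : S = ((z : ℕ) : locRing M) := Subtype.ext (by
      rw [hSval, hz]
      push_cast
      rw [mul_div_cancel_left₀ _ (by exact_mod_cast hd0)])
    rw [hSz] at hSres
    exact (res_natCast_eq_zero_iff M hM z).1 hSres
  have hpi : ∀ l, p ^ i ∣ n l := fun l => by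
    obtain ⟨⟨z, hz⟩, h2⟩ := hdvd l
    obtain ⟨w, rfl⟩ := h2 z hz
    have h3 : N * n l = p ^ i * (g' * w) := by
      have : p * (N * n l) = p * (p ^ i * (g' * w)) := by linear_combination hz
      exact mul_left_cancel₀ hp.out.ne_zero this
    exact (Nat.Coprime.pow_left i (hp.out.coprime_iff_not_dvd.2 hidx)).dvd_of_dvd_mul_left ⟨g' * w, h3⟩
  have hsumN : ∑ l, n l = p ^ i * g' := by
    have : ((∑ l, n l : ℕ) : ℂ) = ((p ^ i * g' : ℕ) : ℂ) := by rw [Nat.cast_sum, hsum, hdeg]
    exact_mod_cast this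
  refine Nat.le_of_mul_le_mul_left ?_ (pow_pos hp.out.pos i)
  calc p ^ i * (Finset.univ.filter fun l => n l ≠ 0).card
      = ∑ l ∈ Finset.univ.filter (fun l => n l ≠ 0), p ^ i := by rw [Finset.sum_const, smul_eq_mul, mul_comm]
    _ ≤ ∑ l ∈ Finset.univ.filter (fun l => n l ≠ 0), n l := Finset.sum_le_sum fun l hl =>
        Nat.le_of_dvd (Nat.pos_of_ne_zero (Finset.mem_filter.1 hl).2) (hpi l)
    _ ≤ ∑ l, n l := Finset.sum_le_univ_sum_of_nonneg fun l => Nat.zero_le _
    _ = p ^ i * g' := hsumN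

omit [Fintype G] in
/-- A multiplier moving few residues near one of them. -/
theorem exists_near (E : Finset (ZMod p)) {e₀ : ZMod p} (he : e₀ ∈ E) (hbig : 6 ^ (E.card - 1) < p) :
    ∃ τ : ZMod p, τ ≠ 0 ∧ ∀ e ∈ E, Complex.normSq (ZMod.stdAddChar ((e - e₀) * τ) - 1) < 1 := by
  classical
  let f : ZMod p → (↥(E.erase e₀) → Fin 6) := fun t e =>
    ⟨6 * (((e : ZMod p) - e₀) * t).val / p, (Nat.div_lt_iff_lt_mul hp.out.pos).2 (by
      have := ZMod.val_lt (((e : ZMod p) - e₀) * t); omega)⟩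
  obtain ⟨t₁, t₂, hne, hft⟩ := Fintype.exists_ne_map_eq_of_card_lt f (by
    rw [Fintype.card_fun, Fintype.card_coe, Fintype.card_fin, Finset.card_erase_of_mem he, ZMod.card]
    exact hbig)
  refine ⟨t₁ - t₂, sub_ne_zero.2 hne, fun e heE => ?_⟩
  by_cases he0 : e = e₀
  · simp [he0]
  have h := congrArg Fin.val (congrFun hft ⟨e, Finset.mem_erase.2 ⟨he0, heE⟩⟩)
  simp only [f] at h
  set v₁ := ((e - e₀) * t₁).val with hv1
  set v₂ := ((e - e₀) * t₂).val with hv2
  have e1 := Nat.div_add_mod (6 * v₁) p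
  have e2 := Nat.div_add_mod (6 * v₂) p
  have b1 := Nat.mod_lt (6 * v₁) hp.out.pos
  have b2 := Nat.mod_lt (6 * v₂) hp.out.pos
  rw [h] at e1
  have hd : (e - e₀) * (t₁ - t₂) = (((v₁ : ℤ) - (v₂ : ℤ) : ℤ) : ZMod p) := by
    rw [Int.cast_sub, Int.cast_natCast, Int.cast_natCast, hv1, hv2, ZMod.natCast_zmod_val, ZMod.natCast_zmod_val,
      mul_sub]
  rw [hd, ZMod.stdAddChar_coe]
  set x : ℝ := (((v₁ : ℤ) - (v₂ : ℤ) : ℤ) : ℝ) / (p : ℝ) with hx
  have hexp : 2 * (Real.pi : ℂ) * Complex.I * (((v₁ : ℤ) - (v₂ : ℤ) : ℤ) : ℂ) / (p : ℂ) =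
      ((2 * Real.pi * x : ℝ) : ℂ) * Complex.I := by
    rw [hx]; push_cast; ring
  rw [hexp]
  have hp0 : (0 : ℝ) < p := Nat.cast_pos.2 hp.out.pos
  have hxb : |x| < 1 / 6 := by
    have h1 : (6 * ((v₁ : ℤ) - v₂) : ℤ) < p ∧ -(p : ℤ) < 6 * ((v₁ : ℤ) - v₂) := by omega
    have h1a : (6 : ℝ) * (((v₁ : ℤ) - (v₂ : ℤ) : ℤ) : ℝ) < p := by exact_mod_cast h1.1
    have h1b : -(p : ℝ) < 6 * (((v₁ : ℤ) - (v₂ : ℤ) : ℤ) : ℝ) := by exact_mod_cast h1.2
    rw [hx, abs_div, abs_of_pos hp0, div_lt_iff₀ hp0, abs_lt]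
    constructor <;> linarith
  have hcos : 1 / 2 < Real.cos (2 * Real.pi * x) := by
    rw [← Real.cos_abs, ← Real.cos_pi_div_three]
    have hpi := Real.pi_pos
    have hab : |2 * Real.pi * x| = 2 * Real.pi * |x| := by
      rw [abs_mul, abs_of_pos (by positivity)]
    refine Real.cos_lt_cos_of_nonneg_of_le_pi (abs_nonneg _) (by linarith) ?_
    rw [hab]
    nlinarith
  rw [Complex.normSq_apply, Complex.sub_re, Complex.sub_im, Complex.one_re, Complex.one_im,
    Complex.exp_ofReal_mul_I_re, Complex.exp_ofReal_mul_I_im]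
  nlinarith [Real.sin_sq_add_cos_sq (2 * Real.pi * x)]

/-- **The bound** for a simple group. -/
theorem few_eigen_bound [IsSimpleGroup G] (hcen : ∀ z : G, (∀ g, g * z = z * g) → z = 1) (χ : IrrCharacter G)
    (hχ1 : (χ : G → ℂ) ≠ fun _ => 1) {y : G} (hy : orderOf y = p) {n : ZMod p → ℕ}
    (hn : ∀ l, ∑ t : ZMod p, ZMod.stdAddChar (-(l * t)) * (χ : G → ℂ) (pw y t) = (p : ℂ) * (n l : ℂ))
    {k : ℕ} (hk : (Finset.univ.filter fun l => n l ≠ 0).card ≤ k) : p ≤ 6 ^ (k - 1) := by
  classical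
  by_contra hbig
  push Not at hbig
  have hirrχ := χ.2
  obtain ⟨d, ρ, hirr, hρχ⟩ := χ.2
  haveI := hirr
  have hp0 : (p : ℂ) ≠ 0 := Nat.cast_ne_zero.2 hp.out.ne_zero
  have hinj : Function.Injective ρ := by
    let K : Subgroup G :=
      { carrier := {g | ρ g = 1}
        mul_mem' := fun {a b} (ha : ρ a = 1) (hb : ρ b = 1) => show ρ (a * b) = 1 by rw [map_mul, ha, hb, one_mul]
        one_mem' := map_one ρ
        inv_mem' := fun {a} (ha : ρ a = 1) => show ρ a⁻¹ = 1 by
          have h1 := congrArg (ρ a⁻¹ * ·) ha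
          simp only [← map_mul, inv_mul_cancel, map_one, mul_one] at h1
          exact h1.symm }
    have hK : K.Normal := ⟨fun a (ha : ρ a = 1) g => show ρ (g * a * g⁻¹) = 1 by
      rw [map_mul, map_mul, ha, mul_one, ← map_mul, mul_inv_cancel, map_one]⟩
    rcases hK.eq_bot_or_eq_top with h | h
    · intro a b hab
      have hm : b⁻¹ * a ∈ K := show ρ (b⁻¹ * a) = 1 by
        rw [map_mul, hab, ← map_mul, inv_mul_cancel, map_one]
      rw [h, Subgroup.mem_bot, inv_mul_eq_one] at hm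
      exact hm.symm
    · exfalso
      have hconst : ∀ g, (χ : G → ℂ) g = (χ : G → ℂ) 1 := fun g => by
        have hgK : g ∈ K := by rw [h]; exact Subgroup.mem_top g
        have hg : ρ g = 1 := hgK
        rw [← hρχ]
        show LinearMap.trace ℂ _ (ρ g) = LinearMap.trace ℂ _ (ρ 1)
        rw [hg, map_one ρ]
      have hin := CfsgLib.Char.classInner_irr_self hirrχ
      obtain ⟨m, hm⟩ := CfsgLib.Char.exists_degree (CfsgLib.Char.isCharacter_of_isIrr hirrχ)
      rw [CfsgLib.Char.classInner_def] at hin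
      simp only [hconst, hm, map_natCast, Finset.sum_const, Finset.card_univ, nsmul_eq_mul,
        ← Nat.card_eq_fintype_card] at hin
      rw [← mul_assoc, inv_mul_cancel₀ CfsgLib.Char.card_ne_zero', one_mul] at hin
      have hm1 : m = 1 := by
        have : m * m = 1 := by exact_mod_cast hin
        exact Nat.eq_one_of_mul_eq_one_left this
      exact hχ1 (funext fun g => by rw [hconst g, hm, hm1, Nat.cast_one])
  -- eigen projections
  let ψ : AddChar (ZMod p) ℂ := ZMod.stdAddChar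
  let P : ZMod p → Module.End ℂ (Fin d → ℂ) := fun l => (p : ℂ)⁻¹ • ∑ t : ZMod p, ψ (-(l * t)) • ρ (pw y t)
  have hsumP : ∀ x, ∑ l, P l x = x := fun x => by
    simp only [P, LinearMap.smul_apply, LinearMap.sum_apply, ← Finset.smul_sum]
    rw [Finset.sum_comm]
    have hs : ∀ t : ZMod p, ∑ l : ZMod p, ψ (-(l * t)) = if t = 0 then (p : ℂ) else 0 := fun t => by
      rw [Finset.sum_congr rfl fun l _ => by rw [← mul_neg], AddChar.sum_mulShift (-t) (ZMod.isPrimitive_stdAddChar p),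
        ZMod.card]
      simp [neg_eq_zero]
    simp only [← Finset.sum_smul, hs, ite_smul, zero_smul, Finset.sum_ite_eq', Finset.mem_univ, if_true, pw_zero,
      map_one, Module.End.one_apply, smul_smul, inv_mul_cancel₀ hp0, one_smul]
  have hact : ∀ a l, ρ (pw y a) * P l = ψ (l * a) • P l := fun a l => by
    simp only [P, mul_smul_comm, Finset.mul_sum]
    rw [smul_comm]
    congr 1
    rw [Finset.smul_sum]
    refine Fintype.sum_equiv (Equiv.addLeft a) _ _ fun t => ?_
    rw [Equiv.coe_addLeft, ← map_mul, ← pw_add hy, smul_smul, ← AddChar.map_add_eq_mul]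
    congr 2
    ring
  have hP2 : ∀ l, P l * P l = P l := fun l => by
    conv_lhs => arg 1; rw [show P l = (p : ℂ)⁻¹ • ∑ t : ZMod p, ψ (-(l * t)) • ρ (pw y t) from rfl]
    simp only [smul_mul_assoc, Finset.sum_mul, hact, smul_smul, ← AddChar.map_add_eq_mul, neg_add_cancel,
      AddChar.map_zero_eq_one, one_smul, Finset.sum_const, Finset.card_univ, ZMod.card,
      ← Nat.cast_smul_eq_nsmul ℂ, inv_mul_cancel₀ hp0]
  have hPtr : ∀ l, LinearMap.trace ℂ _ (P l) = (n l : ℂ) := fun l => by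
    simp only [P, map_smul, map_sum, smul_eq_mul]
    rw [show ∑ t : ZMod p, ψ (-(l * t)) * LinearMap.trace ℂ _ (ρ (pw y t)) = (p : ℂ) * (n l : ℂ) by
      rw [← hn l, ← hρχ]; rfl, ← mul_assoc, inv_mul_cancel₀ hp0, one_mul]
  have hP0 : ∀ l, n l = 0 → P l = 0 := fun l hl => by
    have hproj : LinearMap.IsProj (LinearMap.range (P l)) (P l) := by
      refine ⟨fun x => LinearMap.mem_range_self _ x, ?_⟩
      rintro _ ⟨x, rfl⟩
      rw [← Module.End.mul_apply, hP2]
    have htr := hproj.trace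
    rw [hPtr, hl, Nat.cast_zero] at htr
    have hfr : Module.finrank ℂ (LinearMap.range (P l)) = 0 := by exact_mod_cast htr.symm
    exact LinearMap.range_eq_bot.1 (Submodule.finrank_eq_zero.1 hfr)
  set E := Finset.univ.filter fun l => n l ≠ 0 with hE
  obtain ⟨e₀, he₀, w, hw⟩ : ∃ e₀ ∈ E, ∃ x, P e₀ x ≠ 0 := by
    by_contra hno
    push Not at hno
    have hd0 : (χ : G → ℂ) 1 ≠ 0 := CfsgLib.Char.irr_one_ne_zero hirrχ
    refine hd0 ?_
    rw [← hρχ, Representation.character, map_one]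
    have h0 : (1 : Module.End ℂ (Fin d → ℂ)) = 0 := LinearMap.ext fun x => by
      rw [Module.End.one_apply, LinearMap.zero_apply, ← hsumP x]
      refine Finset.sum_eq_zero fun l _ => ?_
      by_cases hl : l ∈ E
      · exact hno l hl x
      · rw [hP0 l (by simpa [hE] using hl), LinearMap.zero_apply]
    rw [h0, map_zero]
  obtain ⟨τ, hτ0, hτ⟩ := exists_near E he₀
    (lt_of_le_of_lt (Nat.pow_le_pow_right (by norm_num) (Nat.sub_le_sub_right hk 1)) hbig)
  set c : ℂ := ψ (-(e₀ * τ)) with hc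
  have hcp : c ^ p = 1 := by
    rw [hc, ← AddChar.map_nsmul_eq_pow, nsmul_eq_mul, ZMod.natCast_self, zero_mul, AddChar.map_zero_eq_one]
  have hcc : conj c * c = 1 := by
    rw [hc, ← AddChar.map_neg_eq_conj, ← AddChar.map_add_eq_mul, neg_add_cancel, AddChar.map_zero_eq_one]
  have hs : pw y τ ^ p = 1 := by rw [pw, ← pow_mul, mul_comm, pow_mul, orderOf_dvd_iff_pow_eq_one.1 (dvd_of_eq hy), one_pow]
  set κ : ℝ := E.sup' ⟨e₀, he₀⟩ fun e => Complex.normSq (ψ ((e - e₀) * τ) - 1) with hκ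
  have hκ0 : 0 ≤ κ := le_trans (Complex.normSq_nonneg (ψ ((e₀ - e₀) * τ) - 1))
    (Finset.le_sup' (fun e => Complex.normSq (ψ ((e - e₀) * τ) - 1)) he₀)
  have hκ1 : κ < 1 := (Finset.sup'_lt_iff _).2 hτ
  have hTP : ∀ l x, twist ρ c (pw y τ) (P l x) = ψ ((l - e₀) * τ) • P l x := fun l x => by
    rw [twist_apply, ← Module.End.mul_apply, hact, LinearMap.smul_apply, smul_smul, hc, ← AddChar.map_add_eq_mul]
    congr 2
    ring
  have horth : ∀ a b x z, a ≠ b → avgInner ρ (P a x) (P b z) = 0 := fun a b x z hab => by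
    have h := avgInner_act ρ (pw y (1 : ZMod p)) (P a x) (P b z)
    have hv : ∀ l u, ρ (pw y (1 : ZMod p)) (P l u) = ψ (l * 1) • P l u := fun l u => LinearMap.congr_fun (hact 1 l) u
    rw [hv, hv,
      avgInner_smul_left, avgInner_smul_right, ← mul_assoc, ← AddChar.map_neg_eq_conj, mul_one, mul_one,
      ← AddChar.map_add_eq_mul] at h
    by_contra hne
    have hone : ψ (-a + b) = 1 := mul_right_cancel₀ hne (h.trans (one_mul _).symm)
    have := ((ZMod.isPrimitive_stdAddChar p).zmod_char_eq_one_iff p _).1 hone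
    exact hab (neg_add_eq_zero.1 this)
  have hnorm : ∀ (a : ZMod p → ℂ) x, avgNorm ρ (∑ l, a l • P l x) = ∑ l, Complex.normSq (a l) * avgNorm ρ (P l x) := by
    intro a x
    rw [← Complex.ofReal_inj]
    push_cast
    rw [← avgInner_self, avgInner_sum_left]
    refine Finset.sum_congr rfl fun l _ => ?_
    rw [avgInner_sum_right, Finset.sum_eq_single l (fun b _ hb => by
      rw [avgInner_smul_left, avgInner_smul_right, horth l b x x (Ne.symm hb), mul_zero, mul_zero])
      (fun h => absurd (Finset.mem_univ l) h), avgInner_smul_left, avgInner_smul_right, avgInner_self,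
      Complex.normSq_eq_conj_mul_self, mul_assoc]
  have hbound : ∀ x, avgNorm ρ (twist ρ c (pw y τ) x - x) ≤ κ * avgNorm ρ x := fun x => by
    have e1 : twist ρ c (pw y τ) x - x = ∑ l, (ψ ((l - e₀) * τ) - 1) • P l x := by
      simp only [sub_smul, one_smul, Finset.sum_sub_distrib, ← hTP, ← map_sum, hsumP]
    have e2 : avgNorm ρ x = ∑ l, Complex.normSq (1 : ℂ) * avgNorm ρ (P l x) := by
      rw [← hnorm (fun _ => 1) x]; simp only [one_smul, hsumP]
    rw [e1, hnorm, e2, Finset.mul_sum]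
    refine Finset.sum_le_sum fun l _ => ?_
    rw [map_one, one_mul]
    by_cases hl : l ∈ E
    · exact mul_le_mul_of_nonneg_right (Finset.le_sup' (fun e => Complex.normSq (ψ ((e - e₀) * τ) - 1)) hl)
        (avgNorm_nonneg ρ _)
    · rw [hP0 l (by simpa [hE] using hl)]
      simp [avgNorm]
  have hone := blichfeldt ρ hinj hcen hcc hp.out.pos hcp hs hκ0 hκ1 hbound hw
    (by rw [hTP, sub_self, zero_mul, AddChar.map_zero_eq_one, one_smul])
  have hval : τ.val ≠ 0 := (ZMod.val_ne_zero τ).2 hτ0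
  rw [pw, ← orderOf_dvd_iff_pow_eq_one, hy] at hone
  exact hval (Nat.eq_zero_of_dvd_of_lt hone (ZMod.val_lt τ))

end CfsgLib.BlockArith.Blichfeldt
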