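import Cfsg.Agent.Lib.Blocks.Consequences

/-!
# Blocks of a given defect and the regular classes of the same defect

* `defect_eq_of_term_ne_zero`: the only classes linking two blocks of defect `d` have defect `d`;
* `count_eq_le`: there are no more blocks of defect `d` than regular classes of defect `d`;
* `mem_of_congr_defect`: central characters on these classes separate the blocks of defect `d`.
-/

set_option autoImplicit false

noncomputable section

namespace CfsgLib.BlockArith

open Cfsg CfsgLib.Blocks

variable {M : Ideal AlgInt} [M.IsMaximal] {G : Type*} [Group G] [Fintype G] {p : ℕ} [hp : Fact p.Prime]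

/-- A nonzero term of `ω'(e_B)` comes from a regular class whose defect lies between the two. -/
theorem defect_eq_of_term_ne_zero (hM : IsPModular p M) {B B' : Set (IrrCharacter G)}
    (hB : IsPBlock M B) (hB' : IsPBlock M B') {χ : IrrCharacter G} (hχ : χ ∈ B')
    {d : ℕ} (hd : blockDefect p B = d) (hd' : blockDefect p B' = d) {g : G}
    (hne : rcoeff (idem hB) g * bomega χ (zclass M g) ≠ 0) :
    ¬ p ∣ orderOf g ∧ (Nat.card (Subgroup.centralizer ({g} : Set G))).factorization p = d := by
  refine ⟨fun h => hne ?_, le_antisymm ?_ ?_⟩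
  · rw [rcoeff_idem_singular hM hB h, zero_mul]
  · exact (le_blockDefect_of_rcoeff_ne_zero hM hB (left_ne_zero_of_mul hne)).trans hd.le
  · exact hd'.ge.trans (blockDefect_le_of_bomega_ne_zero hM hB' hχ (right_ne_zero_of_mul hne))

/-- There are no more blocks of defect `d` than regular classes of defect `d`. -/
theorem count_eq_le (hM : IsPModular p M) (d : ℕ) :
    Nat.card {B : Set (IrrCharacter G) // IsPBlock M B ∧ blockDefect p B = d} ≤
      Nat.card {C : ConjClasses G // ∃ g : G, ConjClasses.mk g = C ∧ ¬ p ∣ orderOf g ∧
        (Nat.card (Subgroup.centralizer ({g} : Set G))).factorization p = d} := by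
  classical
  have : Finite (ConjClasses G) := Finite.of_surjective _ ConjClasses.mk_surjective
  let _ := Fintype.ofFinite (ConjClasses G)
  let Q : ConjClasses G → Prop := fun C => ∃ g : G, ConjClasses.mk g = C ∧ ¬ p ∣ orderOf g ∧
    (Nat.card (Subgroup.centralizer ({g} : Set G))).factorization p = d
  let _ : Fintype {B : Set (IrrCharacter G) // IsPBlock M B ∧ blockDefect p B = d} := Fintype.ofFinite _
  let v : {B : Set (IrrCharacter G) // IsPBlock M B ∧ blockDefect p B = d} → {C // Q C} → Res M :=
    fun B C => rcoeff (idem B.2.1) C.1.out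
  choose χ hχ using fun B : {B : Set (IrrCharacter G) // IsPBlock M B ∧ blockDefect p B = d} =>
    IsPBlock.nonempty B.2.1
  have hvan : ∀ (B B' : {B : Set (IrrCharacter G) // IsPBlock M B ∧ blockDefect p B = d})
      (C : ConjClasses G), ¬ Q C → rcoeff (idem B.2.1) C.out * bomega (χ B') (zclass M C.out) = 0 :=
    fun B B' C hC => by_contra fun hne => hC ⟨C.out, Quotient.out_eq C,
      defect_eq_of_term_ne_zero hM B.2.1 B'.2.1 (hχ B') B.2.2 B'.2.2 hne⟩
  have hδ : ∀ B B', (∑ C : {C // Q C}, v B C * bomega (χ B') (zclass M C.1.out)) =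
      if B = B' then 1 else 0 := by
    intro B B'
    have h1 : bomega (χ B') (idem B.2.1) =
        ∑ C : {C // Q C}, v B C * bomega (χ B') (zclass M C.1.out) := by
      rw [bomega_eq_sum, ← Finset.sum_subtype (Finset.univ.filter Q) (by simp)
        (fun C => rcoeff (idem B.2.1) C.out * bomega (χ B') (zclass M C.out))]
      symm
      exact Finset.sum_filter_of_ne fun C _ h => by_contra fun hC => h (hvan B B' C hC)
    rw [← h1, bomega_idem]
    refine if_congr ⟨fun h => Subtype.ext (isPBlock_eq_of_mem B.2.1 B'.2.1 h (hχ B')), ?_⟩ rfl rfl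
    rintro rfl; exact hχ _
  have hli : LinearIndependent (Res M) v := by
    refine Fintype.linearIndependent_iff.mpr fun c hc B' => ?_
    have := congrArg (fun w => ∑ C : {C // Q C}, w C * bomega (χ B') (zclass M C.1.out)) hc
    simp only [Finset.sum_apply, Pi.smul_apply, smul_eq_mul, Finset.sum_mul, Pi.zero_apply, zero_mul,
      Finset.sum_const_zero] at this
    rw [Finset.sum_comm] at this
    simp only [mul_assoc, ← Finset.mul_sum, hδ, mul_ite, mul_one, mul_zero, Finset.sum_ite_eq',
      Finset.mem_univ, if_true] at this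
    exact this
  let _ : Field (Res M) := Ideal.Quotient.field M
  have := hli.fintype_card_le_finrank
  rw [Module.finrank_fintype_fun_eq_card, ← Nat.card_eq_fintype_card, ← Nat.card_eq_fintype_card] at this
  exact this

/-- Congruent central characters on the regular classes of defect `d` give the same block. -/
theorem sameBlock_iff_congr_defect (hM : IsPModular p M) {d : ℕ} (χ ψ : IrrCharacter G)
    (hχ : blockDefect p (blockOf M (χ : G → ℂ)) = d)
    (hψ : blockDefect p (blockOf M (ψ : G → ℂ)) = d) :
    SameBlock M (χ : G → ℂ) (ψ : G → ℂ) ↔ ∀ x : G, ¬ p ∣ orderOf x →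
      (Nat.card (Subgroup.centralizer ({x} : Set G))).factorization p = d →
      MemLocalIdeal M (centralChar (χ : G → ℂ) x - centralChar (ψ : G → ℂ) x) := by
  classical
  refine ⟨fun h x _ _ => h x, fun h => ?_⟩
  have : Finite (ConjClasses G) := Finite.of_surjective _ ConjClasses.mk_surjective
  let _ := Fintype.ofFinite (ConjClasses G)
  have hB : IsPBlock M (blockOf M (χ : G → ℂ)) := isPBlock_blockOf χ
  have key : bomega ψ (idem hB) = bomega χ (idem hB) := by
    rw [bomega_eq_sum, bomega_eq_sum]
    refine Finset.sum_congr rfl fun C _ => ?_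
    by_cases h0 : rcoeff (idem hB) C.out * bomega χ (zclass M C.out) = 0 ∧
        rcoeff (idem hB) C.out * bomega ψ (zclass M C.out) = 0
    · rw [h0.1, h0.2]
    have hC : ¬ p ∣ orderOf C.out ∧
        (Nat.card (Subgroup.centralizer ({C.out} : Set G))).factorization p = d := by
      rcases not_and_or.mp h0 with h1 | h1
      · exact defect_eq_of_term_ne_zero hM hB hB (mem_blockOf_self χ) hχ hχ h1
      · exact defect_eq_of_term_ne_zero hM hB (isPBlock_blockOf ψ) (mem_blockOf_self ψ) hχ hψ h1
    congr 1
    rw [bomega_apply, bomega_apply, eq_comm, ← memLocalIdeal_sub_iff, coe_zomega_zclass,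
      coe_zomega_zclass]
    exact h C.out hC.1 hC.2
  rw [bomega_idem, bomega_idem, if_pos (mem_blockOf_self χ)] at key
  by_contra hn
  rw [if_neg (show ψ ∉ blockOf M (χ : G → ℂ) from hn)] at key
  exact zero_ne_one key

end CfsgLib.BlockArith
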