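import Mathlib.LinearAlgebra.Matrix.Rank

/-!
# The rank of a matrix does not change under an extension of the field
-/

set_option autoImplicit false

namespace CfsgLib.BlockArith

open Matrix

theorem rank_map_field {m n : Type*} [Fintype m] [Fintype n] [DecidableEq m] [DecidableEq n]
    {F E : Type*} [Field F] [Field E] (f : F →+* E) (A : Matrix m n F) : (A.map f).rank = A.rank := by
  classical
  set r := Module.finrank F (LinearMap.range A.mulVecLin) with hr
  have hrA : A.rank = r := rfl
  let b : Module.Basis (Fin r) F (LinearMap.range A.mulVecLin) :=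
    (Module.finBasis F (LinearMap.range A.mulVecLin))
  let U : Matrix m (Fin r) F := Matrix.of fun i k => (b k).1 i
  let V : Matrix (Fin r) n F := Matrix.of fun k j =>
    b.repr ⟨A.mulVecLin (Pi.single j 1), LinearMap.mem_range_self _ _⟩ k
  have hUx : ∀ x : Fin r → F, U *ᵥ x = ((∑ k, x k • b k : LinearMap.range A.mulVecLin) : m → F) := by
    intro x
    funext i
    simp only [U, Matrix.mulVec, dotProduct, Matrix.of_apply, AddSubmonoidClass.coe_finsetSum,
      Finset.sum_apply, SetLike.val_smul, Pi.smul_apply, smul_eq_mul]
    exact Finset.sum_congr rfl fun k _ => mul_comm _ _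
  have hAUV : A = U * V := by
    refine Matrix.ext fun i j => ?_
    rw [Matrix.mul_apply]
    have h := congrFun (hUx fun k => V k j) i
    simp only [V, Matrix.of_apply, b.sum_repr, Matrix.mulVecLin_apply, Matrix.mulVec_single_one] at h
    simpa [U, V, Matrix.mulVec, dotProduct, Matrix.mulVec_single_one] using h.symm
  have hinj : Function.Injective (Matrix.toLin' U) := by
    refine (injective_iff_map_eq_zero _).mpr fun x hx => ?_
    rw [Matrix.toLin'_apply, hUx] at hx
    funext k
    exact Fintype.linearIndependent_iff.mp b.linearIndependent x (Subtype.ext hx) k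
  obtain ⟨L, hL⟩ := (Matrix.toLin' U).exists_leftInverse_of_injective (LinearMap.ker_eq_bot.mpr hinj)
  have hLU : LinearMap.toMatrix' L * U = 1 := by
    have h := congrArg LinearMap.toMatrix' hL
    rwa [LinearMap.toMatrix'_comp, LinearMap.toMatrix'_id, LinearMap.toMatrix'_toLin'] at h
  have hpre : ∀ k : Fin r, ∃ v : n → F, A *ᵥ v = (b k).1 := fun k => (b k).2
  choose v hv using hpre
  let R : Matrix n (Fin r) F := Matrix.of fun j k => v k j
  have hAR : A * R = U := Matrix.ext fun i k => congrFun (hv k) i
  have hLAR : LinearMap.toMatrix' L * A * R = 1 := by rw [Matrix.mul_assoc, hAR, hLU]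
  refine le_antisymm ?_ ?_
  · rw [hrA, hAUV, Matrix.map_mul]
    exact (Matrix.rank_mul_le_left _ _).trans
      ((Matrix.rank_le_card_width _).trans_eq (Fintype.card_fin r))
  · have h1 : ((LinearMap.toMatrix' L).map f * A.map f * R.map f).rank = r := by
      rw [← Matrix.map_mul, ← Matrix.map_mul, hLAR, Matrix.map_one f (map_zero f) (map_one f)]
      simpa using Matrix.rank_unit (1 : (Matrix (Fin r) (Fin r) E)ˣ)
    rw [hrA, ← h1]
    exact (Matrix.rank_mul_le_left _ _).trans (Matrix.rank_mul_le_right _ _)

end CfsgLib.BlockArith
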