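import Cfsg.Agent.Lib.Blocks.PrincipalSection
import Cfsg.Agent.Lib.BlockArith.CharCount
import Cfsg.Agent.Lib.Char.BrauerInduction
import Cfsg.Agent.Lib.Char.PiSection
import Cfsg.Agent.Lib.Star.Norm
import Cfsg.Agent.Lib.OddLocal.Ten.Complement
import Mathlib.GroupTheory.Transfer

/-!
# An abelian Sylow subgroup with free action of its normaliser

For an abelian Sylow `p`-subgroup `P` with `N(P)/C(P)` acting freely on the nonidentity elements:

* `index_core`: centralisers of nonidentity elements of `P` have normal `p`-complements;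
* `isGen_sext`: a stable generalised character of `P` extends along `p`-parts;
* `inner_sext`, `inner_sext_sext`: inner products of the extensions on the principal block.
-/

set_option autoImplicit false

noncomputable section

namespace CfsgLib.FreeSylow

open Cfsg CfsgLib.Blocks CfsgLib.BlockArith CfsgLib.Char CfsgLib.Star
open scoped ComplexConjugate Classical

universe u

variable {G : Type u} [Group G] [Fintype G] {p : ℕ}

/-- The automorphisms of `P` induced by its normaliser. -/
abbrev autN (P : Sylow p G) : Subgroup (MulAut (P : Subgroup G)) :=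
  (P : Subgroup G).normalizerMonoidHom.range

omit [Fintype G] in
theorem mem_autN_iff {P : Sylow p G} {γ : MulAut (P : Subgroup G)} :
    γ ∈ autN P ↔ ∃ n ∈ Subgroup.normalizer ((P : Subgroup G) : Set G),
      ∀ w : (P : Subgroup G), ((γ w : (P : Subgroup G)) : G) = n * (w : G) * n⁻¹ := by
  constructor
  · rintro ⟨n, rfl⟩
    exact ⟨n, n.2, fun w => rfl⟩
  · rintro ⟨n, hn, h⟩
    exact ⟨⟨n, hn⟩, MulEquiv.ext fun w => Subtype.ext (h w).symm⟩

omit [Fintype G] in
theorem card_autN {P : Sylow p G} {m : ℕ}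
    (hm : (Subgroup.centralizer ((P : Subgroup G) : Set G)).relIndex
      (Subgroup.normalizer ((P : Subgroup G) : Set G)) = m) : Nat.card (autN P) = m := by
  rw [← Subgroup.index_ker, Subgroup.normalizerMonoidHom_ker]
  exact hm

/-- The hypotheses: abelian, and no nonidentity element is fixed outside `C(P)`. -/
structure Free (P : Sylow p G) : Prop where
  hab : IsMulCommutative (P : Subgroup G)
  free : ∀ y : G, y ∈ (P : Subgroup G) → y ≠ 1 →
    Subgroup.centralizer ({y} : Set G) ⊓ Subgroup.normalizer ((P : Subgroup G) : Set G) =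
      Subgroup.centralizer ((P : Subgroup G) : Set G)

variable {P : Sylow p G}

omit [Fintype G] in
theorem Free.comm (F : Free P) {a b : G} (ha : a ∈ (P : Subgroup G)) (hb : b ∈ (P : Subgroup G)) :
    a * b = b * a :=
  congrArg Subtype.val (F.hab.is_comm.comm (⟨a, ha⟩ : (P : Subgroup G)) ⟨b, hb⟩)

omit [Fintype G] in
theorem Free.eq_one_of_fixed (F : Free P) {γ : MulAut (P : Subgroup G)} (hγ : γ ∈ autN P)
    {w : (P : Subgroup G)} (hw : w ≠ 1) (hfix : γ w = w) : γ = 1 := by
  obtain ⟨n, hn, h⟩ := mem_autN_iff.mp hγ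
  have hw' : (w : G) ≠ 1 := fun h0 => hw (Subtype.ext h0)
  have hnw : n * (w : G) = (w : G) * n := by
    have h1 := h w
    rw [hfix] at h1
    exact (eq_mul_inv_iff_mul_eq.mp h1).symm
  have hnC : n ∈ Subgroup.centralizer ((P : Subgroup G) : Set G) := by
    rw [← F.free w w.2 hw']
    exact ⟨Subgroup.mem_centralizer_singleton_iff.mpr hnw, hn⟩
  refine MulEquiv.ext fun v => Subtype.ext ?_
  rw [h v, ← Subgroup.mem_centralizer_iff.mp hnC (v : G) v.2, mul_inv_cancel_right]
  rfl

variable [hp : Fact p.Prime]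

/-- The centraliser of a nonidentity element of `P` has a normal `p`-complement. -/
theorem Free.index_core (F : Free P) {y : G} (hy : y ∈ (P : Subgroup G)) (hy1 : y ≠ 1) :
    ∃ k : ℕ, (pPrimeCore p (Subgroup.centralizer ({y} : Set G))).index = p ^ k := by
  have hle : (P : Subgroup G) ≤ Subgroup.centralizer ({y} : Set G) := fun w hw =>
    Subgroup.mem_centralizer_singleton_iff.mpr (F.comm hw hy)
  set P' := P.subtype hle with hP'
  have hP'c : ((P' : Sylow p _) : Subgroup (Subgroup.centralizer ({y} : Set G))) =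
      (P : Subgroup G).subgroupOf (Subgroup.centralizer ({y} : Set G)) := rfl
  have hburn : Subgroup.normalizer ((P' : Subgroup (Subgroup.centralizer ({y} : Set G))) : Set (Subgroup.centralizer ({y} : Set G))) ≤
      Subgroup.centralizer ((P' : Subgroup (Subgroup.centralizer ({y} : Set G))) : Set (Subgroup.centralizer ({y} : Set G))) := by
    intro c hc
    have hcN : (c : G) ∈ Subgroup.normalizer ((P : Subgroup G) : Set G) := by
      refine Subgroup.mem_set_normalizer_iff.mpr fun w => ⟨fun hw => ?_, fun hw => ?_⟩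
      · exact (Subgroup.mem_set_normalizer_iff.mp hc ⟨w, hle hw⟩).mp hw
      · have hwC : w ∈ Subgroup.centralizer ({y} : Set G) := by
          have h1 := mul_mem (mul_mem (inv_mem c.2) (hle hw)) c.2
          simpa [mul_assoc] using h1
        exact (Subgroup.mem_set_normalizer_iff.mp hc ⟨w, hwC⟩).mpr hw
    have hcC : (c : G) ∈ Subgroup.centralizer ((P : Subgroup G) : Set G) := by
      rw [← F.free y hy hy1]
      exact ⟨c.2, hcN⟩
    exact Subgroup.mem_centralizer_iff.mpr fun w hw =>
      Subtype.ext (Subgroup.mem_centralizer_iff.mp hcC (w : G) hw)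
  exact CfsgLib.OddLocal.Ten.index_pPrimeCore_eq_pow
    ⟨P', (MonoidHom.transferSylow P' hburn).ker, MonoidHom.normal_ker _,
      MonoidHom.ker_transferSylow_isComplement' P' hburn⟩

/-- Elements of order prime to `p` in the centraliser form the core. -/
theorem Free.mem_core (F : Free P) {y : G} (hy : y ∈ (P : Subgroup G)) (hy1 : y ≠ 1)
    (s : Subgroup.centralizer ({y} : Set G)) :
    s ∈ pPrimeCore p (Subgroup.centralizer ({y} : Set G)) ↔ ¬ p ∣ orderOf s := by
  have hnc := F.index_core hy hy1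
  refine ⟨fun h hd => ?_, fun h => ?_⟩
  · exact CfsgLib.Cores.not_dvd_card_pPrimeCore p (hd.trans (Subgroup.orderOf_dvd_natCard _ h))
  · have := CfsgLib.Cores.pPrimeCore_characteristic (G := Subgroup.centralizer ({y} : Set G)) p
    exact mem_of_index_pow hp.out hnc h

/-- `|C(y)|` is the number of its regular elements times `|P|`. -/
theorem Free.card_regular (F : Free P) {y : G} (hy : y ∈ (P : Subgroup G)) (hy1 : y ≠ 1)
    [Fintype (Subgroup.centralizer ({y} : Set G))] :
    ((Finset.univ.filter fun s : Subgroup.centralizer ({y} : Set G) => ¬ p ∣ orderOf s).card) *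
      Nat.card (P : Subgroup G) = Nat.card (Subgroup.centralizer ({y} : Set G)) := by
  have hle : (P : Subgroup G) ≤ (Subgroup.centralizer ({y} : Set G)) := fun w hw =>
    Subgroup.mem_centralizer_singleton_iff.mpr (F.comm hw hy)
  obtain ⟨k, hk⟩ := F.index_core hy hy1
  have hcardK : (Finset.univ.filter fun s : (Subgroup.centralizer ({y} : Set G)) => ¬ p ∣ orderOf s).card = Nat.card (pPrimeCore p (Subgroup.centralizer ({y} : Set G))) := by
    rw [← Nat.card_eq_finsetCard]
    exact Nat.card_congr (Equiv.subtypeEquivRight fun s => by simp [F.mem_core hy hy1 s])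
  have hmul : Nat.card (pPrimeCore p (Subgroup.centralizer ({y} : Set G))) * p ^ k = Nat.card (Subgroup.centralizer ({y} : Set G)) := hk ▸ (pPrimeCore p (Subgroup.centralizer ({y} : Set G))).card_mul_index
  have hP : Nat.card (P : Subgroup G) = p ^ (Nat.card (Subgroup.centralizer ({y} : Set G))).factorization p := by
    rw [← Nat.card_congr (Subgroup.subgroupOfEquivOfLe hle).toEquiv]
    exact (P.subtype hle).card_eq_multiplicity
  rw [hcardK, hP, ← hmul]
  congr 1
  rw [hmul]
  congr 1
  rw [← hmul, Nat.factorization_mul Nat.card_pos.ne' (pow_ne_zero _ hp.out.ne_zero),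
    Finsupp.add_apply, Nat.Prime.factorization_pow hp.out, Finsupp.single_eq_same,
    Nat.factorization_eq_zero_of_not_dvd (CfsgLib.Cores.not_dvd_card_pPrimeCore p), zero_add]

/-! ## Stable functions and their extensions -/

/-- Invariant under the automorphisms induced by the normaliser. -/
def Stable (P : Sylow p G) (η : ↥(P : Subgroup G) → ℂ) : Prop :=
  ∀ γ ∈ autN P, ∀ w, η (γ w) = η w

/-- The extension of a function on `P` along `p`-parts. -/
def sext (P : Sylow p G) (η : ↥(P : Subgroup G) → ℂ) (g : G) : ℂ :=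
  if h : ∃ x : G, x * ppart p g * x⁻¹ ∈ (P : Subgroup G) then
    η ⟨h.choose * ppart p g * h.choose⁻¹, h.choose_spec⟩ else 0

theorem exists_conj_mem (P : Sylow p G) {u : G} (hu : ∃ k : ℕ, orderOf u = p ^ k) :
    ∃ x : G, x * u * x⁻¹ ∈ (P : Subgroup G) := by
  obtain ⟨S, hS⟩ := (CfsgLib.NilBlock.isPGroup_zpowers hu).exists_le_sylow
  obtain ⟨x, hx⟩ := MulAction.exists_smul_eq G S P
  refine ⟨x, ?_⟩
  rw [← hx, Sylow.coe_subgroup_smul]
  exact ⟨u, hS (Subgroup.mem_zpowers u), rfl⟩

/-- Conjugate elements of `P` differ by an induced automorphism. -/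
theorem Free.exists_autN (F : Free P) {w w' : (P : Subgroup G)} (h : IsConj (w : G) (w' : G)) :
    ∃ γ ∈ autN P, γ w = w' := by
  obtain ⟨x, hx⟩ := isConj_iff.mp h
  have := F.hab
  obtain ⟨n, hn, hne⟩ := P.conj_eq_normalizer_conj_of_mem (w : G) x⁻¹ w.2
    (by rw [inv_inv, hx]; exact w'.2)
  rw [inv_inv, hx] at hne
  refine ⟨(P : Subgroup G).normalizerMonoidHom ⟨n⁻¹, inv_mem hn⟩, ⟨_, rfl⟩, Subtype.ext ?_⟩
  rw [hne]
  show n⁻¹ * (w : G) * n⁻¹⁻¹ = n⁻¹ * (w : G) * n
  rw [inv_inv]

theorem Free.sext_eq (F : Free P) {η : ↥(P : Subgroup G) → ℂ} (hη : Stable P η) {g : G}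
    {w : (P : Subgroup G)} (h : IsConj (ppart p g) (w : G)) : sext P η g = η w := by
  obtain ⟨x, hx⟩ := isConj_iff.mp h
  have hex : ∃ x : G, x * ppart p g * x⁻¹ ∈ (P : Subgroup G) := ⟨x, by rw [hx]; exact w.2⟩
  rw [sext, dif_pos hex]
  obtain ⟨γ, hγ, hw⟩ := F.exists_autN (w := ⟨_, hex.choose_spec⟩) (w' := w)
    ((isConj_iff.mpr ⟨hex.choose, rfl⟩).symm.trans h)
  rw [← hw]
  exact (hη γ hγ _).symm

theorem exists_pow_ppart (g : G) : ∃ k : ℕ, orderOf (ppart p g) = p ^ k := by
  obtain ⟨y, -, -, h, -⟩ := isPPart_ppart (p := p) g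
  exact h

theorem Free.exists_sext (F : Free P) {η : ↥(P : Subgroup G) → ℂ} (hη : Stable P η) (g : G) :
    ∃ w : (P : Subgroup G), IsConj (ppart p g) (w : G) ∧ sext P η g = η w := by
  obtain ⟨x, hx⟩ := exists_conj_mem P (exists_pow_ppart g)
  exact ⟨⟨_, hx⟩, isConj_iff.mpr ⟨x, rfl⟩, F.sext_eq hη (isConj_iff.mpr ⟨x, rfl⟩)⟩

theorem Free.isClassFunction_sext (F : Free P) {η : ↥(P : Subgroup G) → ℂ} (hη : Stable P η) :
    IsClassFunction G (sext P η) := by
  intro g h
  obtain ⟨w, hw, heq⟩ := F.exists_sext hη g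
  rw [heq]
  refine F.sext_eq hη ?_
  rw [ppart_eq (isPPart_conj (isPPart_ppart g) h)]
  exact (isConj_iff.mpr ⟨h, rfl⟩).symm.trans hw

theorem Free.sext_section (F : Free P) {η : ↥(P : Subgroup G) → ℂ} (hη : Stable P η) (y : (P : Subgroup G))
    (s : Subgroup.centralizer ({(y : G)} : Set G)) (hs : ¬ p ∣ orderOf s) :
    sext P η ((y : G) * (s : G)) = η y := by
  refine F.sext_eq hη ?_
  rw [ppart_eq (isPPart_mul (commute_of_mem_centralizer s)
    (CfsgLib.NilBlock.exists_pow_of_mem P.isPGroup' y.2) (by rwa [Subgroup.orderOf_coe]))]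

theorem Free.sext_regular (F : Free P) {η : ↥(P : Subgroup G) → ℂ} (hη : Stable P η) {g : G}
    (hg : ¬ p ∣ orderOf g) : sext P η g = η 1 := by
  refine F.sext_eq hη ?_
  rw [ppart_eq ⟨g, one_mul g, Commute.one_left g, ⟨0, by simp⟩, hg⟩, Subgroup.coe_one]

/-- A stable generalised character extends to one of `G`. -/
theorem Free.isGen_sext (F : Free P) {η : ↥(P : Subgroup G) → ℂ} (hη : Stable P η)
    (hgen : IsGeneralizedCharacter (P : Subgroup G) η) : IsGeneralizedCharacter G (sext P η) := by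
  refine isGen_of_elementary (F.isClassFunction_sext hη) fun E q hq hE => ?_
  have := Fintype.ofFinite E
  have := isNilpotent_of_isElementary hq hE
  set a := (Nat.card G).factorization p with ha
  set m := Nat.card G / p ^ a with hm
  have hpm : ¬ p ∣ m := Nat.not_dvd_ordCompl hp.out Nat.card_pos.ne'
  have hcop : Nat.Coprime m (p ^ a) :=
    ((hp.out.coprime_iff_not_dvd.mpr hpm).pow_left _).symm
  have hcard : Nat.card G ∣ m * p ^ a :=
    dvd_of_eq ((Nat.mul_comm _ _).trans (Nat.ordProj_mul_ordCompl_eq_self _ p)).symm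
  have hE' : Nat.card E ∣ m * p ^ a := (Subgroup.card_subgroup_dvd_card E).trans hcard
  let Hs := piSubgroup (G := E) hcop hE'
  let π : E →* Hs := MonoidHom.mk' (fun e => ⟨piPart m (p ^ a) e,
    piPart_pow_eq_one (pow_eq_one_of_dvd hE' e)⟩) fun a b => Subtype.ext (piPart_mul hcop hE' a b)
  let ι : Hs →* G := E.subtype.comp Hs.subtype
  have hHs : IsPGroup p Hs := by
    obtain ⟨j, -, hj⟩ := (Nat.dvd_prime_pow hp.out).mp (card_piSubgroup_dvd hcop hE')
    exact IsPGroup.of_card hj
  have hrange : IsPGroup p ι.range := hHs.of_surjective ι.rangeRestrict ι.rangeRestrict_surjective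
  obtain ⟨S, hS⟩ := hrange.exists_le_sylow
  obtain ⟨x, hx⟩ := MulAction.exists_smul_eq G S P
  have hmem : ∀ e : E, x * ι (π e) * x⁻¹ ∈ (P : Subgroup G) := fun e => by
    rw [← hx, Sylow.coe_subgroup_smul]
    exact ⟨_, hS ⟨π e, rfl⟩, rfl⟩
  let ψ : E →* (P : Subgroup G) :=
    MonoidHom.mk' (fun e => ⟨x * ι (π e) * x⁻¹, hmem e⟩) fun c d => Subtype.ext (by
      simp [map_mul, mul_assoc])
  have key : (fun e : E => sext P η (e : G)) = η ∘ ψ := by
    funext e
    refine F.sext_eq hη ?_
    have hpp : IsPPart p (e : G) (ι (π e)) := by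
      have he : e ^ (m * p ^ a) = 1 := pow_eq_one_of_dvd hE' e
      refine ⟨((e * (piPart m (p ^ a) e)⁻¹ : E) : G), ?_, ?_, ?_, ?_⟩
      · show ((piPart m (p ^ a) e : E) : G) * _ = _
        rw [← Subgroup.coe_mul]
        congr 1
        have hc : Commute (piPart m (p ^ a) e) e := (Commute.refl e).zpow_left _
        rw [← mul_assoc, hc.eq, mul_inv_cancel_right]
      · have hc : Commute (piPart m (p ^ a) e) e := (Commute.refl e).zpow_left _
        exact (hc.mul_right (Commute.refl _).inv_right).map E.subtype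
      · obtain ⟨j, -, hj⟩ := (Nat.dvd_prime_pow hp.out).mp
          (orderOf_dvd_of_pow_eq_one (piPart_pow_eq_one (m := m) (n := p ^ a) he))
        exact ⟨j, by rw [← hj]; exact Subgroup.orderOf_coe (piPart m (p ^ a) e)⟩
      · rw [Subgroup.orderOf_coe]
        exact fun hd => hpm (hd.trans (orderOf_dvd_of_pow_eq_one (piPart_compl_pow_eq_one hcop he)))
    rw [ppart_eq hpp]
    exact isConj_iff.mpr ⟨x, rfl⟩
  rw [key]
  exact isGen_comp hgen ψ

/-! ## Sums over the sections -/

/-- Representatives of the classes of `p`-elements inside `P`. -/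
theorem exists_reps_in (P : Sylow p G) : ∃ X : Finset G, (∀ x ∈ X, x ∈ (P : Subgroup G)) ∧
    ∀ g : G, (∃ k : ℕ, orderOf g = p ^ k) → ∃! x, x ∈ X ∧ IsConj g x := by
  obtain ⟨X₀, hX₀, huniq⟩ := CfsgLib.Star.exists_reps (G := G) (p := p)
  have hc : ∀ x : G, ∃ y : G, x ∈ X₀ → y ∈ (P : Subgroup G) ∧ IsConj x y := by
    intro x
    by_cases hx : x ∈ X₀
    · obtain ⟨w, hw⟩ := exists_conj_mem P (hX₀ x hx)
      exact ⟨_, fun _ => ⟨hw, isConj_iff.mpr ⟨w, rfl⟩⟩⟩
    · exact ⟨1, fun h => absurd h hx⟩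
  choose c hc using hc
  refine ⟨X₀.image c, fun y hy => ?_, fun g hg => ?_⟩
  · obtain ⟨x, hx, rfl⟩ := Finset.mem_image.mp hy
    exact (hc x hx).1
  · obtain ⟨x, ⟨hx, hgx⟩, hu⟩ := huniq g hg
    refine ⟨c x, ⟨Finset.mem_image_of_mem c hx, hgx.trans (hc x hx).2⟩, ?_⟩
    rintro _ ⟨hy, hgy⟩
    obtain ⟨x', hx', rfl⟩ := Finset.mem_image.mp hy
    rw [hu x' ⟨hx', hgy.trans (hc x' hx').2.symm⟩]

variable {m : ℕ}

/-- A class function vanishing at the regular elements, averaged through `P`. -/
theorem Free.average (F : Free P)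
    (hm : (Subgroup.centralizer ((P : Subgroup G) : Set G)).relIndex
      (Subgroup.normalizer ((P : Subgroup G) : Set G)) = m)
    {f : G → ℂ} (hf : IsClassFunction G f) (hreg : ∀ g : G, ¬ p ∣ orderOf g → f g = 0)
    {φ : ↥(P : Subgroup G) → ℂ} (hφ : Stable P φ) (hφ1 : φ 1 = 0)
    (hsec : ∀ y : (P : Subgroup G), y ≠ 1 →
      haveI := Fintype.ofFinite (Subgroup.centralizer ({(y : G)} : Set G))
      ∑ s ∈ Finset.univ.filter (fun s : Subgroup.centralizer ({(y : G)} : Set G) => ¬ p ∣ orderOf s),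
        f ((y : G) * (s : G)) =
      ((Finset.univ.filter
        (fun s : Subgroup.centralizer ({(y : G)} : Set G) => ¬ p ∣ orderOf s)).card : ℂ) * φ y) :
    (Nat.card G : ℂ)⁻¹ * ∑ g : G, f g =
      ((m : ℂ) * (Nat.card (P : Subgroup G) : ℂ))⁻¹ * ∑ y : (P : Subgroup G), φ y := by
  have := Fintype.ofFinite (autN P)
  have hm0 : m ≠ 0 := by rw [← card_autN hm]; exact Nat.card_pos.ne'
  obtain ⟨X, hXP, hXu⟩ := exists_reps_in P
  have hpow : ∀ y : (P : Subgroup G), ∃ k : ℕ, orderOf (y : G) = p ^ k := fun y =>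
    CfsgLib.NilBlock.exists_pow_of_mem P.isPGroup' y.2
  choose r hr hru using fun y : (P : Subgroup G) => hXu (y : G) (hpow y)
  let φ' : G → ℂ := fun x => if h : x ∈ (P : Subgroup G) then φ ⟨x, h⟩ else 0
  have hsum : ∑ y : (P : Subgroup G), φ y = (m : ℂ) * ∑ x ∈ X, φ' x := by
    rw [← Finset.sum_fiberwise_of_maps_to (t := X) (g := r) (fun y _ => (hr y).1) φ, Finset.mul_sum]
    refine Finset.sum_congr rfl fun x hx => ?_
    simp only [φ', dif_pos (hXP x hx)]
    set x' : (P : Subgroup G) := ⟨x, hXP x hx⟩ with hx'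
    have hfib : ∀ y : (P : Subgroup G), r y = x ↔ ∃ γ : autN P, (γ : MulAut (P : Subgroup G)) x' = y := by
      refine fun y => ⟨fun h => ?_, ?_⟩
      · obtain ⟨γ, hγ, he⟩ := F.exists_autN (w := x') (w' := y) (h ▸ (hr y).2).symm
        exact ⟨⟨γ, hγ⟩, he⟩
      · rintro ⟨γ, rfl⟩
        obtain ⟨n, -, hn⟩ := mem_autN_iff.mp γ.2
        refine (hru _ x ⟨hx, ?_⟩).symm
        rw [hn x']
        exact (isConj_iff.mpr ⟨n, rfl⟩).symm
    by_cases hx1 : x' = 1
    · rw [Finset.sum_eq_zero fun y hy => ?_, hx1, hφ1, mul_zero]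
      obtain ⟨γ, rfl⟩ := (hfib y).mp (Finset.mem_filter.mp hy).2
      rw [hx1, map_one, hφ1]
    rw [Finset.sum_congr (s₂ := Finset.univ.image fun γ : autN P => (γ : MulAut (P : Subgroup G)) x')
      (Finset.ext fun y => by simp [hfib]) (fun y _ => rfl), Finset.sum_image fun a _ b _ h => ?_]
    · rw [Finset.sum_congr rfl (g := fun _ => φ x') fun γ _ => hφ _ γ.2 _, Finset.sum_const,
        Finset.card_univ, ← Nat.card_eq_fintype_card, card_autN hm, nsmul_eq_mul]
    · have h1 : ((a⁻¹ * b : autN P) : MulAut (P : Subgroup G)) x' = x' := by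
        rw [Subgroup.coe_mul, MulAut.mul_apply, ← h, ← MulAut.mul_apply, ← Subgroup.coe_mul,
          inv_mul_cancel]
        rfl
      exact inv_mul_eq_one.mp (Subtype.ext (F.eq_one_of_fixed (a⁻¹ * b).2 hx1 h1))
  rw [CfsgLib.BlockArith.sum_by_sections (p := p) X
    (fun x hx => CfsgLib.NilBlock.exists_pow_of_mem P.isPGroup' (hXP x hx)) hXu hf,
    hsum, ← mul_assoc, mul_inv_rev, mul_assoc ((Nat.card (P : Subgroup G) : ℂ))⁻¹,
    inv_mul_cancel₀ (Nat.cast_ne_zero.mpr hm0), mul_one, Finset.mul_sum, Finset.mul_sum]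
  refine Finset.sum_congr rfl fun x hx => ?_
  have := Fintype.ofFinite (Subgroup.centralizer ({x} : Set G))
  rw [finsum_eq_sum_of_fintype]
  simp only [pRegularPart_apply, φ', dif_pos (hXP x hx)]
  by_cases hx1 : x = 1
  · have h0 : φ ⟨x, hXP x hx⟩ = 0 := by
      rw [← hφ1]; exact congrArg φ (Subtype.ext hx1)
    rw [h0, mul_zero, Finset.sum_eq_zero fun s _ => ?_, mul_zero, mul_zero]
    split_ifs with hs
    · rfl
    · exact hreg _ (by rw [show x * (s : G) = 1 * (s : G) from congrArg (· * (s : G)) hx1, one_mul, Subgroup.orderOf_coe]; exact hs)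
  have hx1' : (⟨x, hXP x hx⟩ : (P : Subgroup G)) ≠ 1 := fun h => hx1 (congrArg Subtype.val h)
  have hval : (∑ s : Subgroup.centralizer ({x} : Set G),
      if p ∣ orderOf s then (0 : ℂ) else f (x * (s : G))) =
      ((Finset.univ.filter
        (fun s : Subgroup.centralizer ({x} : Set G) => ¬ p ∣ orderOf s)).card : ℂ) * φ ⟨x, hXP x hx⟩ := by
    rw [show (∑ s : Subgroup.centralizer ({x} : Set G),
        if p ∣ orderOf s then (0 : ℂ) else f (x * (s : G))) =
        ∑ s ∈ Finset.univ.filter (fun s : Subgroup.centralizer ({x} : Set G) => ¬ p ∣ orderOf s),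
          f (x * (s : G)) by
      rw [Finset.sum_filter]
      exact Finset.sum_congr rfl fun s _ => by split_ifs <;> simp_all]
    convert hsec ⟨x, hXP x hx⟩ hx1'
  rw [hval, ← F.card_regular (hXP x hx) hx1, Nat.cast_mul]
  have hc : ((Finset.univ.filter
      (fun s : Subgroup.centralizer ({x} : Set G) => ¬ p ∣ orderOf s)).card : ℂ) ≠ 0 :=
    Nat.cast_ne_zero.mpr (Finset.card_ne_zero.mpr
      ⟨1, Finset.mem_filter.mpr ⟨Finset.mem_univ _, by rw [orderOf_one]; exact hp.out.not_dvd_one⟩⟩)
  field_simp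

variable {M : Ideal AlgInt} [M.IsMaximal]

/-- The section sums of a character. -/
theorem Free.sum_section (F : Free P) (hM : IsPModular p M) {y : G} (hy : y ∈ (P : Subgroup G))
    (hy1 : y ≠ 1) [Fintype (Subgroup.centralizer ({y} : Set G))] (χ : IrrCharacter G) :
    ∑ s ∈ Finset.univ.filter (fun s : Subgroup.centralizer ({y} : Set G) => ¬ p ∣ orderOf s),
      (χ : G → ℂ) (y * (s : G)) =
    ((Finset.univ.filter (fun s : Subgroup.centralizer ({y} : Set G) => ¬ p ∣ orderOf s)).card : ℂ) *
      (if χ ∈ principalBlock M G then (χ : G → ℂ) y else 0) := by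
  have hx := CfsgLib.NilBlock.exists_pow_of_mem P.isPGroup' hy
  have hnc := F.index_core hy hy1
  by_cases hχ : χ ∈ principalBlock M G
  · rw [if_pos hχ, Finset.sum_congr rfl fun s hs =>
      principal_section_const hM hx hnc hχ (Finset.mem_filter.mp hs).2, Finset.sum_const, nsmul_eq_mul]
  rw [if_neg hχ, mul_zero]
  have hK : (pPrimeCore p (Subgroup.centralizer ({y} : Set G))).Normal := by
    have := CfsgLib.Cores.pPrimeCore_characteristic (G := (Subgroup.centralizer ({y} : Set G))) p
    infer_instance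
  have := Fintype.ofFinite (pPrimeCore p (Subgroup.centralizer ({y} : Set G)))
  have hB0 : principalBlock M (Subgroup.centralizer ({y} : Set G)) =
      {φ : IrrCharacter (Subgroup.centralizer ({y} : Set G)) | ∀ n ∈ pPrimeCore p (Subgroup.centralizer ({y} : Set G)), (φ : (Subgroup.centralizer ({y} : Set G)) → ℂ) n = (φ : (Subgroup.centralizer ({y} : Set G)) → ℂ) 1} :=
    Cfsg.Agent.S0939.result p M hM hnc
  have hcl : IsClassFunction (Subgroup.centralizer ({y} : Set G)) fun c : (Subgroup.centralizer ({y} : Set G)) => (χ : G → ℂ) (y * (c : G)) := by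
    intro c d
    show (χ : G → ℂ) (y * ((d : G) * c * (d : G)⁻¹)) = (χ : G → ℂ) (y * c)
    rw [← isClassFunction_of_isIrr χ.2 (y * c) (d : G)]
    congr 1
    have hd := (commute_of_mem_centralizer d).eq
    simp only [← mul_assoc, hd]
  have h1 := principal_section hM hx χ (y := (1 : (Subgroup.centralizer ({y} : Set G)))) (by rw [orderOf_one]; exact hp.out.not_dvd_one)
  rw [if_neg hχ] at h1
  have key : ∀ φ : IrrCharacter (Subgroup.centralizer ({y} : Set G)), ∑ n : pPrimeCore p (Subgroup.centralizer ({y} : Set G)), (φ : (Subgroup.centralizer ({y} : Set G)) → ℂ) n =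
      if φ ∈ principalBlock M (Subgroup.centralizer ({y} : Set G)) then (Nat.card (pPrimeCore p (Subgroup.centralizer ({y} : Set G))) : ℂ) * (φ : (Subgroup.centralizer ({y} : Set G)) → ℂ) 1 else 0 := by
    intro φ
    by_cases h : ∀ n ∈ pPrimeCore p (Subgroup.centralizer ({y} : Set G)), (φ : (Subgroup.centralizer ({y} : Set G)) → ℂ) n = (φ : (Subgroup.centralizer ({y} : Set G)) → ℂ) 1
    · rw [if_pos (by rw [hB0]; exact h), Finset.sum_congr rfl fun (n : pPrimeCore p (Subgroup.centralizer ({y} : Set G))) _ => h n n.2]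
      simp [Nat.card_eq_fintype_card]
    · rw [if_neg (by rw [hB0]; exact h)]
      by_contra hne
      refine h (CfsgLib.CharNormal.res_eq_degree_of_constituent_one (N := pPrimeCore p (Subgroup.centralizer ({y} : Set G))) φ.2 ?_)
      rw [classInner_one_right]
      exact mul_ne_zero (inv_ne_zero card_ne_zero') hne
  have h2 : ∑ n : pPrimeCore p (Subgroup.centralizer ({y} : Set G)), (χ : G → ℂ) (y * ((n : (Subgroup.centralizer ({y} : Set G))) : G)) =
      (Nat.card (pPrimeCore p (Subgroup.centralizer ({y} : Set G))) : ℂ) *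
        blockPart (principalBlock M (Subgroup.centralizer ({y} : Set G))) (fun c : (Subgroup.centralizer ({y} : Set G)) => (χ : G → ℂ) (y * (c : G))) 1 := by
    rw [Finset.sum_congr rfl fun (n : pPrimeCore p (Subgroup.centralizer ({y} : Set G))) _ => congrFun (classFun_eq_sum hcl) (n : (Subgroup.centralizer ({y} : Set G)))]
    simp only [Finset.sum_apply, Pi.smul_apply, smul_eq_mul]
    rw [Finset.sum_comm, blockPart_apply, Finset.mul_sum]
    refine Finset.sum_congr rfl fun φ _ => ?_
    rw [← Finset.mul_sum, key]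
    split_ifs <;> ring
  rw [h1, mul_zero] at h2
  refine Eq.trans ?_ h2
  exact Finset.sum_subtype _ (fun s => by simp [F.mem_core hy hy1 s]) _

/-- The inner product of an extension with an irreducible character. -/
theorem Free.inner_sext (F : Free P) (hM : IsPModular p M)
    (hm : (Subgroup.centralizer ((P : Subgroup G) : Set G)).relIndex
      (Subgroup.normalizer ((P : Subgroup G) : Set G)) = m)
    {η : ↥(P : Subgroup G) → ℂ} (hη : Stable P η) (hη1 : η 1 = 0) (χ : IrrCharacter G) :
    classInner (sext P η) (χ : G → ℂ) = if χ ∈ principalBlock M G then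
      ((m : ℂ) * (Nat.card (P : Subgroup G) : ℂ))⁻¹ *
        ∑ y : (P : Subgroup G), η y * conj ((χ : G → ℂ) y) else 0 := by
  have hχ := isClassFunction_of_isIrr χ.2
  rw [classInner_def, F.average hm (f := fun g => sext P η g * conj ((χ : G → ℂ) g))
    (φ := fun y => η y * conj (if χ ∈ principalBlock M G then (χ : G → ℂ) y else 0))]
  · split_ifs with h <;> simp [h]
  · intro a b
    show sext P η _ * conj ((χ : G → ℂ) _) = sext P η a * conj ((χ : G → ℂ) a)
    rw [F.isClassFunction_sext hη a b, hχ a b]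
  · intro g hg
    rw [F.sext_regular hη hg, hη1, zero_mul]
  · intro γ hγ w
    obtain ⟨n, -, hn⟩ := mem_autN_iff.mp hγ
    show η (γ w) * conj (ite _ ((χ : G → ℂ) (γ w)) 0) = _
    rw [hη γ hγ w, hn w, hχ (w : G) n]
  · simp [hη1]
  · intro y hy
    let _ := Fintype.ofFinite (Subgroup.centralizer ({(y : G)} : Set G))
    rw [Finset.sum_congr rfl (g := fun s : Subgroup.centralizer ({(y : G)} : Set G) =>
        η y * conj ((χ : G → ℂ) ((y : G) * (s : G)))) fun s hs => ?_, ← Finset.mul_sum, ← map_sum]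
    · refine (congrArg (fun z => η y * conj z)
        (F.sum_section hM y.2 (fun h => hy (Subtype.ext h)) χ)).trans ?_
      rw [map_mul, Complex.conj_natCast]
      exact mul_left_comm _ _ _
    · rw [F.sext_section hη y s (Finset.mem_filter.mp hs).2]

/-- The inner product of two extensions. -/
theorem Free.inner_sext_sext (F : Free P)
    (hm : (Subgroup.centralizer ((P : Subgroup G) : Set G)).relIndex
      (Subgroup.normalizer ((P : Subgroup G) : Set G)) = m)
    {η η' : ↥(P : Subgroup G) → ℂ} (hη : Stable P η) (hη1 : η 1 = 0) (hη' : Stable P η') :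
    classInner (sext P η) (sext P η') = ((m : ℂ) * (Nat.card (P : Subgroup G) : ℂ))⁻¹ *
      ∑ y : (P : Subgroup G), η y * conj (η' y) := by
  rw [classInner_def, F.average hm (f := fun g => sext P η g * conj (sext P η' g))
    (φ := fun y => η y * conj (η' y))]
  · intro a b
    show sext P η _ * conj (sext P η' _) = sext P η a * conj (sext P η' a)
    rw [F.isClassFunction_sext hη a b, F.isClassFunction_sext hη' a b]
  · intro g hg
    rw [F.sext_regular hη hg, hη1, zero_mul]
  · intro γ hγ w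
    show η (γ w) * conj (η' (γ w)) = _
    rw [hη γ hγ w, hη' γ hγ w]
  · simp [hη1]
  · intro y _
    rw [Finset.sum_congr rfl (g := fun _ => η y * conj (η' y)) fun s hs => ?_, Finset.sum_const,
      nsmul_eq_mul]
    rw [F.sext_section hη y s (Finset.mem_filter.mp hs).2,
      F.sext_section hη' y s (Finset.mem_filter.mp hs).2]

end CfsgLib.FreeSylow
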