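import Cfsg.Agent.Lib.BlockArith.FreeSylow
import Cfsg.Agent.Lib.Char.TI
import Cfsg.Agent.Lib.Char.Extension

/-!
# The principal block over an abelian Sylow subgroup with free normaliser action

* `sum_hom_eval`, `orbD`, `orbSum`: the orbits of the linear characters of `P`;
* `Free.exists_structure`: the principal block is a family of exceptional characters indexed by the
  orbits and at most `m` others, constant on the singular sections.
-/

set_option autoImplicit false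

noncomputable section

namespace CfsgLib.FreeSylow

open Cfsg CfsgLib.Blocks CfsgLib.BlockArith CfsgLib.Char CfsgLib.Star
open scoped ComplexConjugate Classical IsMulCommutative

universe u

/-! ## Linear characters of an abelian group -/

section homs

variable {K : Type*} [CommGroup K] [Finite K]

theorem finite_hom : Finite (K →* ℂˣ) := by
  obtain ⟨φ⟩ := CommGroup.monoidHom_mulEquiv_of_hasEnoughRootsOfUnity K ℂ
  exact Finite.of_equiv K φ.symm.toEquiv

theorem card_hom : Nat.card (K →* ℂˣ) = Nat.card K := by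
  obtain ⟨φ⟩ := CommGroup.monoidHom_mulEquiv_of_hasEnoughRootsOfUnity K ℂ
  exact Nat.card_congr φ.toEquiv

theorem sum_hom_eval [Fintype (K →* ℂˣ)] (w : K) :
    ∑ ψ : K →* ℂˣ, ((ψ w : ℂˣ) : ℂ) = if w = 1 then (Nat.card K : ℂ) else 0 := by
  split_ifs with h
  · subst h
    simp [← card_hom (K := K), Nat.card_eq_fintype_card]
  · obtain ⟨φ, hφ⟩ := CommGroup.exists_apply_ne_one_of_hasEnoughRootsOfUnity K ℂ h
    have h1 : ((φ w : ℂˣ) : ℂ) * ∑ ψ : K →* ℂˣ, ((ψ w : ℂˣ) : ℂ) =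
        ∑ ψ : K →* ℂˣ, ((ψ w : ℂˣ) : ℂ) := by
      rw [Finset.mul_sum]
      exact Fintype.sum_equiv (Equiv.mulLeft φ) _ _ fun ψ => by simp
    have h2 : ((φ w : ℂˣ) : ℂ) ≠ 1 := fun he => hφ (Units.ext he)
    exact (mul_left_eq_self₀.mp h1).resolve_left h2

omit [Finite K] in
theorem sum_eval_hom [Fintype K] (ψ : K →* ℂˣ) :
    ∑ w : K, ((ψ w : ℂˣ) : ℂ) = if ψ = 1 then (Nat.card K : ℂ) else 0 := by
  split_ifs with h
  · subst h
    simp [Nat.card_eq_fintype_card]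
  · obtain ⟨v, hv⟩ : ∃ v, ψ v ≠ 1 := by
      by_contra! hc
      exact h (MonoidHom.ext hc)
    have h1 : ((ψ v : ℂˣ) : ℂ) * ∑ w : K, ((ψ w : ℂˣ) : ℂ) = ∑ w : K, ((ψ w : ℂˣ) : ℂ) := by
      rw [Finset.mul_sum]
      exact Fintype.sum_equiv (Equiv.mulLeft v) _ _ fun w => by simp
    exact (mul_left_eq_self₀.mp h1).resolve_left fun he => hv (Units.ext he)

theorem conj_hom (ψ : K →* ℂˣ) (w : K) : conj ((ψ w : ℂˣ) : ℂ) = ((ψ w⁻¹ : ℂˣ) : ℂ) := by
  have := Fintype.ofFinite K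
  exact (char_inv (isCharacter_linFun ψ).1 w).symm

end homs

variable {G : Type u} [Group G] [Fintype G] {p : ℕ} {P : Sylow p G}

/-- The orbit of a linear character. -/
def orbD [Fintype (autN P)] (ψ : (P : Subgroup G) →* ℂˣ) : Finset ((P : Subgroup G) →* ℂˣ) :=
  Finset.univ.image fun γ : autN P => ψ.comp (γ : MulAut (P : Subgroup G)).toMonoidHom

/-- The sum of a set of linear characters. -/
def orbSum (i : Finset ((P : Subgroup G) →* ℂˣ)) (w : (P : Subgroup G)) : ℂ :=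
  ∑ ψ ∈ i, ((ψ w : ℂˣ) : ℂ)

variable [Fintype (autN P)]

theorem mem_orbD_self (ψ : (P : Subgroup G) →* ℂˣ) : ψ ∈ orbD ψ :=
  Finset.mem_image.mpr ⟨1, Finset.mem_univ _, MonoidHom.ext fun _ => rfl⟩

theorem orbD_eq_of_mem {ψ φ : (P : Subgroup G) →* ℂˣ} (h : φ ∈ orbD ψ) : orbD φ = orbD ψ := by
  obtain ⟨γ, -, rfl⟩ := Finset.mem_image.mp h
  ext χ
  simp only [orbD, Finset.mem_image, Finset.mem_univ, true_and]
  constructor
  · rintro ⟨δ, rfl⟩
    exact ⟨γ * δ, MonoidHom.ext fun w => rfl⟩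
  · rintro ⟨δ, rfl⟩
    refine ⟨γ⁻¹ * δ, MonoidHom.ext fun w => ?_⟩
    show ψ ((γ : MulAut (P : Subgroup G)) (((γ⁻¹ * δ : autN P) : MulAut (P : Subgroup G)) w)) = _
    rw [← MulAut.mul_apply, ← Subgroup.coe_mul, mul_inv_cancel_left]
    rfl

theorem Free.hom_fixed (F : Free P) {γ : autN P} (hγ : γ ≠ 1) {ψ : (P : Subgroup G) →* ℂˣ}
    (h : ψ.comp (γ : MulAut (P : Subgroup G)).toMonoidHom = ψ) : ψ = 1 := by
  have := F.hab
  have hinj : Function.Injective fun w : (P : Subgroup G) => (γ : MulAut (P : Subgroup G)) w * w⁻¹ := by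
    intro v w hvw
    by_contra hne
    refine hγ (Subtype.ext (F.eq_one_of_fixed γ.2 (w := v * w⁻¹) (mul_inv_eq_one.not.mpr hne) ?_))
    rw [map_mul, map_inv]
    have hvw' : (γ : MulAut (P : Subgroup G)) v * v⁻¹ = (γ : MulAut (P : Subgroup G)) w * w⁻¹ := hvw
    rw [mul_inv_eq_iff_eq_mul] at hvw'
    rw [hvw']
    simp only [mul_comm, mul_left_comm, mul_assoc, mul_inv_cancel_left, mul_inv_cancel, mul_one]
  refine MonoidHom.ext fun v => ?_
  obtain ⟨w, rfl⟩ := (Finite.injective_iff_surjective.mp hinj) v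
  show ψ ((γ : MulAut (P : Subgroup G)) w * w⁻¹) = 1
  rw [map_mul, map_inv, show ψ ((γ : MulAut (P : Subgroup G)) w) = ψ w from DFunLike.congr_fun h w,
    mul_inv_cancel]

theorem Free.orbD_inj (F : Free P) {ψ : (P : Subgroup G) →* ℂˣ} (hψ : ψ ≠ 1) :
    Function.Injective fun γ : autN P => ψ.comp (γ : MulAut (P : Subgroup G)).toMonoidHom := by
  intro γ δ h
  by_contra hne
  refine hψ (F.hom_fixed (γ := δ * γ⁻¹) (fun h1 => hne (mul_inv_eq_one.mp h1).symm) ?_)
  refine MonoidHom.ext fun w => ?_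
  show ψ (((δ * γ⁻¹ : autN P) : MulAut (P : Subgroup G)) w) = ψ w
  rw [Subgroup.coe_mul, MulAut.mul_apply]
  have h1 := DFunLike.congr_fun h (((γ⁻¹ : autN P) : MulAut (P : Subgroup G)) w)
  refine h1.symm.trans (congrArg ψ ?_)
  show (γ : MulAut (P : Subgroup G)) (((γ⁻¹ : autN P) : MulAut (P : Subgroup G)) w) = w
  rw [← MulAut.mul_apply, ← Subgroup.coe_mul, mul_inv_cancel]
  rfl

theorem Free.orbSum_orbD (F : Free P) {ψ : (P : Subgroup G) →* ℂˣ} (hψ : ψ ≠ 1) (w : (P : Subgroup G)) :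
    orbSum (orbD ψ) w = ∑ γ : autN P, ((ψ ((γ : MulAut (P : Subgroup G)) w) : ℂˣ) : ℂ) := by
  rw [orbSum, orbD, Finset.sum_image fun a _ b _ h => F.orbD_inj hψ h]
  rfl

theorem Free.stable_orbSum (F : Free P) {ψ : (P : Subgroup G) →* ℂˣ} (hψ : ψ ≠ 1) :
    Stable P (orbSum (orbD ψ)) := by
  intro δ hδ w
  rw [F.orbSum_orbD hψ, F.orbSum_orbD hψ]
  exact Fintype.sum_equiv (Equiv.mulRight (⟨δ, hδ⟩ : autN P)) _ _ fun γ => rfl

omit [Fintype (autN P)] in
theorem inner_sub_sub (a b c d : G → ℂ) :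
    classInner (a - b) (c - d) =
      classInner a c - classInner a d - classInner b c + classInner b d := by
  simp only [classInner_def, Pi.sub_apply, map_sub, sub_mul, mul_sub, Finset.sum_sub_distrib]
  ring

omit [Fintype (autN P)] in
theorem inner_eq_sum {f g : G → ℂ} (hf : IsClassFunction G f) :
    classInner f g = ∑ χ : IrrCharacter G, classInner f (χ : G → ℂ) * conj (classInner g (χ : G → ℂ)) := by
  conv_lhs => rw [classFun_eq_sum hf]
  rw [classInner_sum_left]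
  exact Finset.sum_congr rfl fun χ _ => by rw [classInner_smul_left, classInner_conj_symm]

variable [hp : Fact p.Prime] {M : Ideal AlgInt} [M.IsMaximal] {m : ℕ}

set_option maxHeartbeats 1600000 in
/-- The structure of the principal block. -/
theorem Free.exists_structure (F : Free P) (hM : IsPModular p M)
    (hP1 : Nat.card (P : Subgroup G) ≠ 1)
    (hm : (Subgroup.centralizer ((P : Subgroup G) : Set G)).relIndex
      (Subgroup.normalizer ((P : Subgroup G) : Set G)) = m)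
    (hm1 : 1 < m) (hm2 : m + 1 < Nat.card (P : Subgroup G)) :
    ∃ (s : ℕ) (X Y : Set (IrrCharacter G)), s ≤ m ∧ principalBlock M G = X ∪ Y ∧ Disjoint X Y ∧
      Nat.card X = s ∧ Nat.card Y = (Nat.card (P : Subgroup G) - 1) / m ∧
      (∃ χ₁ ∈ X, (χ₁ : G → ℂ) = fun _ => 1) ∧
      ∃ (a : IrrCharacter G → ℤ) (d δ : ℤ) (ζ : (↥(P : Subgroup G) →* ℂˣ) → IrrCharacter G),
        (δ = 1 ∨ δ = -1) ∧
        (∀ χ ∈ X, a χ ≠ 0 ∧ ∀ z y : G, IsPPart p z y → y ∈ (P : Subgroup G) → y ≠ 1 →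
          (χ : G → ℂ) z = (a χ : ℂ)) ∧
        (∀ ψ : ↥(P : Subgroup G) →* ℂˣ, ψ ≠ 1 → ζ ψ ∈ Y) ∧
        (∀ η ∈ Y, ∃ ψ : ↥(P : Subgroup G) →* ℂˣ, ψ ≠ 1 ∧ ζ ψ = η) ∧
        (∀ ψ ψ' : ↥(P : Subgroup G) →* ℂˣ, ψ ≠ 1 →
          (∃ n : G, n ∈ Subgroup.normalizer ((P : Subgroup G) : Set G) ∧
            ∀ w w' : ↥(P : Subgroup G), (w' : G) = n * w * n⁻¹ → ψ' w' = ψ w) → ζ ψ' = ζ ψ) ∧
        (∀ ψ : ↥(P : Subgroup G) →* ℂˣ, ψ ≠ 1 → ∀ (z : G) (y : ↥(P : Subgroup G)),
          IsPPart p z (y : G) → (y : G) ≠ 1 → (ζ ψ : G → ℂ) z = (d : ℂ) + (δ : ℂ) *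
            ∑ᶠ ψ' ∈ {ψ' : ↥(P : Subgroup G) →* ℂˣ |
              ∃ n : G, n ∈ Subgroup.normalizer ((P : Subgroup G) : Set G) ∧
                ∀ w w' : ↥(P : Subgroup G), (w' : G) = n * w * n⁻¹ → ψ' w' = ψ w},
              ((ψ' y : ℂˣ) : ℂ)) ∧
        ((d - δ) ^ 2 + ((Nat.card (P : Subgroup G) - 1) / m - 1 : ℤ) * d ^ 2 + ∑ᶠ χ ∈ X, a χ ^ 2 =
          (m : ℤ) + 1) ∧
        (∀ η ∈ Y, ∀ η' ∈ Y, ∀ g : G, ¬ p ∣ orderOf g → (η : G → ℂ) g = (η' : G → ℂ) g) ∧
        (∀ η ∈ Y, ∀ g : G, ¬ p ∣ orderOf g →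
          ((((Nat.card (P : Subgroup G) - 1) / m : ℕ) : ℂ) * d - δ) * (η : G → ℂ) g +
            ∑ᶠ χ ∈ X, (a χ : ℂ) * (χ : G → ℂ) g = 0) := by
  have := F.hab
  have : Finite (↥(P : Subgroup G) →* ℂˣ) := finite_hom
  have := Fintype.ofFinite (↥(P : Subgroup G) →* ℂˣ)
  set q := Nat.card (P : Subgroup G) with hq
  have hq0 : (q : ℂ) ≠ 0 := card_ne_zero'
  have hmC : (m : ℂ) ≠ 0 := Nat.cast_ne_zero.mpr (by omega)
  have hcardΓ : (Finset.univ : Finset (autN P)).card = m := by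
    rw [Finset.card_univ, ← Nat.card_eq_fintype_card, card_autN hm]
  -- the orbits
  obtain ⟨J, hJ⟩ : ∃ J, J = ((Finset.univ : Finset (↥(P : Subgroup G) →* ℂˣ)).erase 1).image orbD :=
    ⟨_, rfl⟩
  have horb_mem : ∀ ψ : ↥(P : Subgroup G) →* ℂˣ, ψ ≠ 1 → orbD ψ ∈ J := fun ψ hψ => by
    rw [hJ]
    exact Finset.mem_image_of_mem _ (Finset.mem_erase.mpr ⟨hψ, Finset.mem_univ _⟩)
  have hJmem : ∀ i ∈ J, ∃ ψ : ↥(P : Subgroup G) →* ℂˣ, ψ ≠ 1 ∧ orbD ψ = i := fun i hi => by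
    rw [hJ] at hi
    obtain ⟨ψ, hψ, rfl⟩ := Finset.mem_image.mp hi
    exact ⟨ψ, (Finset.mem_erase.mp hψ).1, rfl⟩
  have hcard_i : ∀ i ∈ J, i.card = m := fun i hi => by
    obtain ⟨ψ, hψ, rfl⟩ := hJmem i hi
    rw [orbD, Finset.card_image_of_injective _ (F.orbD_inj hψ), hcardΓ]
  have hne1 : ∀ i ∈ J, ∀ φ ∈ i, φ ≠ 1 ∧ orbD φ = i := fun i hi φ hφ => by
    obtain ⟨ψ, hψ, rfl⟩ := hJmem i hi
    refine ⟨?_, orbD_eq_of_mem hφ⟩
    obtain ⟨γ, -, rfl⟩ := Finset.mem_image.mp hφ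
    intro h1
    refine hψ (MonoidHom.ext fun w => ?_)
    have h2 := DFunLike.congr_fun h1 ((γ : MulAut (P : Subgroup G))⁻¹ w)
    simpa using h2
  have hpart : ∀ f : (↥(P : Subgroup G) →* ℂˣ) → ℂ,
      ∑ i ∈ J, ∑ ψ ∈ i, f ψ = (∑ ψ : ↥(P : Subgroup G) →* ℂˣ, f ψ) - f 1 := by
    intro f
    rw [← Finset.sum_erase_eq_sub (Finset.mem_univ (1 : ↥(P : Subgroup G) →* ℂˣ)),
      ← Finset.sum_fiberwise_of_maps_to (t := J) (g := orbD) (fun ψ hψ =>
        horb_mem ψ (Finset.mem_erase.mp hψ).1) f]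
    refine Finset.sum_congr rfl fun i hi => Finset.sum_congr (Finset.ext fun φ => ?_) fun _ _ => rfl
    simp only [Finset.mem_filter, Finset.mem_erase, Finset.mem_univ, and_true]
    exact ⟨fun h => ⟨(hne1 i hi φ h).1, (hne1 i hi φ h).2⟩, fun h => h.2 ▸ mem_orbD_self φ⟩
  have hcardJ : J.card * m = q - 1 := by
    have h := hpart fun _ => 1
    rw [Finset.sum_congr rfl (g := fun _ => (m : ℂ)) fun i hi => by
        rw [Finset.sum_const, hcard_i i hi, nsmul_one],
      Finset.sum_const, Finset.sum_const, Finset.card_univ, ← Nat.card_eq_fintype_card, card_hom,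
      nsmul_one, nsmul_eq_mul, ← hq, ← Nat.cast_one, ← Nat.cast_mul,
      ← Nat.cast_sub (by omega : 1 ≤ q)] at h
    exact_mod_cast h
  have hr2 : 2 ≤ J.card := by
    by_contra hlt
    have : J.card * m ≤ 1 * m := Nat.mul_le_mul_right m (by omega)
    omega
  have hrdiv : (q - 1) / m = J.card := by
    rw [← hcardJ, Nat.mul_div_cancel _ (by omega)]
  obtain ⟨i₀, hi₀, i₁, hi₁, hne01⟩ := Finset.one_lt_card.mp hr2
  -- the generalised characters
  let η : {i // i ∈ J} → ↥(P : Subgroup G) → ℂ := fun i y => (m : ℂ) - orbSum i.1 y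
  have hSst : ∀ i : {i // i ∈ J}, Stable P (orbSum i.1) := fun i => by
    obtain ⟨ψ, hψ, hi⟩ := hJmem i.1 i.2
    rw [← hi]
    exact F.stable_orbSum hψ
  have hηst : ∀ i, Stable P (η i) := fun i γ hγ w => by simp only [η, hSst i γ hγ w]
  have hη1 : ∀ i, η i 1 = 0 := fun i => by
    simp [η, orbSum, hcard_i i.1 i.2]
  have hηgen : ∀ i, IsGeneralizedCharacter (P : Subgroup G) (η i) := fun i => by
    have h1 : IsGeneralizedCharacter (P : Subgroup G) ((((m : ℤ) : ℂ)) • (fun _ => 1 : ↥(P : Subgroup G) → ℂ)) :=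
      isGen_intCast_smul isGen_one _
    have h2 : IsGeneralizedCharacter (P : Subgroup G) (∑ ψ ∈ i.1, linFun ψ) :=
      isGen_sum _ fun ψ _ => isGen_of_char (isCharacter_linFun ψ).1
    convert isGen_sub h1 h2 using 1
    funext y
    simp [η, orbSum, linFun_apply]
  let w : {i // i ∈ J} → G → ℂ := fun i => sext P (η i)
  have hwgen : ∀ i, IsGeneralizedCharacter G (w i) := fun i => F.isGen_sext (hηst i) (hηgen i)
  have hwreg : ∀ i g, ¬ p ∣ orderOf g → w i g = 0 := fun i g hg =>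
    (F.sext_regular (hηst i) hg).trans (hη1 i)
  have hsumS : ∀ i : {i // i ∈ J}, ∑ y : (P : Subgroup G), orbSum i.1 y = 0 := fun i => by
    simp only [orbSum]
    rw [Finset.sum_comm]
    exact Finset.sum_eq_zero fun ψ hψ => by rw [sum_eval_hom, if_neg (hne1 i.1 i.2 ψ hψ).1]
  have hsumSS : ∀ i j : {i // i ∈ J}, ∑ y : (P : Subgroup G), orbSum i.1 y * conj (orbSum j.1 y) =
      if i = j then (q : ℂ) * m else 0 := fun i j => by
    simp only [orbSum, map_sum, Finset.sum_mul_sum]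
    rw [Finset.sum_comm]
    simp only [Finset.sum_comm (s := (Finset.univ : Finset (P : Subgroup G)))]
    rw [Finset.sum_congr rfl (g := fun ψ => if ψ ∈ j.1 then (q : ℂ) else 0) fun ψ hψ => ?_]
    · split_ifs with hij
      · subst hij
        rw [Finset.sum_congr rfl (g := fun _ => (q : ℂ)) fun ψ hψ => if_pos hψ, Finset.sum_const,
          hcard_i _ i.2, nsmul_eq_mul, mul_comm]
      · exact Finset.sum_eq_zero fun ψ hψ => if_neg fun hψj => hij (Subtype.ext
          ((hne1 i.1 i.2 ψ hψ).2.symm.trans (hne1 j.1 j.2 ψ hψj).2))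
    · rw [← Finset.sum_ite_eq j.1 ψ fun _ => (q : ℂ)]
      refine Finset.sum_congr rfl fun φ _ => ?_
      rw [Finset.sum_congr rfl (g := fun y => (((ψ * φ⁻¹) y : ℂˣ) : ℂ)) fun y _ => by
        rw [conj_hom, map_inv, MonoidHom.mul_apply, MonoidHom.inv_apply, Units.val_mul], sum_eval_hom]
      exact if_congr ⟨fun h => MonoidHom.ext fun x => mul_inv_eq_one.mp (DFunLike.congr_fun h x),
        fun h => MonoidHom.ext fun x => by simp [h]⟩ rfl rfl
  have hgram : ∀ i j, classInner (w i) (w j) = (m : ℂ) + if i = j then 1 else 0 := fun i j => by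
    rw [F.inner_sext_sext hm (hηst i) (hη1 i) (hηst j)]
    have hconj : ∑ y : (P : Subgroup G), conj (orbSum j.1 y) = 0 := by
      rw [← map_sum, hsumS, map_zero]
    simp only [η, map_sub, Complex.conj_natCast, sub_mul, mul_sub, Finset.sum_sub_distrib,
      ← Finset.mul_sum, ← Finset.sum_mul, hsumS, hconj, hsumSS, Finset.sum_const, Finset.card_univ,
      ← Nat.card_eq_fintype_card, ← hq, nsmul_eq_mul]
    split_ifs <;> field_simp <;> ring
  -- coherence
  obtain ⟨ε, hε, μ, hμ, hμinj, hτ⟩ := coherent_of_gram (G := G) (⟨i₀, hi₀⟩ : {i // i ∈ J})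
    (fun i => w i - w ⟨i₀, hi₀⟩) (sub_self _) (fun i => isGen_sub (hwgen i) (hwgen _))
    (fun i => by
      have h1 : ¬ p ∣ orderOf (1 : G) := by rw [orderOf_one]; exact hp.out.not_dvd_one
      simp [hwreg _ _ h1])
    (fun i j hi hj => by
      rw [inner_sub_sub, hgram, hgram, hgram, hgram, if_neg hi, if_neg (Ne.symm hj), if_pos rfl]
      split_ifs <;> ring)
  let μ' : {i // i ∈ J} → IrrCharacter G := fun i => ⟨μ i, hμ i⟩
  have hμ'inj : Function.Injective μ' := fun i j h => hμinj (congrArg Subtype.val h)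
  let c : IrrCharacter G → {i // i ∈ J} → ℂ := fun χ i => classInner (w i) (χ : G → ℂ)
  choose cz hcz using fun (χ : IrrCharacter G) (i : {i // i ∈ J}) =>
    classInner_gen_int (hwgen i) (isGen_of_irr χ.2)
  have hcout : ∀ χ : IrrCharacter G, χ ∉ principalBlock M G → ∀ i, c χ i = 0 := fun χ hχ i => by
    simp only [c, w, F.inner_sext hM hm (hηst i) (hη1 i), if_neg hχ]
  have hdiff : ∀ χ i, c χ i = c χ ⟨i₀, hi₀⟩ +
      ε * ((if μ' i = χ then 1 else 0) - if μ' ⟨i₀, hi₀⟩ = χ then 1 else 0) := fun χ i => by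
    have h1 : classInner (w i - w ⟨i₀, hi₀⟩) (χ : G → ℂ) = c χ i - c χ ⟨i₀, hi₀⟩ := by
      simp only [c, classInner_def, Pi.sub_apply, sub_mul, Finset.sum_sub_distrib, mul_sub]
    have h2 : classInner (μ i - μ ⟨i₀, hi₀⟩) (χ : G → ℂ) =
        (if μ' i = χ then 1 else 0) - if μ' ⟨i₀, hi₀⟩ = χ then 1 else 0 := by
      rw [← classInner_irrCharacter (μ' i) χ, ← classInner_irrCharacter (μ' ⟨i₀, hi₀⟩) χ]
      simp only [μ', classInner_def, Pi.sub_apply, sub_mul, Finset.sum_sub_distrib, mul_sub]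
    rw [hτ i, classInner_smul_left, h2] at h1
    rw [h1]
    ring
  let v : IrrCharacter G → ℂ := fun χ =>
    c χ ⟨i₀, hi₀⟩ - ε * if μ' ⟨i₀, hi₀⟩ = χ then 1 else 0
  have hcv : ∀ χ i, c χ i = v χ + ε * if μ' i = χ then 1 else 0 := fun χ i => by
    rw [hdiff χ i]
    simp only [v]
    ring
  have hεne : ε ≠ 0 := by rcases hε with rfl | rfl <;> norm_num
  have hμB : ∀ i, μ' i ∈ principalBlock M G := by
    intro i
    by_contra hi
    obtain ⟨j, hj⟩ : ∃ j : {i // i ∈ J}, j ≠ i := by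
      by_cases h : i = ⟨i₀, hi₀⟩
      · exact ⟨⟨i₁, hi₁⟩, fun h' => hne01 (congrArg Subtype.val (h'.trans h)).symm⟩
      · exact ⟨_, Ne.symm h⟩
    have h1 := hcv (μ' i) i
    have h2 := hcv (μ' i) j
    rw [hcout _ hi, if_pos rfl, mul_one] at h1
    rw [hcout _ hi, if_neg fun h => hj (hμ'inj h), mul_zero, add_zero] at h2
    exact hεne (by rw [h1, ← h2, zero_add])
  have hcreal : ∀ χ i, conj (c χ i) = c χ i := fun χ i => by
    simp only [c, hcz χ i, map_intCast]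
  have hvreal : ∀ χ, conj (v χ) = v χ := fun χ => by
    have h1 : conj ε = ε := by rcases hε with rfl | rfl <;> simp
    simp only [v, map_sub, map_mul, hcreal, h1, apply_ite (starRingEnd ℂ), map_one, map_zero]
  have hε2 : ε * ε = 1 := by rcases hε with rfl | rfl <;> norm_num
  have hnorm : ∀ i, (m : ℂ) + 1 = (∑ χ : IrrCharacter G, v χ * v χ) + 2 * ε * v (μ' i) + 1 := fun i => by
    have h := inner_eq_sum (g := w i) (isClassFunction_of_isGen (hwgen i))
    rw [hgram, if_pos rfl] at h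
    rw [h]
    have h1 : ∀ χ : IrrCharacter G, classInner (w i) (χ : G → ℂ) * conj (classInner (w i) (χ : G → ℂ)) =
        v χ * v χ + if μ' i = χ then 2 * ε * v χ + 1 else 0 := fun χ => by
      show c χ i * conj (c χ i) = _
      rw [hcreal, hcv]
      split_ifs
      · linear_combination hε2
      · ring
    rw [Finset.sum_congr rfl fun χ _ => h1 χ, Finset.sum_add_distrib, Finset.sum_ite_eq,
      if_pos (Finset.mem_univ _), add_assoc]
  have hvμ : ∀ i, v (μ' i) = v (μ' ⟨i₀, hi₀⟩) := fun i => by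
    have h := (hnorm i).symm.trans (hnorm ⟨i₀, hi₀⟩)
    exact mul_left_cancel₀ (mul_ne_zero two_ne_zero hεne) (add_left_cancel (add_right_cancel h))
  set dZ : ℤ := cz (μ' ⟨i₀, hi₀⟩) ⟨i₁, hi₁⟩ with hdZ
  have hd : ∀ i, v (μ' i) = (dZ : ℂ) := fun i => by
    rw [hvμ i, hdZ, ← hcz]
    show _ = c _ _
    rw [hcv, if_neg fun h => hne01 (congrArg Subtype.val (hμ'inj h)).symm, mul_zero, add_zero]
  obtain ⟨εZ, hεZ, hεC⟩ : ∃ εZ : ℤ, (εZ = 1 ∨ εZ = -1) ∧ ε = (εZ : ℂ) := by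
    rcases hε with rfl | rfl
    · exact ⟨1, Or.inl rfl, by simp⟩
    · exact ⟨-1, Or.inr rfl, by simp⟩
  have hcμ : ∀ j i, c (μ' j) i = (dZ : ℂ) + ε * if i = j then 1 else 0 := fun j i => by
    rw [hcv, hd, if_congr hμ'inj.eq_iff rfl rfl]
  -- the values on the sections
  have hval : ∀ χ ∈ principalBlock M G, ∀ z : (P : Subgroup G), z ≠ 1 →
      (χ : G → ℂ) z = -∑ i : {i // i ∈ J}, c χ i * orbSum i.1 z := by
    intro χ hχ z hz
    have hK : ∀ y : (P : Subgroup G), ∑ i : {i // i ∈ J}, η i y * conj (orbSum i.1 z) =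
        -((q : ℂ) * ∑ γ : autN P, if y = (γ : MulAut (P : Subgroup G)) z then 1 else 0) := by
      intro y
      have hA : ∑ i : {i // i ∈ J}, conj (orbSum i.1 z) = -1 := by
        rw [← map_sum, Finset.sum_coe_sort J fun i => orbSum i z]
        simp only [orbSum]
        rw [hpart fun ψ => ((ψ z : ℂˣ) : ℂ), sum_hom_eval, if_neg hz]
        simp
      have hB : ∑ i : {i // i ∈ J}, orbSum i.1 y * conj (orbSum i.1 z) =
          (q : ℂ) * (∑ γ : autN P, if y = (γ : MulAut (P : Subgroup G)) z then 1 else 0) - m := by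
        rw [Finset.sum_coe_sort J fun i => orbSum i y * conj (orbSum i z)]
        rw [Finset.sum_congr rfl (g := fun i => ∑ ψ ∈ i, ∑ γ : autN P,
          ((ψ (y * ((γ : MulAut (P : Subgroup G)) z)⁻¹) : ℂˣ) : ℂ)) fun i hi => ?_]
        · rw [hpart fun ψ => ∑ γ : autN P, ((ψ (y * ((γ : MulAut (P : Subgroup G)) z)⁻¹) : ℂˣ) : ℂ),
            Finset.sum_comm, Finset.mul_sum]
          congr 1
          · refine Finset.sum_congr rfl fun γ _ => ?_
            rw [sum_hom_eval, ← hq]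
            simp only [mul_inv_eq_one, mul_ite, mul_one, mul_zero]
          · simp [hcardΓ]
        · rw [orbSum, Finset.sum_mul]
          refine Finset.sum_congr rfl fun ψ hψ => ?_
          obtain ⟨hψ1, hψi⟩ := hne1 i hi ψ hψ
          rw [show i = orbD ψ from hψi.symm, F.orbSum_orbD hψ1, map_sum, Finset.mul_sum]
          refine Finset.sum_congr rfl fun γ _ => ?_
          rw [conj_hom, map_mul, Units.val_mul]
      simp only [η, sub_mul, Finset.sum_sub_distrib, ← Finset.mul_sum, hA, hB]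
      ring
    have hmain : ∑ i : {i // i ∈ J}, c χ i * conj (orbSum i.1 z) = -conj ((χ : G → ℂ) z) := by
      simp only [c, w, F.inner_sext hM hm (hηst _) (hη1 _), if_pos hχ]
      calc _ = ((m : ℂ) * q)⁻¹ * ∑ y : (P : Subgroup G),
            conj ((χ : G → ℂ) y) * ∑ i : {i // i ∈ J}, η i y * conj (orbSum i.1 z) := by
            simp only [Finset.mul_sum, Finset.sum_mul]
            rw [Finset.sum_comm]
            exact Finset.sum_congr rfl fun y _ => Finset.sum_congr rfl fun i _ => by ring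
        _ = ((m : ℂ) * q)⁻¹ * -((q : ℂ) * ∑ γ : autN P,
            conj ((χ : G → ℂ) ((γ : MulAut (P : Subgroup G)) z : G))) := by
            congr 1
            simp only [hK, mul_neg, Finset.sum_neg_distrib, Finset.mul_sum, neg_inj]
            rw [Finset.sum_comm]
            refine Finset.sum_congr rfl fun γ _ => ?_
            simp only [mul_ite, mul_one, mul_zero, Finset.sum_ite_eq', Finset.mem_univ, if_true]
            ring
        _ = _ := by
            rw [Finset.sum_congr rfl (g := fun _ => conj ((χ : G → ℂ) z)) fun γ _ => ?_,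
              Finset.sum_const, hcardΓ, nsmul_eq_mul]
            · field_simp
            · obtain ⟨n, -, hn⟩ := mem_autN_iff.mp γ.2
              rw [hn z, isClassFunction_of_isIrr χ.2 (z : G) n]
    have h := congrArg (starRingEnd ℂ) hmain
    simp only [map_sum, map_mul, map_neg, Complex.conj_conj, hcreal] at h
    rw [h, neg_neg]
  have hsumJ : ∀ z : (P : Subgroup G), z ≠ 1 → ∑ i : {i // i ∈ J}, orbSum i.1 z = -1 := fun z hz => by
    rw [Finset.sum_coe_sort J fun i => orbSum i z]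
    simp only [orbSum]
    rw [hpart fun ψ => ((ψ z : ℂˣ) : ℂ), sum_hom_eval, if_neg hz]
    simp
  -- moving to an arbitrary element with given `p`-part
  have hsection : ∀ χ ∈ principalBlock M G, ∀ z y : G, IsPPart p z y → y ∈ (P : Subgroup G) → y ≠ 1 →
      (χ : G → ℂ) z = (χ : G → ℂ) y := by
    rintro χ hχ z y ⟨s, rfl, hc, hk, hs⟩ hy hy1
    have := Fintype.ofFinite (Subgroup.centralizer ({y} : Set G))
    exact principal_section_const hM hk (F.index_core hy hy1) hχ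
      (y := ⟨s, Subgroup.mem_centralizer_singleton_iff.mpr hc.eq.symm⟩) (by rwa [Subgroup.orderOf_mk])
  let YF : Finset (IrrCharacter G) := Finset.univ.image μ'
  let XF : Finset (IrrCharacter G) :=
    Finset.univ.filter fun χ => χ ∈ principalBlock M G ∧ χ ∉ YF
  let a : IrrCharacter G → ℤ := fun χ => cz χ ⟨i₀, hi₀⟩
  have hXc : ∀ χ ∈ XF, ∀ i, c χ i = (a χ : ℂ) := by
    intro χ hχ i
    have hnot : ∀ j, μ' j ≠ χ := fun j h =>
      (Finset.mem_filter.mp hχ).2.2 (Finset.mem_image.mpr ⟨j, Finset.mem_univ _, h⟩)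
    rw [show (a χ : ℂ) = c χ ⟨i₀, hi₀⟩ from (hcz χ _).symm, hcv, hcv, if_neg (hnot i),
      if_neg (hnot _)]
  have hXval : ∀ χ ∈ XF, ∀ z : (P : Subgroup G), z ≠ 1 → (χ : G → ℂ) z = (a χ : ℂ) := by
    intro χ hχ z hz
    rw [hval χ (Finset.mem_filter.mp hχ).2.1 z hz, Finset.sum_congr rfl fun i _ => by rw [hXc χ hχ i],
      ← Finset.mul_sum, hsumJ z hz]
    ring
  have hYval : ∀ j, ∀ z : (P : Subgroup G), z ≠ 1 →
      (μ' j : G → ℂ) z = (dZ : ℂ) + ((-εZ : ℤ) : ℂ) * orbSum j.1 z := by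
    intro j z hz
    rw [hval _ (hμB j) z hz, Finset.sum_congr rfl fun i _ => by rw [hcμ j i]]
    simp only [add_mul, mul_ite, mul_one, mul_zero, ite_mul, zero_mul, Finset.sum_add_distrib,
      ← Finset.mul_sum, hsumJ z hz, Finset.sum_ite_eq', Finset.mem_univ, if_true, hεC]
    push_cast
    ring
  have hone : ((CfsgLib.Char.irrOne : IrrCharacter G)) ∈ XF := by
    refine Finset.mem_filter.mpr ⟨Finset.mem_univ _, irrOne_mem_principalBlock, fun h => ?_⟩
    obtain ⟨j, -, hj⟩ := Finset.mem_image.mp h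
    have hc1 : ∀ i, c (μ' j) i = 1 := fun i => by
      simp only [c, w]
      rw [hj, F.inner_sext hM hm (hηst i) (hη1 i), if_pos irrOne_mem_principalBlock,
        Finset.sum_congr rfl (g := fun y => η i y) fun y _ => by
          rw [show ((CfsgLib.Char.irrOne : IrrCharacter G) : G → ℂ) (y : G) = 1 from rfl, map_one,
            mul_one]]
      simp only [η, Finset.sum_sub_distrib, hsumS, Finset.sum_const, Finset.card_univ,
        ← Nat.card_eq_fintype_card, ← hq, nsmul_eq_mul, sub_zero]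
      field_simp
    obtain ⟨k, hk⟩ : ∃ k : {i // i ∈ J}, k ≠ j := by
      by_cases h' : j = ⟨i₀, hi₀⟩
      · exact ⟨⟨i₁, hi₁⟩, fun h'' => hne01 (congrArg Subtype.val (h''.trans h')).symm⟩
      · exact ⟨_, Ne.symm h'⟩
    have h1 := (hcμ j j).symm.trans (hc1 j)
    have h2 := (hcμ j k).symm.trans (hc1 k)
    rw [if_pos rfl] at h1
    rw [if_neg hk] at h2
    exact hεne (by linear_combination h1 - h2)
  have ha0 : ∀ χ ∈ XF, a χ ≠ 0 := by
    intro χ hχ h0
    obtain ⟨-, hχB, -⟩ := Finset.mem_filter.mp hχ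
    have hres := isCharacter_res (P : Subgroup G) (isCharacter_of_isIrr χ.2)
    obtain ⟨k, hk⟩ := classInner_char_nat hres (isCharacter_one (G := (P : Subgroup G)))
    rw [classInner_def, Finset.sum_eq_single (1 : (P : Subgroup G))
      (fun y _ hy => by rw [hXval χ hχ y hy, h0]; simp) (fun h => absurd (Finset.mem_univ _) h),
      map_one, mul_one, Subgroup.coe_one, ← hq, inv_mul_eq_iff_eq_mul₀ hq0,
      ← CfsgLib.CharBlocks.coe_charDegree_irr χ, ← Nat.cast_mul, Nat.cast_inj] at hk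
    have hnd : ¬ p ∣ Nat.card G / charDegree (χ : G → ℂ) := by
      intro hd
      have hdiv := CfsgLib.CharBlocks.charDegree_dvd_card χ.2
      refine P.not_dvd_index' (Nat.ne_of_gt (Nat.pos_of_ne_zero Subgroup.index_ne_zero_of_finite)) (hd.trans ?_)
      rw [← Subgroup.card_mul_index (P : Subgroup G), ← hq, hk] at hdiv ⊢
      have hk0 : 0 < q * k := hk ▸ CfsgLib.CharBlocks.charDegree_pos χ.2
      obtain ⟨e, he⟩ := hdiv
      rw [he, Nat.mul_div_cancel_left _ hk0]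
      exact ⟨k, Nat.eq_of_mul_eq_mul_left (show 0 < q from Nat.card_pos) (by rw [he]; ring)⟩
    have hB0 : principalBlock M G = {χ} := by
      rw [isPBlock_eq_blockOf isPBlock_principalBlock hχB, blockOf_eq_singleton hM χ hnd]
    have h1 : (CfsgLib.Char.irrOne : IrrCharacter G) = χ := by
      have := irrOne_mem_principalBlock (M := M) (G := G)
      rw [hB0] at this
      exact this
    have : Nontrivial (P : Subgroup G) := Finite.one_lt_card_iff_nontrivial.mp (by omega)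
    obtain ⟨y, hy⟩ := exists_ne (1 : (P : Subgroup G))
    have h2 := hXval χ hχ y hy
    rw [← h1, show a (CfsgLib.Char.irrOne : IrrCharacter G) = 0 from h1 ▸ h0] at h2
    exact one_ne_zero (h2.trans (by simp))
  -- splitting a sum over the irreducible characters
  have hsplit : ∀ f : IrrCharacter G → ℂ, (∀ χ, χ ∉ principalBlock M G → f χ = 0) →
      ∑ χ : IrrCharacter G, f χ = ∑ χ ∈ XF, f χ + ∑ i : {i // i ∈ J}, f (μ' i) := by
    intro f hf
    rw [← Finset.sum_image (f := f) (s := Finset.univ) (g := μ') fun i _ j _ h => hμ'inj h,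
      ← Finset.sum_union (Finset.disjoint_left.mpr fun χ h1 h2 => (Finset.mem_filter.mp h1).2.2 h2)]
    refine (Finset.sum_subset (Finset.subset_univ _) fun χ _ hχ => hf χ fun hB => hχ ?_).symm
    by_cases hY : χ ∈ YF
    · exact Finset.mem_union_right _ hY
    · exact Finset.mem_union_left _ (Finset.mem_filter.mpr ⟨Finset.mem_univ _, hB, hY⟩)
  have hnormZ : (dZ + εZ) ^ 2 + ((J.card : ℤ) - 1) * dZ ^ 2 + ∑ χ ∈ XF, a χ ^ 2 = (m : ℤ) + 1 := by
    have h := inner_eq_sum (g := w ⟨i₀, hi₀⟩) (isClassFunction_of_isGen (hwgen ⟨i₀, hi₀⟩))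
    rw [hgram, if_pos rfl, hsplit _ (fun χ hχ => by
      show c χ _ * _ = 0
      rw [hcout χ hχ, zero_mul])] at h
    have h2 : ∀ χ ∈ XF, classInner (w ⟨i₀, hi₀⟩) (χ : G → ℂ) * conj (classInner (w ⟨i₀, hi₀⟩) (χ : G → ℂ)) =
        ((a χ ^ 2 : ℤ) : ℂ) := fun χ hχ => by
      show c χ _ * conj (c χ _) = _
      rw [hcreal, hXc χ hχ]
      push_cast
      ring
    have h3 : ∀ i, classInner (w ⟨i₀, hi₀⟩) (μ' i : G → ℂ) * conj (classInner (w ⟨i₀, hi₀⟩) (μ' i : G → ℂ)) =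
        ((dZ ^ 2 : ℤ) : ℂ) + if i = ⟨i₀, hi₀⟩ then (((dZ + εZ) ^ 2 - dZ ^ 2 : ℤ) : ℂ) else 0 := fun i => by
      show c (μ' i) _ * conj (c (μ' i) _) = _
      rw [hcreal, hcμ, if_congr eq_comm rfl rfl, hεC]
      split_ifs <;> push_cast <;> ring
    rw [Finset.sum_congr rfl h2, Finset.sum_congr rfl fun i _ => h3 i, Finset.sum_add_distrib,
      Finset.sum_const, Finset.sum_ite_eq', if_pos (Finset.mem_univ _), Finset.card_univ,
      Fintype.card_coe, nsmul_eq_mul] at h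
    rw [← Int.cast_inj (α := ℂ)]
    push_cast at h ⊢
    linear_combination -h
  have hqZ : ((q : ℤ) - 1) / (m : ℤ) = (J.card : ℤ) := by
    have h1 : ((q : ℤ) - 1) = (J.card : ℤ) * (m : ℤ) := by
      rw [← Nat.cast_mul, hcardJ, Nat.cast_sub (by omega : 1 ≤ q)]
      simp
    rw [h1, Int.mul_ediv_cancel _ (by omega)]
  let ζ : (↥(P : Subgroup G) →* ℂˣ) → IrrCharacter G := fun ψ =>
    if h : orbD ψ ∈ J then μ' ⟨orbD ψ, h⟩ else μ' ⟨i₀, hi₀⟩
  have hrel : ∀ ψ ψ' : ↥(P : Subgroup G) →* ℂˣ,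
      (∃ n : G, n ∈ Subgroup.normalizer ((P : Subgroup G) : Set G) ∧
        ∀ v v' : ↥(P : Subgroup G), (v' : G) = n * v * n⁻¹ → ψ' v' = ψ v) ↔ ψ' ∈ orbD ψ := by
    intro ψ ψ'
    constructor
    · rintro ⟨n, hn, h⟩
      set γ : autN P := ⟨_, ⟨⟨n, hn⟩, rfl⟩⟩
      refine Finset.mem_image.mpr ⟨γ⁻¹, Finset.mem_univ _, MonoidHom.ext fun v => ?_⟩
      have h1 := h (((γ⁻¹ : autN P) : MulAut (P : Subgroup G)) v) v ?_
      · exact h1.symm
      · show (v : G) = ((((P : Subgroup G).normalizerMonoidHom ⟨n, hn⟩)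
          (((P : Subgroup G).normalizerMonoidHom ⟨n, hn⟩)⁻¹ v) : (P : Subgroup G)) : G)
        rw [MulAut.apply_inv_self]
    · intro h
      obtain ⟨γ, -, rfl⟩ := Finset.mem_image.mp h
      obtain ⟨n, hn, hn'⟩ := mem_autN_iff.mp (γ⁻¹).2
      refine ⟨n, hn, fun v v' hv => ?_⟩
      rw [show v' = ((γ⁻¹ : autN P) : MulAut (P : Subgroup G)) v from Subtype.ext (hv.trans (hn' v).symm)]
      refine congrArg ψ ?_
      show (γ : MulAut (P : Subgroup G)) (((γ⁻¹ : autN P) : MulAut (P : Subgroup G)) v) = v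
      rw [← MulAut.mul_apply, ← Subgroup.coe_mul, mul_inv_cancel]
      rfl
  have hτreg : ∀ i g, ¬ p ∣ orderOf g → μ i g = μ ⟨i₀, hi₀⟩ g := by
    intro i g hg
    have h := congrFun (hτ i) g
    simp only [Pi.sub_apply, Pi.smul_apply, smul_eq_mul, hwreg _ _ hg, sub_zero] at h
    exact sub_eq_zero.mp ((mul_eq_zero.mp h.symm).resolve_left hεne)
  refine ⟨XF.card, ↑XF, ↑YF, ?_, ?_, ?_, ?_, ?_, ⟨_, Finset.mem_coe.mpr hone, rfl⟩,
    a, dZ, -εZ, ζ, ?_, ?_, ?_, ?_, ?_, ?_, ?_, ?_, ?_⟩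
  · have h1 : (XF.card : ℤ) ≤ ∑ χ ∈ XF, a χ ^ 2 := by
      rw [← mul_one (XF.card : ℤ), ← nsmul_eq_mul, ← Finset.sum_const]
      exact Finset.sum_le_sum fun χ hχ => by
        have := sq_pos_of_ne_zero (ha0 χ hχ)
        omega
    have h2 : 1 ≤ (dZ + εZ) ^ 2 + ((J.card : ℤ) - 1) * dZ ^ 2 := by
      by_cases hd0 : dZ = 0
      · rcases hεZ with rfl | rfl <;> simp [hd0]
      · have h3 := sq_pos_of_ne_zero hd0
        nlinarith [sq_nonneg (dZ + εZ), show (2 : ℤ) ≤ J.card by exact_mod_cast hr2]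
    omega
  · ext χ
    simp only [Set.mem_union, Finset.mem_coe]
    refine ⟨fun h => ?_, ?_⟩
    · by_cases hY : χ ∈ YF
      · exact Or.inr hY
      · exact Or.inl (Finset.mem_filter.mpr ⟨Finset.mem_univ _, h, hY⟩)
    · rintro (h | h)
      · exact (Finset.mem_filter.mp h).2.1
      · obtain ⟨i, -, rfl⟩ := Finset.mem_image.mp h
        exact hμB i
  · exact Finset.disjoint_coe.mpr
      (Finset.disjoint_left.mpr fun χ h1 h2 => (Finset.mem_filter.mp h1).2.2 h2)
  · simp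
  · rw [hrdiv, Nat.card_coe_set_eq, Set.ncard_coe_finset, Finset.card_image_of_injective _ hμ'inj,
      Finset.card_univ, Fintype.card_coe]
  · rcases hεZ with rfl | rfl <;> simp
  · intro χ hχ
    refine ⟨ha0 χ hχ, fun z y hz hy hy1 => ?_⟩
    rw [hsection χ (Finset.mem_filter.mp hχ).2.1 z y hz hy hy1,
      ← hXval χ hχ ⟨y, hy⟩ fun h => hy1 (congrArg Subtype.val h)]
  · intro ψ hψ
    simp only [ζ, dif_pos (horb_mem ψ hψ)]
    exact Finset.mem_coe.mpr (Finset.mem_image_of_mem _ (Finset.mem_univ _))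
  · intro χ hχ
    obtain ⟨i, -, rfl⟩ := Finset.mem_image.mp (Finset.mem_coe.mp hχ)
    obtain ⟨ψ, hψ, hi⟩ := hJmem i.1 i.2
    refine ⟨ψ, hψ, ?_⟩
    simp only [ζ, dif_pos (horb_mem ψ hψ)]
    exact congrArg μ' (Subtype.ext hi)
  · intro ψ ψ' hψ h
    have h1 := orbD_eq_of_mem ((hrel ψ ψ').mp h)
    simp only [ζ, dif_pos (horb_mem ψ hψ), dif_pos (show orbD ψ' ∈ J from h1 ▸ horb_mem ψ hψ)]
    exact congrArg μ' (Subtype.ext h1)
  · intro ψ hψ z y hz hy1
    have hy : y ≠ 1 := fun h => hy1 (congrArg Subtype.val h)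
    simp only [ζ, dif_pos (horb_mem ψ hψ)]
    rw [hsection _ (hμB _) z y hz y.2 hy1, hYval _ y hy]
    congr 2
    rw [show {ψ' : ↥(P : Subgroup G) →* ℂˣ | ∃ n : G, n ∈ Subgroup.normalizer ((P : Subgroup G) : Set G) ∧
        ∀ v v' : ↥(P : Subgroup G), (v' : G) = n * v * n⁻¹ → ψ' v' = ψ v} = ↑(orbD ψ) from
      Set.ext fun ψ' => hrel ψ ψ', finsum_mem_coe_finset]
    rfl
  · rw [finsum_mem_coe_finset, ← hnormZ, hqZ, sub_neg_eq_add]
  · intro χ hχ χ' hχ' g hg
    obtain ⟨i, -, rfl⟩ := Finset.mem_image.mp (Finset.mem_coe.mp hχ)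
    obtain ⟨j, -, rfl⟩ := Finset.mem_image.mp (Finset.mem_coe.mp hχ')
    exact (hτreg i g hg).trans (hτreg j g hg).symm
  · intro χ hχ g hg
    obtain ⟨j, -, rfl⟩ := Finset.mem_image.mp (Finset.mem_coe.mp hχ)
    have h := congrFun (classFun_eq_sum (isClassFunction_of_isGen (hwgen ⟨i₀, hi₀⟩))) g
    rw [Finset.sum_apply, hwreg _ _ hg] at h
    simp only [Pi.smul_apply, smul_eq_mul] at h
    rw [hsplit _ (fun χ hχ => by
      show c χ _ * _ = 0
      rw [hcout χ hχ, zero_mul]), Finset.sum_congr rfl (g := fun χ : IrrCharacter G => (a χ : ℂ) * (χ : G → ℂ) g)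
        fun χ hχ => (by show c χ _ * _ = _; rw [hXc χ hχ]),
      Finset.sum_congr rfl (g := fun i : {i // i ∈ J} => (dZ : ℂ) * μ j g +
        if i = ⟨i₀, hi₀⟩ then ε * μ j g else 0) fun i _ => (by
        show c (μ' i) _ * μ i g = _
        rw [hcμ, hτreg i g hg, ← hτreg j g hg, if_congr eq_comm rfl rfl]
        split_ifs <;> ring),
      Finset.sum_add_distrib, Finset.sum_const, Finset.sum_ite_eq', if_pos (Finset.mem_univ _),
      Finset.card_univ, Fintype.card_coe, nsmul_eq_mul] at h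
    rw [finsum_mem_coe_finset, hrdiv]
    show ((J.card : ℂ) * dZ - ((-εZ : ℤ) : ℂ)) * μ j g + _ = 0
    rw [hεC] at h
    push_cast
    linear_combination -h

end CfsgLib.FreeSylow
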