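import Cfsg.Agent.Lib.Blocks.Orth
import Cfsg.Agent.Lib.CharNormal.CongrP
import Cfsg.Agent.Lib.CharNormal.Basic
import Cfsg.Agent.Lib.CharBlocks.Degree
import Mathlib.GroupTheory.Sylow

/-!
# The coefficient at the identity of a block idempotent of full defect

* `res_blockCoeff_one_ne_zero_of_centralizer`: if the idempotent of `B` is nonzero modulo `M` at an
  element centralised by a Sylow `p`-subgroup, its coefficient at the identity is a unit;
* `res_blockCoeff_one_ne_zero`: this applies when `B` has a character of degree prime to `p`;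
* `res_sum_eq_sum_fixed`: invariant sums modulo `M` reduce to fixed points.
-/

set_option autoImplicit false

noncomputable section

namespace CfsgLib.BlockArith

open Cfsg CfsgLib.Char CfsgLib.Blocks CfsgLib.CharNormal
open scoped ComplexConjugate

variable {M : Ideal AlgInt} [M.IsMaximal] {G : Type*} [Group G] [Fintype G] {p : ℕ}

/-- A coefficient of a block idempotent as a local integer. -/
def coeffL {B : Set (IrrCharacter G)} (hB : IsPBlock M B) (g : G) : locRing M :=
  ⟨blockCoeff B g, blockCoeff_mem_locRing hB g⟩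

omit [Fintype G] in
theorem res_sum_eq_sum_fixed (hM : IsPModular p M) {X : Type*} [Fintype X] {S : Type*} [Group S]
    [MulAction S X] (hS : IsPGroup p S) (f : X → Res M) (hf : ∀ (s : S) (x : X), f (s • x) = f x)
    [DecidablePred (· ∈ MulAction.fixedPoints S X)] :
    ∑ x, f x = ∑ x with x ∈ MulAction.fixedPoints S X, f x := by
  have : Fact p.Prime := ⟨hM.1⟩
  have h := dvd_sum_sub_fixed hS f hf
  have h0 : ((p : ℕ) : Res M) = 0 := by
    rw [← map_natCast (Ideal.Quotient.mk M), Ideal.Quotient.eq_zero_iff_mem]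
    exact hM.2.2
  rw [h0, zero_dvd_iff, sub_eq_zero] at h
  exact h

omit [Fintype G] in
theorem mem_fixedPoints_conj_iff (P : Subgroup G) (x : G) :
    (letI : MulAction P G := MulAction.compHom G (MulAut.conj.comp P.subtype);
      x ∈ MulAction.fixedPoints P G) ↔ ∀ u ∈ P, u * x = x * u := by
  let _ : MulAction P G := MulAction.compHom G (MulAut.conj.comp P.subtype)
  show (∀ u : P, (u : G) * x * (u : G)⁻¹ = x) ↔ _
  exact ⟨fun h u hu => mul_inv_eq_iff_eq_mul.mp (h ⟨u, hu⟩),
    fun h u => mul_inv_eq_iff_eq_mul.mpr (h u u.2)⟩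

theorem res_blockCoeff_one_ne_zero_of_centralizer (hM : IsPModular p M)
    {B : Set (IrrCharacter G)} (hB : IsPBlock M B) (P : Sylow p G) {x₀ : G}
    (hx₀ : ∀ u ∈ (P : Subgroup G), u * x₀ = x₀ * u) (hne : res M (coeffL hB x₀) ≠ 0) :
    res M (coeffL hB 1) ≠ 0 := by
  classical
  have hp := hM.1
  have : Fact p.Prime := ⟨hp⟩
  let S : Subgroup G := P
  let _ : MulAction S G := MulAction.compHom G (MulAut.conj.comp S.subtype)
  have hsmul : ∀ (s : S) (x : G), s • x = (s : G) * x * (s : G)⁻¹ := fun _ _ => rfl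
  have hSp : IsPGroup p S := P.2
  have hreg : ¬ p ∣ orderOf x₀ := fun h => hne (by
    rw [show coeffL hB x₀ = 0 from Subtype.ext (blockCoeff_eq_zero hM hB h), map_zero])
  set g := x₀⁻¹ with hgdef
  have hgreg : ¬ p ∣ orderOf g := by rwa [hgdef, orderOf_inv]
  obtain ⟨k, hk⟩ := IsPGroup.iff_card.mp hSp
  set r : ℕ := S.index with hr
  have hrS : (r : ℂ) * (Nat.card S : ℂ) = (Nat.card G : ℂ) := by
    exact_mod_cast S.index_mul_card
  have hpr : ¬ p ∣ r := P.not_dvd_index
  -- the multiplicity of the trivial character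
  choose m hm using fun ψ : IrrCharacter G => classInner_char_nat
    (isCharacter_res S (isCharacter_of_isIrr ψ.2)) (isCharacter_one (G := S))
  have hm' : ∀ ψ : IrrCharacter G,
      ∑ u : S, (ψ : G → ℂ) u = (Nat.card S : ℂ) * (m ψ : ℂ) := fun ψ => by
    rw [← hm ψ, card_mul_classInner]
    simp
  -- the coefficient function as a sum over the block
  have hFa : ∀ x : G, blockCoeff B x⁻¹ * (Nat.card G : ℂ) =
      ∑ ψ : IrrCharacter G, if ψ ∈ B then (ψ : G → ℂ) 1 * (ψ : G → ℂ) x else 0 := fun x => by
    rw [blockCoeff_eq, mul_comm, mul_inv_cancel_left₀ card_ne_zero']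
    refine Finset.sum_congr rfl fun ψ _ => ?_
    rw [char_inv (isCharacter_of_isIrr ψ.2), Complex.conj_conj]
  let K : Finset G := Finset.univ.filter fun h => IsConj g h
  let f : G → ℂ := fun h => if IsConj g h then 1 else 0
  have hf : IsClassFunction G f := isClassFunction_iff.mpr fun a b hab => by
    exact if_congr ⟨fun e => e.trans hab, fun e => e.trans hab.symm⟩ rfl rfl
  have hSchur : ∀ (ψ : IrrCharacter G) (u : G),
      ∑ h ∈ K, (ψ : G → ℂ) (h * u) = centralChar (ψ : G → ℂ) g * (ψ : G → ℂ) u := by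
    intro ψ u
    have h1 := sum_classFun_mul_apply_mul ψ.2 hf u
    simp only [f, ite_mul, one_mul, zero_mul, ← Finset.sum_filter] at h1
    rw [Finset.sum_congr rfl fun h _ => char_mul_comm' (isCharacter_of_isIrr ψ.2) h u]
    refine h1.trans ?_
    congr 1
    rw [centralChar]
    congr 1
    rw [Finset.sum_congr rfl fun h hh => show (ψ : G → ℂ) h = (ψ : G → ℂ) g from
      (isClassFunction_iff.mp (isClassFunction_of_isIrr ψ.2) g h (Finset.mem_filter.mp hh).2).symm]
    rw [Finset.sum_const, nsmul_eq_mul]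
    congr 2
    rw [← Fintype.card_subtype, ← Nat.card_eq_fintype_card, card_isConj_eq_index]
  -- the two averaged identities
  let Q : locRing M := ∑ ψ : IrrCharacter G, if ψ ∈ B then
    (charDegree (ψ : G → ℂ) : locRing M) * (m ψ : locRing M) else 0
  let R : locRing M := ∑ ψ : IrrCharacter G, if ψ ∈ B then
    (charDegree (ψ : G → ℂ) : locRing M) * (m ψ : locRing M) * zomega ψ (zclass M g) else 0
  have hQ : (r : locRing M) * ∑ u : S, coeffL hB (u : G)⁻¹ = Q := by
    apply Subtype.ext
    simp only [Q]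
    push_cast [coeffL, apply_ite ((↑) : locRing M → ℂ)]
    apply mul_left_cancel₀ (card_ne_zero' (G := S))
    rw [← mul_assoc, mul_comm (Nat.card S : ℂ), hrS, Finset.mul_sum]
    simp only [mul_comm (Nat.card G : ℂ), hFa]
    rw [Finset.sum_comm, Finset.mul_sum]
    refine Finset.sum_congr rfl fun ψ _ => ?_
    split_ifs
    · rw [← Finset.mul_sum, hm', CfsgLib.CharBlocks.coe_charDegree_irr]; ring
    · simp
  have hR : (r : locRing M) * ∑ h ∈ K, ∑ u : S, coeffL hB (h * u)⁻¹ = R := by
    apply Subtype.ext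
    simp only [R]
    push_cast [coeffL, apply_ite ((↑) : locRing M → ℂ)]
    apply mul_left_cancel₀ (card_ne_zero' (G := S))
    rw [← mul_assoc, mul_comm (Nat.card S : ℂ), hrS, Finset.mul_sum]
    simp only [Finset.mul_sum]
    simp only [mul_comm (Nat.card G : ℂ), hFa]
    rw [Finset.sum_comm, Finset.sum_congr rfl fun (u : S) _ => Finset.sum_comm, Finset.sum_comm]
    refine Finset.sum_congr rfl fun ψ _ => ?_
    split_ifs
    · simp only [← Finset.mul_sum, hSchur, hm', coe_zomega_zclass,
        CfsgLib.CharBlocks.coe_charDegree_irr]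
      ring
    · simp
  obtain ⟨χ, hχ⟩ := IsPBlock.nonempty hB
  have hRQ : res M R = bomega χ (zclass M g) * res M Q := by
    simp only [R, Q, map_sum, Finset.mul_sum]
    refine Finset.sum_congr rfl fun ψ _ => ?_
    split_ifs with h
    · rw [map_mul, ← bomega_apply, bomega_eq_of_mem hB h hχ, mul_comm]
    · simp
  -- reduce the sums
  have hQ1 : ∑ u : S, coeffL hB (u : G)⁻¹ = coeffL hB 1 := by
    rw [Finset.sum_eq_single (1 : S) (fun u _ hu => ?_) (by simp)]
    · simp
    · refine Subtype.ext (blockCoeff_eq_zero hM hB ?_)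
      obtain ⟨j, hj⟩ := hSp u
      obtain ⟨i, -, hi⟩ := (Nat.dvd_prime_pow hp).mp (orderOf_dvd_of_pow_eq_one hj)
      rw [orderOf_inv, Subgroup.orderOf_coe, hi]
      refine dvd_pow_self p ?_
      rintro rfl
      rw [pow_zero] at hi
      exact hu (orderOf_eq_one_iff.mp hi)
  let F : G → Res M := fun h => if h ∈ K then res M (∑ u : S, coeffL hB (h * u)⁻¹) else 0
  have hconjK : ∀ (s : S) (h : G), (s : G) * h * (s : G)⁻¹ ∈ K ↔ h ∈ K := fun s h => by
    simp only [K, Finset.mem_filter, Finset.mem_univ, true_and]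
    have : IsConj h ((s : G) * h * (s : G)⁻¹) := isConj_iff.mpr ⟨s, rfl⟩
    exact ⟨fun e => e.trans this.symm, fun e => e.trans this⟩
  have hFinv : ∀ (s : S) (h : G), F (s • h) = F h := fun s h => by
    simp only [F, hsmul]
    refine if_congr (hconjK s h) (congrArg (res M) ?_) rfl
    refine Fintype.sum_equiv (MulAut.conj s⁻¹).toEquiv _ _ fun u => ?_
    apply Subtype.ext
    show blockCoeff B _ = blockCoeff B _
    conv_rhs => rw [← blockCoeff_conj B _ (s : G)]
    congr 1
    simp [mul_assoc]
  have hsumF : res M (∑ h ∈ K, ∑ u : S, coeffL hB (h * u)⁻¹) = ∑ h, F h := by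
    simp only [F]
    rw [Finset.sum_ite_mem, Finset.univ_inter, map_sum]
  have hfix : ∀ h ∈ K, h ∈ MulAction.fixedPoints S G →
      res M (∑ u : S, coeffL hB (h * u)⁻¹) = res M (coeffL hB x₀) := by
    intro h hh hfh
    have hc := (mem_fixedPoints_conj_iff S h).mp hfh
    obtain ⟨c, rfl⟩ := isConj_iff.mp (Finset.mem_filter.mp hh).2
    rw [Finset.sum_eq_single (1 : S) (fun u _ hu => ?_) (by simp)]
    · refine congrArg (res M) (Subtype.ext ?_)
      show blockCoeff B _ = blockCoeff B x₀
      rw [hgdef, ← blockCoeff_conj B x₀ c]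
      simp [mul_assoc]
    · refine Subtype.ext (blockCoeff_eq_zero hM hB ?_)
      obtain ⟨j, hj⟩ := hSp u
      obtain ⟨i, -, hi⟩ := (Nat.dvd_prime_pow hp).mp (orderOf_dvd_of_pow_eq_one hj)
      have hi0 : i ≠ 0 := by
        rintro rfl
        rw [pow_zero] at hi
        exact hu (orderOf_eq_one_iff.mp hi)
      have horder : orderOf (c * g * c⁻¹) = orderOf g :=
        orderOf_injective (MulAut.conj c).toMonoidHom (MulAut.conj c).injective g
      have hcomm : Commute (c * g * c⁻¹) (u : G) := (hc u u.2).symm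
      rw [orderOf_inv, hcomm.orderOf_mul_eq_mul_orderOf_of_coprime (by
        rw [horder, Subgroup.orderOf_coe, hi]
        exact Nat.Coprime.pow_right i ((hp.coprime_iff_not_dvd.mpr hgreg).symm)),
        Subgroup.orderOf_coe, hi]
      exact (dvd_pow_self p hi0).mul_left _
  have hcardK : ((K.filter fun h => h ∈ MulAction.fixedPoints S G).card : Res M) ≠ 0 := by
    have h1 := res_sum_eq_sum_fixed hM hSp (fun h : G => if h ∈ K then (1 : Res M) else 0)
      (fun s h => if_congr (hconjK s h) rfl rfl)
    rw [Finset.sum_ite_mem, Finset.univ_inter, Finset.sum_ite_mem, Finset.sum_const,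
      Finset.sum_const, nsmul_one, nsmul_one] at h1
    rw [show K.filter (fun h => h ∈ MulAction.fixedPoints S G) =
      (Finset.univ.filter fun h => h ∈ MulAction.fixedPoints S G) ∩ K by ext; simp [and_comm],
      ← h1, ← map_natCast (Ideal.Quotient.mk M), Ne, Ideal.Quotient.eq_zero_iff_mem,
      natCast_mem_iff hM]
    intro hdvd
    apply hpr
    rw [← Fintype.card_subtype, ← Nat.card_eq_fintype_card, card_isConj_eq_index] at hdvd
    refine hdvd.trans (Subgroup.index_dvd_of_le fun u hu => ?_)
    rw [Subgroup.mem_centralizer_singleton_iff, hgdef]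
    exact ((show Commute u x₀ from hx₀ u hu).inv_right).eq
  intro h0
  have hQ0 : res M Q = 0 := by rw [← hQ, hQ1, map_mul, h0, mul_zero]
  rw [hQ0, mul_zero, ← hR, map_mul, hsumF, res_sum_eq_sum_fixed hM hSp F hFinv] at hRQ
  have h2 : (∑ h with h ∈ MulAction.fixedPoints S G, F h) =
      ((K.filter fun h => h ∈ MulAction.fixedPoints S G).card : Res M) * res M (coeffL hB x₀) := by
    simp only [F]
    rw [Finset.sum_ite_mem, ← nsmul_eq_mul]
    have : (Finset.univ.filter fun h => h ∈ MulAction.fixedPoints S G) ∩ K =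
        K.filter (fun h => h ∈ MulAction.fixedPoints S G) := by ext; simp [and_comm]
    rw [this, ← Finset.sum_const]
    exact Finset.sum_congr rfl fun h hh =>
      hfix h (Finset.mem_filter.mp hh).1 (Finset.mem_filter.mp hh).2
  rw [h2] at hRQ
  rcases mul_eq_zero.mp hRQ with h | h
  · exact hpr ((res_natCast_eq_zero_iff M hM r).mp h)
  · rcases mul_eq_zero.mp h with h | h
    · exact hcardK h
    · exact hne h

/-- A block with a character of degree prime to `p` has unit coefficient at the identity. -/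
theorem res_blockCoeff_one_ne_zero (hM : IsPModular p M) {B : Set (IrrCharacter G)}
    (hB : IsPBlock M B) {χ : IrrCharacter G} (hχ : χ ∈ B)
    (hdeg : ¬ p ∣ charDegree (χ : G → ℂ)) : res M (coeffL hB 1) ≠ 0 := by
  classical
  have : Fact p.Prime := ⟨hM.1⟩
  let P : Sylow p G := default
  let S : Subgroup G := P
  let _ : MulAction S G := MulAction.compHom G (MulAut.conj.comp S.subtype)
  let c : G → locRing M := fun x =>
    coeffL hB x * ofInt M ⟨(χ : G → ℂ) x, char_isIntegral (isCharacter_of_isIrr χ.2) x⟩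
  have hsum : ∑ x, c x = (charDegree (χ : G → ℂ) : locRing M) := by
    apply Subtype.ext
    simp only [c]
    push_cast [coeffL, coe_ofInt]
    have h := omega_blockElt B χ
    rw [if_pos hχ, omega, div_eq_one_iff_eq (irr_one_ne_zero χ.2), charLin_apply] at h
    rw [CfsgLib.CharBlocks.coe_charDegree_irr, ← h]
    simp [blockElt, coeff_ofFun]
  have hres := congrArg (res M) hsum
  rw [map_sum, res_sum_eq_sum_fixed hM (S := S) P.2 (fun x => res M (c x)) (fun s x => by
    refine congrArg (res M) (Subtype.ext ?_)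
    show blockCoeff B ((s : G) * x * (s : G)⁻¹) * (χ : G → ℂ) ((s : G) * x * (s : G)⁻¹) =
      blockCoeff B x * (χ : G → ℂ) x
    rw [blockCoeff_conj, isClassFunction_of_isIrr χ.2 x (s : G)])] at hres
  obtain ⟨x₀, hx₀, hne⟩ : ∃ x ∈ Finset.univ.filter (fun x => x ∈ MulAction.fixedPoints S G),
      res M (c x) ≠ 0 := by
    by_contra h
    push Not at h
    rw [Finset.sum_eq_zero h] at hres
    exact hdeg ((res_natCast_eq_zero_iff M hM _).mp hres.symm)
  refine res_blockCoeff_one_ne_zero_of_centralizer hM hB P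
    ((mem_fixedPoints_conj_iff S x₀).mp (Finset.mem_filter.mp hx₀).2) fun h => hne ?_
  simp only [c, map_mul, h, zero_mul]

end CfsgLib.BlockArith
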