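import Cfsg.Agent.Lib.BlockArith.WreathSquares
import Cfsg.Agent.Lib.SymSylow.SpTwo

/-!
# Sylow 2-subgroups of general and special linear groups in odd characteristic

* `sq_GL_even`: `q ≡ 3 mod 4`: Sylow 2-subgroups of `GL_{2m}(q)`.
* `sq_SL_even`, `sq_SL_odd`: squares lie in the derived subgroup for `SL_{2m}(q)`, `SL_{2m+1}(q)`.
* `sq_SL_twoPow`: the same for `SL_{2^k}(q)`, `q ≡ 1 mod 4`.
-/

set_option autoImplicit false

namespace CfsgLib.GLWreathSylow

open Matrix CfsgLib.WreathSquares

variable {F : Type*} [Field F]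

/-- Change of coordinates in `GL`. -/
def glReindex {m n : Type*} [Fintype m] [DecidableEq m] [Fintype n] [DecidableEq n] (e : m ≃ n) :
    GL m F ≃* GL n F :=
  Units.mapEquiv (Matrix.reindexAlgEquiv F F e).toMulEquiv

theorem det_glReindex {m n : Type*} [Fintype m] [DecidableEq m] [Fintype n] [DecidableEq n]
    (e : m ≃ n) (g : GL m F) :
    GeneralLinearGroup.det (glReindex e g) = GeneralLinearGroup.det g :=
  Units.ext (Matrix.det_reindexAlgEquiv F F e g.1)

section Model

variable {d ι : Type*} [Fintype d] [DecidableEq d] [Fintype ι] [DecidableEq ι]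

/-- Block diagonal matrices. -/
def blk : (ι → GL d F) →* GL (d × ι) F :=
  (Units.map (Matrix.blockDiagonalRingHom d ι F).toMonoidHom).comp
    MulEquiv.piUnits.symm.toMonoidHom

theorem blk_val (a : ι → GL d F) :
    (blk a : GL (d × ι) F).1 = blockDiagonal fun i => (a i).1 := rfl

/-- Permutations of the blocks. -/
def blkPermMat : Equiv.Perm ι →* Matrix (d × ι) (d × ι) F where
  toFun w := Equiv.Perm.permMatrix F (Equiv.prodCongrRight (fun _ : d => w⁻¹))
  map_one' := by
    rw [show (Equiv.prodCongrRight (fun _ : d => (1 : Equiv.Perm ι)⁻¹)) = 1 from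
      Equiv.ext fun x => rfl, Matrix.permMatrix_one]
  map_mul' v w := by
    rw [← Matrix.permMatrix_mul]
    congr 1

/-- Permutations of the blocks, as units. -/
def blkPerm : Equiv.Perm ι →* GL (d × ι) F := (blkPermMat (F := F) (d := d)).toHomUnits

theorem blkPerm_val (w : Equiv.Perm ι) :
    (blkPerm w : GL (d × ι) F).1 =
      Equiv.Perm.permMatrix F (Equiv.prodCongrRight (fun _ : d => w⁻¹)) := rfl

theorem det_blkPerm (w : Equiv.Perm ι) :
    (GeneralLinearGroup.det (blkPerm w : GL (d × ι) F) : F) =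
      (((Equiv.Perm.sign w) ^ Fintype.card d : ℤˣ) : ℤ) := by
  show (blkPerm w : GL (d × ι) F).1.det = _
  rw [blkPerm_val, Matrix.det_permutation, Equiv.Perm.sign_prodCongrRight]
  simp

theorem det_blk (a : ι → GL d F) :
    GeneralLinearGroup.det (blk a : GL (d × ι) F) = ∏ i, GeneralLinearGroup.det (a i) := by
  refine Units.ext ?_
  rw [Units.coe_prod]
  show (blk a : GL (d × ι) F).1.det = _
  rw [blk_val, Matrix.det_blockDiagonal]
  rfl

theorem blkPerm_mul_blk (w : Equiv.Perm ι) (a : ι → GL d F) :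
    (blkPerm w * blk a : GL (d × ι) F) = blk (fun i => a (w.symm i)) * blkPerm w := by
  refine Units.ext ?_
  rw [Units.val_mul, Units.val_mul, blkPerm_val, blk_val, blk_val]
  ext ⟨r, i⟩ ⟨s, j⟩
  rw [PEquiv.toMatrix_toPEquiv_mul, PEquiv.mul_toMatrix_toPEquiv]
  simp only [Matrix.submatrix_apply, id_eq, blockDiagonal_apply]
  by_cases h : w.symm i = j
  · subst h; simp [Equiv.Perm.inv_def]
  · have h' : i ≠ w j := fun e => h (by simp [e])
    simp [Equiv.Perm.inv_def, h, h']

theorem blk_eq_blkPerm [Nonempty d] {z : ι → GL d F} {w : Equiv.Perm ι}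
    (h : (blk z : GL (d × ι) F) = blkPerm w) : z = 1 ∧ w = 1 := by
  have hw : w = 1 := by
    refine Equiv.ext fun i => ?_
    by_contra hne
    change ¬ w i = i at hne
    obtain ⟨r⟩ := ‹Nonempty d›
    have := congrArg (fun M : GL (d × ι) F => M.1 (r, w i) (r, i)) h
    simp [blk_val, blkPerm_val, blockDiagonal_apply, hne, PEquiv.toMatrix_apply,
      Equiv.Perm.inv_def] at this
  subst hw
  rw [map_one] at h
  refine ⟨funext fun i => Units.ext (Matrix.ext fun r s => ?_), rfl⟩
  have := congrArg (fun M : GL (d × ι) F => M.1 (r, i) (s, i)) h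
  simpa [blk_val, blockDiagonal_apply, Matrix.one_apply] using this

end Model

section Counting

variable [Fintype F]

theorem card_GL_succ (n : ℕ) :
    Nat.card (GL (Fin (n + 1)) F) =
      (Fintype.card F ^ (n + 1) - 1) * Fintype.card F ^ n * Nat.card (GL (Fin n) F) := by
  rw [Matrix.card_GL_field, Matrix.card_GL_field, Fin.prod_univ_succ]
  simp only [Fin.val_zero, pow_zero, Fin.val_succ, pow_succ', ← Nat.mul_sub,
    Finset.prod_mul_distrib, Finset.prod_const, Finset.card_univ, Fintype.card_fin]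
  ring

theorem odd_q (hF : Odd (Fintype.card F)) : ¬ 2 ∣ Fintype.card F := by
  rw [← even_iff_two_dvd]; exact Nat.not_even_iff_odd.mpr hF

theorem v_GL_succ (hF : Odd (Fintype.card F)) (n : ℕ) :
    (Nat.card (GL (Fin (n + 1)) F)).factorization 2 =
      padicValNat 2 (Fintype.card F ^ (n + 1) - 1) +
        (Nat.card (GL (Fin n) F)).factorization 2 := by
  haveI : Fact (Nat.Prime 2) := ⟨Nat.prime_two⟩
  have hq1 : 1 < Fintype.card F := Fintype.one_lt_card
  have hne : Fintype.card F ^ (n + 1) - 1 ≠ 0 :=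
    (Nat.sub_pos_of_lt (Nat.one_lt_pow (by omega) hq1)).ne'
  rw [card_GL_succ, Nat.factorization_def _ Nat.prime_two, Nat.factorization_def _ Nat.prime_two,
    padicValNat.mul (Nat.mul_ne_zero hne (pow_ne_zero _ (by omega))) Nat.card_pos.ne',
    padicValNat.mul hne (pow_ne_zero _ (by omega)), padicValNat.pow,
    padicValNat.eq_zero_of_not_dvd (odd_q hF), mul_zero, add_zero]

theorem v_GL_zero : (Nat.card (GL (Fin 0) F)).factorization 2 = 0 := by
  rw [Matrix.card_GL_field]; simp

theorem v_pow_sub (hF : Odd (Fintype.card F)) (k : ℕ) (hk : 1 ≤ k) :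
    padicValNat 2 (Fintype.card F ^ (2 * k) - 1) + 1 =
      padicValNat 2 (Fintype.card F + 1) + padicValNat 2 (Fintype.card F - 1) +
        (1 + padicValNat 2 k) := by
  haveI : Fact (Nat.Prime 2) := ⟨Nat.prime_two⟩
  have hq1 : 1 < Fintype.card F := Fintype.one_lt_card
  have h2 := odd_q hF
  have h := padicValNat.pow_two_sub_pow (x := Fintype.card F) (y := 1) hq1 (by omega) h2
    (n := 2 * k) (by omega) (even_two_mul _)
  rwa [one_pow, padicValNat.mul (by norm_num) (by omega), padicValNat.self (by norm_num)] at h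

theorem v_two_of_mod {a : ℕ} (ha : a % 4 = 2) : padicValNat 2 a = 1 := by
  haveI : Fact (Nat.Prime 2) := ⟨Nat.prime_two⟩
  obtain ⟨c, rfl⟩ : ∃ c, a = 2 * (2 * c + 1) := ⟨a / 4, by omega⟩
  rw [padicValNat.mul (by norm_num) (by omega), padicValNat.self (by norm_num),
    padicValNat.eq_zero_of_not_dvd (by omega)]

theorem pow_mod_four {q : ℕ} (hq : q % 4 = 1) (n : ℕ) : q ^ n % 4 = 1 := by
  simp [Nat.pow_mod, hq]

theorem v_one_mod_four (hq : Fintype.card F % 4 = 1) (n : ℕ) :
    padicValNat 2 (Fintype.card F ^ (n + 1) - 1) =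
      padicValNat 2 (Fintype.card F - 1) + padicValNat 2 (n + 1) := by
  haveI : Fact (Nat.Prime 2) := ⟨Nat.prime_two⟩
  set q := Fintype.card F
  have hq1 : 1 < q := Fintype.one_lt_card
  have hqn : 1 < q ^ (n + 1) := Nat.one_lt_pow (by omega) hq1
  have h4 := pow_mod_four hq (n + 1)
  have h := v_pow_sub (F := F) (Nat.odd_iff.2 (by omega)) (n + 1) (by omega)
  have e : q ^ (2 * (n + 1)) - 1 = (q ^ (n + 1) + 1) * (q ^ (n + 1) - 1) := by
    rw [← Nat.sq_sub_sq, one_pow, ← pow_mul, mul_comm 2]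
  rw [show Fintype.card F = q from rfl, e, padicValNat.mul (by omega) (by omega),
    v_two_of_mod (a := q ^ (n + 1) + 1) (by omega), v_two_of_mod (a := q + 1) (by omega)] at h
  omega

theorem v_GL_one_mod_four (hq : Fintype.card F % 4 = 1) (n : ℕ) :
    (Nat.card (GL (Fin n) F)).factorization 2 =
      n * padicValNat 2 (Fintype.card F - 1) + n.factorial.factorization 2 := by
  haveI : Fact (Nat.Prime 2) := ⟨Nat.prime_two⟩
  induction n with
  | zero => rw [v_GL_zero]; simp
  | succ n ih =>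
    rw [v_GL_succ (Nat.odd_iff.2 (by omega)), v_one_mod_four hq, ih, Nat.factorial_succ,
      Nat.factorization_mul (by omega) n.factorial_ne_zero, Finsupp.add_apply,
      Nat.factorization_def (n + 1) Nat.prime_two]
    ring

theorem v_GL_three_mod_four (hq : Fintype.card F % 4 = 3) (m : ℕ) :
    (Nat.card (GL (Fin (2 * m)) F)).factorization 2 =
      m * (Nat.card (GL (Fin 2) F)).factorization 2 + m.factorial.factorization 2 := by
  haveI : Fact (Nat.Prime 2) := ⟨Nat.prime_two⟩
  have hF : Odd (Fintype.card F) := Nat.odd_iff.2 (by omega)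
  have hodd : ∀ k, padicValNat 2 (Fintype.card F ^ (2 * k + 1) - 1) = 1 := fun k => by
    refine v_two_of_mod ?_
    have : Fintype.card F ^ (2 * k + 1) % 4 = 3 := by
      rw [Nat.pow_mod, hq, pow_succ, pow_mul, Nat.mul_mod, Nat.pow_mod]
      norm_num
    omega
  have hstep : ∀ k, (Nat.card (GL (Fin (2 * k + 2)) F)).factorization 2 =
      padicValNat 2 (Fintype.card F + 1) + padicValNat 2 (Fintype.card F - 1) +
        padicValNat 2 (k + 1) + 1 + (Nat.card (GL (Fin (2 * k)) F)).factorization 2 := fun k => by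
    rw [v_GL_succ hF, v_GL_succ hF, hodd, show 2 * k + 1 + 1 = 2 * (k + 1) by ring]
    have := v_pow_sub hF (k + 1) (by omega)
    omega
  have h2 : (Nat.card (GL (Fin 2) F)).factorization 2 =
      padicValNat 2 (Fintype.card F + 1) + padicValNat 2 (Fintype.card F - 1) + 1 := by
    have := hstep 0
    rwa [v_GL_zero, padicValNat.one, add_zero, add_zero] at this
  induction m with
  | zero => rw [v_GL_zero]; simp
  | succ m ih =>
    rw [show 2 * (m + 1) = 2 * m + 2 by ring, hstep, ih, h2, Nat.factorial_succ,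
      Nat.factorization_mul (by omega) m.factorial_ne_zero, Finsupp.add_apply,
      Nat.factorization_def (m + 1) Nat.prime_two]
    ring

theorem ne_neg_one (hF : Odd (Fintype.card F)) : (-1 : F) ≠ 1 := by
  intro h
  have h2 : (2 : F) = 0 := by linear_combination -h
  haveI := CharTwo.of_one_ne_zero_of_two_eq_zero (R := F) one_ne_zero h2
  have h1 : Fintype.card F % 2 = 0 := FiniteField.even_card_iff_char_two.mp (ringChar.eq F 2)
  rw [Nat.odd_iff] at hF
  omega

theorem two_ne (hF : Odd (Fintype.card F)) : (2 : F) ≠ 0 := fun h =>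
  ne_neg_one hF (by linear_combination -h)

/-- The 2-part of the units is `±1` when `q ≡ 3 mod 4`. -/
theorem units_pm (hq : Fintype.card F % 4 = 3) {x : Fˣ} {k : ℕ} (h : x ^ 2 ^ k = 1) :
    x = 1 ∨ x = -1 := by
  have hd : orderOf x ∣ 2 := by
    obtain ⟨j, -, hj⟩ := (Nat.dvd_prime_pow Nat.prime_two).1 (orderOf_dvd_of_pow_eq_one h)
    have h1 : orderOf x ∣ Fintype.card F - 1 := by
      classical
      rw [← Fintype.card_units]; exact orderOf_dvd_card
    rw [hj] at h1 ⊢
    rcases le_or_gt j 1 with h2 | h2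
    · exact dvd_trans (pow_dvd_pow 2 h2) (by norm_num)
    · have : 2 ^ 2 ∣ Fintype.card F - 1 := (pow_dvd_pow 2 h2).trans h1
      omega
  have h2 : (x : F) * (x : F) = 1 := by
    rw [← Units.val_mul, ← pow_two, orderOf_dvd_iff_pow_eq_one.1 hd, Units.val_one]
  rcases mul_self_eq_one_iff.1 h2 with h3 | h3
  · exact Or.inl (Units.ext h3)
  · exact Or.inr (Units.ext h3)

end Counting

section ThreeModFour

variable [Fintype F]

theorem normal_range_toGL (n : Type*) [Fintype n] [DecidableEq n] :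
    (SpecialLinearGroup.toGL : SpecialLinearGroup n F →* GL n F).range.Normal := by
  have : (SpecialLinearGroup.toGL : SpecialLinearGroup n F →* GL n F).range =
      (GeneralLinearGroup.det : GL n F →* Fˣ).ker := by
    ext g
    constructor
    · rintro ⟨s, rfl⟩; exact Units.ext s.2
    · intro h
      exact ⟨⟨g.1, congrArg Units.val h⟩, Units.ext rfl⟩
  rw [this]
  exact MonoidHom.normal_ker _

/-- A Sylow subgroup of `GL_2(q)` in split form. -/
theorem exists_gl_two_data (hq : Fintype.card F % 4 = 3) :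
    ∃ (W W₁ : Subgroup (GL (Fin 2) F)) (s : GL (Fin 2) F),
      Nat.card W = 2 ^ (Nat.card (GL (Fin 2) F)).factorization 2 ∧ W₁ ≤ W ∧ W₁ ≤ sqPart W₁ ∧
      s ^ 2 = 1 ∧ s ∈ W ∧ (∀ x ∈ W, x ∈ W₁ ∨ x * s ∈ W₁) ∧
      ∀ x ∈ W₁, GeneralLinearGroup.det x = 1 := by
  haveI : Fact (Nat.Prime 2) := ⟨Nat.prime_two⟩
  have hF : Odd (Fintype.card F) := Nat.odd_iff.2 (by omega)
  let sm : Matrix (Fin 2) (Fin 2) F := diagonal ![1, -1]
  have hsm : sm * sm = 1 := by
    rw [diagonal_mul_diagonal, ← diagonal_one]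
    congr 1
    funext i; fin_cases i <;> simp
  let s : GL (Fin 2) F := ⟨sm, sm, hsm, hsm⟩
  have hs2 : s ^ 2 = 1 := by rw [pow_two]; exact Units.ext hsm
  have hsdet : GeneralLinearGroup.det s = -1 := by
    refine Units.ext ?_
    show sm.det = -1
    simp [sm, Fin.prod_univ_two]
  have hsp : IsPGroup 2 (Subgroup.zpowers s) := by
    rintro ⟨y, i, rfl⟩
    refine ⟨1, Subtype.ext ?_⟩
    show (s ^ i) ^ (2 ^ 1) = 1
    rw [pow_one, ← zpow_natCast, ← _root_.zpow_mul, mul_comm, _root_.zpow_mul, zpow_natCast, hs2, _root_.one_zpow]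
  obtain ⟨W, hW⟩ := hsp.exists_le_sylow
  set W₁ : Subgroup (GL (Fin 2) F) :=
    ((W : Subgroup _).comap SpecialLinearGroup.toGL).map SpecialLinearGroup.toGL with hW₁
  refine ⟨W, W₁, s, W.card_eq_multiplicity, ?_, ?_, hs2, hW (Subgroup.mem_zpowers s), ?_, ?_⟩
  · rw [hW₁]; exact Subgroup.map_comap_le _ _
  · rw [hW₁]
    refine le_sqPart_map _ (le_sqPart_iff.2 ?_)
    have hc : Nat.card ((W : Subgroup _).comap
        (SpecialLinearGroup.toGL : SpecialLinearGroup (Fin 2) F →* GL (Fin 2) F)) =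
        2 ^ (Nat.card (SpecialLinearGroup (Fin 2) F)).factorization 2 :=
      haveI := normal_range_toGL (F := F) (Fin 2)
      card_comap_eq _ SpecialLinearGroup.toGL_injective _ W.card_eq_multiplicity
    obtain ⟨k, hk, ⟨e⟩⟩ := Classical.SL2Q.sylow_two_quaternion (two_ne hF) (Sylow.ofCard _ hc)
    intro y
    have h := Subgroup.mem_map_of_mem e.symm.toMonoidHom
      (CfsgLib.SymSylow.sq_mem_commutator_quaternion hk (e y))
    rw [commutator_def, Subgroup.map_commutator,
      Subgroup.map_top_of_surjective _ e.symm.surjective, map_pow,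
      show e.symm.toMonoidHom (e y) = y from e.symm_apply_apply y] at h
    rw [commutator_def]
    exact h
  · intro x hx
    obtain ⟨k, hk⟩ := W.2 ⟨x, hx⟩
    have hk' : x ^ 2 ^ k = 1 := congrArg Subtype.val hk
    have hmem : ∀ y : GL (Fin 2) F, y ∈ W → GeneralLinearGroup.det y = 1 → y ∈ W₁ := fun y hy h =>
      ⟨⟨y.1, congrArg Units.val h⟩, by
        show SpecialLinearGroup.toGL (⟨y.1, congrArg Units.val h⟩ : SpecialLinearGroup (Fin 2) F) ∈
          (W : Subgroup (GL (Fin 2) F))
        rw [show SpecialLinearGroup.toGL (⟨y.1, congrArg Units.val h⟩ : SpecialLinearGroup (Fin 2) F)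
          = y from Units.ext rfl]
        exact hy, Units.ext rfl⟩
    rcases units_pm hq (x := GeneralLinearGroup.det x) (k := k)
        (by rw [← map_pow, hk', map_one]) with h | h
    · exact Or.inl (hmem x hx h)
    · exact Or.inr (hmem _ (mul_mem hx (hW (Subgroup.mem_zpowers s)))
        (by rw [map_mul, h, hsdet, neg_mul_neg, one_mul]))
  · rintro x ⟨y, -, rfl⟩
    exact Units.ext y.2

/-- A Sylow subgroup of `GL_{2m}(q)` and its determinant-one part. -/
theorem exists_gl_even (hq : Fintype.card F % 4 = 3) (m : ℕ) :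
    ∃ K : Subgroup (GL (Fin (2 * m)) F),
      Nat.card K = 2 ^ (Nat.card (GL (Fin (2 * m)) F)).factorization 2 ∧ K ≤ sqPart K ∧
      (K ⊓ GeneralLinearGroup.det.ker) ≤ sqPart (K ⊓ GeneralLinearGroup.det.ker) := by
  classical
  haveI : Fact (Nat.Prime 2) := ⟨Nat.prime_two⟩
  obtain ⟨W, W₁, s, hWc, hW₁W, hW₁, hs2, hs, hcase, hdet⟩ := exists_gl_two_data (F := F) hq
  obtain ⟨S, T, hT, hgood, hSc⟩ := CfsgLib.SymSylow.exists_sylow_gen 2 m
  let e : GL (Fin 2 × Fin m) F ≃* GL (Fin (2 * m)) F := glReindex finProdFinEquiv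
  set K := wreathSub (blk (F := F) (d := Fin 2) (ι := Fin m)) blkPerm blkPerm_mul_blk W S with hK
  have hKc : Nat.card K = 2 ^ (Nat.card (GL (Fin (2 * m)) F)).factorization 2 := by
    rw [hK, card_wreathSub _ _ _ W S (fun z w h => blk_eq_blkPerm h), hWc, hSc, Fintype.card_fin,
      ← pow_mul, ← pow_add, v_GL_three_mod_four hq, mul_comm m]
  have hPK : ∀ w ∈ S, blkPerm w ∈ K := fun w hw => perm_mem_wreathSub _ _ _ W S hw
  have hBK : ∀ i : Fin m, ∀ x ∈ W₁, blk (Pi.mulSingle i x) ∈ K := fun i x hx =>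
    base_mem_wreathSub _ _ _ W S (single_mem W (hW₁W hx))
  have key : ∀ L : Subgroup (GL (Fin 2 × Fin m) F), L ≤ K → (∀ w ∈ S, blkPerm w ∈ L) →
      (∀ i, ∀ x ∈ W₁, blk (Pi.mulSingle i x) ∈ L) → L ≤ sqPart L := fun L h1 h2 h3 =>
    le_sqPart_of_split _ _ _ W S hT (fun t ht => (hgood t ht).1) hW₁W hW₁ hs2 hs hcase h1 h2 h3
  refine ⟨K.map e.toMonoidHom, ?_, le_sqPart_map _ (key K le_rfl hPK hBK), ?_⟩
  · rw [Subgroup.card_map_of_injective (f := e.toMonoidHom) e.injective, hKc]
  · have : K.map e.toMonoidHom ⊓ GeneralLinearGroup.det.ker =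
        (K ⊓ GeneralLinearGroup.det.ker).map e.toMonoidHom := by
      ext y
      constructor
      · rintro ⟨⟨x, hx, rfl⟩, hy⟩
        exact ⟨x, ⟨hx, (det_glReindex finProdFinEquiv x).symm.trans hy⟩, rfl⟩
      · rintro ⟨x, ⟨hx, hx'⟩, rfl⟩
        exact ⟨⟨x, hx, rfl⟩, (det_glReindex finProdFinEquiv x).trans hx'⟩
    rw [this]
    refine le_sqPart_map _ (key _ inf_le_left (fun w hw => ⟨hPK w hw, ?_⟩)
      fun i x hx => ⟨hBK i x hx, ?_⟩)
    · refine Units.ext ?_
      rw [det_blkPerm, Fintype.card_fin, Int.units_sq]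
      simp
    · show GeneralLinearGroup.det (blk (Pi.mulSingle i x)) = 1
      rw [det_blk, Finset.prod_eq_single i (fun j _ hj => by simp [hj])
        (fun h => absurd (Finset.mem_univ i) h), Pi.mulSingle_eq_same, hdet x hx]

end ThreeModFour

section OneModFour

variable [Fintype F]

/-- Diagonal matrices. -/
def diagHom {n : Type*} [Fintype n] [DecidableEq n] : (n → Fˣ) →* GL n F :=
  (Units.map (Matrix.diagonalRingHom n F).toMonoidHom).comp MulEquiv.piUnits.symm.toMonoidHom

/-- Permutation matrices. -/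
def permHom {n : Type*} [Fintype n] [DecidableEq n] : Equiv.Perm n →* GL n F :=
  MonoidHom.toHomUnits
    ({ toFun := fun (w : Equiv.Perm n) => Equiv.Perm.permMatrix F w⁻¹
       map_one' := by simp
       map_mul' := fun v w => by rw [_root_.mul_inv_rev, Matrix.permMatrix_mul] } :
      Equiv.Perm n →* Matrix n n F)

theorem exists_gl_twoPow (hq : Fintype.card F % 4 = 1) {n k : ℕ} (hn : n = 2 ^ k) :
    ∃ K : Subgroup (GL (Fin n) F),
      Nat.card K = 2 ^ (Nat.card (GL (Fin n) F)).factorization 2 ∧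
      (K ⊓ GeneralLinearGroup.det.ker) ≤ sqPart (K ⊓ GeneralLinearGroup.det.ker) := by
  classical
  haveI : Fact (Nat.Prime 2) := ⟨Nat.prime_two⟩
  have hF : Odd (Fintype.card F) := Nat.odd_iff.2 (by omega)
  let W : Sylow 2 Fˣ := default
  have hWc : Nat.card (W : Subgroup Fˣ) = 2 ^ padicValNat 2 (Fintype.card F - 1) := by
    rw [W.card_eq_multiplicity, Nat.factorization_def _ Nat.prime_two, Nat.card_units,
      Nat.card_eq_fintype_card]
  -- translations
  let c : Fin n ≃ (Fin k → ZMod 2) := Fintype.equivOfCardEq (by simp [hn])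
  let tr : Multiplicative (Fin k → ZMod 2) →* Equiv.Perm (Fin n) :=
    MonoidHom.mk' (fun v => c.trans ((Equiv.addRight v.toAdd).trans c.symm)) fun u v => by
      ext i; simp [add_assoc, add_comm, add_left_comm]
  have htr : IsPGroup 2 tr.range := by
    rintro ⟨y, u, rfl⟩
    refine ⟨1, Subtype.ext ?_⟩
    show tr u ^ (2 ^ 1) = 1
    rw [← map_pow, pow_one, show u ^ 2 = 1 from Multiplicative.toAdd.injective (by
      funext i; simp [two_smul, CharTwo.add_self_eq_zero]), map_one]
  obtain ⟨S, hS⟩ := htr.exists_le_sylow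
  obtain ⟨T, hT, hgood⟩ := CfsgLib.SymSylow.sylow_gen S
  have hswap : ∀ i j : Fin n, ∃ w ∈ (S : Subgroup (Equiv.Perm (Fin n))), w i = j ∧ w j = i := fun i j => by
    refine ⟨tr (Multiplicative.ofAdd (c j - c i)), hS ⟨_, rfl⟩, ?_, ?_⟩
    · show c.symm (c i + (c j - c i)) = j
      simp
    · show c.symm (c j + (c j - c i)) = i
      rw [Equiv.symm_apply_eq]
      funext r
      simp only [Pi.add_apply, Pi.sub_apply]
      rw [CharTwo.sub_eq_add, ← add_assoc, CharTwo.add_self_eq_zero, zero_add]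
  haveI : Nonempty (Fin n) := ⟨⟨0, hn ▸ Nat.two_pow_pos k⟩⟩
  have hrel : ∀ (w : Equiv.Perm (Fin n)) (a : Fin n → Fˣ),
      (permHom w * diagHom a : GL (Fin n) F) = diagHom (fun i => a (w.symm i)) * permHom w := by
    intro w a
    refine Units.ext ?_
    ext i j
    show (Equiv.Perm.permMatrix F w⁻¹ * diagonal fun i => (a i : F)) i j =
      ((diagonal fun i => (a (w.symm i) : F)) * Equiv.Perm.permMatrix F w⁻¹) i j
    rw [Matrix.mul_diagonal, Matrix.diagonal_mul]
    by_cases h : w.symm i = j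
    · subst h; simp [Equiv.Perm.permMatrix, PEquiv.toMatrix_apply, mul_comm]
    · simp [Equiv.Perm.permMatrix, PEquiv.toMatrix_apply, h]
  have hdis : ∀ (z : Fin n → Fˣ) (w : Equiv.Perm (Fin n)),
      (diagHom z : GL (Fin n) F) = permHom w → z = 1 ∧ w = 1 := by
    intro z w h
    have h1 : ∀ i j, (diagonal fun i => (z i : F)) i j = Equiv.Perm.permMatrix F w⁻¹ i j :=
      fun i j => congrArg (fun M : GL (Fin n) F => M.1 i j) h
    have hw : w = 1 := Equiv.ext fun i => by
      by_contra hne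
      change ¬ w i = i at hne
      have := h1 (w i) i
      simp [Equiv.Perm.permMatrix, PEquiv.toMatrix_apply, diagonal_apply_ne _ hne] at this
    refine ⟨funext fun i => Units.ext ?_, hw⟩
    have := h1 i i
    simpa [hw] using this
  set K := wreathSub (diagHom (F := F)) permHom hrel (W : Subgroup Fˣ) (S : Subgroup (Equiv.Perm (Fin n))) with hK
  refine ⟨K, ?_, ?_⟩
  · rw [hK, card_wreathSub _ _ _ _ _ hdis, hWc, S.card_eq_multiplicity,
      Nat.card_eq_fintype_card (α := Equiv.Perm (Fin n)), Fintype.card_perm, Fintype.card_fin,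
      ← pow_mul, ← pow_add, v_GL_one_mod_four hq, mul_comm n]
  · refine le_sqPart_of_swap (diagHom (F := F)) permHom hrel (W : Subgroup Fˣ) (S : Subgroup (Equiv.Perm (Fin n)))
      hT (fun t ht => (hgood t ht).1) (GeneralLinearGroup.det : GL (Fin n) F →* Fˣ)
      ?_ ?_ ?_ hswap
    · intro a
      refine Units.ext ?_
      show (diagonal fun i => (a i : F)).det = _
      rw [det_diagonal, Units.coe_prod]
    · intro w _
      have hm : (-1 : Fˣ) ∈ (W : Subgroup Fˣ) := by
        have hp : IsPGroup 2 (Subgroup.zpowers (-1 : Fˣ)) := by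
          refine IsPGroup.of_card (n := 1) ?_
          rw [Nat.card_zpowers, pow_one]
          refine orderOf_eq_prime (by rw [neg_one_sq]) fun h => ?_
          exact ne_neg_one hF (congrArg Units.val h)
        obtain ⟨T', hT'⟩ := hp.exists_le_sylow
        have : Unique (Sylow 2 Fˣ) := Sylow.unique_of_normal W inferInstance
        rw [Subsingleton.elim W T']
        exact hT' (Subgroup.mem_zpowers _)
      have : GeneralLinearGroup.det (permHom w : GL (Fin n) F) = 1 ∨
          GeneralLinearGroup.det (permHom w : GL (Fin n) F) = -1 := by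
        rcases Int.units_eq_one_or (Equiv.Perm.sign w⁻¹) with h | h
        · left; refine Units.ext ?_
          show (Equiv.Perm.permMatrix F w⁻¹).det = 1
          rw [det_permutation, h]; simp
        · right; refine Units.ext ?_
          show (Equiv.Perm.permMatrix F w⁻¹).det = _
          rw [det_permutation, h]; simp
      rcases this with h | h <;> rw [h]
      exacts [one_mem _, hm]
    · intro v hv hv2
      have h2 : (v : F) * (v : F) = 1 := by
        rw [← Units.val_mul, ← pow_two, hv2, Units.val_one]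
      rcases mul_self_eq_one_iff.1 h2 with h3 | h3
      · exact ⟨1, one_mem _, by rw [one_pow, Units.ext (v := (1 : Fˣ)) h3]⟩
      · obtain ⟨z, hz⟩ := (FiniteField.isSquare_neg_one_iff (F := F)).2 (by omega)
        have hz0 : z ≠ 0 := fun h => by rw [h, mul_zero] at hz; exact neg_ne_zero.2 one_ne_zero hz
        have hz2 : (Units.mk0 z hz0) ^ 2 = v :=
          Units.ext (by rw [Units.val_pow_eq_pow_val, Units.val_mk0, pow_two, ← hz, h3])
        refine ⟨Units.mk0 z hz0, ?_, hz2⟩
        have hp : IsPGroup 2 (Subgroup.zpowers (Units.mk0 z hz0)) := by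
          rintro ⟨y, i, rfl⟩
          refine ⟨2, Subtype.ext ?_⟩
          show (Units.mk0 z hz0 ^ i) ^ (2 ^ 2) = 1
          rw [← zpow_natCast, ← _root_.zpow_mul, mul_comm, _root_.zpow_mul, zpow_natCast,
            show (2 : ℕ) ^ 2 = 2 * 2 from rfl, pow_mul, hz2, hv2, _root_.one_zpow]
        obtain ⟨T', hT'⟩ := hp.exists_le_sylow
        have : Unique (Sylow 2 Fˣ) := Sylow.unique_of_normal W inferInstance
        rw [Subsingleton.elim W T']
        exact hT' (Subgroup.mem_zpowers _)

end OneModFour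

section Main

variable [Fintype F]

theorem sq_SL_of_exists {n : ℕ} (h : ∃ K : Subgroup (GL (Fin n) F),
      Nat.card K = 2 ^ (Nat.card (GL (Fin n) F)).factorization 2 ∧
      (K ⊓ GeneralLinearGroup.det.ker) ≤ sqPart (K ⊓ GeneralLinearGroup.det.ker))
    (P : Sylow 2 (SpecialLinearGroup (Fin n) F))
    (x : (P : Subgroup (SpecialLinearGroup (Fin n) F))) :
    x ^ 2 ∈ commutator (P : Subgroup (SpecialLinearGroup (Fin n) F)) := by
  obtain ⟨K, hKc, hK⟩ := h
  haveI := normal_range_toGL (F := F) (Fin n)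
  refine sq_mem_sylow_of_card (K.comap SpecialLinearGroup.toGL)
    (card_comap_eq _ SpecialLinearGroup.toGL_injective K hKc)
    (le_sqPart_of_map _ SpecialLinearGroup.toGL_injective ?_) P x
  have e : (K.comap SpecialLinearGroup.toGL).map
      (SpecialLinearGroup.toGL : SpecialLinearGroup (Fin n) F →* GL (Fin n) F) =
      K ⊓ GeneralLinearGroup.det.ker := by
    ext g
    constructor
    · rintro ⟨s, hs, rfl⟩; exact ⟨hs, Units.ext s.2⟩
    · rintro ⟨hg, hd⟩
      exact ⟨⟨g.1, congrArg Units.val hd⟩, by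
        show SpecialLinearGroup.toGL (⟨g.1, congrArg Units.val hd⟩ : SpecialLinearGroup (Fin n) F) ∈ K
        rw [show SpecialLinearGroup.toGL (⟨g.1, congrArg Units.val hd⟩ : SpecialLinearGroup (Fin n) F)
          = g from Units.ext rfl]
        exact hg, Units.ext rfl⟩
  rw [e]
  exact hK

theorem sq_SL_even (hq : Fintype.card F % 4 = 3) (m : ℕ)
    (P : Sylow 2 (SpecialLinearGroup (Fin (2 * m)) F))
    (x : (P : Subgroup (SpecialLinearGroup (Fin (2 * m)) F))) :
    x ^ 2 ∈ commutator (P : Subgroup (SpecialLinearGroup (Fin (2 * m)) F)) := by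
  obtain ⟨K, h1, -, h3⟩ := exists_gl_even (F := F) hq m
  exact sq_SL_of_exists ⟨K, h1, h3⟩ P x

/-- `g ↦ diag(g, det g⁻¹)`. -/
def extendHom (n : ℕ) : GL (Fin n) F →* SpecialLinearGroup (Fin n ⊕ Fin 1) F where
  toFun g := ⟨fromBlocks g.1 0 0 (diagonal fun _ => ((GeneralLinearGroup.det g)⁻¹ : Fˣ).1), by
    rw [det_fromBlocks_zero₂₁, det_diagonal, Finset.prod_const, Finset.card_univ, Fintype.card_fin,
      pow_one, ← GeneralLinearGroup.val_det_apply, ← Units.val_mul, mul_inv_cancel, Units.val_one]⟩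
  map_one' := Subtype.ext (by simp)
  map_mul' a b := Subtype.ext (by
    show fromBlocks (a * b).1 0 0 _ = fromBlocks a.1 0 0 _ * fromBlocks b.1 0 0 _
    simp [fromBlocks_multiply, diagonal_mul_diagonal, mul_comm])

theorem extendHom_injective (n : ℕ) : Function.Injective (extendHom (F := F) n) := by
  intro a b h
  refine Units.ext (Matrix.ext fun i j => ?_)
  exact congrArg
    (fun M : SpecialLinearGroup (Fin n ⊕ Fin 1) F => M.1 (Sum.inl i) (Sum.inl j)) h

theorem sq_SL_odd (hq : Fintype.card F % 4 = 3) (m : ℕ)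
    (P : Sylow 2 (SpecialLinearGroup (Fin (2 * m + 1)) F))
    (x : (P : Subgroup (SpecialLinearGroup (Fin (2 * m + 1)) F))) :
    x ^ 2 ∈ commutator (P : Subgroup (SpecialLinearGroup (Fin (2 * m + 1)) F)) := by
  haveI : Fact (Nat.Prime 2) := ⟨Nat.prime_two⟩
  have hF : Odd (Fintype.card F) := Nat.odd_iff.2 (by omega)
  obtain ⟨K, h1, h2, -⟩ := exists_gl_even (F := F) hq m
  let e : SpecialLinearGroup (Fin (2 * m) ⊕ Fin 1) F →* SpecialLinearGroup (Fin (2 * m + 1)) F :=
    MonoidHom.mk' (fun g : SpecialLinearGroup (Fin (2 * m) ⊕ Fin 1) F => ⟨Matrix.reindex finSumFinEquiv finSumFinEquiv g.1, by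
      rw [Matrix.det_reindex_self]; exact g.2⟩) fun (a b : SpecialLinearGroup (Fin (2 * m) ⊕ Fin 1) F) => Subtype.ext (by
      show Matrix.reindex finSumFinEquiv finSumFinEquiv (a.1 * b.1) = _
      exact (Matrix.submatrix_mul_equiv a.1 b.1 _ _ _).symm)
  have he : Function.Injective e := fun a b h =>
    Subtype.ext ((Matrix.reindex finSumFinEquiv finSumFinEquiv).injective (congrArg Subtype.val h))
  let f := e.comp (extendHom (F := F) (2 * m))
  have hf : Function.Injective f := he.comp (extendHom_injective _)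
  refine sq_mem_sylow_of_card (K.map f) ?_ (le_sqPart_map f h2) P x
  rw [Subgroup.card_map_of_injective hf, h1]
  congr 1
  -- `GL_{2m}` has odd index in `SL_{2m+1}`
  let d : GL (Fin (2 * m + 1)) F →* Fˣ := GeneralLinearGroup.det
  have hsurj : Function.Surjective d := by
    intro u
    let v : Fin (2 * m + 1) → Fˣ := Pi.mulSingle 0 u
    refine ⟨diagHom v, Units.ext ?_⟩
    show (diagonal fun i => (v i : F)).det = u
    rw [det_diagonal, ← Units.coe_prod, Finset.prod_pi_mulSingle', if_pos (Finset.mem_univ _)]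
  have hker : Nat.card (SpecialLinearGroup (Fin (2 * m + 1)) F) = Nat.card d.ker :=
    Nat.card_eq_of_bijective (fun s => (⟨SpecialLinearGroup.toGL s, Units.ext s.2⟩ : d.ker))
      ⟨fun a b h => SpecialLinearGroup.toGL_injective (congrArg Subtype.val h),
        fun g => ⟨⟨g.1.1, congrArg Units.val g.2⟩, Subtype.ext (Units.ext rfl)⟩⟩
  have hmul : Nat.card (GL (Fin (2 * m + 1)) F) =
      (Fintype.card F - 1) * Nat.card (SpecialLinearGroup (Fin (2 * m + 1)) F) := by
    rw [Subgroup.card_eq_card_quotient_mul_card_subgroup d.ker, hker,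
      Nat.card_congr (QuotientGroup.quotientKerEquivOfSurjective d hsurj).toEquiv,
      Nat.card_units, Nat.card_eq_fintype_card]
  have hv := v_GL_succ hF (2 * m)
  have hq1 : 1 < Fintype.card F := Fintype.one_lt_card
  rw [hmul, Nat.factorization_mul (by omega) Nat.card_pos.ne', Finsupp.add_apply,
    Nat.factorization_def _ Nat.prime_two, v_two_of_mod (a := Fintype.card F - 1) (by omega),
    v_two_of_mod (a := Fintype.card F ^ (2 * m + 1) - 1) (by
      have : Fintype.card F ^ (2 * m + 1) % 4 = 3 := by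
        rw [Nat.pow_mod, hq, pow_succ, pow_mul, Nat.mul_mod, Nat.pow_mod]
        norm_num
      omega)] at hv
  omega

theorem sq_SL_twoPow (hq : Fintype.card F % 4 = 1) {n k : ℕ} (hn : n = 2 ^ k)
    (P : Sylow 2 (SpecialLinearGroup (Fin n) F))
    (x : (P : Subgroup (SpecialLinearGroup (Fin n) F))) :
    x ^ 2 ∈ commutator (P : Subgroup (SpecialLinearGroup (Fin n) F)) :=
  sq_SL_of_exists (exists_gl_twoPow hq hn) P x

end Main

end CfsgLib.GLWreathSylow
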