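import Cfsg.Agent.Lib.Char.BrauerInduction
import Mathlib.GroupTheory.Transfer

/-!
# Two generalized characters from Brauer's criterion

* `isGen_regular`: `p^a` times the indicator of the `p`-regular elements;
* `isGen_pElements`: the `p'`-part of the order times the indicator of the `p`-elements.
-/

set_option autoImplicit false

noncomputable section

namespace CfsgLib.BlockArith

open CfsgLib.Char
open scoped ComplexConjugate

open Classical in
theorem isGen_of_normal {E : Type*} [Group E] [Finite E] (K : Subgroup E) [hK : K.Normal] {c : ℕ}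
    (h : K.index ∣ c) :
    Cfsg.IsGeneralizedCharacter E (fun e : E => if e ∈ K then (c : ℂ) else 0) := by
  have := Fintype.ofFinite E
  have := Fintype.ofFinite K
  obtain ⟨t, rfl⟩ := h
  refine isGen_of_classInner_int (isClassFunction_iff.mpr fun a b hab => ?_) fun ψ hψ => ?_
  · obtain ⟨u, rfl⟩ := isConj_iff.mp hab
    refine if_congr ⟨fun ha => hK.conj_mem a ha u, fun hb => ?_⟩ rfl rfl
    simpa [mul_assoc] using hK.conj_mem' _ hb u
  · obtain ⟨n, hn⟩ := classInner_char_nat (isCharacter_one (G := K))
      (isCharacter_res K (isCharacter_of_isIrr hψ))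
    refine ⟨t * n, ?_⟩
    have hsum : ∑ e : E, (if e ∈ K then ((K.index * t : ℕ) : ℂ) else 0) * conj (ψ e) =
        ((K.index * t : ℕ) : ℂ) * ∑ k : K, (1 : ℂ) * conj (ψ k) := by
      simp only [one_mul, ite_mul, zero_mul, ← Finset.sum_filter, ← Finset.mul_sum]
      congr 1
      exact Finset.sum_subtype _ (by simp) (fun e => conj (ψ e))
    rw [classInner_def, hsum, ← card_mul_classInner, hn]
    push_cast
    rw [← show (K.index : ℂ) * (Nat.card K : ℂ) = (Nat.card E : ℂ) by
      exact_mod_cast K.index_mul_card]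
    have h1 : (K.index : ℂ) ≠ 0 := by exact_mod_cast Subgroup.index_ne_zero_of_finite
    have h2 : (Nat.card K : ℂ) ≠ 0 := card_ne_zero'
    field_simp

variable {p : ℕ}

/-- The `p`-regular elements of an elementary group form a normal subgroup of `p`-power index. -/
theorem exists_regular_subgroup [hp : Fact p.Prime] {E : Type*} [Group E] [Finite E] {q : ℕ}
    (hq : q.Prime) (hE : Cfsg.IsElementary q E) :
    ∃ K : Subgroup E, K.Normal ∧ (∃ j, K.index = p ^ j) ∧ ∀ g : E, g ∈ K ↔ ¬ p ∣ orderOf g := by
  obtain ⟨x, hx, hcop, k, hk⟩ := hE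
  rcases eq_or_ne q p with rfl | hqp
  · have hn : (Subgroup.zpowers x).Normal := ⟨fun z hz g => by
      rw [Subgroup.mem_center_iff.mp (Subgroup.zpowers_le.mpr hx hz) g, mul_inv_cancel_right]
      exact hz⟩
    refine ⟨_, hn, ⟨k, hk⟩, fun g => ⟨fun hg h => ?_, fun hg => ?_⟩⟩
    · exact (Nat.Prime.coprime_iff_not_dvd hq).mp hcop.symm
        (h.trans (Nat.card_zpowers x ▸ Subgroup.orderOf_dvd_natCard _ hg))
    · rw [← QuotientGroup.eq_one_iff, ← orderOf_eq_one_iff]
      refine Nat.eq_one_of_dvd_coprimes
        (Nat.Coprime.pow_left k ((Nat.Prime.coprime_iff_not_dvd hq).mpr hg)) ?_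
        (orderOf_map_dvd (QuotientGroup.mk' (Subgroup.zpowers x)) g)
      rw [← hk]
      exact orderOf_dvd_natCard _
  · have hidx : ¬ p ∣ (Subgroup.center E).index := fun h => hqp ((Nat.prime_dvd_prime_iff_eq hp.out
      hq).mp (hp.out.dvd_of_dvd_pow (hk ▸ h.trans
        (Subgroup.index_dvd_of_le (Subgroup.zpowers_le.mpr hx))))).symm
    set m := Nat.card (Subgroup.center E) / p ^ (Nat.card (Subgroup.center E)).factorization p
      with hm
    let ψ : E →* Subgroup.center E :=
      { toFun := fun g => MonoidHom.transferCenterPow E g ^ m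
        map_one' := by simp
        map_mul' := fun a b => by
          rw [map_mul]
          exact Commute.mul_pow
            (Subtype.ext (Subgroup.mem_center_iff.mp (MonoidHom.transferCenterPow E b).2 _)) m }
    have hψ : ∀ g : E, (ψ g : E) = g ^ ((Subgroup.center E).index * m) := fun g => by
      simp [ψ, pow_mul]
    have hker : ∀ y : ψ.range, ∃ i, y ^ p ^ i = 1 := fun y => by
      refine ⟨(Nat.card (Subgroup.center E)).factorization p, ?_⟩
      obtain ⟨g, hg⟩ := y.2
      apply Subtype.ext
      rw [SubmonoidClass.coe_pow, ← hg, Subgroup.coe_one]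
      show ((MonoidHom.transferCenterPow E g) ^ m) ^ _ = 1
      rw [← pow_mul, mul_comm, hm, Nat.ordProj_mul_ordCompl_eq_self, pow_card_eq_one']
    refine ⟨ψ.ker, inferInstance, ?_, fun g => ?_⟩
    · rw [Subgroup.index_ker]
      exact IsPGroup.iff_card.mp hker
    · rw [MonoidHom.mem_ker]
      constructor
      · intro h hdvd
        have h1 : g ^ ((Subgroup.center E).index * m) = 1 := by rw [← hψ, h]; rfl
        rcases hp.out.dvd_mul.mp (hdvd.trans (orderOf_dvd_of_pow_eq_one h1)) with h2 | h2
        · exact hidx h2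
        · exact Nat.not_dvd_ordCompl hp.out Nat.card_pos.ne' h2
      · intro h
        obtain ⟨i, hi⟩ := hker ⟨ψ g, g, rfl⟩
        have hi' : orderOf (ψ g) ∣ p ^ i :=
          orderOf_dvd_of_pow_eq_one (congrArg Subtype.val hi)
        exact orderOf_eq_one_iff.mp (Nat.eq_one_of_dvd_coprimes
          (Nat.Coprime.pow_left i (hp.out.coprime_iff_not_dvd.mpr h)) hi' (orderOf_map_dvd ψ g))

variable {G : Type*} [Group G] [Fintype G]

/-- `p^a` times the indicator of the `p`-regular elements. -/
theorem isGen_regular [hp : Fact p.Prime] :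
    Cfsg.IsGeneralizedCharacter G (fun x : G => if p ∣ orderOf x then (0 : ℂ)
      else ((p ^ (Nat.card G).factorization p : ℕ) : ℂ)) := by
  classical
  refine isGen_of_elementary (isClassFunction_iff.mpr fun a b hab => ?_) fun E q hq hE => ?_
  · obtain ⟨c, rfl⟩ := isConj_iff.mp hab
    rw [show orderOf (c * a * c⁻¹) = orderOf a from (SemiconjBy.conj_mk c a).orderOf_eq.symm]
  · obtain ⟨K, hK, ⟨j, hj⟩, hmem⟩ := exists_regular_subgroup (p := p) hq hE
    have hd : K.index ∣ p ^ (Nat.card G).factorization p := by
      rw [hj]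
      refine pow_dvd_pow p ((hp.out.pow_dvd_iff_le_factorization Nat.card_pos.ne').mp ?_)
      rw [← hj]
      exact (Subgroup.index_dvd_card K).trans (Subgroup.card_subgroup_dvd_card E)
    convert isGen_of_normal K hd using 1
    funext e
    simp only [hmem, ← Subgroup.orderOf_coe]
    split_ifs <;> rfl

open Classical in
/-- The `p'`-part of the order times the indicator of the `p`-elements. -/
theorem isGen_pElements [hp : Fact p.Prime] :
    Cfsg.IsGeneralizedCharacter G (fun x : G => if ∃ k, orderOf x = p ^ k then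
      ((Nat.card G / p ^ (Nat.card G).factorization p : ℕ) : ℂ) else 0) := by
  refine isGen_of_elementary (isClassFunction_iff.mpr fun a b hab => ?_) fun E q hq hE => ?_
  · obtain ⟨c, rfl⟩ := isConj_iff.mp hab
    rw [show orderOf (c * a * c⁻¹) = orderOf a from (SemiconjBy.conj_mk c a).orderOf_eq.symm]
  · have := isNilpotent_of_isElementary hq hE
    let P : Sylow p E := default
    have hn : (P : Subgroup E).Normal := inferInstance
    have hidx : (P : Subgroup E).index = Nat.card E / p ^ (Nat.card E).factorization p :=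
      (Nat.div_eq_of_eq_mul_left (pow_pos hp.out.pos _) (by
        rw [← P.card_eq_multiplicity, Subgroup.index_mul_card])).symm
    have hmem : ∀ g : E, g ∈ (P : Subgroup E) ↔ ∃ k, orderOf g = p ^ k := fun g => by
      refine ⟨fun hg => ?_, fun ⟨k, hk⟩ => ?_⟩
      · obtain ⟨i, hi⟩ := P.2 ⟨g, hg⟩
        obtain ⟨j, -, hj⟩ := (Nat.dvd_prime_pow hp.out).mp
          (orderOf_dvd_of_pow_eq_one (congrArg Subtype.val hi))
        exact ⟨j, hj⟩
      · obtain ⟨Q, hQ⟩ := (IsPGroup.of_card (p := p) (G := Subgroup.zpowers g)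
          (by rw [Nat.card_zpowers, hk])).exists_le_sylow
        have := Sylow.unique_of_normal P hn
        rw [show P = Q from Subsingleton.elim _ _]
        exact hQ (Subgroup.mem_zpowers g)
    convert isGen_of_normal (P : Subgroup E)
      (c := Nat.card G / p ^ (Nat.card G).factorization p)
      (hidx ▸ Nat.ordCompl_dvd_ordCompl_of_dvd (Subgroup.card_subgroup_dvd_card E) p) using 1
    funext e
    simp only [hmem, Subgroup.orderOf_coe]

end CfsgLib.BlockArith
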