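import Mathlib.LinearAlgebra.Matrix.SchurComplement
import Mathlib.LinearAlgebra.Matrix.PosDef
import Mathlib.Analysis.Matrix.PosDef
import Mathlib.LinearAlgebra.FreeModule.PID
import Mathlib.RingTheory.IntegralClosure.IntegralRestrict
import Mathlib.Analysis.Complex.Basic
import Mathlib.RingTheory.Int.Basic
import Mathlib.Data.Nat.Prime.Int
import Mathlib.Data.Matrix.ColumnRowPartitioned
import Mathlib.LinearAlgebra.Matrix.Integer

/-!
# Lower bound for a quadratic form with projection and rank one modulo `p`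

* `dvd_det_of_minors`: `p ^ (r - 1)` divides the determinant if all `2 × 2` minors vanish modulo `p`;
* `exists_gram_terms`: a Gram determinant is a sum of totally positive algebraic integers;
* `exists_terms_le_form`: for `A` integral symmetric with `A² = pA`, trace `pl`, of rank one modulo `p`
  with unit diagonal, `star v ⬝ᵥ A v` dominates, under every automorphism, a sum of `l` totally
  positive algebraic integers.
-/

set_option autoImplicit false

noncomputable section

namespace CfsgLib.BlockArith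

open Matrix
open scoped ComplexConjugate ComplexOrder

/-- A totally positive algebraic integer. -/
def IsTotPos (z : ℂ) : Prop :=
  IsIntegral ℤ z ∧ ∀ σ : ℂ ≃+* ℂ, ∃ r : ℝ, 0 < r ∧ σ z = (r : ℂ)

theorem dvd_det_of_minors {p : ℕ} (hp : p.Prime) {n : Type*} [Fintype n] [DecidableEq n]
    (H : Matrix n n ℤ) (h : ∀ i i' j j', (p : ℤ) ∣ H i j * H i' j' - H i j' * H i' j) :
    (p : ℤ) ^ (Fintype.card n - 1) ∣ H.det := by
  classical
  have key : ∀ (H' : Matrix n n ℤ) (S : Finset n), (∀ i ∈ S, ∀ j, (p : ℤ) ∣ H' i j) →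
      (p : ℤ) ^ S.card ∣ H'.det := by
    intro H' S hS
    have he : H' = diagonal (fun i => if i ∈ S then (p : ℤ) else 1) *
        Matrix.of fun i j => if i ∈ S then H' i j / p else H' i j := by
      ext i j
      rw [diagonal_mul, Matrix.of_apply]
      split_ifs with hi
      · rw [Int.mul_ediv_cancel' (hS i hi j)]
      · rw [one_mul]
    rw [he, det_mul, det_diagonal, Finset.prod_ite_mem, Finset.univ_inter, Finset.prod_const]
    exact dvd_mul_right _ _
  by_cases h0 : ∀ i j, (p : ℤ) ∣ H i j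
  · exact (pow_dvd_pow _ (Nat.sub_le _ _)).trans
      ((Finset.card_univ (α := n)) ▸ key H Finset.univ fun i _ j => h0 i j)
  push Not at h0
  obtain ⟨i₀, j₀, h0⟩ := h0
  obtain ⟨s, t, hst⟩ := ((Prime.coprime_iff_not_dvd (Nat.prime_iff_prime_int.1 hp)).mpr h0)
  let a : n → ℤ := fun i => if i = i₀ then 0 else H i j₀ * t
  let E : Matrix n n ℤ := 1 + replicateCol Unit (-a) * replicateRow Unit (Pi.single i₀ (1 : ℤ))
  have hE : E.det = 1 := by
    rw [det_one_add_replicateCol_mul_replicateRow, single_dotProduct]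
    simp [a]
  have hEH : ∀ i j, (E * H) i j = H i j - a i * H i₀ j := by
    intro i j
    simp only [E, Matrix.add_mul, Matrix.one_mul, Matrix.add_apply, Matrix.mul_assoc]
    simp [Matrix.mul_apply, Pi.single_apply, sub_eq_add_neg]
  have h1 := key (E * H) (Finset.univ.erase i₀) fun i hi j => by
    rw [hEH]
    simp only [a, if_neg (Finset.ne_of_mem_erase hi)]
    have e : H i j - H i j₀ * t * H i₀ j =
        (p : ℤ) * (s * H i j) + t * (H i j * H i₀ j₀ - H i j₀ * H i₀ j) := by
      linear_combination (-(H i j)) * hst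
    rw [e]
    exact dvd_add (dvd_mul_right _ _) ((h i i₀ j j₀).mul_left _)
  rwa [det_mul, hE, one_mul, Finset.card_erase_of_mem (Finset.mem_univ _), Finset.card_univ] at h1

/-- The Gram matrix of some of the rows. -/
def gramOn {ι n : Type*} (M : Matrix ι n ℂ) (s : Finset ι) : Matrix n n ℂ :=
  ∑ i ∈ s, vecMulVec (star (M i)) (M i)

variable {ι n : Type*} [Fintype n] [DecidableEq n]

theorem gramOn_apply (M : Matrix ι n ℂ) (s : Finset ι) (a b : n) :
    gramOn M s a b = ∑ i ∈ s, conj (M i a) * M i b := by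
  simp [gramOn, Matrix.sum_apply, vecMulVec_apply]

theorem gramOn_univ [Fintype ι] (M : Matrix ι n ℂ) : gramOn M Finset.univ = Mᴴ * M := by
  ext a b
  rw [gramOn_apply, Matrix.mul_apply]
  rfl

theorem posDef_gramOn (M : Matrix ι n ℂ) (e : n ↪ ι) (hdet : (M.submatrix e id).det ≠ 0)
    {s : Finset ι} (hs : Finset.univ.map e ⊆ s) : (gramOn M s).PosDef := by
  classical
  rw [gramOn, ← Finset.sum_sdiff hs, add_comm]
  refine PosDef.add_posSemidef ?_ (posSemidef_sum _ fun i _ => posSemidef_vecMulVec_star_self _)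
  have h : ∑ i ∈ Finset.univ.map e, vecMulVec (star (M i)) (M i) =
      (M.submatrix e id)ᴴ * M.submatrix e id := by
    ext a b
    rw [Matrix.sum_apply, Finset.sum_map, Matrix.mul_apply]
    rfl
  rw [h]
  exact PosDef.conjTranspose_mul_self _ (mulVec_injective_iff_isUnit.mpr
    ((isUnit_iff_isUnit_det _).mpr (isUnit_iff_ne_zero.mpr hdet)))

theorem map_gramOn (M : Matrix ι n ℂ) (hM : ∀ (σ : ℂ ≃+* ℂ) i a, σ (conj (M i a)) = conj (σ (M i a)))
    (σ : ℂ ≃+* ℂ) (s : Finset ι) : (gramOn M s).map σ = gramOn (M.map σ) s := by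
  ext a b
  simp only [Matrix.map_apply, gramOn_apply, map_sum, map_mul, hM]

theorem det_gramOn_insert_lt (M : Matrix ι n ℂ) [DecidableEq ι] (e : n ↪ ι)
    (hdet : (M.submatrix e id).det ≠ 0) {s : Finset ι} (hs : Finset.univ.map e ⊆ s) {i : ι}
    (hi : i ∉ s) (hrow : M i ≠ 0) : (gramOn M s).det < (gramOn M (insert i s)).det := by
  have hG := posDef_gramOn M e hdet hs
  have hins : gramOn M (insert i s) =
      gramOn M s + replicateCol Unit (star (M i)) * replicateRow Unit (M i) := by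
    rw [gramOn, Finset.sum_insert hi, add_comm, ← gramOn, vecMulVec_eq Unit]
  rw [hins, det_add_replicateCol_mul_replicateRow (isUnit_iff_ne_zero.mpr hG.det_pos.ne'),
    det_unique (n := Unit), Matrix.add_apply, Matrix.one_apply_eq, mul_add, mul_one]
  refine lt_add_of_pos_right _ (mul_pos hG.det_pos ?_)
  have h := (posDef_inv_iff.mpr hG).dotProduct_mulVec_pos (x := star (M i)) (by simpa using hrow)
  rw [star_star] at h
  convert h using 1
  simp [Matrix.mul_apply, dotProduct, mulVec, Finset.mul_sum, Finset.sum_mul, mul_assoc]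
  exact Finset.sum_comm

theorem isIntegral_det {M : Matrix n n ℂ} (h : ∀ a b, IsIntegral ℤ (M a b)) : IsIntegral ℤ M.det := by
  rw [det_apply']
  exact IsIntegral.sum _ fun σ _ => (isIntegral_algebraMap (x := ((σ.sign : ℤˣ) : ℤ))).mul
    (IsIntegral.prod _ fun a _ => h _ _)

/-- A Gram determinant as a sum of totally positive algebraic integers. -/
theorem exists_gram_terms [Fintype ι] [DecidableEq ι] [Nonempty n] (M : Matrix ι n ℂ)
    (hint : ∀ i a, IsIntegral ℤ (M i a))
    (hM : ∀ (σ : ℂ ≃+* ℂ) i a, σ (conj (M i a)) = conj (σ (M i a)))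
    (hrows : ∀ i, M i ≠ 0) (hdet : (Mᴴ * M).det ≠ 0) :
    ∃ (t : Finset ι) (f : ι → ℂ), t.card + Fintype.card n = Fintype.card ι + 1 ∧
      (∀ i ∈ t, IsTotPos (f i)) ∧ ∑ i ∈ t, f i = (Mᴴ * M).det := by
  classical
  -- an invertible square submatrix
  obtain ⟨e, he⟩ : ∃ e : n ↪ ι, (M.submatrix e id).det ≠ 0 := by
    obtain ⟨κ, a, ha, hspan, hli⟩ := exists_linearIndependent' ℂ M.row
    have htop : Submodule.span ℂ (Set.range M.row) = ⊤ := by
      refine Submodule.eq_top_of_finrank_eq ?_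
      rw [← rank_eq_finrank_span_row, ← rank_conjTranspose_mul_self, rank_of_isUnit _
        ((isUnit_iff_isUnit_det _).mpr (isUnit_iff_ne_zero.mpr hdet)), Module.finrank_fintype_fun_eq_card]
    rw [htop] at hspan
    have := Fintype.ofInjective a ha
    have hcard : Fintype.card n = Fintype.card κ := by
      rw [← Module.finrank_eq_card_basis (Module.Basis.mk hli hspan.ge), Module.finrank_fintype_fun_eq_card]
    let ε := Fintype.equivOfCardEq hcard
    refine ⟨⟨fun x => a (ε x), ha.comp ε.injective⟩, ?_⟩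
    rw [← isUnit_iff_ne_zero, ← isUnit_iff_isUnit_det, ← linearIndependent_rows_iff_isUnit]
    exact (hli.comp _ ε.injective)
  set base := Finset.univ.map e with hbase
  obtain ⟨a₀⟩ := ‹Nonempty n›
  have heσ : ∀ σ : ℂ ≃+* ℂ, ((M.map σ).submatrix e id).det ≠ 0 := fun σ => by
    have hh := RingHom.map_det (σ : ℂ →+* ℂ) (M.submatrix e id)
    intro h0
    refine he ((map_eq_zero_iff _ σ.injective).mp (hh.trans ?_))
    rw [← h0]
    rfl
  have hdetσ : ∀ (σ : ℂ ≃+* ℂ) (s : Finset ι), σ (gramOn M s).det = (gramOn (M.map σ) s).det :=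
    fun σ s => by
      rw [← map_gramOn M hM σ s]
      exact RingHom.map_det (σ : ℂ →+* ℂ) _
  have hintdet : ∀ s : Finset ι, IsIntegral ℤ (gramOn M s).det := fun s =>
    isIntegral_det fun a b => by
      rw [gramOn_apply]
      exact IsIntegral.sum _ fun i _ =>
        (map_isIntegral_int (starRingEnd ℂ) (hint i a)).mul (hint i b)
  have hreal : ∀ z : ℂ, 0 < z → ∃ r : ℝ, 0 < r ∧ z = (r : ℂ) := fun z hz => by
    obtain ⟨h1, h2⟩ := Complex.lt_def.mp hz
    exact ⟨z.re, h1, Complex.ext (by simp) (by simpa using h2.symm)⟩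
  suffices h : ∀ u : Finset ι, Disjoint u base → ∃ f : ι → ℂ,
      (∀ i ∈ insert (e a₀) u, IsTotPos (f i)) ∧
        ∑ i ∈ insert (e a₀) u, f i = (gramOn M (u ∪ base)).det by
    obtain ⟨f, hf, hsum⟩ := h (Finset.univ \ base) disjoint_sdiff_self_left
    refine ⟨insert (e a₀) (Finset.univ \ base), f, ?_, hf, ?_⟩
    · rw [Finset.card_insert_of_notMem (by simp [base]), Finset.card_sdiff_of_subset (Finset.subset_univ _),
        Finset.card_univ, hbase, Finset.card_map, Finset.card_univ]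
      have := Fintype.card_le_of_embedding e
      omega
    · rw [hsum, Finset.sdiff_union_of_subset (Finset.subset_univ _), gramOn_univ]
  intro u
  induction u using Finset.induction with
  | empty =>
    intro _
    refine ⟨fun _ => (gramOn M base).det, fun i hi => ⟨hintdet _, fun σ => ?_⟩, by simp⟩
    rw [hdetσ]
    exact hreal _ (posDef_gramOn _ e (heσ σ) subset_rfl).det_pos
  | insert i u hiu ih =>
    intro hd
    rw [Finset.disjoint_insert_left] at hd
    obtain ⟨f, hf, hsum⟩ := ih hd.2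
    set δ := (gramOn M (insert i (u ∪ base))).det - (gramOn M (u ∪ base)).det with hδ
    refine ⟨Function.update f i δ, ?_, ?_⟩
    · intro j hj
      rcases eq_or_ne j i with rfl | hji
      · rw [Function.update_self]
        refine ⟨(hintdet _).sub (hintdet _), fun σ => ?_⟩
        rw [hδ, map_sub, hdetσ, hdetσ]
        refine hreal _ (sub_pos.mpr (det_gramOn_insert_lt _ e (heσ σ) Finset.subset_union_right
          (by rw [Finset.mem_union]; exact fun h => h.elim hiu hd.1) fun h0 => hrows j (funext fun a => ?_)))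
        exact (map_eq_zero_iff _ σ.injective).mp (congrFun h0 a)
      · rw [Function.update_of_ne hji]
        refine hf j ?_
        simp only [Finset.mem_insert] at hj ⊢
        tauto
    · have hne : i ≠ e a₀ := fun h => hd.1 (h ▸ by simp [base])
      rw [Finset.insert_comm, Finset.sum_insert (by simp [hiu, hne]), Function.update_self,
        Finset.sum_congr rfl (g := f) fun j hj => Function.update_of_ne (fun hji : j = i =>
          (Finset.mem_insert.mp (show i ∈ insert (e a₀) u from hji ▸ hj)).elim hne hiu) _ _,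
        hsum, Finset.insert_union, hδ, sub_add_cancel]

/-- The lower bound of the form. -/
theorem exists_terms_le_form {ι : Type*} [Fintype ι] [DecidableEq ι] {p : ℕ} (hp : p.Prime)
    (A : Matrix ι ι ℤ) (hsymm : Aᵀ = A) (hAA : A * A = (p : ℤ) • A) {l : ℕ}
    (htr : A.trace = (p : ℤ) * l) (hminor : ∀ i i' j j', (p : ℤ) ∣ A i j * A i' j' - A i j' * A i' j)
    (hdiag : ∀ i, ¬ (p : ℤ) ∣ A i i) (v : ι → ℂ) (hint : ∀ i, IsIntegral ℤ (v i))
    (hv : ∀ (σ : ℂ ≃+* ℂ) i, σ (conj (v i)) = conj (σ (v i)))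
    (hq : star v ⬝ᵥ A.map (Int.cast : ℤ → ℂ) *ᵥ v ≠ 0) :
    ∃ (t : Finset ι) (f : ι → ℂ), t.card = l ∧ (∀ i ∈ t, IsTotPos (f i)) ∧ ∀ σ : ℂ ≃+* ℂ,
      ∑ i ∈ t, (σ (f i)).re ≤ (σ (star v ⬝ᵥ A.map (Int.cast : ℤ → ℂ) *ᵥ v)).re := by
  classical
  -- a basis of the kernel with a left inverse
  set φ := A.mulVecLin with hφ
  let bK := Module.finBasis ℤ (LinearMap.ker φ)
  set r := Module.finrank ℤ (LinearMap.ker φ)
  obtain ⟨s, hs⟩ := Module.projective_lifting_property φ.rangeRestrict LinearMap.id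
    φ.surjective_rangeRestrict
  let π : (ι → ℤ) →ₗ[ℤ] LinearMap.ker φ :=
    (LinearMap.id - s.comp φ.rangeRestrict).codRestrict _ fun x => by
      have h1 := congrArg Subtype.val (LinearMap.congr_fun hs (φ.rangeRestrict x))
      simp only [LinearMap.comp_apply, LinearMap.id_apply] at h1
      rw [LinearMap.mem_ker, LinearMap.sub_apply, map_sub, LinearMap.id_apply, LinearMap.comp_apply,
        sub_eq_zero]
      exact h1.symm
  have hπ : ∀ x : LinearMap.ker φ, π (x : ι → ℤ) = x := fun x => by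
    refine Subtype.ext ?_
    have h0 : φ.rangeRestrict (x : ι → ℤ) = 0 := Subtype.ext x.2
    show (x : ι → ℤ) - s (φ.rangeRestrict (x : ι → ℤ)) = x
    rw [h0, map_zero, sub_zero]
  let N : Matrix ι (Fin r) ℤ := Matrix.of fun i j => (bK j : ι → ℤ) i
  let Lm : Matrix (Fin r) ι ℤ := LinearMap.toMatrix' (bK.equivFun.toLinearMap.comp π)
  have hcol : ∀ x : ι → ℤ, A *ᵥ x = 0 → N *ᵥ (Lm *ᵥ x) = x := by
    intro x hx
    have hx' : x ∈ LinearMap.ker φ := hx
    have h1 : Lm *ᵥ x = bK.equivFun ⟨x, hx'⟩ := by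
      rw [LinearMap.toMatrix'_mulVec]
      exact congrArg bK.equivFun (hπ ⟨x, hx'⟩)
    have h2 := congrArg Subtype.val (bK.sum_equivFun ⟨x, hx'⟩)
    rw [h1]
    funext i
    rw [AddSubmonoidClass.coe_finsetSum] at h2
    conv_rhs => rw [← show _ = x i from congrFun h2 i]
    rw [Finset.sum_apply]
    simp only [mulVec, dotProduct, N, Matrix.of_apply, Submodule.coe_smul, Pi.smul_apply, smul_eq_mul]
    exact Finset.sum_congr rfl fun j _ => mul_comm _ _
  have hAN : A * N = 0 := by
    ext i j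
    exact congrFun (LinearMap.mem_ker.mp (bK j).2) i
  have hLN : Lm * N = 1 := by
    ext a j
    have h1 : Lm *ᵥ (bK j : ι → ℤ) = bK.equivFun (bK j) := by
      rw [LinearMap.toMatrix'_mulVec]
      exact congrArg bK.equivFun (hπ (bK j))
    rw [show (Lm * N) a j = (Lm *ᵥ (bK j : ι → ℤ)) a from rfl, h1, bK.equivFun_self,
      Matrix.one_apply]
    exact if_congr eq_comm rfl rfl
  set B : Matrix ι ι ℤ := (p : ℤ) • (1 : Matrix ι ι ℤ) - A with hB
  have hBsymm : Bᵀ = B := by rw [hB, transpose_sub, transpose_smul, transpose_one, hsymm]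
  have hNLB : N * (Lm * B) = B := by
    refine ext_of_mulVec_single fun j => ?_
    rw [← mulVec_mulVec, ← mulVec_mulVec]
    refine hcol _ ?_
    rw [mulVec_mulVec, hB, Matrix.mul_sub, Matrix.mul_smul, Matrix.mul_one, hAA, sub_self,
      zero_mulVec]
  have hBN : B * N = (p : ℤ) • N := by
    rw [hB, Matrix.sub_mul, Matrix.smul_mul, Matrix.one_mul, hAN, sub_zero]
  have hBLN : B * Lmᵀ * Nᵀ = B := by
    have h := congrArg Matrix.transpose hNLB
    rwa [transpose_mul, transpose_mul, hBsymm] at h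
  set H : Matrix (Fin r) (Fin r) ℤ := Lm * B * Lmᵀ with hH
  have hHG : H * (Nᵀ * N) = (p : ℤ) • (1 : Matrix (Fin r) (Fin r) ℤ) := by
    rw [hH, Matrix.mul_assoc Lm, Matrix.mul_assoc Lm, ← Matrix.mul_assoc (B * Lmᵀ), hBLN, hBN,
      Matrix.mul_smul, hLN]
  have hNHN : N * H * Nᵀ = B := by
    rw [hH, Matrix.mul_assoc Lm, ← Matrix.mul_assoc N, Matrix.mul_assoc (N * Lm), hBLN,
      Matrix.mul_assoc, hNLB]
  have hkr : Fintype.card ι = r + l := by
    have h1 : (N * H * Nᵀ).trace = (p : ℤ) * r := by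
      rw [Matrix.trace_mul_comm, ← Matrix.mul_assoc, Matrix.trace_mul_comm, hHG, trace_smul, trace_one,
        Fintype.card_fin, smul_eq_mul]
    rw [hNHN, hB, trace_sub, trace_smul, trace_one, htr, smul_eq_mul] at h1
    have h2 : (p : ℤ) * ((Fintype.card ι : ℤ) - (l : ℤ) - (r : ℤ)) = 0 := by linear_combination h1
    have h3 := (mul_eq_zero.mp h2).resolve_left (by exact_mod_cast hp.ne_zero)
    omega
  have hΔ : (Nᵀ * N).det ∣ (p : ℤ) := by
    have hHm : ∀ a a' b b', (p : ℤ) ∣ H a b * H a' b' - H a b' * H a' b := by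
      intro a a' b b'
      have he : ∀ a b, (p : ℤ) ∣ H a b + ∑ i, ∑ j, Lm a i * A i j * Lm b j := by
        intro a b
        have h0 : H a b = ∑ i, ∑ j, Lm a i * B i j * Lm b j := by
          simp only [hH, Matrix.mul_apply, Finset.sum_mul, transpose_apply]
          exact Finset.sum_comm
        rw [h0, ← Finset.sum_add_distrib]
        refine Finset.dvd_sum fun i _ => ?_
        rw [← Finset.sum_add_distrib]
        refine Finset.dvd_sum fun j _ => ⟨Lm a i * (1 : Matrix ι ι ℤ) i j * Lm b j, ?_⟩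
        simp only [hB, Matrix.sub_apply, Matrix.smul_apply, smul_eq_mul]
        ring
      have hS : (p : ℤ) ∣ (∑ i, ∑ j, Lm a i * A i j * Lm b j) * (∑ i, ∑ j, Lm a' i * A i j * Lm b' j) -
          (∑ i, ∑ j, Lm a i * A i j * Lm b' j) * (∑ i, ∑ j, Lm a' i * A i j * Lm b j) := by
        have e : ∀ b b', (∑ i, ∑ j, Lm a i * A i j * Lm b j) * (∑ i, ∑ j, Lm a' i * A i j * Lm b' j) =
            ∑ i, ∑ i', ∑ j, ∑ j', Lm a i * Lm a' i' * (Lm b j * Lm b' j') * (A i j * A i' j') := by
          intro b b'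
          rw [Finset.sum_mul_sum]
          refine Finset.sum_congr rfl fun i _ => Finset.sum_congr rfl fun i' _ => ?_
          rw [Finset.sum_mul_sum]
          exact Finset.sum_congr rfl fun j _ => Finset.sum_congr rfl fun j' _ => by ring
        rw [e, e, ← Finset.sum_sub_distrib]
        refine Finset.dvd_sum fun i _ => ?_
        rw [← Finset.sum_sub_distrib]
        refine Finset.dvd_sum fun i' _ => ?_
        conv => arg 2; arg 2; rw [Finset.sum_comm]
        rw [← Finset.sum_sub_distrib]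
        refine Finset.dvd_sum fun j _ => ?_
        rw [← Finset.sum_sub_distrib]
        refine Finset.dvd_sum fun j' _ => ?_
        refine Dvd.dvd.trans (hminor i i' j j') ⟨Lm a i * Lm a' i' * (Lm b j * Lm b' j'), ?_⟩
        ring
      obtain ⟨c1, h1⟩ := he a b
      obtain ⟨c2, h2⟩ := he a' b'
      obtain ⟨c3, h3⟩ := he a b'
      obtain ⟨c4, h4⟩ := he a' b
      obtain ⟨c5, h5⟩ := hS
      rw [eq_sub_of_add_eq h1, eq_sub_of_add_eq h2, eq_sub_of_add_eq h3, eq_sub_of_add_eq h4]
      exact ⟨p * c1 * c2 - c1 * (∑ i, ∑ j, Lm a' i * A i j * Lm b' j) -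
        c2 * (∑ i, ∑ j, Lm a i * A i j * Lm b j) - p * c3 * c4 +
        c3 * (∑ i, ∑ j, Lm a' i * A i j * Lm b j) +
        c4 * (∑ i, ∑ j, Lm a i * A i j * Lm b' j) + c5, by linear_combination h5⟩
    obtain ⟨c, hc⟩ := dvd_det_of_minors hp H hHm
    rw [Fintype.card_fin] at hc
    have h1 := congrArg Matrix.det hHG
    rw [det_mul, det_smul, det_one, mul_one, Fintype.card_fin, hc] at h1
    rcases Nat.eq_zero_or_pos r with hr | hr
    · have : IsEmpty (Fin r) := hr ▸ Fin.isEmpty
      rw [det_isEmpty]; exact one_dvd _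
    · refine ⟨c, mul_left_cancel₀ (pow_ne_zero (r - 1) (by exact_mod_cast hp.ne_zero : (p : ℤ) ≠ 0)) ?_⟩
      calc (p : ℤ) ^ (r - 1) * (p : ℤ) = (p : ℤ) ^ r := by rw [← pow_succ, Nat.sub_add_cancel hr]
        _ = _ := by rw [← h1]; ring
  -- over the complex numbers
  set Nc : Matrix ι (Fin r) ℂ := N.map Int.cast with hNc
  set G : Matrix (Fin r) (Fin r) ℂ := (Nᵀ * N).map Int.cast with hG
  have hGN : G = Ncᴴ * Nc := by
    ext a b
    simp [hG, hNc, Matrix.mul_apply, Matrix.map_apply]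
  have hinj : Function.Injective Nc.mulVec := fun x y hxy => by
    have h := congrArg (fun w => (Lm.map (Int.cast : ℤ → ℂ)) *ᵥ w) hxy
    have h1 : Lm.map (Int.cast : ℤ → ℂ) * Nc = 1 := by
      rw [hNc, show Lm.map (Int.cast : ℤ → ℂ) * N.map (Int.cast : ℤ → ℂ) = (Lm * N).map (Int.cast : ℤ → ℂ) from
        (Matrix.map_mul (f := Int.castRingHom ℂ)).symm, hLN, Matrix.map_one _ Int.cast_zero Int.cast_one]
    simpa only [mulVec_mulVec, h1, one_mulVec] using h
  have hGpd : G.PosDef := hGN ▸ PosDef.conjTranspose_mul_self _ hinj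
  have hGdet : G.det = ((Nᵀ * N).det : ℂ) := by
    rw [hG]
    exact ((Int.castRingHom ℂ).map_det (Nᵀ * N)).symm
  have hΔpos : 0 < (Nᵀ * N).det := by
    have := hGpd.det_pos
    rw [hGdet] at this
    exact_mod_cast this
  have hp0 : (p : ℂ) ≠ 0 := Nat.cast_ne_zero.mpr hp.ne_zero
  have hGinv : G⁻¹ = (p : ℂ)⁻¹ • H.map (Int.cast : ℤ → ℂ) := by
    refine inv_eq_left_inv ?_
    rw [hG, Matrix.smul_mul, show H.map (Int.cast : ℤ → ℂ) * (Nᵀ * N).map (Int.cast : ℤ → ℂ) =
      (H * (Nᵀ * N)).map (Int.cast : ℤ → ℂ) from (Matrix.map_mul (f := Int.castRingHom ℂ)).symm, hHG]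
    ext a b
    simp only [Matrix.smul_apply, Matrix.map_apply, smul_eq_mul, Matrix.one_apply]
    push_cast
    split_ifs <;> field_simp
  set q := star v ⬝ᵥ A.map (Int.cast : ℤ → ℂ) *ᵥ v with hqdef
  let Mx : Matrix ι (Fin r ⊕ Unit) ℂ := fromCols Nc (replicateCol Unit v)
  have hdet : (Mxᴴ * Mx).det = ((Nᵀ * N).det : ℂ) * ((p : ℂ)⁻¹ * q) := by
    let _ : Invertible G := (Matrix.invertibleOfIsUnitDet G (isUnit_iff_ne_zero.mpr hGpd.det_pos.ne'))
    rw [show Mxᴴ * Mx = fromBlocks G (Ncᴴ * replicateCol Unit v) ((replicateCol Unit v)ᴴ * Nc)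
        ((replicateCol Unit v)ᴴ * replicateCol Unit v) by
      rw [hGN, conjTranspose_fromCols_eq_fromRows_conjTranspose, fromRows_mul_fromCols],
      det_fromBlocks₁₁, hGdet, det_unique (n := Unit), invOf_eq_nonsing_inv, hGinv]
    congr 1
    have hA : A.map (Int.cast : ℤ → ℂ) =
        (p : ℂ) • (1 : Matrix ι ι ℂ) - Nc * H.map (Int.cast : ℤ → ℂ) * Ncᴴ := by
      have h1 : (N * H * Nᵀ).map (Int.cast : ℤ → ℂ) = Nc * H.map (Int.cast : ℤ → ℂ) * Ncᴴ := by
        ext i j
        simp [hNc, Matrix.mul_apply, Matrix.map_apply]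
      rw [← h1, hNHN, hB]
      ext i j
      simp only [Matrix.sub_apply, Matrix.smul_apply, Matrix.map_apply, smul_eq_mul, Matrix.one_apply]
      push_cast
      split_ifs <;> ring
    have h2 : ((replicateCol Unit v)ᴴ * A.map (Int.cast : ℤ → ℂ) * replicateCol Unit v) default default = q := by
      rw [hqdef, Matrix.mul_assoc, ← Matrix.replicateCol_mulVec]
      simp [Matrix.mul_apply, dotProduct]
    rw [← h2, hA]
    simp only [Matrix.mul_sub, Matrix.sub_mul, Matrix.mul_smul, Matrix.smul_mul, Matrix.mul_one,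
      Matrix.mul_assoc, Matrix.sub_apply, Matrix.smul_apply, smul_eq_mul]
    field_simp
  have hrows : ∀ i, Mx i ≠ 0 := by
    intro i h0
    have hN0 : ∀ j, N i j = 0 := fun j => by
      have := congrFun h0 (Sum.inl j)
      simpa [Mx, hNc] using this
    refine hdiag i ?_
    have h1 : B i i = 0 := by
      rw [← hNHN, Matrix.mul_apply]
      simp [Matrix.mul_apply, hN0]
    rw [hB, Matrix.sub_apply, Matrix.smul_apply, Matrix.one_apply_eq, smul_eq_mul, mul_one,
      sub_eq_zero] at h1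
    exact ⟨1, by rw [mul_one]; exact h1.symm⟩
  obtain ⟨t, f, ht, hf, hsum⟩ := exists_gram_terms Mx
    (fun i a => by
      rcases a with j | u
      · simpa [Mx, hNc] using isIntegral_algebraMap (R := ℤ) (A := ℂ) (x := N i j)
      · simpa [Mx] using hint i)
    (fun σ i a => by
      rcases a with j | u
      · simp [Mx, hNc]
      · simpa [Mx] using hv σ i)
    hrows (by
      rw [hdet]
      exact mul_ne_zero (Int.cast_ne_zero.mpr hΔpos.ne') (mul_ne_zero (inv_ne_zero hp0) hq))
  refine ⟨t, f, ?_, hf, fun σ => ?_⟩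
  · rw [Fintype.card_sum, Fintype.card_fin, Fintype.card_unit] at ht
    omega
  · have hle : ((Nᵀ * N).det : ℝ) ≤ (p : ℝ) := by
      exact_mod_cast Int.le_of_dvd (by exact_mod_cast hp.pos) hΔ
    have h1 := congrArg (fun z => (σ z).re) (hsum.trans hdet)
    simp only [map_sum, Complex.re_sum, map_mul, map_inv₀, map_intCast, map_natCast] at h1
    have h2 : (p : ℂ)⁻¹ * σ q = (((p : ℝ)⁻¹ : ℝ) : ℂ) * σ q := by push_cast; rfl
    rw [h2, show ((Nᵀ * N).det : ℂ) = (((Nᵀ * N).det : ℝ) : ℂ) from (Complex.ofReal_intCast _).symm,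
      Complex.re_ofReal_mul, Complex.re_ofReal_mul] at h1
    have hpos : 0 ≤ ∑ i ∈ t, (σ (f i)).re := Finset.sum_nonneg fun i hi => by
      obtain ⟨x, hx, he⟩ := (hf i hi).2 σ
      rw [he, Complex.ofReal_re]; exact hx.le
    have hp1 : (0 : ℝ) < p := Nat.cast_pos.mpr hp.pos
    have hd1 : (0 : ℝ) < ((Nᵀ * N).det : ℝ) := Int.cast_pos.mpr hΔpos
    rw [h1] at hpos ⊢
    have hc1 : ((Nᵀ * N).det : ℝ) * (p : ℝ)⁻¹ ≤ 1 := by
      rw [← div_eq_mul_inv, div_le_one hp1]; exact hle
    have hc0 : (0 : ℝ) < ((Nᵀ * N).det : ℝ) * (p : ℝ)⁻¹ := by positivity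
    nlinarith

end CfsgLib.BlockArith
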