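import Cfsg.Agent.Lib.BlockArith.TwoAverage

/-!
# The sum of `p ^ h` over a block

* `sum_height_le`: `∑ p^h(χ) ≤ p^d l(b)` for a major subsection, so `k(B) ≤ p^d l(b)`.
-/

set_option autoImplicit false

noncomputable section

namespace CfsgLib.BlockArith

open Cfsg CfsgLib.Char CfsgLib.Blocks
open scoped ComplexConjugate

variable {G : Type*} [Group G] [Fintype G] {M : Ideal AlgInt} [M.IsMaximal] {p : ℕ} [hp : Fact p.Prime]
  {x : G} [Fintype (Subgroup.centralizer ({x} : Set G))]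
  {B : Set (IrrCharacter G)} {b : Set (IrrCharacter (Subgroup.centralizer ({x} : Set G)))}

/-- The sum of `p ^ h(χ)` over `B` is at most `p ^ d · l(b)` for a major subsection. -/
theorem sum_height_le (hM : IsPModular p M) (hx : ∃ k : ℕ, orderOf x = p ^ k)
    (hind : IsInducedBlock M (Subgroup.centralizer ({x} : Set G)) b B)
    (hd : blockDefect p b = blockDefect p B) [DecidablePred (· ∈ B)] :
    ∑ χ ∈ Finset.univ.filter (fun χ : IrrCharacter G => χ ∈ B), p ^ blockHeight p B (χ : G → ℂ) ≤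
      p ^ blockDefect p B * blockRank p b := by
  classical
  obtain ⟨-, hB, -⟩ := (isInducedBlock_iff _).mp hind
  obtain ⟨η, hη, h0⟩ := exists_height_zero hM hB
  set t := Finset.univ.filter fun χ : IrrCharacter G => χ ∈ B with ht
  have hq : (0 : ℝ) < ((p ^ blockDefect p b : ℕ) : ℝ) := Nat.cast_pos.mpr (pow_pos hp.out.pos _)
  have hnn : ∀ (σ : ℂ ≃+* ℂ) (χ : IrrCharacter G),
      σ (contrib p x b χ χ) = (((∑ ψ ∈ t, Complex.normSq (σ (contrib p x b χ ψ))) /
        ((p ^ blockDefect p b : ℕ) : ℝ) : ℝ) : ℂ) := by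
    intro σ χ
    rw [Complex.ofReal_div, sum_normSq_row hM hx hind, map_mul, map_natCast, Complex.ofReal_natCast,
      mul_div_cancel_left₀ _ (Nat.cast_ne_zero.mpr (pow_ne_zero _ hp.out.ne_zero))]
  have hw : ∀ χ : IrrCharacter G, ∃ w : ℂ, χ ∈ t → IsIntegral ℤ w ∧ w ≠ 0 ∧
      contrib p x b χ χ = ((p ^ blockHeight p B (χ : G → ℂ) : ℕ) : ℂ) * w := by
    intro χ
    by_cases hχ : χ ∈ t
    · have hχB := (Finset.mem_filter.mp hχ).2
      obtain ⟨w, hwi, hwc, -⟩ := contrib_dvd hM hx hind hd hχB hχB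
      refine ⟨w, fun _ => ⟨hwi, fun h => ?_, hwc⟩⟩
      rw [h, mul_zero] at hwc
      obtain ⟨w', -, hw', hc'⟩ := contrib_height hM hx hind hd hη h0 hχB
      have h1 := hnn (RingEquiv.refl ℂ) χ
      rw [RingEquiv.refl_apply, hwc] at h1
      have h2 : 0 < ∑ ψ ∈ t, Complex.normSq (contrib p x b χ ψ) := by
        refine Finset.sum_pos' (fun ψ _ => Complex.normSq_nonneg _)
          ⟨η, Finset.mem_filter.mpr ⟨Finset.mem_univ _, hη⟩, Complex.normSq_pos.mpr ?_⟩
        rw [contrib_conj η χ, hc']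
        exact (map_ne_zero_iff _ (starRingEnd ℂ).injective).mpr
          (mul_ne_zero (Nat.cast_ne_zero.mpr (pow_ne_zero _ hp.out.ne_zero)) hw')
      exact (div_pos h2 hq).ne' (Complex.ofReal_eq_zero.mp h1.symm)
    · exact ⟨0, fun h => absurd h hχ⟩
  choose w hw using hw
  have hval : ∀ (σ : ℂ ≃+* ℂ), ∀ χ ∈ t, σ (contrib p x b χ χ) =
      ((p ^ blockHeight p B (χ : G → ℂ) : ℕ) : ℂ) * σ (w χ) := fun σ χ hχ => by
    rw [(hw χ hχ).2.2, map_mul, map_natCast]
  obtain ⟨σ, hσ⟩ := exists_conjugate_sum_ge t w (fun χ => p ^ blockHeight p B (χ : G → ℂ))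
    (fun χ hχ => (hw χ hχ).1) (fun χ hχ => (hw χ hχ).2.1) (fun χ hχ σ => by
      have hn : (((p ^ blockHeight p B (χ : G → ℂ) : ℕ) : ℂ)) ≠ 0 :=
        Nat.cast_ne_zero.mpr (pow_ne_zero _ hp.out.ne_zero)
      refine ⟨((∑ ψ ∈ t, Complex.normSq (σ (contrib p x b χ ψ))) / ((p ^ blockDefect p b : ℕ) : ℝ)) /
        ((p ^ blockHeight p B (χ : G → ℂ) : ℕ) : ℝ), ?_, ?_⟩
      · exact div_nonneg (div_nonneg (Finset.sum_nonneg fun ψ _ => Complex.normSq_nonneg _) hq.le)
          (Nat.cast_nonneg _)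
      · rw [Complex.ofReal_div, ← hnn σ χ, hval σ χ hχ, Complex.ofReal_natCast, mul_div_cancel_left₀ _ hn])
  have h1 : ∀ χ ∈ t, ((p ^ blockHeight p B (χ : G → ℂ) : ℕ) : ℝ) * (σ (w χ)).re =
      (σ (contrib p x b χ χ)).re := fun χ hχ => by
    rw [hval σ χ hχ, Complex.mul_re, Complex.natCast_re, Complex.natCast_im, zero_mul, sub_zero]
  have hs : ∑ χ ∈ t, contrib p x b χ χ = ((p ^ blockDefect p b : ℕ) : ℂ) * (blockRank p b : ℂ) := by
    rw [← sum_contrib_self hM hx hind (B := B), ht, Finset.sum_filter]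
  rw [Finset.sum_congr rfl h1, ← Complex.re_sum, ← map_sum, hs, map_mul, map_natCast, map_natCast, hd,
    ← Nat.cast_mul, Complex.natCast_re] at hσ
  exact_mod_cast hσ

/-- `k(B) ≤ p ^ d · l(b)` for a major subsection. -/
theorem card_le_mul_blockRank (hM : IsPModular p M) (hx : ∃ k : ℕ, orderOf x = p ^ k)
    (hind : IsInducedBlock M (Subgroup.centralizer ({x} : Set G)) b B)
    (hd : blockDefect p b = blockDefect p B) :
    Nat.card B ≤ p ^ blockDefect p B * blockRank p b := by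
  classical
  refine le_trans ?_ (sum_height_le hM hx hind hd)
  rw [show Nat.card B = (Finset.univ.filter fun χ : IrrCharacter G => χ ∈ B).card by
    rw [Nat.card_eq_fintype_card, ← Set.toFinset_card]; congr 1; ext; simp, Finset.card_eq_sum_ones]
  exact Finset.sum_le_sum fun χ _ => Nat.one_le_pow _ _ hp.out.pos

end CfsgLib.BlockArith
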