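import Cfsg.Agent.Lib.Char.Ito
import Cfsg.Agent.Lib.CharBlocks.Degree
import Cfsg.Agent.Lib.CharNormal.InvariantCount
import Cfsg.Agent.Lib.CharNormal.ConjAut
import Cfsg.Agent.Lib.Transfer.PSolvable
import Cfsg.Agent.Lib.FGS.Covering

/-!
# All degrees prime to `p`: normal abelian Sylow subgroup in `p`-solvable groups
-/

set_option autoImplicit false

noncomputable section

namespace CfsgLib.BlockArith

open Cfsg CfsgLib.Char CfsgLib.CharNormal

universe u

variable {p : ℕ} [hp : Fact p.Prime]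

/-- Normal subgroups inherit degrees prime to `p`. -/
theorem prime_to_of_normal {G : Type u} [Group G] [Finite G] (N : Subgroup G) [N.Normal]
    (h : ∀ χ : IrrCharacter G, ¬ p ∣ charDegree (χ : G → ℂ)) (θ : IrrCharacter N) :
    ¬ p ∣ charDegree (θ : N → ℂ) := by
  have := Fintype.ofFinite G
  have := Fintype.ofFinite N
  obtain ⟨χ, hχ⟩ := exists_irr_over N θ.2
  obtain ⟨hd, -⟩ := degree_quotient_dvd_index N χ.2 θ.2 hχ
    (CfsgLib.CharBlocks.coe_charDegree_irr χ).symm (CfsgLib.CharBlocks.coe_charDegree_irr θ).symm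
  exact fun hp' => h χ (hp'.trans hd)

theorem sylow_comm_of_normal {G : Type u} [Group G] [Finite G] (P : Sylow p G)
    (hP : (P : Subgroup G).Normal) (h : ∀ χ : IrrCharacter G, ¬ p ∣ charDegree (χ : G → ℂ)) :
    ∀ a ∈ (P : Subgroup G), ∀ b ∈ (P : Subgroup G), a * b = b * a := by
  classical
  have := hP
  have := Fintype.ofFinite (P : Subgroup G)
  have key : ∀ θ : IrrCharacter (P : Subgroup G), (θ : ↥(P : Subgroup G) → ℂ) 1 = 1 := by
    intro θ
    have hd := degree_dvd_card θ.2 (CfsgLib.CharBlocks.coe_charDegree_irr θ).symm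
    rw [P.card_eq_multiplicity] at hd
    obtain ⟨k, -, hk⟩ := (Nat.dvd_prime_pow hp.out).mp hd
    rw [← CfsgLib.CharBlocks.coe_charDegree_irr, hk]
    rcases k with _ | k
    · simp
    · exact absurd (hk ▸ dvd_pow_self p (Nat.succ_ne_zero k)) (prime_to_of_normal (P : Subgroup G) h θ)
  intro a ha b hb
  exact congrArg Subtype.val (comm_iff_forall_linear.mpr key ⟨a, ha⟩ ⟨b, hb⟩)

/-- A `p`-subgroup whose product with a normal `p'`-subgroup is everything centralises it. -/
theorem commute_of_sup_eq_top {G : Type u} [Group G] [Finite G] (N : Subgroup G) [N.Normal]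
    (P : Sylow p G) (hN : ¬ p ∣ Nat.card N) (htop : (P : Subgroup G) ⊔ N = ⊤)
    (h : ∀ χ : IrrCharacter G, ¬ p ∣ charDegree (χ : G → ℂ)) :
    ∀ x ∈ (P : Subgroup G), ∀ n ∈ N, x * n = n * x := by
  classical
  have := Fintype.ofFinite G
  have := Fintype.ofFinite N
  have hnorm : ∀ s ∈ (P : Subgroup G), ∀ g ∈ N, s * g * s⁻¹ ∈ N :=
    fun s _ g hg => ‹N.Normal›.conj_mem g hg s
  let φ := conjAut N (P : Subgroup G) hnorm
  have hindex : ∃ k : ℕ, N.index ∣ p ^ k := by
    refine ⟨(Nat.card G).factorization p, ?_⟩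
    rw [← P.card_eq_multiplicity]
    have h1 : N.index = N.relIndex (P : Subgroup G) := by
      rw [← Subgroup.relIndex_sup_right, htop, Subgroup.relIndex_top_right]
    rw [h1]
    exact Subgroup.relIndex_dvd_card _ _
  obtain ⟨k, hk⟩ := hindex
  have hinv : ∀ θ : IrrCharacter N, IsInvariant φ θ := by
    intro θ s g
    obtain ⟨χ, hχ⟩ := exists_irr_over N θ.2
    have hdeg := degree_eq_mul_card_orbit N χ.2 θ hχ
    obtain ⟨e, he⟩ := classInner_char_nat (isCharacter_res N (isCharacter_of_isIrr χ.2))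
      (isCharacter_of_isIrr θ.2)
    rw [he, ← CfsgLib.CharBlocks.coe_charDegree_irr, ← CfsgLib.CharBlocks.coe_charDegree_irr θ] at hdeg
    have hdiv : (orbit N θ).card ∣ charDegree (χ : G → ℂ) := by
      have h2 : charDegree (χ : G → ℂ) = e * (orbit N θ).card * charDegree (θ : N → ℂ) := by
        exact_mod_cast hdeg
      exact ⟨e * charDegree (θ : N → ℂ), by rw [h2]; ring⟩
    obtain ⟨j, -, hj⟩ := (Nat.dvd_prime_pow hp.out).mp ((card_orbit_dvd_index N θ).trans hk)
    have hj0 : j = 0 := by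
      by_contra hj0
      exact h χ ((dvd_pow_self p hj0).trans (hj ▸ hdiv))
    rw [hj0, pow_zero] at hj
    have hmem : ∀ x : G, conjFun N x (θ : N → ℂ) = θ := by
      intro x
      have h1 : (⟨conjFun N x θ, isIrr_conjFun N θ.2 x⟩ : IrrCharacter N) ∈ orbit N θ :=
        (mem_orbit N).mpr ⟨x, rfl⟩
      exact congrArg Subtype.val (Finset.card_le_one.mp hj.le _ h1 θ (self_mem_orbit N θ))
    refine Eq.trans ?_ (congrFun (hmem (s : G)) g)
    rw [conjFun_apply]
    refine congrArg (θ : N → ℂ) (Subtype.ext ?_)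
    simp [φ, coe_conjAut, mul_assoc]
  have hcop : (Nat.card N).Coprime (Nat.card (P : Subgroup G)) := by
    rw [P.card_eq_multiplicity]
    exact ((hp.out.coprime_iff_not_dvd.mpr hN).symm).pow_right _
  have hsolv : Group.IsSolvable (P : Subgroup G) := by
    have := P.2.isNilpotent
    infer_instance
  have hcount := card_invariant_irr_eq φ hsolv hcop
  rw [Nat.card_congr (Equiv.subtypeUnivEquiv hinv), card_irr_eq_card_conjClasses] at hcount
  have hall : ∀ K : ConjClasses N, IsInvariantClass φ K := by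
    by_contra hc
    push Not at hc
    obtain ⟨K, hK⟩ := hc
    have : Finite (ConjClasses N) := Finite.of_surjective _ ConjClasses.mk_surjective
    have := Fintype.ofFinite (ConjClasses N)
    rw [Nat.card_eq_fintype_card, Nat.card_eq_fintype_card, Fintype.card_subtype] at hcount
    exact absurd hcount (Nat.ne_of_gt (Finset.card_lt_univ_of_notMem
      (x := K) (by simp [hK])))
  have hT : IsPGroup p (⊤ : Subgroup (P : Subgroup G)) := P.2.to_subgroup ⊤
  have hfix : fixedBy φ (⊤ : Subgroup (P : Subgroup G)) = ⊤ := by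
    refine CfsgLib.FGS.eq_top_of_forall_exists_conj fun g => ?_
    have := Fintype.ofFinite (fixedBy φ (⊤ : Subgroup (P : Subgroup G)))
    obtain ⟨x, hx, hxK⟩ := exists_fixed_of_invariantClass φ ⊤ hT hN (hall (ConjClasses.mk g))
    obtain ⟨c, hc⟩ := isConj_iff.mp (ConjClasses.mk_eq_mk_iff_isConj.mp hxK.symm)
    exact ⟨c, by rw [hc]; exact hx⟩
  intro x hx n hn
  have h2 : (⟨n, hn⟩ : N) ∈ fixedBy φ (⊤ : Subgroup (P : Subgroup G)) := hfix.ge (Subgroup.mem_top _)
  have h3 := congrArg Subtype.val (h2 ⟨x, hx⟩ (Subgroup.mem_top _))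
  rw [coe_conjAut] at h3
  exact mul_inv_eq_iff_eq_mul.mp h3

theorem exists_pGroup_or_coprime {G : Type u} [Group G] [Finite G] [Nontrivial G]
    (hsolv : IsPSolvable p G) :
    ∃ N : Subgroup G, N.Normal ∧ N ≠ ⊥ ∧ (IsPGroup p N ∨ ¬ p ∣ Nat.card N) := by
  by_contra hne
  push Not at hne
  have hO : pPrimeCore p G = ⊥ := sSup_eq_bot.mpr fun N ⟨hN, hc⟩ => by
    by_contra h
    exact hp.out.coprime_iff_not_dvd.mp hc.symm (hne N hN h).2
  have hO' : pCore p G = ⊥ := sSup_eq_bot.mpr fun N ⟨hN, hc⟩ => by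
    by_contra h
    exact (hne N hN h).1 hc
  have h := CfsgLib.Transfer.centralizer_pCore_le_of_isPSolvable hsolv hO
  rw [hO', Subgroup.coe_bot] at h
  obtain ⟨g, hg⟩ := exists_ne (1 : G)
  refine hg (Subgroup.mem_bot.mp (h (Subgroup.mem_centralizer_iff.mpr fun y hy => ?_)))
  rw [Set.mem_singleton_iff.mp hy, one_mul, mul_one]

/-- The same for solvable groups. -/
theorem exists_pGroup_or_coprime' {G : Type u} [Group G] [Finite G] [Nontrivial G]
    (hsolv : Group.IsSolvable G ∨ IsPSolvable p G) :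
    ∃ N : Subgroup G, N.Normal ∧ N ≠ ⊥ ∧ (IsPGroup p N ∨ ¬ p ∣ Nat.card N) := by
  rcases hsolv with hs | hs
  · obtain ⟨q, T, hq, hT, hT1, hTp⟩ := CfsgLib.CharNormal.exists_normal_pGroup (S := G) hs
    refine ⟨T, hT, hT1, ?_⟩
    by_cases hqp : q = p
    · exact Or.inl (hqp ▸ hTp)
    · refine Or.inr fun hd => hqp ?_
      have : Fact q.Prime := ⟨hq⟩
      obtain ⟨k, hk⟩ := IsPGroup.iff_card.mp hTp
      exact ((Nat.prime_dvd_prime_iff_eq hp.out hq).mp (hp.out.dvd_of_dvd_pow (hk ▸ hd))).symm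
  · exact exists_pGroup_or_coprime hs

theorem sylow_normal_abelian (n : ℕ) : ∀ (G : Type u) [Group G] [Finite G], Nat.card G = n →
    Group.IsSolvable G ∨ IsPSolvable p G → (∀ χ : IrrCharacter G, ¬ p ∣ charDegree (χ : G → ℂ)) →
    ∀ P : Sylow p G, (P : Subgroup G).Normal ∧
      ∀ a ∈ (P : Subgroup G), ∀ b ∈ (P : Subgroup G), a * b = b * a := by
  induction n using Nat.strong_induction_on with
  | _ n ih =>
  intro G _ _ hcard hsolv h P
  suffices hnorm : (P : Subgroup G).Normal from ⟨hnorm, sylow_comm_of_normal P hnorm h⟩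
  rcases subsingleton_or_nontrivial G with hs | hnt
  · exact ⟨fun a ha g => by rw [Subsingleton.elim (g * a * g⁻¹) a]; exact ha⟩
  obtain ⟨N, hN, hN1, hcase⟩ := exists_pGroup_or_coprime' hsolv
  have hlt : Nat.card (G ⧸ N) < n := by
    rw [← hcard, Subgroup.card_eq_card_quotient_mul_card_subgroup N]
    refine lt_mul_of_one_lt_right Nat.card_pos ?_
    exact (Subgroup.one_lt_card_iff_ne_bot N).mpr hN1
  let Pb : Sylow p (G ⧸ N) := P.mapSurjective (QuotientGroup.mk'_surjective N)
  have hq : ∀ χ : IrrCharacter (G ⧸ N), ¬ p ∣ charDegree (χ : G ⧸ N → ℂ) := fun χ hd =>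
    h ⟨_, isIrr_comp_mk' N χ.2⟩ (by simpa [charDegree] using hd)
  obtain ⟨hPb, hPbc⟩ := ih _ hlt (G ⧸ N) rfl (hsolv.imp (fun hs => by have := hs; infer_instance) (CfsgLib.Transfer.isPSolvable_quotient · N)) hq Pb
  have hH : ((P : Subgroup G) ⊔ N).Normal := by
    have h1 : (P : Subgroup G) ⊔ N = ((P : Subgroup G).map (QuotientGroup.mk' N)).comap (QuotientGroup.mk' N) := by
      rw [Subgroup.comap_map_eq, QuotientGroup.ker_mk']
    rw [h1]
    exact hPb.comap _
  rcases hcase with hNp | hNp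
  · have hle : N ≤ (P : Subgroup G) := hNp.le_sylow_of_normal P
    rwa [sup_eq_left.mpr hle] at hH
  · by_cases htop : (P : Subgroup G) ⊔ N = ⊤
    · have hcomm := commute_of_sup_eq_top N P hNp htop h
      refine Subgroup.normalizer_eq_top_iff.mp (eq_top_iff.mpr ?_)
      rw [← htop]
      refine sup_le Subgroup.le_normalizer fun m hm => Subgroup.mem_normalizer_iff.mpr fun y => ⟨fun hy => ?_, fun hy => ?_⟩
      · show m * y * m⁻¹ ∈ (P : Subgroup G)
        rw [← hcomm y hy m hm, mul_inv_cancel_right]; exact hy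
      · have h2 := hcomm _ hy m hm
        have h3 : m * y * m⁻¹ = y := by
          have h4 : y = m⁻¹ * (m * y * m⁻¹ * m) := by group
          rw [h2, inv_mul_cancel_left] at h4
          exact h4.symm
        rwa [h3] at hy
    · have hlt' : Nat.card ((P : Subgroup G) ⊔ N : Subgroup G) < n := by
        rw [← hcard]
        exact lt_of_le_of_ne (Subgroup.card_le_card_group _) fun e => htop (Subgroup.eq_top_of_card_eq _ e)
      let PH : Sylow p ((P : Subgroup G) ⊔ N : Subgroup G) := P.subtype le_sup_left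
      obtain ⟨hPH, -⟩ := ih _ hlt' _ rfl (hsolv.imp (fun hs => by have := hs; infer_instance) (CfsgLib.Transfer.isPSolvable_subgroup · _))
        (prime_to_of_normal _ h) PH
      refine Subgroup.normalizer_eq_top_iff.mp ?_
      have h1 := Sylow.normalizer_sup_eq_top PH
      rw [Sylow.coe_subtype, Subgroup.map_subgroupOf_eq_of_le le_sup_left] at h1
      rw [← h1, eq_comm, sup_eq_left]
      refine sup_le Subgroup.le_normalizer fun m hm => ?_
      rw [Sylow.coe_subtype] at hPH
      exact (Subgroup.normal_subgroupOf_iff_le_normalizer le_sup_left).mp hPH (Subgroup.mem_sup_right hm)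

end CfsgLib.BlockArith
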