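import Cfsg.Agent.Lib.BlockArith.QuotientBound
import Cfsg.Agent.Lib.BlockArith.Contribution

/-!
# Characters of height zero and subsections with a block of defect one modulo a central subgroup

* `card_heightZero_le_of_defect_one_quotient`: then `k₀(B) ≤ p ^ d(b)`.
-/

set_option autoImplicit false

noncomputable section

namespace CfsgLib.BlockArith

open Cfsg CfsgLib.Char CfsgLib.Blocks
open scoped ComplexConjugate

variable {G : Type*} [Group G] [Fintype G] {M : Ideal AlgInt} [M.IsMaximal] {p : ℕ} [hp : Fact p.Prime]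
  {x : G} [Fintype (Subgroup.centralizer ({x} : Set G))]
  {B : Set (IrrCharacter G)} {b : Set (IrrCharacter (Subgroup.centralizer ({x} : Set G)))}

/-- A subsection with block of defect one modulo a central `p`-subgroup gives `k₀(B) ≤ p^d(b)`. -/
theorem card_heightZero_le_of_defect_one_quotient (hM : IsPModular p M) (hx : ∃ k : ℕ, orderOf x = p ^ k)
    (hind : IsInducedBlock M (Subgroup.centralizer ({x} : Set G)) b B)
    (Q : Subgroup (Subgroup.centralizer ({x} : Set G))) [Q.Normal]
    [Fintype ((Subgroup.centralizer ({x} : Set G)) ⧸ Q)] (hQ : IsPGroup p Q)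
    (hC : ∃ k : ℕ, (Subgroup.centralizer (Q : Set (Subgroup.centralizer ({x} : Set G)))).index = p ^ k)
    (h1 : blockDefect p (inflSet Q b) = 1) :
    Nat.card {χ : IrrCharacter G // χ ∈ B ∧ blockHeight p B (χ : G → ℂ) = 0} ≤ p ^ blockDefect p b := by
  classical
  have hb := hind.1
  obtain ⟨-, hB, -⟩ := (isInducedBlock_iff _).mp hind
  set bb := inflSet Q b with hbb
  have hbb' : IsPBlock M bb := isPBlock_inflSet hM hQ hC hb
  have hmem : x ∈ Subgroup.centralizer ({x} : Set G) := Subgroup.mem_centralizer_singleton_iff.mpr rfl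
  have hht : ∀ i : bb, blockHeight p bb ((i : IrrCharacter ((Subgroup.centralizer ({x} : Set G)) ⧸ Q)) : (Subgroup.centralizer ({x} : Set G)) ⧸ Q → ℂ) = 0 := fun i => by
    by_contra h
    have := height_le hM hbb' i.2 h
    omega
  -- the matrix
  let A : Matrix bb bb ℤ := Matrix.of fun i j => blockMat p bb i.1 j.1
  set l := blockRank p bb with hl
  have hAA : A * A = (p : ℤ) • A := by
    ext i j
    rw [Matrix.mul_apply, Matrix.smul_apply]
    show ∑ k : bb, blockMat p bb i.1 k.1 * blockMat p bb k.1 j.1 = (p : ℤ) • blockMat p bb i.1 j.1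
    rw [← Finset.sum_subtype (p := fun k => k ∈ bb) (Finset.univ.filter fun k => k ∈ bb) (by simp)
      (fun k => blockMat p bb i.1 k * blockMat p bb k j.1),
      Finset.sum_filter_of_ne fun k _ hk => by
        by_contra hk'
        exact hk (by rw [blockMat, if_neg fun h => hk' h.2, zero_mul])]
    rw [blockMat_sum_mul hM hbb' i.2 j.2, h1, pow_one, smul_eq_mul]
  have htr : A.trace = (p : ℤ) * l := by
    have hN : (Nat.card ((Subgroup.centralizer ({x} : Set G)) ⧸ Q) : ℂ) ≠ 0 := Nat.cast_ne_zero.mpr Nat.card_pos.ne'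
    apply Int.cast_injective (α := ℂ)
    refine mul_left_cancel₀ hN ?_
    push_cast [Matrix.trace, Matrix.diag, A, Matrix.of_apply]
    rw [Finset.mul_sum, Finset.sum_congr rfl fun (i : bb) _ => card_pow_mul_blockMat hM hbb' i.2 i.1,
      ← Finset.mul_sum, h1, pow_one, mul_left_comm _ (p : ℂ) _, hl, card_mul_blockRank hM hbb',
      Finset.sum_ite, Finset.sum_const_zero, add_zero]
    congr 1
    exact (Finset.sum_subtype (p := fun k => k ∈ bb) (Finset.univ.filter fun k => k ∈ bb) (by simp)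
      (fun k : IrrCharacter ((Subgroup.centralizer ({x} : Set G)) ⧸ Q) => ∑ s, if p ∣ orderOf s then (0 : ℂ) else (k : (Subgroup.centralizer ({x} : Set G)) ⧸ Q → ℂ) s * conj ((k : (Subgroup.centralizer ({x} : Set G)) ⧸ Q → ℂ) s))).symm
  have hdiag : ∀ i : bb, ¬ (p : ℤ) ∣ A i i := fun i => by
    have h := (not_dvd_blockMat_iff hM hbb' i.2 i.2).mpr (hht i)
    rwa [hht i, zero_add, pow_one] at h
  have hminor : ∀ i i' j j', (p : ℤ) ∣ A i j * A i' j' - A i j' * A i' j := by
    intro i i' j j'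
    obtain ⟨L, hL, hres⟩ := res_blockMat (p := p) hM hbb'
    have : CharP (Res M) p := res_charP M hM
    rw [← CharP.intCast_eq_zero_iff (Res M) p]
    set m' : Res M := ((Nat.card ((Subgroup.centralizer ({x} : Set G)) ⧸ Q) / p ^ (Nat.card ((Subgroup.centralizer ({x} : Set G)) ⧸ Q)).factorization p : ℕ) : Res M)
    have hm' : m' ≠ 0 := fun h => Nat.not_dvd_ordCompl hp.out Nat.card_pos.ne'
      ((CharP.cast_eq_zero_iff (Res M) p _).mp h)
    refine (mul_eq_zero.mp (?_ : ((A i j * A i' j' - A i j' * A i' j : ℤ) : Res M) * (m' * m') = 0)).resolve_right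
      (mul_ne_zero hm' hm')
    push_cast
    have e : ∀ i j : bb, (A i j : Res M) * m' = kappa M p bb i.1 * (kappa M p bb j.1 * L) :=
      fun i j => hres i.1 i.2 j.1 j.2
    linear_combination (A i' j' : Res M) * m' * e i j +
      (kappa M p bb i.1 * (kappa M p bb j.1 * L)) * e i' j' -
      (A i' j : Res M) * m' * e i j' -
      (kappa M p bb i.1 * (kappa M p bb j'.1 * L)) * e i' j
  -- the vectors
  have hcomb : ∀ φ : IrrCharacter (Subgroup.centralizer ({x} : Set G)), ∃ c : IrrCharacter ((Subgroup.centralizer ({x} : Set G)) ⧸ Q) → ℤ, φ ∈ b → ∀ g : (Subgroup.centralizer ({x} : Set G)), ¬ p ∣ orderOf g →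
      (φ : (Subgroup.centralizer ({x} : Set G)) → ℂ) g = ∑ i : bb, (c i.1 : ℂ) * (i.1 : (Subgroup.centralizer ({x} : Set G)) ⧸ Q → ℂ) g := by
    intro φ
    by_cases hφ : φ ∈ b
    · obtain ⟨c, hc⟩ := exists_quotient_combination (P := Q) hM hQ hC hb hφ
      refine ⟨c, fun _ g hg => ?_⟩
      rw [hc g hg, Finset.sum_ite, Finset.sum_const_zero, add_zero]
      exact Finset.sum_subtype _ (by simp [hbb]) _
    · exact ⟨0, fun h => absurd h hφ⟩
  choose cc hcc using hcomb
  have hmul : ∀ (χ : IrrCharacter G) (φ : IrrCharacter (Subgroup.centralizer ({x} : Set G))), ∃ m : ℕ,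
      classInner (fun c : (Subgroup.centralizer ({x} : Set G)) => (χ : G → ℂ) c) (φ : (Subgroup.centralizer ({x} : Set G)) → ℂ) = m :=
    fun χ φ => classInner_char_nat (isCharacter_res _ (isCharacter_of_isIrr χ.2)) (isCharacter_of_isIrr φ.2)
  choose mult hmult using hmul
  let v : IrrCharacter G → bb → ℂ := fun χ i => ∑ φ : IrrCharacter (Subgroup.centralizer ({x} : Set G)),
    if φ ∈ b then centScal φ ⟨x, hmem⟩ * (mult χ φ : ℂ) * (cc φ i.1 : ℂ) else 0
  have hvint : ∀ χ i, IsIntegral ℤ (v χ i) := fun χ i => IsIntegral.sum _ fun φ _ => by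
    split_ifs
    · exact ((isIntegral_centScal φ (mem_center_centralizer hmem)).mul
        (isIntegral_algebraMap (x := (mult χ φ : ℤ)))).mul (isIntegral_algebraMap (x := cc φ i.1))
    · exact isIntegral_zero
  have hvmem : ∀ (σ : ℂ ≃+* ℂ) χ i, σ (conj (v χ i)) = conj (σ (v χ i)) := fun σ χ i => by
    have : v χ i ∈ conjCommute σ := Subfield.sum_mem _ fun φ _ => by
      split_ifs
      · exact Subfield.mul_mem _ (Subfield.mul_mem _ (centScal_mem_conjCommute σ φ _) (natCast_mem _ _))
          (intCast_mem _ _)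
      · exact zero_mem _
    exact this
  have hsec : ∀ (χ : IrrCharacter G) (s : (Subgroup.centralizer ({x} : Set G))), ¬ p ∣ orderOf s →
      secPart x b χ s = ∑ i : bb, v χ i * (i.1 : (Subgroup.centralizer ({x} : Set G)) ⧸ Q → ℂ) s := by
    intro χ s hs
    rw [secPart, blockPart_apply]
    simp only [v, Finset.sum_mul]
    rw [Finset.sum_comm]
    refine Finset.sum_congr rfl fun φ _ => ?_
    split_ifs with hφ
    · rw [classInner_shift hmem, hmult, hcc φ hφ s hs, Finset.mul_sum]
      exact Finset.sum_congr rfl fun i _ => by ring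
    · simp
  obtain ⟨kQ, hQcard⟩ := IsPGroup.iff_card.mp hQ
  have hcd : blockDefect p b = 1 + kQ := by
    rw [blockDefect_inflSet hM hQ hC hb, ← hbb, h1, hQcard, Nat.Prime.factorization_pow hp.out,
      Finsupp.single_eq_same]
  have hform : ∀ χ : IrrCharacter G, contrib p x b χ χ =
      star (v χ) ⬝ᵥ (A.map (Int.cast : ℤ → ℂ)).mulVec (v χ) := by
    intro χ
    have h2 : ∑ s : (Subgroup.centralizer ({x} : Set G)), (if p ∣ orderOf s then 0 else secPart x b χ s * conj (secPart x b χ s)) =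
        ∑ q : (Subgroup.centralizer ({x} : Set G)) ⧸ Q, if p ∣ orderOf q then 0 else
          ∑ i : bb, ∑ j : bb, (v χ i * conj (v χ j)) * ((i.1 : (Subgroup.centralizer ({x} : Set G)) ⧸ Q → ℂ) q * conj ((j.1 : (Subgroup.centralizer ({x} : Set G)) ⧸ Q → ℂ) q)) := by
      rw [← sum_regular_quotient hQ hC]
      refine Finset.sum_congr rfl fun s _ => ?_
      split_ifs with hs
      · rfl
      · rw [hsec χ s hs, map_sum, Finset.sum_mul_sum]
        exact Finset.sum_congr rfl fun i _ => Finset.sum_congr rfl fun j _ => by rw [map_mul]; ring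
    have h3 : ∑ q : (Subgroup.centralizer ({x} : Set G)) ⧸ Q, (if p ∣ orderOf q then 0 else
          ∑ i : bb, ∑ j : bb, (v χ i * conj (v χ j)) * ((i.1 : (Subgroup.centralizer ({x} : Set G)) ⧸ Q → ℂ) q * conj ((j.1 : (Subgroup.centralizer ({x} : Set G)) ⧸ Q → ℂ) q))) =
        ∑ i : bb, ∑ j : bb, (v χ i * conj (v χ j)) * ∑ q : (Subgroup.centralizer ({x} : Set G)) ⧸ Q,
          (if p ∣ orderOf q then 0 else (i.1 : (Subgroup.centralizer ({x} : Set G)) ⧸ Q → ℂ) q * conj ((j.1 : (Subgroup.centralizer ({x} : Set G)) ⧸ Q → ℂ) q)) := by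
      simp only [Finset.mul_sum]
      rw [eq_comm, Finset.sum_congr rfl fun i _ => Finset.sum_comm, Finset.sum_comm]
      refine Finset.sum_congr rfl fun q _ => ?_
      split_ifs <;> simp
    have hNC : (Nat.card (Subgroup.centralizer ({x} : Set G)) : ℂ) = (Nat.card ((Subgroup.centralizer ({x} : Set G)) ⧸ Q) : ℂ) * (Nat.card Q : ℂ) := by
      rw [← Nat.cast_mul, ← Subgroup.card_eq_card_quotient_mul_card_subgroup]
    have hp0 : (p : ℂ) ≠ 0 := by exact_mod_cast hp.out.ne_zero
    have hN0 : (Nat.card ((Subgroup.centralizer ({x} : Set G)) ⧸ Q) : ℂ) ≠ 0 := Nat.cast_ne_zero.mpr Nat.card_pos.ne'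
    rw [contrib, h2, h3, hNC, hcd, hQcard, Finset.mul_sum, dotProduct]
    simp only [Matrix.mulVec, dotProduct, Finset.mul_sum]
    rw [Finset.sum_comm]
    refine Finset.sum_congr rfl fun j _ => Finset.sum_congr rfl fun i _ => ?_
    have h4 := card_pow_mul_blockMat hM hbb' i.2 j.1
    rw [h1, pow_one] at h4
    simp only [← Finset.mul_sum]
    rw [Pi.star_apply, Complex.star_def, Matrix.map_apply,
      show A j i = blockMat p bb i.1 j.1 from blockMat_symm _ _]
    push_cast [pow_add, pow_one]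
    field_simp
    linear_combination (-(v χ i * conj (v χ j))) * h4
  have hlb : blockRank p b = l := blockRank_inflSet hM hQ hC hb
  -- lower bounds, row by row
  have hterms : ∀ χ : IrrCharacter G, ∃ (t : Finset bb) (f : bb → ℂ),
      χ ∈ B ∧ blockHeight p B (χ : G → ℂ) = 0 →
      t.card = l ∧ (∀ i ∈ t, IsTotPos (f i)) ∧ ∀ σ : ℂ ≃+* ℂ,
        ∑ i ∈ t, (σ (f i)).re ≤ (σ (contrib p x b χ χ)).re := by
    intro χ
    by_cases hχ : χ ∈ B ∧ blockHeight p B (χ : G → ℂ) = 0
    · have hne : contrib p x b χ χ ≠ 0 := contrib_ne_zero hM hx hind hχ.1 hχ.2 hχ.1 hχ.2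
      rw [hform] at hne
      obtain ⟨t, f, h⟩ := exists_terms_le_form hp.out A (Matrix.ext fun i j => blockMat_symm _ _)
        hAA htr hminor hdiag (v χ) (hvint χ) (fun σ i => hvmem σ χ i) hne
      exact ⟨t, f, fun _ => by rw [hform]; exact h⟩
    · exact ⟨∅, 0, fun h => absurd h hχ⟩
  choose t f htf using hterms
  set s := Finset.univ.filter fun χ : IrrCharacter G => χ ∈ B ∧ blockHeight p B (χ : G → ℂ) = 0 with hs
  obtain ⟨σ, hσ⟩ := exists_conjugate_sum_ge (s.sigma t) (fun a => f a.1 a.2) (fun _ => 1)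
    (fun a ha => ((htf a.1 (Finset.mem_filter.mp (Finset.mem_sigma.mp ha).1).2).2.1 a.2
      (Finset.mem_sigma.mp ha).2).1)
    (fun a ha h0' => by
      obtain ⟨r, hr, he⟩ := ((htf a.1 (Finset.mem_filter.mp (Finset.mem_sigma.mp ha).1).2).2.1 a.2
        (Finset.mem_sigma.mp ha).2).2 (RingEquiv.refl ℂ)
      rw [show f a.1 a.2 = 0 from h0', map_zero, eq_comm, Complex.ofReal_eq_zero] at he
      exact hr.ne' he)
    (fun a ha τ => by
      obtain ⟨r, hr, he⟩ := ((htf a.1 (Finset.mem_filter.mp (Finset.mem_sigma.mp ha).1).2).2.1 a.2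
        (Finset.mem_sigma.mp ha).2).2 τ
      exact ⟨r, hr.le, he⟩)
  simp only [Finset.sum_const, smul_eq_mul, mul_one, Nat.cast_one, one_mul, Finset.card_sigma,
    Finset.sum_sigma] at hσ
  rw [Finset.sum_congr rfl fun χ hχ => (htf χ (Finset.mem_filter.mp hχ).2).1, Finset.sum_const,
    smul_eq_mul] at hσ
  have hnn : ∀ χ : IrrCharacter G, 0 ≤ (σ (contrib p x b χ χ)).re := fun χ => by
    rw [contrib, map_mul, map_div₀, map_natCast, map_natCast, map_sum,
      Finset.sum_congr rfl fun s _ => show σ (if p ∣ orderOf s then 0 else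
        secPart x b χ s * conj (secPart x b χ s)) =
        ((if p ∣ orderOf s then 0 else Complex.normSq (σ (secPart x b χ s)) : ℝ) : ℂ) by
        split_ifs with hs
        · simp
        · rw [map_mul, show σ (conj (secPart x b χ s)) = conj (σ (secPart x b χ s)) from
            secPart_mem_conjCommute σ χ s, Complex.mul_conj], ← Complex.ofReal_sum, ← Complex.ofReal_natCast,
      ← Complex.ofReal_natCast, ← Complex.ofReal_div, ← Complex.ofReal_mul, Complex.ofReal_re]
    exact mul_nonneg (div_nonneg (Nat.cast_nonneg _) (Nat.cast_nonneg _))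
      (Finset.sum_nonneg fun s _ => by split_ifs <;> [exact le_rfl; exact Complex.normSq_nonneg _])
  have h6 : ∑ χ ∈ s, (σ (contrib p x b χ χ)).re ≤ ((p ^ blockDefect p b * l : ℕ) : ℝ) := by
    refine (Finset.sum_le_sum_of_subset_of_nonneg (t := Finset.univ.filter fun χ : IrrCharacter G => χ ∈ B)
      (fun χ hχ => Finset.mem_filter.mpr ⟨Finset.mem_univ _, (Finset.mem_filter.mp hχ).2.1⟩)
      fun χ _ _ => hnn χ).trans_eq ?_
    rw [← Complex.re_sum, ← map_sum, Finset.sum_filter, sum_contrib_self hM hx hind, ← Nat.cast_mul,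
      map_natCast, Complex.natCast_re, hlb]
  have h7 := hσ.trans ((Finset.sum_le_sum fun χ hχ =>
    (htf χ (Finset.mem_filter.mp hχ).2).2.2 σ).trans h6)
  rw [Nat.cast_le] at h7
  rw [show Nat.card {χ : IrrCharacter G // χ ∈ B ∧ blockHeight p B (χ : G → ℂ) = 0} = s.card by
    rw [Nat.card_eq_fintype_card, Fintype.card_subtype]]
  exact Nat.le_of_mul_le_mul_right h7 (hlb ▸ blockRank_pos hb)

end CfsgLib.BlockArith
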