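import Cfsg.Agent.Lib.Star.Norm
import Cfsg.Agent.Lib.BlockArith.HeightBound
import Cfsg.Agent.Lib.BlockArith.TwoAverage
import Cfsg.Agent.Lib.BrauerPairs.SubsectionCount

/-!
# The major subsections inside a maximal pair

* `pairs_defect_central`: below a maximal pair `(P, e)` a block of `C(Q)`, `P ≤ C(Q)`, has defect group `P`;
* `exists_cen_mul_map_central`: fusion of such pairs comes from the stabiliser of `(P, e)`;
* `major_orbits_mul_pow_height_le`: the number of stabiliser orbits on elements of `Z(P)`, times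
  `p ^ height`, is at most `p ^ defect`.
-/

set_option autoImplicit false

noncomputable section

namespace CfsgLib.BlockArith

open Cfsg CfsgLib.Blocks CfsgLib.Char CfsgLib.BrauerPairs CfsgLib.NilBlock CfsgLib.Star
open scoped ComplexConjugate Classical

universe u

variable {G : Type u} [Group G] [Fintype G] {M : Ideal AlgInt} [M.IsMaximal] {p : ℕ} [hp : Fact p.Prime]
  {B : Set (IrrCharacter G)} {P : Subgroup G} {e : Set (IrrCharacter (Cen P))}

/-- Below a maximal pair `(P, e)` a block of `C(Q)` with `P ≤ C(Q)` has defect group `P`. -/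
theorem pairs_defect_central (hM : IsPModular p M) (hmax : IsMaximalBrauerPair p M B P e)
    {Q : Subgroup G} {f : Set (IrrCharacter (Cen Q))} (hle : SubpairLE p M Q f P e)
    (hPC : P ≤ Cen Q) : IsDefectGroup p M f (P.subgroupOf (Cen Q)) := by
  have hF := blockFusion_spec hM hmax
  have hQP : Q ≤ P := subgroup_le (a := ⟨Q, f⟩) (b := ⟨P, e⟩) hle
  have hfc : (blockFusion hM hmax).IsFullyCentralized Q := by
    refine ⟨hQP, fun Q' _ => Subgroup.card_le_of_le ?_⟩
    exact le_inf inf_le_left (inf_le_left.trans hPC)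
  have h := (fullyCentralized_iff hM hF hle).mp hfc
  rwa [show (P ⊓ Cen Q).subgroupOf (Cen Q) = P.subgroupOf (Cen Q) from by
    rw [Subgroup.inf_subgroupOf_right]] at h

/-- Fusion of pairs centralised by `P` below `(P, e)` comes from the stabiliser. -/
theorem exists_cen_mul_map_central (hM : IsPModular p M) (hmax : IsMaximalBrauerPair p M B P e)
    {a : BrauerPairIdx G} {Q : Subgroup G} {f : Set (IrrCharacter (Cen Q))}
    (hle' : Relation.ReflTransGen (NormalSubpairRel p M) a ⟨P, e⟩)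
    (hle : SubpairLE p M Q f P e) (hPa : P ≤ Cen a.1) (hPQ : P ≤ Cen Q)
    {x : G} (hxa : cjPair x a = ⟨Q, f⟩) :
    ∃ t ∈ Cen Q, t * x ∈ stab M P e := by
  have hP := hmax.1.1
  have hQP : Q ≤ P := subgroup_le (a := ⟨Q, f⟩) (b := ⟨P, e⟩) hle
  have hb := isBrauerPair_left (a := ⟨Q, f⟩) hle hP
  have hD := pairs_defect_central hM hmax hle hPQ
  have hn : NormalSubpairRel p M a ⟨P, e⟩ := normal_of_subpair hM hP (Q := a.1) (f := a.2) hle'
    (hPa.trans (Subgroup.centralizer_le_normalizer _))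
  have hn' : IsNormalSubpair p M Q f (P.map (MulAut.conj x).toMonoidHom) (conjBlock P x e) := by
    have h1 := normal_cjPair hM x hn
    rw [hxa] at h1
    exact h1
  have hQ : a.1.map (MulAut.conj x).toMonoidHom = Q := congrArg Sigma.fst hxa
  obtain ⟨t, ht, htP⟩ := exists_conj_le hM hP hle le_rfl (hQP.trans hPQ)
    (Subgroup.centralizer_le_normalizer _) (centralIn_gidem f).2
    (fun R hR hRC hne => ((card_le_defect hM hb.2 hR hRC hne hD).trans_eq
      (card_subgroupOf' hPQ)).trans_eq (by rw [inf_eq_left.mpr hPQ]))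
    hn' (by
      rw [← hQ]
      rintro _ ⟨y, hy, rfl⟩
      exact mem_centralizer_map_conj.mpr (by simpa [mul_assoc] using hPa hy))
  refine ⟨t, ht, ?_⟩
  have htx : Relation.ReflTransGen (NormalSubpairRel p M) (cjPair (t * x) ⟨P, e⟩) ⟨P, e⟩ := by
    rw [← cjPair_cjPair t x (a := ⟨P, e⟩) hP]; exact htP
  have hR : P.map (MulAut.conj (t * x)).toMonoidHom = P :=
    Subgroup.eq_of_le_of_card_ge (subgroup_le htx)
      (Subgroup.card_map_of_injective (MulEquiv.injective _)).ge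
  refine ⟨Subgroup.mem_normalizer_iff_map_conj_eq.mpr hR, ?_⟩
  show cjA (t * x) (pid M (⟨P, e⟩ : BrauerPairIdx G)) = pid M (⟨P, e⟩ : BrauerPairIdx G)
  rw [← pid_cjPair, pair_eq_of_le hM hP htx Relation.ReflTransGen.refl hR]

omit [M.IsMaximal] in
/-- The diagonal contribution is nonnegative under every automorphism. -/
theorem ctr_self_galois_nonneg {x : G} {H : Subgroup G} (hH : H = Subgroup.centralizer ({x} : Set G))
    (b : Set (IrrCharacter H)) (χ : IrrCharacter G) (σ : ℂ ≃+* ℂ) :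
    ∃ t : ℝ, 0 ≤ t ∧ σ (ctr p x H b χ χ) = (t : ℂ) := by
  subst hH
  have := Fintype.ofFinite (Subgroup.centralizer ({x} : Set G))
  refine ⟨((p ^ blockDefect p b : ℕ) : ℝ) / (Nat.card (Subgroup.centralizer ({x} : Set G)) : ℝ) *
    ∑ s : Subgroup.centralizer ({x} : Set G),
      if p ∣ orderOf s then 0 else Complex.normSq (σ (secPart x b χ s)), ?_, ?_⟩
  · exact mul_nonneg (by positivity)
      (Finset.sum_nonneg fun s _ => by split_ifs <;> first | exact le_rfl | exact Complex.normSq_nonneg _)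
  · rw [ctr_eq_contrib, contrib, map_mul, map_div₀, map_natCast, map_natCast, map_sum,
      Complex.ofReal_mul, Complex.ofReal_div, Complex.ofReal_natCast, Complex.ofReal_natCast,
      Complex.ofReal_sum]
    congr 1
    refine Finset.sum_congr rfl fun s _ => ?_
    split_ifs
    · simp
    · have hm : σ (conj (secPart x b χ s)) = conj (σ (secPart x b χ s)) := secPart_mem_conjCommute σ χ s
      rw [map_mul, hm, Complex.mul_conj]

/-- In a major subsection the diagonal contribution is nonzero and divisible by `p ^ height`. -/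
theorem exists_major_contrib {x : G} {H : Subgroup G} (hH : H = Subgroup.centralizer ({x} : Set G))
    (hM : IsPModular p M) (hx : ∃ k : ℕ, orderOf x = p ^ k) {b : Set (IrrCharacter H)}
    (hind : IsInducedBlock M H b B) (hd : blockDefect p b = blockDefect p B)
    {χ : IrrCharacter G} (hχ : χ ∈ B) :
    ∃ w : ℂ, IsIntegral ℤ w ∧ w ≠ 0 ∧
      ctr p x H b χ χ = ((p ^ blockHeight p B (χ : G → ℂ) : ℕ) : ℂ) * w := by
  subst hH
  have := Fintype.ofFinite (Subgroup.centralizer ({x} : Set G))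
  rw [ctr_eq_contrib]
  obtain ⟨w, hw, hc, -⟩ := contrib_dvd hM hx hind hd hχ hχ
  refine ⟨w, hw, fun h0 => ?_, hc⟩
  obtain ⟨-, hB, -⟩ := (isInducedBlock_iff _).mp hind
  obtain ⟨η, hη, hη0⟩ := exists_height_zero hM hB
  obtain ⟨w', -, hw', hc'⟩ := contrib_height hM hx hind hd hη hη0 hχ
  have hz : regSum p (secH x _ b χ) (secH x _ b χ) = 0 := by
    have h2 : ctr p x _ b χ χ = 0 := by rw [ctr_eq_contrib, hc, h0, mul_zero]
    refine (mul_eq_zero.mp h2).resolve_left (div_ne_zero ?_ ?_)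
    · exact Nat.cast_ne_zero.mpr (pow_ne_zero _ hp.out.ne_zero)
    · exact Nat.cast_ne_zero.mpr Nat.card_pos.ne'
  have h1 : contrib p x b η χ = 0 := by
    rw [← ctr_eq_contrib, ctr, regSum_eq, Finset.sum_eq_zero fun s _ => ?_, mul_zero]
    split_ifs with hs
    · rfl
    · rw [eq_zero_of_regSum_self hz hs, map_zero, mul_zero]
  rw [hc'] at h1
  exact mul_ne_zero (Nat.cast_ne_zero.mpr (pow_ne_zero _ hp.out.ne_zero)) hw' h1

variable (M p B) in
/-- The weighted diagonal contribution of a pair on the section of `x`. -/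
def wctr (χ : IrrCharacter G) (x : G) (a : BrauerPairIdx G) : ℂ :=
  ctr p x (Cen a.1) a.2 χ χ * ((p ^ blockDefect p a.2 : ℕ) : ℂ)⁻¹

theorem wctr_nonneg {x : G} {a : BrauerPairIdx G} (ha : a.1 = Subgroup.zpowers x) (χ : IrrCharacter G)
    (σ : ℂ ≃+* ℂ) : ∃ t : ℝ, 0 ≤ t ∧ σ (wctr p χ x a) = (t : ℂ) := by
  obtain ⟨t, ht, he⟩ := ctr_self_galois_nonneg (p := p) (H := Cen a.1)
    (by rw [ha]; exact cen_zpowers x) a.2 χ σ
  refine ⟨t * ((p ^ blockDefect p a.2 : ℕ) : ℝ)⁻¹, mul_nonneg ht (by positivity), ?_⟩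
  rw [wctr, map_mul, he, map_inv₀, map_natCast, Complex.ofReal_mul, Complex.ofReal_inv,
    Complex.ofReal_natCast]

theorem sum_wctr (hM : IsPModular p M) (hB : IsPBlock M B) {χ : IrrCharacter G} (hχ : χ ∈ B)
    {X : Finset G} (hX : ∀ x ∈ X, ∃ k : ℕ, orderOf x = p ^ k)
    (hXrep : ∀ g : G, (∃ k : ℕ, orderOf g = p ^ k) → ∃! x, x ∈ X ∧ IsConj g x) :
    ∑ t ∈ X.sigma (fun x => pairsAt M p B x), wctr p χ t.1 t.2 = 1 := by
  rw [Finset.sum_sigma, ← classInner_irr_self χ.2,
    classInner_sections hX hXrep (isClassFunction_of_isIrr χ.2) (isClassFunction_of_isIrr χ.2)]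
  refine Finset.sum_congr rfl fun x hx => ?_
  have := Fintype.ofFinite {b : Set (IrrCharacter (Cen (Subgroup.zpowers x))) // IsPBlock M b}
  rw [regSum_combination hM χ χ (fun b => ind M p B x b.1) (fun b => ind M p B x b.1)
    (fun c hc => mem_section hM hB hχ (hX x hx) hc) (fun c hc => mem_section hM hB hχ (hX x hx) hc),
    Finset.mul_sum]
  symm
  rw [← Finset.sum_filter_of_ne (p := fun b : {b : Set (IrrCharacter (Cen (Subgroup.zpowers x))) // IsPBlock M b} =>
    IsBrauerPairOf p M B (Subgroup.zpowers x) b.1) (fun b _ h => by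
      by_contra hb; exact h (by simp [ind, hb]))]
  refine Finset.sum_bij (fun b _ => (⟨Subgroup.zpowers x, b.1⟩ : BrauerPairIdx G)) (fun b hb => ?_)
    (fun b _ b' _ h => Subtype.ext (eq_of_heq (Sigma.mk.injEq .. ▸ h).2)) ?_ ?_
  · exact mem_pairsAt.mpr ⟨rfl, (Finset.mem_filter.mp hb).2⟩
  · rintro ⟨Q, f⟩ hf
    obtain ⟨hQ, hf'⟩ := mem_pairsAt.mp hf
    obtain rfl : Q = Subgroup.zpowers x := hQ
    exact ⟨⟨f, hf'.1.2⟩, Finset.mem_filter.mpr ⟨Finset.mem_univ _, hf'⟩, rfl⟩
  · intro b hb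
    rw [wctr, ind, if_pos (Finset.mem_filter.mp hb).2, map_one, mul_one, one_mul, regSum_eq_ctr]

/-- Orbit representatives of the stabiliser on central elements count major subsections. -/
theorem major_orbits_mul_pow_height_le (hM : IsPModular p M) (hmax : IsMaximalBrauerPair p M B P e)
    (hcard : Nat.card P = p ^ blockDefect p B) (R : Finset G)
    (hR : ∀ r ∈ R, r ∈ P ∧ ∀ y ∈ P, r * y = y * r)
    (huniq : ∀ r ∈ R, ∀ r' ∈ R, ∀ t ∈ stab M P e, t * r * t⁻¹ = r' → r = r')
    {χ : IrrCharacter G} (hχ : χ ∈ B) :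
    R.card * p ^ blockHeight p B (χ : G → ℂ) ≤ p ^ blockDefect p B := by
  have hP := hmax.1.1
  have hB := hmax.1.2.1
  obtain ⟨X, hX, hXrep⟩ := exists_reps (G := G) (p := p)
  have hordR : ∀ r : R, ∃ k : ℕ, orderOf (r : G) = p ^ k := fun r => exists_pow_of_mem hP.1 (hR _ r.2).1
  choose f hf using fun r : R =>
    (existsUnique_subpair hM (Subgroup.zpowers_le.mpr (hR _ r.2).1) hP).exists
  have hPC : ∀ r : R, P ≤ Cen (Subgroup.zpowers (r : G)) := fun r y hy => by
    rw [cen_zpowers]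
    exact Subgroup.mem_centralizer_singleton_iff.mpr ((hR _ r.2).2 y hy).symm
  choose x₀ hx₀ using fun r : R => (hXrep r.1 (hordR r)).exists
  choose g hg using fun r : R => isConj_iff.mp (hx₀ r).2
  let sec : R → Σ _ : G, BrauerPairIdx G := fun r => ⟨x₀ r, cjPair (g r) ⟨_, f r⟩⟩
  have hfst : ∀ r : R, (cjPair (g r) (⟨_, f r⟩ : BrauerPairIdx G)).1 = Subgroup.zpowers (x₀ r) :=
    fun r => by rw [cjPair_fst, map_conj_zpowers, hg r]
  have hpairR : ∀ r : R, IsBrauerPairOf p M B (Subgroup.zpowers (r : G)) (f r) := fun r =>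
    (brauerPairOf_iff_of_subpair hM (a := ⟨_, f r⟩) (b := ⟨P, e⟩) (hf r)).mp hmax.1
  have hmem : ∀ r : R, sec r ∈ X.sigma (fun x => pairsAt M p B x) := fun r =>
    Finset.mem_sigma.mpr ⟨(hx₀ r).1, mem_pairsAt.mpr ⟨hfst r, brauerPairOf_cjPair hM _ (hpairR r)⟩⟩
  have hinj : Function.Injective sec := fun r r' h => by
    obtain ⟨hx, ha⟩ := Sigma.mk.inj_iff.mp h
    have ha' : cjPair (g r) (⟨_, f r⟩ : BrauerPairIdx G) = cjPair (g r') ⟨_, f r'⟩ := eq_of_heq ha
    have hbr : IsBrauerPair p M (Subgroup.zpowers (r : G)) (f r) := (hpairR r).1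
    have hbr' : IsBrauerPair p M (Subgroup.zpowers (r' : G)) (f r') := (hpairR r').1
    have hcj : cjPair ((g r')⁻¹ * g r) (⟨_, f r⟩ : BrauerPairIdx G) = ⟨_, f r'⟩ := by
      rw [← cjPair_cjPair _ _ hbr, ha', cjPair_cjPair _ _ hbr', inv_mul_cancel, cjPair_one hbr']
    obtain ⟨t, ht, hts⟩ := exists_cen_mul_map_central hM hmax (hf r) (hf r') (hPC r) (hPC r') hcj
    refine Subtype.ext (huniq _ r.2 _ r'.2 _ hts ?_)
    have hc : t * (r' : G) = (r' : G) * t :=
      (Subgroup.mem_centralizer_iff.mp ht _ (Subgroup.mem_zpowers (r' : G))).symm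
    have e2 := hg r
    have e3 := hg r'
    rw [← hx, ← e2] at e3
    have e1 : (g r')⁻¹ * g r * (r : G) * ((g r')⁻¹ * g r)⁻¹ = r' := by
      calc (g r')⁻¹ * g r * (r : G) * ((g r')⁻¹ * g r)⁻¹
          = (g r')⁻¹ * (g r * (r : G) * (g r)⁻¹) * g r' := by group
        _ = (g r')⁻¹ * (g r' * (r' : G) * (g r')⁻¹) * g r' := by rw [e3]
        _ = r' := by group
    calc t * ((g r')⁻¹ * g r) * (r : G) * (t * ((g r')⁻¹ * g r))⁻¹
        = t * ((g r')⁻¹ * g r * (r : G) * ((g r')⁻¹ * g r)⁻¹) * t⁻¹ := by group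
      _ = r' := by rw [e1, hc, mul_inv_cancel_right]
  have hdR : ∀ r : R, blockDefect p (f r) = blockDefect p B := fun r => by
    have := Fintype.ofFinite (Cen (Subgroup.zpowers (r : G)))
    have h1 := card_defectGroup hM (hpairR r).1.2 (pairs_defect_central hM hmax (hf r) (hPC r))
    rw [card_subgroupOf' (hPC r), hcard] at h1
    exact (Nat.pow_right_injective hp.out.two_le h1).symm
  have hWR : ∀ r : R, wctr p χ (sec r).1 (sec r).2 =
      ctr p (r : G) (Cen (Subgroup.zpowers (r : G))) (f r) χ χ * ((p ^ blockDefect p B : ℕ) : ℂ)⁻¹ := fun r => by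
    show wctr p χ (x₀ r) (cjPair (g r) (⟨_, f r⟩ : BrauerPairIdx G)) = _
    rw [wctr, ← hg r]
    show ctr p _ (Cen ((Subgroup.zpowers (r : G)).map (MulAut.conj (g r)).toMonoidHom))
      (conjBlock (Subgroup.zpowers (r : G)) (g r) (f r)) χ χ * _ = _
    rw [conjBlock_eq_tblock, ctr_tblock (g r) (r : G) _ (fun c => rfl), ← hdR r]
    congr 3
    show p ^ blockDefect p (conjBlock (Subgroup.zpowers (r : G)) (g r) (f r)) = _
    rw [conjBlock_eq_tblock, blockDefect_tblock]
  choose w hwint hwne hw using fun r : R =>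
    exists_major_contrib (cen_zpowers (r : G)) hM (hordR r)
      ((brauerPairOf_iff_induced hM (NilBlock.isPGroup_zpowers (hordR r)) (hpairR r).1.2 hB).mp (hpairR r))
      (hdR r) hχ
  set h := blockHeight p B (χ : G → ℂ)
  have hph : (0 : ℝ) < ((p ^ h : ℕ) : ℝ) := Nat.cast_pos.mpr (pow_pos hp.out.pos _)
  have hwnn : ∀ (r : R) (σ : ℂ ≃+* ℂ), ∃ t : ℝ, 0 ≤ t ∧ σ (w r) = (t : ℂ) := fun r σ => by
    obtain ⟨t, ht, he⟩ := ctr_self_galois_nonneg (p := p) (cen_zpowers (r : G)) (f r) χ σ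
    refine ⟨t / ((p ^ h : ℕ) : ℝ), div_nonneg ht hph.le, ?_⟩
    rw [hw r, map_mul, map_natCast] at he
    rw [Complex.ofReal_div, ← he, Complex.ofReal_natCast,
      mul_div_cancel_left₀ _ (Nat.cast_ne_zero.mpr (pow_ne_zero _ hp.out.ne_zero))]
  choose T hT0 hT using hwnn
  obtain ⟨σ, hσ⟩ := exists_conjugate_ge_one (z := ∏ r : R, w r) (IsIntegral.prod _ fun r _ => hwint r)
    (Finset.prod_ne_zero_iff.mpr fun r _ => hwne r)
    (fun σ => ⟨∏ r : R, T r σ, Finset.prod_nonneg fun r _ => hT0 r σ, by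
      rw [map_prod, Complex.ofReal_prod]; exact Finset.prod_congr rfl fun r _ => hT r σ⟩)
  rw [map_prod, Finset.prod_congr rfl fun r _ => hT r σ, ← Complex.ofReal_prod, Complex.ofReal_re] at hσ
  have hpos : ∀ r : R, 0 < T r σ := fun r => lt_of_le_of_ne (hT0 r σ) fun h0 => by
    have := hT r σ
    rw [← h0, Complex.ofReal_zero, map_eq_zero_iff σ σ.injective] at this
    exact hwne r this
  have hAM : (R.card : ℝ) ≤ ∑ r : R, T r σ := by
    have h2 := Real.log_nonneg hσ
    rw [Real.log_prod (fun r _ => (hpos r).ne')] at h2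
    have h3 : ∑ r : R, Real.log (T r σ) ≤ ∑ r : R, (T r σ - 1) :=
      Finset.sum_le_sum fun r _ => Real.log_le_sub_one_of_pos (hpos r)
    rw [Finset.sum_sub_distrib, Finset.sum_const, nsmul_eq_mul, mul_one, Finset.card_univ,
      Fintype.card_coe] at h3
    linarith
  have hnn : ∀ t ∈ X.sigma (fun x => pairsAt M p B x), ∃ u : ℝ, 0 ≤ u ∧ σ (wctr p χ t.1 t.2) = (u : ℂ) :=
    fun t ht => wctr_nonneg (mem_pairsAt.mp (Finset.mem_sigma.mp ht).2).1 χ σ
  choose! U hU0 hU using hnn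
  have htot : ∑ t ∈ X.sigma (fun x => pairsAt M p B x), U t = 1 := by
    apply Complex.ofReal_injective
    rw [Complex.ofReal_sum, ← Finset.sum_congr rfl hU, ← map_sum, sum_wctr hM hB hχ hX hXrep, map_one,
      Complex.ofReal_one]
  have hsub : ∑ r : R, U (sec r) ≤ 1 := by
    rw [← htot, ← Finset.sum_image fun r _ r' _ h' => hinj h']
    refine Finset.sum_le_sum_of_subset_of_nonneg (fun t ht => ?_) fun t ht _ => hU0 t ht
    obtain ⟨r, -, rfl⟩ := Finset.mem_image.mp ht
    exact hmem r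
  have hUR : ∀ r : R, U (sec r) = ((p ^ h : ℕ) : ℝ) * T r σ / ((p ^ blockDefect p B : ℕ) : ℝ) := fun r => by
    apply Complex.ofReal_injective
    rw [← hU _ (hmem r), hWR r, map_mul, hw r, map_mul, map_inv₀, map_natCast, map_natCast, hT r σ,
      Complex.ofReal_div, Complex.ofReal_mul, Complex.ofReal_natCast, Complex.ofReal_natCast, div_eq_mul_inv]
  rw [Finset.sum_congr rfl fun r _ => hUR r, ← Finset.sum_div, ← Finset.mul_sum,
    div_le_one (Nat.cast_pos.mpr (pow_pos hp.out.pos _))] at hsub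
  have : ((R.card * p ^ h : ℕ) : ℝ) ≤ ((p ^ blockDefect p B : ℕ) : ℝ) := by
    refine le_trans ?_ hsub
    rw [Nat.cast_mul, mul_comm]
    exact mul_le_mul_of_nonneg_left hAM hph.le
  exact_mod_cast this

end CfsgLib.BlockArith
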