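import Cfsg.Agent.Lib.Blocks.BlockDim
import Cfsg.Agent.Lib.BlockArith.FieldRank

/-!
# Counting the blocks with a normal defect group
-/

set_option autoImplicit false

noncomputable section

namespace CfsgLib.BlockArith

open Cfsg CfsgLib.Blocks
open scoped ComplexConjugate

variable {M : Ideal AlgInt} [M.IsMaximal] {G : Type*} [Group G] [Fintype G] {p : ℕ} [hp : Fact p.Prime]

theorem zclass_eq_of_isConj {g h : G} (hc : IsConj g h) : zclass M g = zclass M h := by
  classical
  exact Subtype.ext (MonoidAlgebra.coeff_injective (Finsupp.ext fun x => by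
    rw [coe_zclass, coe_zclass, classSum_coeff, classSum_coeff]
    exact if_congr ⟨hc.symm.trans, hc.trans⟩ rfl rfl))

open Classical in
/-- Pairs in two classes with quotient in a subgroup, as a sum of coefficients. -/
theorem card_pairs (S : Subgroup G) (x y : G) :
    (Nat.card {yz : G × G // IsConj x yz.1 ∧ IsConj y yz.2 ∧ yz.2 * yz.1⁻¹ ∈ S} : ℂ) =
      ∑ s : S, ((zclass M y * zclass M x⁻¹ : Zint M G) : CA G).coeff (s : G) := by
  classical
  simp only [Subring.coe_mul, coeff_mul_eq_sum, coe_zclass, classSum_coeff, ite_mul, one_mul, zero_mul]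
  have hinv : ∀ (z : G) (s : S), IsConj x⁻¹ (z⁻¹ * (s : G)) ↔ IsConj x ((s : G)⁻¹ * z) := fun z s => by
    rw [isConj_iff, isConj_iff]
    refine exists_congr fun c => ⟨fun h => ?_, fun h => ?_⟩
    · have := congrArg (·⁻¹) h
      simpa [mul_assoc] using this
    · have := congrArg (·⁻¹) h
      simpa [mul_assoc] using this
  let e : {yz : G × G // IsConj x yz.1 ∧ IsConj y yz.2 ∧ yz.2 * yz.1⁻¹ ∈ S} ≃
      {sz : S × G // IsConj y sz.2 ∧ IsConj x⁻¹ (sz.2⁻¹ * (sz.1 : G))} :=
    { toFun := fun a => ⟨(⟨a.1.2 * a.1.1⁻¹, a.2.2.2⟩, a.1.2), a.2.2.1, (hinv _ _).mpr (by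
        simpa [mul_assoc] using a.2.1)⟩
      invFun := fun b => ⟨((b.1.1 : G)⁻¹ * b.1.2, b.1.2), (hinv _ _).mp b.2.2, b.2.1, by simp⟩
      left_inv := fun a => by ext <;> simp [mul_assoc]
      right_inv := fun b => by ext <;> simp [mul_assoc] }
  rw [Nat.card_congr e, Nat.card_eq_fintype_card, Fintype.card_subtype, Finset.card_filter, Nat.cast_sum,
    Fintype.sum_prod_type]
  refine Finset.sum_congr rfl fun s _ => Finset.sum_congr rfl fun z _ => ?_
  simp only [Nat.cast_ite, Nat.cast_one, Nat.cast_zero, ite_and]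

theorem card_blocks_normal_defect (hM : IsPModular p M) (D : Subgroup G) [D.Normal] (hD : IsPGroup p D)
    (S : Sylow p G) {ι : Type*} [Fintype ι] [DecidableEq ι] (K : ι → ConjClasses G)
    (hKinj : Function.Injective K)
    (hK : ∀ C : ConjClasses G, (∃ i, K i = C) ↔ ¬ p ∣ orderOf C.out ∧
      D ≤ Subgroup.centralizer ({C.out} : Set G) ∧
      (Nat.card (Subgroup.centralizer ({C.out} : Set G))).factorization p = (Nat.card D).factorization p) :
    Nat.card {B : Set (IrrCharacter G) // IsPBlock M B ∧ IsDefectGroup p M B D} =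
      (Matrix.of fun i j : ι => ((Nat.card {yz : G × G // IsConj (K i).out yz.1 ∧ IsConj (K j).out yz.2 ∧
        yz.2 * yz.1⁻¹ ∈ (S : Subgroup G)} /
        p ^ ((Nat.card G).factorization p - (Nat.card D).factorization p) : ℕ) : ZMod p)).rank := by
  classical
  have : CharP (Res M) p := res_charP M hM
  have : Finite (ConjClasses G) := Finite.of_surjective _ ConjClasses.mk_surjective
  have := Fintype.ofFinite (ConjClasses G)
  set a := (Nat.card G).factorization p with ha
  set d := (Nat.card D).factorization p with hd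
  set 𝔅 := {B : Set (IrrCharacter G) // IsPBlock M B ∧ IsDefectGroup p M B D} with h𝔅
  have := Fintype.ofFinite 𝔅
  have hx : ∀ i, ¬ p ∣ orderOf (K i).out ∧ D ≤ Subgroup.centralizer ({(K i).out} : Set G) ∧
      (Nat.card (Subgroup.centralizer ({(K i).out} : Set G))).factorization p = d :=
    fun i => (hK _).mp ⟨i, rfl⟩
  have hcinv : ∀ g : G, Subgroup.centralizer ({g⁻¹} : Set G) = Subgroup.centralizer ({g} : Set G) := fun g => by
    ext x
    simp only [Subgroup.mem_centralizer_iff, Set.mem_singleton_iff, forall_eq]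
    exact ⟨fun h => by simpa using (Commute.inv_left (show Commute g⁻¹ x from h)).eq,
      fun h => (Commute.inv_left (show Commute g x from h)).eq⟩
  have hDd : Nat.card D = p ^ d := by
    obtain ⟨k, hk⟩ := IsPGroup.iff_card.mp hD
    rw [hd, hk, hp.out.factorization_pow, Finsupp.single_eq_same]
  have hda : d ≤ a := by
    rw [hd, ha]
    exact (Nat.factorization_le_iff_dvd Nat.card_pos.ne' Nat.card_pos.ne').mpr D.card_subgroup_dvd_card p
  -- blocks of defect at most `d` have defect group `D`
  have hge : ∀ {B : Set (IrrCharacter G)}, IsPBlock M B → d ≤ blockDefect p B ∧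
      (blockDefect p B ≤ d → IsDefectGroup p M B D) := by
    intro B hB
    obtain ⟨E, hE⟩ := exists_isDefectGroup (p := p) hB
    have hle : D ≤ E := normal_le_defect hM hB hE hD
    have hc := Subgroup.card_le_of_le hle
    rw [hDd, card_defectGroup hM hB hE, Nat.pow_le_pow_iff_right hp.out.one_lt] at hc
    refine ⟨hc, fun h => ?_⟩
    have hED : D = E := Subgroup.eq_of_le_of_card_ge hle (by
      rw [hDd, card_defectGroup hM hB hE]; exact Nat.pow_le_pow_right hp.out.pos h)
    rwa [hED]
  have hblkd : ∀ B : 𝔅, blockDefect p B.1 = d := fun B => by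
    have h := card_defectGroup hM B.2.1 B.2.2
    rw [hDd] at h
    exact (Nat.pow_right_injective hp.out.two_le h).symm
  choose rep hrep using fun B : 𝔅 => IsPBlock.nonempty B.2.1
  -- the inverse classes
  have hσ : ∀ i, ∃ j, K j = ConjClasses.mk (K i).out⁻¹ := by
    intro i
    refine (hK _).mpr ?_
    obtain ⟨c, hc⟩ : IsConj (K i).out⁻¹ (ConjClasses.mk (K i).out⁻¹).out :=
      (ConjClasses.mk_eq_mk_iff_isConj.mp (Quotient.out_eq (ConjClasses.mk (K i).out⁻¹))).symm
    obtain ⟨h1, h2, h3⟩ := hx i
    set g := (ConjClasses.mk (K i).out⁻¹).out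
    have hc' : (c : G) * (K i).out⁻¹ * (c : G)⁻¹ = g := mul_inv_eq_iff_eq_mul.mpr hc
    refine ⟨?_, ?_, ?_⟩
    · rw [← hc', show orderOf ((c : G) * (K i).out⁻¹ * (c : G)⁻¹) = orderOf (K i).out⁻¹ from
        orderOf_injective (MulAut.conj (c : G)).toMonoidHom (MulAut.conj (c : G)).injective _, orderOf_inv]
      exact h1
    · intro x hxD
      have hx' := h2 ((‹D.Normal›).conj_mem x hxD (c : G)⁻¹)
      rw [← hcinv] at hx'
      rw [Subgroup.mem_centralizer_singleton_iff, ← hc']
      have h4 := Subgroup.mem_centralizer_singleton_iff.mp hx'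
      rw [inv_inv] at h4
      calc x * ((c : G) * (K i).out⁻¹ * (c : G)⁻¹)
          = (c : G) * (((c : G)⁻¹ * x * (c : G)) * (K i).out⁻¹) * (c : G)⁻¹ := by group
        _ = (c : G) * ((K i).out⁻¹ * ((c : G)⁻¹ * x * (c : G))) * (c : G)⁻¹ := by rw [h4]
        _ = _ := by group
    · have e1 := index_centralizer_factorization p (K i).out⁻¹
      have e2 := index_centralizer_factorization p g
      rw [← CfsgLib.Char.card_isConj_eq_index] at e1 e2
      have hcj : IsConj (K i).out⁻¹ g := ⟨c, hc⟩
      rw [show Nat.card {x : G // IsConj g x} = Nat.card {x : G // IsConj (K i).out⁻¹ x} from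
        Nat.card_congr (Equiv.subtypeEquivRight fun x => ⟨hcj.trans, hcj.symm.trans⟩)] at e2
      rw [hcinv, h3] at e1
      omega
  choose σ hσ using hσ
  have hσc : ∀ i, IsConj (K (σ i)).out (K i).out⁻¹ := fun i =>
    ConjClasses.mk_eq_mk_iff_isConj.mp ((Quotient.out_eq (K (σ i))).trans (hσ i))
  have hσinj : Function.Injective σ := by
    intro i j hij
    apply hKinj
    have h : IsConj (K i).out⁻¹ (K j).out⁻¹ := (hσc i).symm.trans (hij ▸ hσc j)
    have h' : IsConj (K i).out (K j).out := by
      obtain ⟨c, hc⟩ := isConj_iff.mp h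
      exact isConj_iff.mpr ⟨c, by
        have := congrArg (·⁻¹) hc
        simpa [mul_assoc] using this⟩
    exact (Quotient.out_eq (K i)).symm.trans
      ((ConjClasses.mk_eq_mk_iff_isConj.mpr h').trans (Quotient.out_eq (K j)))
  have hbij : Function.Bijective σ := (Finite.injective_iff_bijective).mp hσinj
  -- the matrices
  let W : Matrix ι 𝔅 (Res M) := Matrix.of fun j B => bomega (rep B) (zclass M (K j).out)
  let W' : Matrix ι 𝔅 (Res M) := Matrix.of fun i B => bomega (rep B) (zclass M (K i).out⁻¹)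
  let E : Matrix 𝔅 ι (Res M) := Matrix.of fun B j => rcoeff (idem B.2.1) (K j).out
  let E' : Matrix 𝔅 ι (Res M) := Matrix.of fun B i => rcoeff (idem B.2.1) (K i).out⁻¹
  have hEW : E * W = 1 := by
    refine Matrix.ext fun B B' => ?_
    rw [Matrix.mul_apply, Matrix.one_apply]
    have h1 : bomega (rep B') (idem B.2.1) = if B = B' then (1 : Res M) else 0 := by
      rw [bomega_idem]
      by_cases h : B = B'
      · subst h; rw [if_pos (hrep B), if_pos rfl]
      · rw [if_neg h, if_neg]
        exact fun hm => h (Subtype.ext (isPBlock_eq_of_mem B.2.1 B'.2.1 hm (hrep B')))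
    rw [← h1, bomega_eq_sum, ← Finset.sum_subset (Finset.subset_univ (Finset.univ.image K))]
    · rw [Finset.sum_image fun i _ j _ h => hKinj h]
      rfl
    · intro C _ hC
      by_contra hne
      have hr := left_ne_zero_of_mul hne
      have hw := right_ne_zero_of_mul hne
      have hCD := mem_centralizer_of_bomega_ne_zero hM hD hw
      have hl := le_blockDefect_of_rcoeff_ne_zero hM B.2.1 hr
      have hu := blockDefect_le_of_bomega_ne_zero hM B'.2.1 (hrep B') hw
      rw [hblkd] at hl hu
      obtain ⟨i, hi⟩ := (hK C).mpr ⟨fun h => hr (rcoeff_idem_singular hM B.2.1 h), fun x hxD =>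
        Subgroup.mem_centralizer_singleton_iff.mpr (Subgroup.mem_centralizer_iff.mp hCD x hxD), by omega⟩
      exact hC (Finset.mem_image.mpr ⟨i, Finset.mem_univ _, hi⟩)
  have hEW' : E' * W' = 1 := by
    refine Eq.trans (Matrix.ext fun B B' => ?_) hEW
    rw [Matrix.mul_apply, Matrix.mul_apply, ← Equiv.sum_comp (Equiv.ofBijective σ hbij)
      (fun j => E B j * W j B')]
    refine Finset.sum_congr rfl fun i _ => ?_
    simp only [E, E', W, W', Matrix.of_apply, Equiv.ofBijective_apply]
    rw [rcoeff_eq_of_isConj _ (hσc i), zclass_eq_of_isConj (hσc i)]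
  -- the middle diagonal
  set u : locRing M := ⟨((p ^ a : ℕ) : ℂ) / (Nat.card G : ℂ), frac_mem_locRing hM Nat.card_pos.ne' (.inr (by
    rw [hp.out.factorization_pow, Finsupp.single_eq_same]))⟩ with hu
  have hmult : ∀ χ : IrrCharacter G, ∃ n : ℕ,
      ∑ s : (S : Subgroup G), conj ((χ : G → ℂ) (s : G)) = ((p ^ a : ℕ) : ℂ) * (n : ℂ) := by
    intro χ
    have := Fintype.ofFinite (S : Subgroup G)
    obtain ⟨n, hn⟩ := CfsgLib.Char.classInner_char_nat
      (CfsgLib.Char.isCharacter_res (S : Subgroup G) (CfsgLib.Char.isCharacter_of_isIrr χ.2))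
      (CfsgLib.Char.isCharacter_of_isIrr (CfsgLib.Char.irrOne (G := (S : Subgroup G))).2)
    refine ⟨n, ?_⟩
    rw [CfsgLib.Char.classInner_def, inv_mul_eq_iff_eq_mul₀ CfsgLib.Char.card_ne_zero'] at hn
    have hS : Nat.card (S : Subgroup G) = p ^ a := S.card_eq_multiplicity
    rw [hS] at hn
    have h2 := congrArg conj hn
    rw [map_sum, map_mul, Complex.conj_natCast, Complex.conj_natCast] at h2
    refine Eq.trans (Finset.sum_congr (by ext; simp) fun s _ => ?_) h2
    simp [CfsgLib.Char.irrOne]
  choose mult hmult using hmult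
  let c : 𝔅 → Res M := fun B =>
    res M u * ∑ χ : IrrCharacter G, if χ ∈ B.1 then (mult χ : Res M) * kappa M p B.1 χ else 0
  have hc : ∀ B, c B ≠ 0 := by
    intro B
    obtain ⟨w, hw, he⟩ := exists_coeff_one hM B.2.1
    rw [hblkd B, ← ha] at he
    suffices h : c B = res M w by rw [h]; exact hw
    have hfr : ∀ χ : IrrCharacter G, χ ∈ B.1 →
        (charDegree (χ : G → ℂ) : ℂ) / ((p ^ (a - d) : ℕ) : ℂ) ∈ locRing M := fun χ hχ => by
      have h := degree_frac_mem (p := p) hM B.2.1 hχ
      rwa [hblkd B] at h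
    let κ : IrrCharacter G → locRing M := fun χ =>
      if h : χ ∈ B.1 then ⟨_, hfr χ h⟩ else 0
    have h1 : c B = res M (u * ∑ χ : IrrCharacter G, (mult χ : locRing M) * κ χ) := by
      rw [map_mul, map_sum]
      refine congrArg (res M u * ·) (Finset.sum_congr rfl fun χ _ => ?_)
      by_cases hχ : χ ∈ B.1
      · rw [if_pos hχ, map_mul, map_natCast]
        simp only [κ, dif_pos hχ]
        rw [kappa, dif_pos (degree_frac_mem hM B.2.1 hχ)]
        congr 2
        simp only [hblkd B, ha]
      · simp [κ, hχ]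
    rw [h1]
    refine congrArg (res M) (Subtype.ext ?_)
    rw [Subring.coe_mul, AddSubmonoidClass.coe_finsetSum]
    have h2 : ((p ^ a : ℕ) : ℂ) * ∑ χ : IrrCharacter G, (((mult χ : locRing M) * κ χ : locRing M) : ℂ) =
        (Nat.card G : ℂ) * blockCoeff B.1 1 / ((p ^ (a - d) : ℕ) : ℂ) := by
      have h3 : ∑ s : (S : Subgroup G), ∑ χ : IrrCharacter G,
          (if χ ∈ B.1 then (χ : G → ℂ) 1 * conj ((χ : G → ℂ) (s : G)) else 0) =
          (Nat.card G : ℂ) * blockCoeff B.1 1 := by
        rw [Finset.sum_eq_single (1 : (S : Subgroup G))]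
        · rw [blockCoeff_eq, ← mul_assoc, mul_inv_cancel₀ CfsgLib.Char.card_ne_zero', one_mul]
          exact Finset.sum_congr rfl fun χ _ => by simp
        · intro s _ hs
          refine weak_orthogonality hM B.2.1 (by rw [orderOf_one]; exact hp.out.not_dvd_one) ?_
          obtain ⟨k, hk⟩ := IsPGroup.iff_orderOf.mp S.isPGroup' s
          rw [Subgroup.orderOf_coe, hk]
          refine dvd_pow_self p fun h0 => hs ?_
          rw [h0, pow_zero, orderOf_eq_one_iff] at hk
          exact hk
        · simp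
      rw [← h3, Finset.sum_comm, Finset.mul_sum, Finset.sum_div]
      refine Finset.sum_congr rfl fun χ _ => ?_
      by_cases hχ : χ ∈ B.1
      · simp only [if_pos hχ, κ, dif_pos hχ]
        rw [Subring.coe_mul, ← Finset.mul_sum, hmult χ,
          charDegree_eq (CfsgLib.Char.isCharacter_of_isIrr χ.2)]
        push_cast
        ring
      · simp [κ, hχ]
    have hG : (Nat.card G : ℂ) ≠ 0 := CfsgLib.Char.card_ne_zero'
    show ((p ^ a : ℕ) : ℂ) / (Nat.card G : ℂ) * _ = _
    rw [div_mul_eq_mul_div, h2, he, mul_comm ((p ^ (a - d) : ℕ) : ℂ) (w : ℂ), ← mul_assoc,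
      mul_div_assoc, div_self (by exact_mod_cast pow_ne_zero _ hp.out.ne_zero), mul_one,
      mul_div_assoc, mul_comm, div_mul_cancel₀ _ hG]
  -- the count matrix
  set N : Matrix ι ι (ZMod p) := Matrix.of fun i j : ι => ((Nat.card {yz : G × G //
    IsConj (K i).out yz.1 ∧ IsConj (K j).out yz.2 ∧ yz.2 * yz.1⁻¹ ∈ (S : Subgroup G)} /
      p ^ (a - d) : ℕ) : ZMod p)
  let f : ZMod p →+* Res M := ZMod.castHom dvd_rfl (Res M)
  have hN : N.map f = W' * Matrix.diagonal c * W.transpose := by
    refine Matrix.ext fun i j => ?_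
    have htfr : ∀ χ : IrrCharacter G, (χ : G → ℂ) (K i).out⁻¹ *
        (((Subgroup.centralizer ({(K i).out} : Set G)).index : ℂ) / ((p ^ (a - d) : ℕ) : ℂ)) ∈ locRing M :=
      fun χ => Subring.mul_mem _ (algInt_le_locRing M
        (CfsgLib.Char.char_isIntegral (CfsgLib.Char.isCharacter_of_isIrr χ.2) _))
        (frac_mem_locRing hM (pow_ne_zero _ hp.out.ne_zero) (.inr (by
          rw [hp.out.factorization_pow, Finsupp.single_eq_same]
          have := index_centralizer_factorization p (K i).out
          have := (hx i).2.2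
          omega)))
    let T : IrrCharacter G → locRing M := fun χ =>
      u * (mult χ : locRing M) * zomega χ (zclass M (K j).out) * ⟨_, htfr χ⟩
    set m := Nat.card {yz : G × G // IsConj (K i).out yz.1 ∧ IsConj (K j).out yz.2 ∧
      yz.2 * yz.1⁻¹ ∈ (S : Subgroup G)} with hm
    have hmT : (m : ℂ) = ((p ^ (a - d) : ℕ) : ℂ) * ((∑ χ, T χ : locRing M) : ℂ) := by
      have := Fintype.ofFinite (S : Subgroup G)
      rw [hm, card_pairs (M := M), AddSubmonoidClass.coe_finsetSum, Finset.mul_sum]
      simp only [coeff_eq_sum_omega (Zint_center _), Finset.mul_sum]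
      rw [Finset.sum_comm]
      refine Finset.sum_congr rfl fun χ _ => ?_
      have e1 : omega (χ : G → ℂ) ((zclass M (K j).out * zclass M (K i).out⁻¹ : Zint M G) : CA G) *
          (χ : G → ℂ) 1 = ((zomega χ (zclass M (K j).out) : locRing M) : ℂ) *
            (((Subgroup.centralizer ({(K i).out} : Set G)).index : ℂ) * (χ : G → ℂ) (K i).out⁻¹) := by
        rw [← coe_zomega, map_mul, Subring.coe_mul, mul_assoc,
          charDegree_eq (CfsgLib.Char.isCharacter_of_isIrr χ.2), coe_zomega_zclass', hcinv]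
      rw [← Finset.mul_sum, ← Finset.mul_sum, ← Finset.mul_sum, hmult χ, ← mul_assoc (omega _ _), e1]
      have hpa : ((p ^ (a - d) : ℕ) : ℂ) ≠ 0 := by exact_mod_cast pow_ne_zero _ hp.out.ne_zero
      have hG : (Nat.card G : ℂ) ≠ 0 := CfsgLib.Char.card_ne_zero'
      simp only [T, hu, Subring.coe_mul]
      push_cast at hpa ⊢
      field_simp
    have hdvd : p ^ (a - d) ∣ m := by
      rcases Nat.eq_zero_or_pos m with h0 | h0
      · rw [h0]; exact dvd_zero _
      have hle := factorization_le_of_frac_mem hM (n := m) h0.ne' (pow_ne_zero (a - d) hp.out.ne_zero) (by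
        rw [hmT, mul_div_assoc, mul_comm, div_mul_cancel₀]
        · exact (∑ χ, T χ).2
        · exact_mod_cast pow_ne_zero _ hp.out.ne_zero)
      rw [hp.out.factorization_pow, Finsupp.single_eq_same] at hle
      exact (hp.out.pow_dvd_iff_le_factorization h0.ne').mpr hle
    have hq : ((m / p ^ (a - d) : ℕ) : Res M) = res M (∑ χ, T χ) := by
      rw [← map_natCast (res M)]
      refine congrArg (res M) (Subtype.ext ?_)
      rw [SubringClass.coe_natCast, Nat.cast_div hdvd (by exact_mod_cast pow_ne_zero _ hp.out.ne_zero),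
        hmT, mul_comm, mul_div_assoc, div_self (by exact_mod_cast pow_ne_zero _ hp.out.ne_zero), mul_one]
    simp only [N, Matrix.map_apply, Matrix.of_apply, ← hm, map_natCast, hq, map_sum]
    rw [Matrix.mul_assoc, Matrix.mul_apply]
    simp only [Matrix.diagonal_mul, Matrix.transpose_apply, W, W', c, Matrix.of_apply]
    simp only [Finset.mul_sum, Finset.sum_mul]
    rw [Finset.sum_comm]
    refine Finset.sum_congr rfl fun χ _ => ?_
    simp only [T, map_mul, map_natCast, ← bomega_apply]
    by_cases hχ : ∃ B : 𝔅, χ ∈ B.1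
    · obtain ⟨B, hχB⟩ := hχ
      rw [Finset.sum_eq_single B (fun B' _ hne => ?_) (by simp), if_pos hχB]
      · have ht : res M ⟨_, htfr χ⟩ = kappa M p B.1 χ * bomega χ (zclass M (K i).out⁻¹) := by
          rw [kappa, dif_pos (degree_frac_mem hM B.2.1 hχB), bomega_apply, ← map_mul]
          refine congrArg (res M) (Subtype.ext ?_)
          rw [Subring.coe_mul]
          simp only [hblkd B, ← ha]
          have h5 := coe_zomega_zclass' (M := M) χ (K i).out⁻¹
          rw [hcinv] at h5
          have hpa : ((p ^ (a - d) : ℕ) : ℂ) ≠ 0 := by exact_mod_cast pow_ne_zero _ hp.out.ne_zero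
          push_cast at hpa ⊢
          field_simp
          linear_combination -h5
        rw [ht, bomega_eq_of_mem B.2.1 (hrep B) hχB]
        ring
      · rw [if_neg fun h => hne (Subtype.ext (isPBlock_eq_of_mem B'.2.1 B.2.1 h hχB))]
        ring
    · have h0 : bomega χ (zclass M (K j).out) = 0 := by
        by_contra h
        have hle := blockDefect_le_of_bomega_ne_zero hM (isPBlock_blockOf χ) (mem_blockOf_self χ) h
        rw [(hx j).2.2] at hle
        exact hχ ⟨⟨_, isPBlock_blockOf χ, (hge (isPBlock_blockOf χ)).2 hle⟩, mem_blockOf_self χ⟩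
      rw [Finset.sum_eq_zero fun B _ => by rw [if_neg fun h => hχ ⟨B, h⟩]; ring, h0]
      ring
  -- ranks
  let _ : Field (Res M) := Ideal.Quotient.field M
  rw [Nat.card_eq_fintype_card, ← rank_map_field f N, hN]
  refine le_antisymm ?_ ?_
  · have h1 : E' * (W' * Matrix.diagonal c * W.transpose) * E.transpose = Matrix.diagonal c := by
      rw [← Matrix.mul_assoc, ← Matrix.mul_assoc, hEW', Matrix.one_mul, Matrix.mul_assoc,
        ← Matrix.transpose_mul, hEW, Matrix.transpose_one, Matrix.mul_one]
    have h2 : (Matrix.diagonal c).rank = Fintype.card 𝔅 := by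
      rw [Matrix.rank_diagonal]
      exact Fintype.card_congr (Equiv.subtypeUnivEquiv hc)
    rw [← h2]
    conv_lhs => rw [← h1]
    exact (Matrix.rank_mul_le_left _ _).trans (Matrix.rank_mul_le_right _ _)
  · exact (Matrix.rank_mul_le_left _ _).trans
      ((Matrix.rank_mul_le_left _ _).trans (Matrix.rank_le_card_width _))

end CfsgLib.BlockArith
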