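import Cfsg.Agent.Lib.Blocks.SecondMain
import Cfsg.Prelude.Def_BlockRank
import Mathlib.LinearAlgebra.Trace

/-!
# The `p`-regular rank of a block as a trace

* `blockKer p B`: the projection onto the span of the regular parts of the members of a block;
* `blockKer_sum_mul`: it is idempotent;
* `blockRank_eq_trace`, `card_mul_blockRank`: `|G| l(B) = ∑_{χ ∈ B} ∑_{s regular} |χ(s)|²`.
-/

set_option autoImplicit false

noncomputable section

namespace CfsgLib.BlockArith

open Cfsg CfsgLib.Blocks
open scoped ComplexConjugate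

variable {G : Type*} [Group G] [Fintype G] {M : Ideal AlgInt} [M.IsMaximal] {p : ℕ}

open Classical in
/-- The kernel of the projection onto the regular parts of a set of characters. -/
def blockKer (p : ℕ) (B : Set (IrrCharacter G)) : Matrix G G ℂ := Matrix.of fun s c =>
  if p ∣ orderOf s ∨ p ∣ orderOf c then 0 else
    (Nat.card G : ℂ)⁻¹ * ∑ χ : IrrCharacter G,
      (if χ ∈ B then (χ : G → ℂ) s * conj ((χ : G → ℂ) c) else 0)

omit [M.IsMaximal] in
theorem pRegularPart_apply (f : G → ℂ) (s : G) [Decidable (p ∣ orderOf s)] :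
    pRegularPart p f s = if p ∣ orderOf s then 0 else f s := by
  classical
  simp only [pRegularPart, IsPRegular]
  by_cases h : p ∣ orderOf s <;> simp [h]

omit [M.IsMaximal] in
theorem blockKer_mulVec (B : Set (IrrCharacter G)) (f : G → ℂ) :
    (blockKer p B).mulVec f = pRegularPart p (blockPart B (pRegularPart p f)) := by
  classical
  funext s
  rw [pRegularPart_apply, blockPart_eq_sum]
  simp only [Matrix.mulVec, dotProduct, blockKer, Matrix.of_apply, pRegularPart_apply]
  by_cases hs : p ∣ orderOf s
  · simp [hs]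
  · rw [if_neg hs, Finset.mul_sum]
    refine Finset.sum_congr rfl fun c _ => ?_
    by_cases hc : p ∣ orderOf c
    · simp [hc]
    · simp only [hs, hc, or_self, if_false]
      ring

/-- It fixes the regular parts of the members of the block. -/
theorem blockKer_mulVec_self (hM : IsPModular p M) {B : Set (IrrCharacter G)} (hB : IsPBlock M B)
    {χ : IrrCharacter G} (hχ : χ ∈ B) :
    (blockKer p B).mulVec (pRegularPart p (χ : G → ℂ)) = pRegularPart p (χ : G → ℂ) := by
  classical
  rw [blockKer_mulVec]
  funext s
  simp only [pRegularPart_apply]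
  split_ifs with hs
  · rfl
  have h1 : blockPart B (pRegularPart p (pRegularPart p (χ : G → ℂ))) s = blockPart B (χ : G → ℂ) s :=
    blockPart_congr_regular hM hB hs fun c hc => by simp [pRegularPart_apply, hc]
  rw [h1, blockPart_apply, Finset.sum_eq_single χ (fun ψ _ hne => ?_) (by simp), if_pos hχ,
    CfsgLib.Char.classInner_irr_self χ.2, one_mul]
  split_ifs
  · rw [CfsgLib.Char.classInner_irr_ne χ.2 ψ.2 fun h => hne (Subtype.ext h).symm, zero_mul]
  · rfl

omit [M.IsMaximal] in
theorem blockKer_mulVec_mem (B : Set (IrrCharacter G)) (f : G → ℂ) :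
    (blockKer p B).mulVec f ∈
      Submodule.span ℂ ((fun χ : IrrCharacter G => pRegularPart p (χ : G → ℂ)) '' B) := by
  classical
  rw [blockKer_mulVec, show pRegularPart p (blockPart B (pRegularPart p f)) =
      ∑ χ : IrrCharacter G, if χ ∈ B then
        classInner (pRegularPart p f) (χ : G → ℂ) • pRegularPart p (χ : G → ℂ) else 0 from ?_]
  · refine Submodule.sum_mem _ fun χ _ => ?_
    split_ifs with h
    · exact Submodule.smul_mem _ _ (Submodule.subset_span ⟨χ, h, rfl⟩)
    · exact Submodule.zero_mem _
  · funext s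
    rw [pRegularPart_apply, blockPart_apply, Finset.sum_apply]
    split_ifs with hs
    · exact (Finset.sum_eq_zero fun χ _ => by split_ifs <;> simp [pRegularPart_apply, hs]).symm
    · exact Finset.sum_congr rfl fun χ _ => by split_ifs <;> simp [pRegularPart_apply, hs]

theorem blockKer_isProj (hM : IsPModular p M) {B : Set (IrrCharacter G)} (hB : IsPBlock M B) :
    LinearMap.IsProj (Submodule.span ℂ ((fun χ : IrrCharacter G => pRegularPart p (χ : G → ℂ)) '' B))
      (blockKer p B).mulVecLin := by
  refine ⟨fun f => blockKer_mulVec_mem B f, fun x hx => ?_⟩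
  rw [Matrix.mulVecLin_apply]
  induction hx using Submodule.span_induction with
  | mem y hy =>
    obtain ⟨χ, hχ, rfl⟩ := hy
    exact blockKer_mulVec_self hM hB hχ
  | zero => exact Matrix.mulVec_zero _
  | add y z _ _ ihy ihz => rw [Matrix.mulVec_add, ihy, ihz]
  | smul a y _ ih => rw [Matrix.mulVec_smul, ih]

theorem blockRank_eq_trace (hM : IsPModular p M) {B : Set (IrrCharacter G)} (hB : IsPBlock M B) :
    (blockRank p B : ℂ) = ∑ s : G, blockKer p B s s := by
  classical
  rw [blockRank, ← (blockKer_isProj hM hB).trace, ← Matrix.toLin'_apply', Matrix.trace_toLin'_eq]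
  rfl

/-- `|G| l(B)` is the sum of the regular norms of the members. -/
theorem card_mul_blockRank (hM : IsPModular p M) {B : Set (IrrCharacter G)} (hB : IsPBlock M B)
    [DecidablePred (· ∈ B)] :
    (Nat.card G : ℂ) * (blockRank p B : ℂ) = ∑ χ : IrrCharacter G, if χ ∈ B then
      ∑ s : G, (if p ∣ orderOf s then 0 else (χ : G → ℂ) s * conj ((χ : G → ℂ) s)) else 0 := by
  classical
  rw [blockRank_eq_trace hM hB, Finset.mul_sum]
  have h1 : ∀ s : G, (Nat.card G : ℂ) * blockKer p B s s = ∑ χ : IrrCharacter G,
      if χ ∈ B then (if p ∣ orderOf s then 0 else (χ : G → ℂ) s * conj ((χ : G → ℂ) s)) else 0 := by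
    intro s
    simp only [blockKer, Matrix.of_apply, or_self]
    by_cases hs : p ∣ orderOf s
    · simp [hs]
    · rw [if_neg hs, ← mul_assoc, mul_inv_cancel₀ CfsgLib.Char.card_ne_zero', one_mul]
      exact Finset.sum_congr rfl fun χ _ => by simp [hs]
  simp only [h1]
  rw [Finset.sum_comm]
  exact Finset.sum_congr rfl fun χ _ => by split_ifs <;> simp

theorem blockKer_idem (hM : IsPModular p M) {B : Set (IrrCharacter G)} (hB : IsPBlock M B) :
    blockKer p B * blockKer p B = blockKer p B := by
  classical
  refine Matrix.ext_of_mulVec_single fun i => ?_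
  rw [← Matrix.mulVec_mulVec]
  exact (blockKer_isProj hM hB).map_id _ (blockKer_mulVec_mem B _)

theorem blockKer_sum_mul (hM : IsPModular p M) {B : Set (IrrCharacter G)} (hB : IsPBlock M B) (s t : G) :
    ∑ c : G, blockKer p B s c * blockKer p B c t = blockKer p B s t := by
  conv_rhs => rw [← blockKer_idem hM hB, Matrix.mul_apply]

omit [M.IsMaximal] in
theorem blockKer_inv (B : Set (IrrCharacter G)) (s c : G) :
    blockKer p B s⁻¹ c⁻¹ = blockKer p B c s := by
  classical
  simp only [blockKer, Matrix.of_apply, orderOf_inv, or_comm (a := p ∣ orderOf s)]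
  split_ifs
  · rfl
  · refine congrArg _ (Finset.sum_congr rfl fun χ _ => ?_)
    split_ifs
    · rw [CfsgLib.Char.char_inv (CfsgLib.Char.isCharacter_of_isIrr χ.2),
        CfsgLib.Char.char_inv (CfsgLib.Char.isCharacter_of_isIrr χ.2), Complex.conj_conj, mul_comm]
    · rfl

end CfsgLib.BlockArith
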