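import Cfsg.Agent.Lib.Blocks.QuotientBlocks
import Cfsg.Agent.Lib.Blocks.CentralProduct
import Cfsg.Agent.Lib.BlockArith.RankTrace
import Cfsg.Agent.Lib.BlockArith.RegCoef
import Cfsg.Agent.Lib.Char.PiSection
import Cfsg.Prelude.Def_BlockRank

/-!
# Regular parts and blocks of `G ⧸ P`

For a normal `p`-subgroup `P` whose centraliser has `p`-power index:

* `exists_quotient_combination`: on `p`-regular elements a member of `B` is an integral combination of
  inflated members of `B`;
* `inflSet`, `isPBlock_inflSet`, `blockRank_inflSet`, `blockDefect_inflSet`.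
-/

set_option autoImplicit false

noncomputable section

namespace CfsgLib.BlockArith

open Cfsg CfsgLib.Char CfsgLib.Blocks
open scoped ComplexConjugate

variable {G : Type*} [Group G] [Fintype G] {p : ℕ} [hp : Fact p.Prime] {P : Subgroup G} [P.Normal]

/-- The class function of `G ⧸ P` taking at `q` the value of `θ` at the regular lift of `q_{p'}`. -/
theorem exists_gen_lift (hP : IsPGroup p P)
    (hC : ∃ k : ℕ, (Subgroup.centralizer (P : Set G)).index = p ^ k) {θ : G → ℂ} (hθ : IsCharacter G θ) :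
    ∃ f : G ⧸ P → ℂ, IsGeneralizedCharacter (G ⧸ P) f ∧
      ∀ g : G, ¬ p ∣ orderOf g → f (g : G ⧸ P) = θ g := by
  classical
  have := Fintype.ofFinite (G ⧸ P)
  set m := p ^ (Nat.card G).factorization p with hm
  set n := Nat.card G / m with hn
  have hdvd : Nat.card (G ⧸ P) ∣ m * n := by
    rw [hm, hn, Nat.ordProj_mul_ordCompl_eq_self]
    exact Subgroup.index_dvd_card P
  have hdvdG : Nat.card G ∣ m * n := by rw [hm, hn, Nat.ordProj_mul_ordCompl_eq_self]
  have hpn : ¬ p ∣ n := Nat.not_dvd_ordCompl hp.out Nat.card_pos.ne'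
  have hcop : Nat.Coprime m n := Nat.Coprime.pow_left _ (hp.out.coprime_iff_not_dvd.mpr hpn)
  have hreg : ∀ q : G ⧸ P, ¬ p ∣ orderOf (piPart m n q) := fun q hd => hpn
    (hd.trans (orderOf_dvd_of_pow_eq_one (piPart_pow_eq_one (pow_eq_one_of_dvd hdvd q))))
  choose lift hlift1 hlift2 using fun q : G ⧸ P => exists_regular_lift (piPart m n q) (hreg q)
  have hpow : ∀ g : G, ¬ p ∣ orderOf g → g ^ n = 1 := fun g hg => by
    refine orderOf_dvd_iff_pow_eq_one.mp (Nat.Coprime.dvd_of_dvd_mul_left ?_
      ((orderOf_dvd_natCard g).trans hdvdG))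
    exact Nat.Coprime.pow_right _ (hp.out.coprime_iff_not_dvd.mpr hg).symm
  have hself : ∀ g : G, ¬ p ∣ orderOf g → lift (g : G ⧸ P) = g := fun g hg => by
    refine eq_of_mk_eq_of_regular hP hC (hlift1 _) hg ?_
    rw [hlift2, piPart_eq_self hcop]
    rw [← QuotientGroup.mk_pow, hpow g hg, QuotientGroup.mk_one]
  refine ⟨fun q => θ (lift q), ?_, fun g hg => congrArg θ (hself g hg)⟩
  refine isGen_of_elementary ?_ fun E q hq hE => ?_
  · refine isClassFunction_iff.mpr fun a b hab => ?_
    obtain ⟨c, rfl⟩ := isConj_iff.mp hab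
    obtain ⟨u, rfl⟩ := QuotientGroup.mk_surjective c
    show θ (lift a) = θ (lift _)
    have h1 : lift ((u : G ⧸ P) * a * (u : G ⧸ P)⁻¹) = u * lift a * u⁻¹ := by
      refine eq_of_mk_eq_of_regular hP hC (hlift1 _)
        (by rw [← (SemiconjBy.conj_mk u (lift a)).orderOf_eq]; exact hlift1 a) ?_
      rw [hlift2, piPart_conj, QuotientGroup.mk_mul, QuotientGroup.mk_mul, QuotientGroup.mk_inv, hlift2]
    rw [h1, isClassFunction_of_isCharacter hθ]
  · have : Group.IsNilpotent E := isNilpotent_of_isElementary hq hE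
    set E' : Subgroup G := E.comap (QuotientGroup.mk' P) ⊓ Subgroup.centralizer (P : Set G) with hE'
    let π : E' →* E :=
      { toFun := fun g => ⟨((g : G) : G ⧸ P), g.2.1⟩
        map_one' := Subtype.ext rfl
        map_mul' := fun a b => Subtype.ext (QuotientGroup.mk_mul P (a : G) (b : G)) }
    have hker : π.ker ≤ Subgroup.center E' := by
      intro g hg
      have hgP : (g : G) ∈ P := (QuotientGroup.eq_one_iff _).mp (congrArg Subtype.val hg)
      exact Subgroup.mem_center_iff.mpr fun w =>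
        Subtype.ext (Subgroup.mem_centralizer_iff.mp w.2.2 _ hgP).symm
    have : Group.IsNilpotent E' := Subgroup.isNilpotent_of_ker_le_center π hker
    have hmem : ∀ e : E, lift (e : G ⧸ P) ∈ E' := fun e => by
      refine ⟨?_, mem_centralizer_of_regular hC (hlift1 _)⟩
      show (lift (e : G ⧸ P) : G ⧸ P) ∈ E
      rw [hlift2]
      exact piPart_mem e.2 m n
    have hE'dvd : Nat.card E' ∣ m * n := (Subgroup.card_subgroup_dvd_card _).trans hdvdG
    let ψ : E →* G := MonoidHom.mk' (fun e => lift (e : G ⧸ P)) fun a b => by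
      refine eq_of_mk_eq_of_regular hP hC (hlift1 _) ?_ ?_
      · have h1 := pow_mul_eq_one_of_nilpotent hcop hE'dvd
          (x := (⟨_, hmem a⟩ : E')) (y := ⟨_, hmem b⟩)
          (Subtype.ext (by simpa using hpow _ (hlift1 _))) (Subtype.ext (by simpa using hpow _ (hlift1 _)))
        have h2 := congrArg Subtype.val h1
        simp only [SubmonoidClass.coe_pow, Subgroup.coe_mul, OneMemClass.coe_one] at h2
        exact fun hd => hpn (hd.trans (orderOf_dvd_of_pow_eq_one h2))
      · rw [hlift2, QuotientGroup.mk_mul, hlift2, hlift2, Subgroup.coe_mul]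
        rw [show ((a : G ⧸ P)) = E.subtype a from rfl, show ((b : G ⧸ P)) = E.subtype b from rfl,
          ← map_mul, ← map_piPart, ← map_piPart, ← map_piPart, ← map_mul,
          piPart_mul hcop ((Subgroup.card_subgroup_dvd_card _).trans hdvd)]
    exact isGen_of_char (isCharacter_comp hθ ψ)

variable {M : Ideal AlgInt} [M.IsMaximal] [Fintype (G ⧸ P)]

/-- The characters of `G ⧸ P` inflating into `B`. -/
def inflSet (P : Subgroup G) [P.Normal] (B : Set (IrrCharacter G)) : Set (IrrCharacter (G ⧸ P)) :=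
  {ψ | (⟨_, CfsgLib.CharNormal.isIrr_comp_mk' P ψ.2⟩ : IrrCharacter G) ∈ B}

omit hp in
theorem mem_inflSet {B : Set (IrrCharacter G)} {ψ : IrrCharacter (G ⧸ P)} {η : IrrCharacter G}
    (h : (η : G → ℂ) = (ψ : G ⧸ P → ℂ) ∘ QuotientGroup.mk) : ψ ∈ inflSet P B ↔ η ∈ B := by
  have he : η = ⟨_, CfsgLib.CharNormal.isIrr_comp_mk' P ψ.2⟩ := Subtype.ext h
  rw [he]; rfl

theorem isPBlock_inflSet (hM : IsPModular p M) (hP : IsPGroup p P)
    (hC : ∃ k : ℕ, (Subgroup.centralizer (P : Set G)).index = p ^ k) {B : Set (IrrCharacter G)}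
    (hB : IsPBlock M B) : IsPBlock M (inflSet P B) := by
  obtain ⟨χ, θ, hθ, hθe⟩ := exists_inflation_mem hM hP hC hB
  refine ⟨χ, ?_⟩
  ext ψ
  show (_ : IrrCharacter G) ∈ B ↔ SameBlock M (χ : G ⧸ P → ℂ) (ψ : G ⧸ P → ℂ)
  rw [sameBlock_inflation_iff hM hP hC, ← hθe, isPBlock_eq_blockOf hB hθ]
  rfl

/-- On regular elements a member of `B` is an integral combination of inflated members of `B`. -/
theorem exists_quotient_combination (hM : IsPModular p M) (hP : IsPGroup p P)
    (hC : ∃ k : ℕ, (Subgroup.centralizer (P : Set G)).index = p ^ k) {B : Set (IrrCharacter G)}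
    (hB : IsPBlock M B) [DecidablePred (· ∈ inflSet P B)] {χ : IrrCharacter G} (hχ : χ ∈ B) :
    ∃ c : IrrCharacter (G ⧸ P) → ℤ, ∀ g : G, ¬ p ∣ orderOf g → (χ : G → ℂ) g =
      ∑ ψ : IrrCharacter (G ⧸ P), if ψ ∈ inflSet P B then (c ψ : ℂ) * (ψ : G ⧸ P → ℂ) g else 0 := by
  classical
  obtain ⟨f, hf, hfe⟩ := exists_gen_lift (P := P) hP hC (isCharacter_of_isIrr χ.2)
  choose c hc using fun ψ : IrrCharacter (G ⧸ P) => classInner_gen_int hf (isGen_of_irr ψ.2)
  refine ⟨c, fun g hg => ?_⟩
  have hexp : ∀ y : G, ¬ p ∣ orderOf y →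
      (χ : G → ℂ) y = ∑ ψ : IrrCharacter (G ⧸ P), (c ψ : ℂ) * (ψ : G ⧸ P → ℂ) y := by
    intro y hy
    rw [← hfe y hy, congrFun (classFun_eq_sum (isClassFunction_of_isGen hf)) (y : G ⧸ P),
      Finset.sum_apply]
    exact Finset.sum_congr rfl fun ψ _ => by rw [Pi.smul_apply, smul_eq_mul, hc]
  calc (χ : G → ℂ) g = (blockKer p B).mulVec (pRegularPart p (χ : G → ℂ)) g := by
        rw [blockKer_mulVec_self hM hB hχ, pRegularPart_apply, if_neg hg]
    _ = ∑ ψ : IrrCharacter (G ⧸ P), (c ψ : ℂ) *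
          (blockKer p B).mulVec (pRegularPart p ((ψ : G ⧸ P → ℂ) ∘ QuotientGroup.mk)) g := by
        have : pRegularPart p (χ : G → ℂ) = ∑ ψ : IrrCharacter (G ⧸ P),
            (c ψ : ℂ) • pRegularPart p ((ψ : G ⧸ P → ℂ) ∘ QuotientGroup.mk) := by
          funext y
          simp only [Finset.sum_apply, Pi.smul_apply, smul_eq_mul, pRegularPart_apply, Function.comp_apply]
          split_ifs with hy
          · simp
          · exact hexp y hy
        rw [this, Matrix.mulVec_sum, Finset.sum_apply]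
        simp only [Matrix.mulVec_smul, Pi.smul_apply, smul_eq_mul]
    _ = _ := by
        refine Finset.sum_congr rfl fun ψ _ => ?_
        let η : IrrCharacter G := ⟨_, CfsgLib.CharNormal.isIrr_comp_mk' P ψ.2⟩
        change (c ψ : ℂ) * (blockKer p B).mulVec (pRegularPart p (η : G → ℂ)) g = _
        split_ifs with hψ
        · rw [blockKer_mulVec_self hM hB (show η ∈ B from hψ), pRegularPart_apply, if_neg hg]
          rfl
        · rw [blockKer_mulVec, pRegularPart_apply, if_neg hg, blockPart_apply, Finset.sum_eq_zero,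
            mul_zero]
          intro θ _
          split_ifs with hθ
          · rw [classInner_def]
            have hns : ¬ SameBlock M (η : G → ℂ) (θ : G → ℂ) := fun h => hψ (by
              have h' : η ∈ blockOf M (θ : G → ℂ) := (mem_blockOf_iff θ η).mpr ((sameBlock_iff η θ).mp h).symm
              rwa [← isPBlock_eq_blockOf hB hθ] at h')
            have h0 := regular_orthogonality (p := p) hM hns
            rw [Finset.sum_congr rfl fun (y : G) _ => show pRegularPart p (pRegularPart p (η : G → ℂ)) y * conj ((θ : G → ℂ) y) =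
              (if p ∣ orderOf y then 0 else (η : G → ℂ) y * conj ((θ : G → ℂ) y)) by
                simp only [pRegularPart_apply]; split_ifs <;> simp, h0, mul_zero, zero_mul]
          · rfl

/-- `l(B) = l(B̄)`. -/
theorem blockRank_inflSet (hM : IsPModular p M) (hP : IsPGroup p P)
    (hC : ∃ k : ℕ, (Subgroup.centralizer (P : Set G)).index = p ^ k) {B : Set (IrrCharacter G)}
    (hB : IsPBlock M B) : blockRank p B = blockRank p (inflSet P B) := by
  classical
  choose lift hlift1 hlift2 using fun q : {q : G ⧸ P // ¬ p ∣ orderOf q} => exists_regular_lift q.1 q.2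
  let T : (G ⧸ P → ℂ) →ₗ[ℂ] (G → ℂ) :=
    { toFun := fun f g => if p ∣ orderOf g then 0 else f (g : G ⧸ P)
      map_add' := fun f f' => funext fun g => by simp only [Pi.add_apply]; split_ifs <;> simp
      map_smul' := fun a f => funext fun g => by
        simp only [Pi.smul_apply, smul_eq_mul, RingHom.id_apply]; split_ifs <;> simp }
  have hT : ∀ ψ : IrrCharacter (G ⧸ P), T (pRegularPart p (ψ : G ⧸ P → ℂ)) =
      pRegularPart p ((ψ : G ⧸ P → ℂ) ∘ QuotientGroup.mk) := by
    intro ψ
    funext g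
    show (if p ∣ orderOf g then 0 else pRegularPart p (ψ : G ⧸ P → ℂ) (g : G ⧸ P)) = _
    simp only [pRegularPart_apply, Function.comp_apply]
    split_ifs with h1 h2
    · rfl
    · exact absurd (h2.trans (orderOf_map_dvd (QuotientGroup.mk' P) g)) h1
    · rfl
  set S := Submodule.span ℂ ((fun ψ : IrrCharacter (G ⧸ P) => pRegularPart p (ψ : G ⧸ P → ℂ)) '' inflSet P B)
    with hS
  have hsupp : ∀ f ∈ S, ∀ q : G ⧸ P, p ∣ orderOf q → f q = 0 := by
    intro f hf q hq
    induction hf using Submodule.span_induction with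
    | mem y hy => obtain ⟨ψ, -, rfl⟩ := hy; simp [pRegularPart_apply, hq]
    | zero => rfl
    | add a b _ _ ha hb => simp [ha, hb]
    | smul a b _ hb => simp [hb]
  have hinj : Function.Injective (T.domRestrict S) := by
    intro f f' h
    refine Subtype.ext (funext fun q => ?_)
    by_cases hq : p ∣ orderOf q
    · rw [hsupp _ f.2 q hq, hsupp _ f'.2 q hq]
    · have h1 : (if p ∣ orderOf (lift ⟨q, hq⟩) then (0 : ℂ) else (f : G ⧸ P → ℂ) (lift ⟨q, hq⟩ : G)) =
          (if p ∣ orderOf (lift ⟨q, hq⟩) then (0 : ℂ) else (f' : G ⧸ P → ℂ) (lift ⟨q, hq⟩ : G)) :=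
        congrFun h (lift ⟨q, hq⟩)
      rw [if_neg (hlift1 _), if_neg (hlift1 _), hlift2] at h1
      exact h1
  rw [blockRank, blockRank, ← hS, ← LinearMap.finrank_range_of_inj hinj, LinearMap.range_domRestrict]
  suffices h : Submodule.span ℂ ((fun χ : IrrCharacter G => pRegularPart p (χ : G → ℂ)) '' B) = S.map T by
    rw [h]
  rw [hS, Submodule.map_span, ← Set.image_comp]
  apply le_antisymm
  · rw [Submodule.span_le]
    rintro _ ⟨χ, hχ, rfl⟩
    obtain ⟨c, hc⟩ := exists_quotient_combination (P := P) hM hP hC hB hχ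
    have he : pRegularPart p (χ : G → ℂ) = ∑ ψ : IrrCharacter (G ⧸ P),
        if ψ ∈ inflSet P B then (c ψ : ℂ) • T (pRegularPart p (ψ : G ⧸ P → ℂ)) else 0 := by
      funext y
      simp only [Finset.sum_apply, hT]
      by_cases hy : p ∣ orderOf y
      · rw [pRegularPart_apply, if_pos hy, Finset.sum_eq_zero]
        intro ψ _
        split_ifs <;> simp [pRegularPart_apply, hy]
      · rw [pRegularPart_apply, if_neg hy, hc y hy]
        refine Finset.sum_congr rfl fun ψ _ => ?_
        split_ifs <;> simp [pRegularPart_apply, hy]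
    show pRegularPart p (χ : G → ℂ) ∈ _
    rw [he]
    refine Submodule.sum_mem _ fun ψ _ => ?_
    split_ifs with hψ
    · exact Submodule.smul_mem _ _ (Submodule.subset_span ⟨ψ, hψ, rfl⟩)
    · exact Submodule.zero_mem _
  · rw [Submodule.span_le]
    rintro _ ⟨ψ, hψ, rfl⟩
    show T _ ∈ _
    rw [hT]
    exact Submodule.subset_span ⟨⟨_, CfsgLib.CharNormal.isIrr_comp_mk' P ψ.2⟩, hψ, rfl⟩

omit hp in
theorem charDegree_comp_mk (ψ : G ⧸ P → ℂ) :
    charDegree (ψ ∘ (QuotientGroup.mk : G → G ⧸ P)) = charDegree ψ := by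
  simp only [charDegree, Function.comp_apply, QuotientGroup.mk_one]

/-- `d(B) = d(B̄) + v_p |P|`. -/
theorem blockDefect_inflSet (hM : IsPModular p M) (hP : IsPGroup p P)
    (hC : ∃ k : ℕ, (Subgroup.centralizer (P : Set G)).index = p ^ k) {B : Set (IrrCharacter G)}
    (hB : IsPBlock M B) :
    blockDefect p B = blockDefect p (inflSet P B) + (Nat.card P).factorization p := by
  classical
  have hB' := isPBlock_inflSet hM hP hC hB
  obtain ⟨χ, hχ, h0⟩ := exists_height_zero hM hB
  obtain ⟨ψ, hψ, h0'⟩ := exists_height_zero hM hB'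
  let η : IrrCharacter G := ⟨_, CfsgLib.CharNormal.isIrr_comp_mk' P ψ.2⟩
  have hdη : charDegree (η : G → ℂ) = charDegree (ψ : G ⧸ P → ℂ) := charDegree_comp_mk _
  have e1 := degree_height hM hB hχ
  have e2 := degree_height hM hB' hψ
  have e3 := degree_height hM hB (show η ∈ B from hψ)
  have hcard : (Nat.card G).factorization p =
      (Nat.card (G ⧸ P)).factorization p + (Nat.card P).factorization p := by
    rw [Subgroup.card_eq_card_quotient_mul_card_subgroup P,
      Nat.factorization_mul Nat.card_pos.ne' Nat.card_pos.ne', Finsupp.add_apply]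
  obtain ⟨c, hc⟩ := exists_quotient_combination (P := P) hM hP hC hB hχ
  have h1 := hc 1 (by rw [orderOf_one]; exact hp.out.not_dvd_one)
  have hdiv : p ^ (charDegree (ψ : G ⧸ P → ℂ)).factorization p ∣ charDegree (χ : G → ℂ) := by
    have h2 : (charDegree (χ : G → ℂ) : ℤ) = ∑ ξ : IrrCharacter (G ⧸ P),
        if ξ ∈ inflSet P B then c ξ * (charDegree (ξ : G ⧸ P → ℂ) : ℤ) else 0 := by
      rw [← CfsgLib.CharBlocks.coe_charDegree_irr χ] at h1
      apply Int.cast_injective (α := ℂ)
      rw [Int.cast_natCast, h1, Int.cast_sum]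
      refine Finset.sum_congr rfl fun ξ _ => ?_
      rw [QuotientGroup.mk_one, ← CfsgLib.CharBlocks.coe_charDegree_irr ξ]
      split_ifs <;> simp
    rw [← Int.natCast_dvd_natCast, h2]
    refine Finset.dvd_sum fun ξ _ => ?_
    split_ifs with hξ
    · refine Dvd.dvd.mul_left (Int.natCast_dvd_natCast.mpr ((pow_dvd_pow p ?_).trans
        (Nat.ordProj_dvd _ _))) _
      have e4 := degree_height hM hB' hξ
      omega
    · exact dvd_zero _
  have hle : (charDegree (ψ : G ⧸ P → ℂ)).factorization p ≤ (charDegree (χ : G → ℂ)).factorization p :=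
    (hp.out.pow_dvd_iff_le_factorization (CfsgLib.CharBlocks.charDegree_pos χ.2).ne').mp hdiv
  rw [hdη] at e3
  omega

end CfsgLib.BlockArith
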