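import Cfsg.Agent.Lib.BlockArith.RegInd
import Cfsg.Agent.Lib.BlockArith.FullDefect

/-!
# Real 2-blocks of full defect are principal

* `res_sum_regular_inv`: modulo `2`, an inverse-invariant sum over elements of odd order is its
  value at `1`;
* `eq_principalBlock_of_inv_invariant`;
* `mem_principalBlock_of_odd_degree`: odd degree and real on elements of odd order.
-/

set_option autoImplicit false

noncomputable section

namespace CfsgLib.BlockArith

open Cfsg CfsgLib.Char CfsgLib.Blocks
open scoped ComplexConjugate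

variable {M : Ideal AlgInt} [M.IsMaximal] {G : Type*} [Group G] [Fintype G]

theorem res_sum_regular_inv (hM : IsPModular 2 M) (f : G → Res M)
    (hf : ∀ x, ¬ 2 ∣ orderOf x → f x⁻¹ = f x) :
    ∑ x : G, (if 2 ∣ orderOf x then 0 else f x) = f 1 := by
  classical
  rw [← Finset.add_sum_erase _ _ (Finset.mem_univ (1 : G)), orderOf_one,
    if_neg (by norm_num), add_eq_left]
  have h2 : (2 : Res M) = 0 := by
    have h := (Ideal.Quotient.eq_zero_iff_mem (I := M)).mpr hM.2.2
    rw [map_natCast] at h
    exact_mod_cast h
  refine Finset.sum_involution (fun x _ => x⁻¹) ?_ ?_ ?_ ?_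
  · intro x _
    rw [orderOf_inv]
    split_ifs with h
    · simp
    · rw [hf x h, ← two_mul, h2, zero_mul]
  · intro x hx hne he
    apply hne
    refine if_pos ?_
    have hx1 : x ≠ 1 := (Finset.mem_erase.mp hx).1
    have h4 : x ^ 2 = 1 := by
      calc x ^ 2 = x * x⁻¹ := by rw [he, sq]
        _ = 1 := mul_inv_cancel x
    rcases (Nat.dvd_prime Nat.prime_two).mp (orderOf_dvd_of_pow_eq_one h4) with h | h
    · exact absurd (orderOf_eq_one_iff.mp h) hx1
    · rw [h]
  · intro x hx
    simpa using hx
  · intro x _
    simp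

theorem eq_principalBlock_of_inv_invariant (hM : IsPModular 2 M) {B : Set (IrrCharacter G)}
    (hB : IsPBlock M B) (h1 : res M (coeffL hB 1) ≠ 0)
    (hinv : ∀ x : G, ¬ 2 ∣ orderOf x → blockCoeff B x⁻¹ = blockCoeff B x) :
    B = principalBlock M G := by
  classical
  have hsum : ∑ x : G, coeffL hB x = if (irrOne : IrrCharacter G) ∈ B then 1 else 0 := by
    apply Subtype.ext
    push_cast [coeffL, apply_ite ((↑) : locRing M → ℂ)]
    rw [← omega_blockElt B irrOne, omega, charLin_apply]
    simp [blockElt, coeff_ofFun, irrOne_apply]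
  have hres := congrArg (res M) hsum
  rw [map_sum, Finset.sum_congr rfl (fun x _ =>
    show res M (coeffL hB x) = if 2 ∣ orderOf x then 0 else res M (coeffL hB x) by
      split_ifs with h
      · rw [show coeffL hB x = 0 from Subtype.ext (blockCoeff_eq_zero hM hB h), map_zero]
      · rfl), res_sum_regular_inv hM _ fun x hx => by
        exact congrArg (res M) (Subtype.ext (hinv x hx))] at hres
  by_cases hmem : (irrOne : IrrCharacter G) ∈ B
  · rw [principalBlock_eq, ← isPBlock_eq_blockOf hB hmem]
  · rw [if_neg hmem, map_zero] at hres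
    exact absurd hres h1

theorem mem_principalBlock_of_odd_degree (hM : IsPModular 2 M) (χ : IrrCharacter G)
    (hodd : Odd (charDegree (χ : G → ℂ)))
    (hreal : ∀ x, ¬ 2 ∣ orderOf x → (χ : G → ℂ) x⁻¹ = (χ : G → ℂ) x) :
    χ ∈ principalBlock M G := by
  classical
  refine mem_principalBlock_of_classInner_regInd hM χ fun h => ?_
  let v : G → locRing M := fun x => ofInt M ⟨(χ : G → ℂ) x,
    char_isIntegral (isCharacter_of_isIrr χ.2) x⟩
  have h0 : ∑ x : G, (if 2 ∣ orderOf x then 0 else v x) = 0 := by
    apply Subtype.ext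
    push_cast [v, apply_ite ((↑) : locRing M → ℂ), coe_ofInt]
    rw [← card_mul_classInner_regInd 2 (χ : G → ℂ), h, mul_zero]
  have hres := congrArg (res M) h0
  simp only [map_sum, map_zero, apply_ite (res M)] at hres
  rw [res_sum_regular_inv hM (fun x => res M (v x)) fun x hx => by
    exact congrArg (res M) (Subtype.ext (hreal x hx))] at hres
  have hv : v 1 = (charDegree (χ : G → ℂ) : locRing M) := Subtype.ext (by
    push_cast [v, coe_ofInt]
    exact (CfsgLib.CharBlocks.coe_charDegree_irr χ).symm)
  rw [hv, res_natCast_eq_zero_iff M hM] at hres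
  exact hodd.not_two_dvd_nat hres

end CfsgLib.BlockArith
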