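import Cfsg.Agent.Lib.Blocks.Orth

/-!
# The indicator function of the `p`-regular elements

* `regInd p`: one on `p`-regular, zero on `p`-singular elements;
* `mem_principalBlock_of_classInner_regInd`: an irreducible character not orthogonal to it lies in
  the principal block.
-/

set_option autoImplicit false

noncomputable section

namespace CfsgLib.BlockArith

open Cfsg CfsgLib.Char CfsgLib.Blocks
open scoped ComplexConjugate

variable {G : Type*} [Group G]

/-- The indicator function of the `p`-regular elements. -/
def regInd (p : ℕ) : G → ℂ := fun g => if p ∣ orderOf g then 0 else 1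

theorem isClassFunction_regInd (p : ℕ) : IsClassFunction G (regInd p) := fun g h => by
  show (if p ∣ orderOf (h * g * h⁻¹) then (0 : ℂ) else 1) = if p ∣ orderOf g then 0 else 1
  rw [show orderOf (h * g * h⁻¹) = orderOf g from orderOf_injective (MulAut.conj h).toMonoidHom
    (MulAut.conj h).injective g]

variable [Fintype G]

theorem card_mul_classInner_regInd (p : ℕ) (f : G → ℂ) :
    (Nat.card G : ℂ) * classInner f (regInd p) =
      ∑ g : G, if p ∣ orderOf g then 0 else f g := by
  rw [card_mul_classInner]
  exact Finset.sum_congr rfl fun g _ => by simp only [regInd]; split_ifs <;> simp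

theorem mem_principalBlock_of_classInner_regInd {p : ℕ} {M : Ideal AlgInt}
    (hM : IsPModular p M) (χ : IrrCharacter G)
    (h : classInner (χ : G → ℂ) (regInd p) ≠ 0) : χ ∈ principalBlock M G := by
  have := hM.2.1
  rw [principalBlock_eq, mem_blockOf_iff]
  by_contra hne
  refine h ?_
  have h0 := regular_orthogonality hM (χ := χ) (ψ := irrOne)
    (fun hs => hne ((sameBlock_iff χ irrOne).mp hs).symm)
  have h1 := card_mul_classInner_regInd p (χ : G → ℂ)
  rw [show (∑ g : G, if p ∣ orderOf g then 0 else (χ : G → ℂ) g) = 0 from by
    refine Eq.trans (Finset.sum_congr rfl fun g _ => ?_) h0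
    rw [irrOne_apply]; simp] at h1
  exact (mul_eq_zero.mp h1).resolve_left card_ne_zero'

end CfsgLib.BlockArith
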