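import Cfsg.Agent.Lib.BlockArith.MajorSubsections
import Cfsg.Agent.Lib.Blocks.Roots

/-!
# The pair below a root and the inertial index

* `zpull`: pulling integral central elements back along a homomorphism;
* `exists_cen_irr`: the central characters of `D C(D)` factor through `C(D)`;
* `exists_pair_of_root`: a root gives a maximal pair whose stabiliser stabilises the root;
* `height_add_center_le`: the bound on heights by inertial index, defect and centre.
-/

set_option autoImplicit false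

noncomputable section

namespace CfsgLib.BlockArith

open Cfsg CfsgLib.Blocks CfsgLib.Char CfsgLib.CharNormal CfsgLib.BrauerPairs
open scoped Classical

universe u

variable {M : Ideal AlgInt} [M.IsMaximal]

/-- Pull an integral central element back along a homomorphism. -/
def zpull {K L : Type*} [Group K] [Group L] [Fintype K] [Fintype L] (f : K →* L) (a : Zint M L) : Zint M K :=
  ⟨ofFun (fun k => (a : CA L).coeff (f k)), mem_Zint_iff.mpr
    ⟨fun k => by rw [coeff_ofFun]; exact (mem_Zint_iff.mp a.2).1 _, fun g k => by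
      simp only [coeff_ofFun, map_mul, map_inv]
      exact (mem_Zint_iff.mp a.2).2 (f g) (f k)⟩⟩

theorem coeff_zpull {K L : Type*} [Group K] [Group L] [Fintype K] [Fintype L] (f : K →* L) (a : Zint M L) (k : K) :
    (zpull f a : CA K).coeff k = (a : CA L).coeff (f k) := coeff_ofFun _ _

variable {G : Type u} [Group G] [Fintype G] {p : ℕ} [hp : Fact p.Prime] {D H : Subgroup G}

/-- The reduced central characters of `D C(D)` come from `C(D)`. -/
theorem exists_cen_irr (hM : IsPModular p M) (hD : IsPGroup p D) (hH : H = D ⊔ Cen D) [Fintype H]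
    [Fintype (Cen D)] (hC : Cen D ≤ H) (ξ : IrrCharacter H) :
    ∃ θ : IrrCharacter (Cen D), ∀ y : Zint M H,
      bomega ξ y = bomega θ (zpull (Subgroup.inclusion hC) y) := by
  have hDH : D ≤ H := hH ▸ le_sup_left
  have hHN : H ≤ Subgroup.normalizer (D : Set G) :=
    hH ▸ sup_le Subgroup.le_normalizer (Subgroup.centralizer_le_normalizer _)
  set N : Subgroup H := (Cen D).subgroupOf H with hN
  have hn : N.Normal := (Subgroup.normal_subgroupOf_iff_le_normalizer hC).mpr
    fun x hx => mem_normalizer_centralizer (hHN hx)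
  have := Fintype.ofFinite N
  have hξc := isClassFunction_of_isIrr ξ.2
  have hne : (fun n : N => (ξ : H → ℂ) n) ≠ 0 := fun h =>
    irr_one_ne_zero ξ.2 (congrFun h (1 : N))
  obtain ⟨θ', hθ', h0⟩ := exists_constituent (isCharacter_res N (isCharacter_of_isIrr ξ.2)) hne
  have hinv : ∀ g : H, conjFun N g θ' = θ' := by
    have h1 : H ≤ (inertia N θ').map H.subtype := by
      refine hH.le.trans (sup_le (fun x hx => ⟨⟨x, hDH hx⟩, ?_, rfl⟩) fun x hx => ⟨⟨x, hC hx⟩, ?_, rfl⟩)
      · refine funext fun n => congrArg θ' (Subtype.ext (Subtype.ext ?_))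
        show x * ((n : H) : G) * x⁻¹ = ((n : H) : G)
        have hn' : ((n : H) : G) ∈ Cen D := n.2
        rw [Subgroup.mem_centralizer_iff.mp hn' x hx, mul_inv_cancel_right]
      · exact conjFun_of_mem N (isClassFunction_of_isIrr hθ') hx
    intro g
    obtain ⟨g', hg', he⟩ := h1 g.2
    obtain rfl : g' = g := Subtype.ext he
    exact hg'
  have hres := res_eq_smul_of_invariant N ξ.2 hθ' hinv h0
  set m := Cfsg.classInner (fun n : N => (ξ : H → ℂ) n) θ' with hm
  let e := Subgroup.subgroupOfEquivOfLe hC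
  refine ⟨⟨θ' ∘ e.symm, CfsgLib.CharNormal.isIrr_comp_mulEquiv hθ' e.symm⟩, fun y => ?_⟩
  rw [← bomega_truncC hM hD hDH hHN ξ y, bomega_apply, bomega_apply]
  refine congrArg _ (Subtype.ext ?_)
  rw [coe_zomega, coe_zomega, omega, omega, charLin_apply, charLin_apply]
  have hk : ∀ k : Cen D, (ξ : H → ℂ) (Subgroup.inclusion hC k) = m * θ' (e.symm k) := fun k =>
    congrFun hres (e.symm k)
  have hone : (ξ : H → ℂ) 1 = m * θ' (e.symm 1) := by
    rw [← hk 1, map_one]
  show _ = _ / θ' (e.symm 1)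
  rw [hone, ← mul_div_mul_left _ (θ' (e.symm 1)) h0, Finset.mul_sum]
  congr 1
  symm
  refine Finset.sum_of_injOn (fun k => Subgroup.inclusion hC k) ?_ ?_ ?_ ?_
  · exact fun a _ b _ h => Subgroup.inclusion_injective hC h
  · exact fun a _ => Finset.mem_univ _
  · intro h _ hnot
    have hh : (h : G) ∉ Cen D := fun hh => hnot ⟨⟨h, hh⟩, Finset.mem_univ _, rfl⟩
    simp [truncC, hh]
  · intro k _
    have hk' : ((Subgroup.inclusion hC k : H) : G) ∈ Cen D := k.2
    rw [coeff_zpull, hk]
    simp [truncC]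
    ring

/-- A root gives a maximal pair whose stabiliser stabilises the root. -/
theorem exists_pair_of_root (hM : IsPModular p M) {B : Set (IrrCharacter G)} (hBD : IsDefectGroup p M B D)
    (hH : H = D ⊔ Cen D) [Fintype H] {b : Set (IrrCharacter H)} (hind : IsInducedBlock M H b B) :
    ∃ e₀ : Set (IrrCharacter (Cen D)), IsMaximalBrauerPair p M B D e₀ ∧
      ∀ t ∈ stab M D e₀, t ∈ Subgroup.normalizer (D : Set G) ∧ ∀ θ ∈ b, ∀ θ' : IrrCharacter H,
        (∀ h h' : H, (h' : G) = t * h * t⁻¹ → (θ' : H → ℂ) h' = (θ : H → ℂ) h) → θ' ∈ b := by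
  obtain ⟨hb, hB, hab⟩ := (isInducedBlock_iff H).mp hind
  have hD := IsDefectGroup.isPGroup hBD
  have hC : Cen D ≤ H := hH ▸ le_sup_right
  have := Fintype.ofFinite (Cen D)
  obtain ⟨ξ, hξ⟩ := IsPBlock.nonempty hb
  obtain ⟨θ₀, hθ₀⟩ := exists_cen_irr (M := M) hM hD hH hC ξ
  have he₀ : IsPBlock M (blockOf M (θ₀ : Cen D → ℂ)) := isPBlock_blockOf θ₀
  refine ⟨blockOf M (θ₀ : Cen D → ℂ), isMaximal_of_card hM ?_ (card_defectGroup hM hB hBD).ge, ?_⟩
  · refine (brauerPairOf_iff_induced hM hD he₀ hB).mpr ((isInducedBlock_iff _).mpr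
      ⟨he₀, hB, fun θ hθ χ hχ a => ?_⟩)
    rw [indBomega_apply, bomega_eq_of_mem he₀ hθ (mem_blockOf_self θ₀), ← hab ξ hξ χ hχ a,
      indBomega_apply, hθ₀]
    congr 1
  intro t ht
  obtain ⟨htN, htS⟩ := (mem_stab_iff he₀).mp ht
  refine ⟨htN, fun θ hθ θ' hθ' => mem_of_bomega_eq hb hξ ?_⟩
  have htH : t ∈ Subgroup.normalizer (H : Set G) := hH ▸ normalizer_le_normalizer_sup D htN
  obtain ⟨φ, hφ, hconj⟩ := htS.2 θ₀ (mem_blockOf_self θ₀)
  let cH : H ≃* H :=
    { toFun := fun k => ⟨t⁻¹ * k * t, by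
        simpa using (Subgroup.mem_normalizer_iff.mp (Subgroup.inv_mem _ htH) (k : G)).mp k.2⟩
      invFun := fun k => ⟨t * k * t⁻¹, (Subgroup.mem_normalizer_iff.mp htH (k : G)).mp k.2⟩
      left_inv := fun k => Subtype.ext (by group)
      right_inv := fun k => Subtype.ext (by group)
      map_mul' := fun k l => Subtype.ext (by simp [mul_assoc]) }
  have htC := mem_normalizer_centralizer htN
  let cC : Cen D ≃* Cen D :=
    { toFun := fun k => ⟨t⁻¹ * k * t, by
        simpa using (Subgroup.mem_normalizer_iff.mp (Subgroup.inv_mem _ htC) (k : G)).mp k.2⟩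
      invFun := fun k => ⟨t * k * t⁻¹, (Subgroup.mem_normalizer_iff.mp htC (k : G)).mp k.2⟩
      left_inv := fun k => Subtype.ext (by group)
      right_inv := fun k => Subtype.ext (by group)
      map_mul' := fun k l => Subtype.ext (by simp [mul_assoc]) }
  refine RingHom.ext fun y => ?_
  have h1 : bomega θ' y = bomega θ (zpull cH.symm.toMonoidHom y) :=
    bomega_comp_mulEquiv cH θ θ' (funext fun k => hθ' (cH k) k
      (show (k : G) = t * (t⁻¹ * k * t) * t⁻¹ by group)) _ y fun k => by
      rw [coeff_zpull]; simp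
  have h2 : bomega φ (zpull (Subgroup.inclusion hC) y) =
      bomega θ₀ (zpull (Subgroup.inclusion hC) (zpull cH.symm.toMonoidHom y)) :=
    bomega_comp_mulEquiv cC θ₀ φ (funext fun k => hconj (cC k) k
      (show (k : G) = t * (t⁻¹ * k * t) * t⁻¹ by group)) _ _ fun k => by
      rw [coeff_zpull, coeff_zpull, coeff_zpull]
      exact congrArg _ (Subtype.ext (show (k : G) = t * (t⁻¹ * k * t) * t⁻¹ by group))
  rw [h1, bomega_eq_of_mem hb hθ hξ, hθ₀ (zpull cH.symm.toMonoidHom y), ← h2,
    ← bomega_eq_of_mem he₀ (mem_blockOf_self θ₀) hφ]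
  exact hθ₀ y

/-- Heights, inertial index, defect and centre. -/
theorem height_add_center_le (hM : IsPModular p M) {B : Set (IrrCharacter G)} (hB : IsPBlock M B)
    (hBD : IsDefectGroup p M B D) {d : ℕ} (hd : Nat.card D = p ^ d) (hH : H = D ⊔ Cen D)
    [Fintype H] {b : Set (IrrCharacter H)} (hind : IsInducedBlock M H b B) (T : Subgroup G)
    (hT : ∀ g : G, g ∈ Subgroup.normalizer (D : Set G) → (∀ θ ∈ b, ∀ θ' : IrrCharacter H,
      (∀ h h' : H, (h' : G) = g * h * g⁻¹ → (θ' : H → ℂ) h' = (θ : H → ℂ) h) → θ' ∈ b) → g ∈ T)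
    {n c : ℕ} (hn : H.relIndex T < p ^ (n + 1)) (hc : Nat.card (Subgroup.center D) = p ^ c)
    {χ : IrrCharacter G} (hχ : χ ∈ B) : blockHeight p B (χ : G → ℂ) + c ≤ n + d := by
  obtain ⟨e₀, hmax, hst⟩ := exists_pair_of_root hM hBD hH hind
  have hdd : d = blockDefect p B :=
    Nat.pow_right_injective hp.out.two_le (hd.symm.trans (card_defectGroup hM hB hBD))
  set S := stab M D e₀ with hS
  have hST : S ≤ T := fun t ht => hT t (hst t ht).1 (hst t ht).2
  set Z : Subgroup G := (Subgroup.center D).map D.subtype with hZdef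
  have hZ : ∀ z ∈ Z, z ∈ D ∧ ∀ y ∈ D, z * y = y * z := by
    rintro _ ⟨z, hz, rfl⟩
    exact ⟨z.2, fun y hy => (congrArg Subtype.val (Subgroup.mem_center_iff.mp hz ⟨y, hy⟩)).symm⟩
  let s : Setoid Z :=
    { r := fun z z' => ∃ t ∈ S, t * (z : G) * t⁻¹ = z'
      iseqv := ⟨fun z => ⟨1, one_mem _, by simp⟩,
        fun ⟨t, ht, he⟩ => ⟨t⁻¹, inv_mem ht, by rw [← he]; group⟩,
        fun ⟨t, ht, he⟩ ⟨t', ht', he'⟩ => ⟨t' * t, mul_mem ht' ht, by rw [← he', ← he]; group⟩⟩ }
  have := Fintype.ofFinite (Quotient s)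
  let rep : Quotient s → G := fun q => ((Quotient.out q : Z) : G)
  have hrep : Function.Injective rep := fun q q' h => by
    rw [← Quotient.out_eq q, ← Quotient.out_eq q', Subtype.ext h]
  have hor := major_orbits_mul_pow_height_le hM hmax (by rw [hd, hdd]) (Finset.univ.image rep)
    (fun r hr => by
      obtain ⟨q, -, rfl⟩ := Finset.mem_image.mp hr
      exact hZ _ (Quotient.out q).2)
    (fun r hr r' hr' t ht he => by
      obtain ⟨q, -, rfl⟩ := Finset.mem_image.mp hr
      obtain ⟨q', -, rfl⟩ := Finset.mem_image.mp hr'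
      have : q = q' := by
        rw [← Quotient.out_eq q, ← Quotient.out_eq q']
        exact Quotient.sound ⟨t, ht, he⟩
      rw [this]) hχ
  rw [Finset.card_image_of_injective _ hrep, Finset.card_univ, ← Nat.card_eq_fintype_card, ← hdd] at hor
  have hcount : p ^ c ≤ Nat.card (Quotient s) * H.relIndex T := by
    refine le_trans ?_ (Nat.mul_le_mul_left _ (Subgroup.relIndex_le_of_le_right hST
      Subgroup.index_ne_zero_of_finite))
    rw [← hc, ← Subgroup.card_map_of_injective D.subtype_injective, Subgroup.relIndex, Subgroup.index,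
      ← Nat.card_prod]
    have key : ∀ z : Z, ∃ qu : Quotient s × (S ⧸ H.subgroupOf S),
        ((Quotient.out qu.2 : S) : G) * rep qu.1 * ((Quotient.out qu.2 : S) : G)⁻¹ = z := fun z => by
      obtain ⟨t, ht, he⟩ : s (Quotient.out (Quotient.mk s z)) z := Quotient.mk_out z
      refine ⟨(Quotient.mk s z, QuotientGroup.mk ⟨t, ht⟩), ?_⟩
      obtain ⟨h, hh⟩ := QuotientGroup.mk_out_eq_mul (H.subgroupOf S) ⟨t, ht⟩
      show _ * rep (Quotient.mk s z) * _ = _
      rw [hh, ← he]
      have hcomm : ((h : S) : G) * rep (Quotient.mk s z) = rep (Quotient.mk s z) * ((h : S) : G) := by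
        obtain ⟨hr1, hr2⟩ := hZ _ (Quotient.out (Quotient.mk s z)).2
        have hle : D ⊔ Cen D ≤ Subgroup.centralizer ({rep (Quotient.mk s z)} : Set G) :=
          sup_le (fun y hy => Subgroup.mem_centralizer_singleton_iff.mpr (hr2 y hy).symm)
            (fun y hy => Subgroup.mem_centralizer_singleton_iff.mpr
              (Subgroup.mem_centralizer_iff.mp hy _ hr1).symm)
        exact Subgroup.mem_centralizer_singleton_iff.mp (hle (hH ▸ h.2))
      show t * (h : S) * rep _ * (t * ((h : S) : G))⁻¹ = t * rep _ * t⁻¹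
      rw [mul_inv_rev, mul_assoc t, hcomm]
      group
    choose F hF using key
    exact Nat.card_le_card_of_injective F fun z z' h => Subtype.ext (by rw [← hF z, ← hF z', h])
  have h2 : p ^ (c + blockHeight p B (χ : G → ℂ)) < p ^ (n + 1 + d) := by
    rw [pow_add, pow_add _ (n + 1) d]
    calc p ^ c * p ^ blockHeight p B (χ : G → ℂ)
        ≤ Nat.card (Quotient s) * H.relIndex T * p ^ blockHeight p B (χ : G → ℂ) :=
          Nat.mul_le_mul_right _ hcount
      _ = H.relIndex T * (Nat.card (Quotient s) * p ^ blockHeight p B (χ : G → ℂ)) := by ring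
      _ ≤ H.relIndex T * p ^ d := Nat.mul_le_mul_left _ hor
      _ < p ^ (n + 1) * p ^ d := Nat.mul_lt_mul_of_pos_right hn (pow_pos hp.out.pos _)
  have := (Nat.pow_lt_pow_iff_right hp.out.one_lt).mp h2
  omega

end CfsgLib.BlockArith
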