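import Cfsg.Agent.Lib.Modular.Lift
import Cfsg.Agent.Lib.CharNormal.Galois
import Cfsg.Agent.Lib.Invol.ZStarBasic
import Mathlib.Data.Nat.Factorial.BigOperators

/-!
# Schur's bound for a `p`-group with a faithful rational-valued character

* `rational_value`: the values are `n - p m` with `1 ≤ m ≤ n / (p - 1)`;
* `schur_bound`: the exponent of the order is at most `∑ ⌊n / ((p - 1) p ^ i)⌋`.
-/

set_option autoImplicit false

noncomputable section

namespace CfsgLib.BlockArith.Schur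

open Cfsg CfsgLib.Char CfsgLib.Blocks

variable {P : Type*} [Group P] [Fintype P] {p : ℕ} [hp : Fact p.Prime]

theorem resI_root {M : Ideal AlgInt} [M.IsMaximal] (hM : IsPModular p M) {z : ℂ} {k : ℕ} (hz : z ^ p ^ k = 1) :
    CfsgLib.Modular.resI M z = 1 := by
  have := res_charP M hM
  have h := CfsgLib.Modular.resI_pow (M := M) (pow_pos hp.out.pos k) hz
  have h2 : (CfsgLib.Modular.resI M z - 1) ^ p ^ k = 0 := by rw [sub_pow_char_pow, h, one_pow, sub_self]
  exact sub_eq_zero.1 (eq_zero_of_pow_eq_zero h2)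

/-- A rational value is congruent to the degree. -/
theorem dvd_degree_sub {χ : P → ℂ} (hχ : IsCharacter P χ) {n : ℕ} (hn : χ 1 = n) (hP : IsPGroup p P) (g : P)
    {z : ℤ} (hz : χ g = z) : (p : ℤ) ∣ (n : ℤ) - z := by
  obtain ⟨M, hM⟩ := CfsgLib.Invol.exists_isPModular p hp.out
  have : M.IsMaximal := hM.2.1
  obtain ⟨d, ρ, rfl⟩ := hχ
  obtain ⟨w, hw, hsum⟩ := exists_roots_char_pow ρ g
  obtain ⟨k, hk⟩ := IsPGroup.iff_orderOf.1 hP g
  have hd : (n : ℂ) = (d : ℂ) := by
    rw [← hn, Representation.char_one, Module.finrank_fin_fun]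
  have h1 := hsum 1
  rw [pow_one, hz] at h1
  simp only [pow_one] at h1
  have hmem : ∀ i, w i ∈ locRing M := fun i =>
    CfsgLib.Modular.root_mem_locRing (pow_pos hp.out.pos k) (by rw [← hk]; exact hw i)
  have hloc : ((z : ℤ) : locRing M) = ∑ i, (⟨w i, hmem i⟩ : locRing M) :=
    Subtype.ext (by push_cast [AddSubmonoidClass.coe_finsetSum]; exact h1)
  have hres := congrArg (res M) hloc
  rw [map_sum, Finset.sum_congr rfl fun i _ => by
    rw [show res M (⟨w i, hmem i⟩ : locRing M) = 1 from (CfsgLib.Modular.resI_coe _).symm.trans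
      (resI_root hM (k := k) (by rw [← hk]; exact hw i))]] at hres
  have hdn : n = d := by exact_mod_cast hd
  have hcard : Fintype.card (Fin (Module.finrank ℂ (Fin d → ℂ))) = d := by
    rw [Fintype.card_fin, Module.finrank_fin_fun]
  rw [← res_intCast_eq_zero_iff M hM, Int.cast_sub, map_sub, hres, Finset.sum_const, Finset.card_univ,
    nsmul_eq_mul, mul_one, Int.cast_natCast, map_natCast, sub_eq_zero, hdn]
  simp

theorem sum_res_nat {χ : P → ℂ} (hχ : IsCharacter P χ) (H : Subgroup P) [Fintype H] :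
    ∃ a : ℕ, ∑ h : H, χ h = (Nat.card H : ℂ) * a := by
  obtain ⟨a, ha⟩ := classInner_char_nat (isCharacter_res H hχ) (isCharacter_one (G := H))
  refine ⟨a, ?_⟩
  rw [← ha, classInner_def, ← mul_assoc, mul_inv_cancel₀ card_ne_zero', one_mul]
  simp

/-- The values of a faithful rational character. -/
theorem rational_value {χ : P → ℂ} (hχ : IsCharacter P χ) {n : ℕ} (hn : χ 1 = n) (hP : IsPGroup p P)
    (hfaith : ∀ g, χ g = χ 1 → g = 1) (hrat : ∀ g, ∃ z : ℤ, χ g = z) {g : P} (hg : g ≠ 1) :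
    ∃ m ∈ Finset.Icc 1 (n / (p - 1)), χ g = (((n : ℤ) - p * m : ℤ) : ℂ) := by
  classical
  obtain ⟨z, hz⟩ := hrat g
  obtain ⟨m, hm⟩ := dvd_degree_sub hχ hn hP g hz
  obtain ⟨k, hk⟩ := IsPGroup.iff_orderOf.1 hP g
  have hk0 : k ≠ 0 := fun h => hg (orderOf_eq_one_iff.1 (by rw [hk, h, pow_zero]))
  obtain ⟨j, rfl⟩ := Nat.exists_eq_succ_of_ne_zero hk0
  set H := Subgroup.zpowers g with hH
  set K := Subgroup.zpowers (g ^ p) with hKdef
  have hKH : K ≤ H := Subgroup.zpowers_le.2 (pow_mem (Subgroup.mem_zpowers g) p)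
  have hcK : Nat.card K = p ^ j := by
    rw [Nat.card_zpowers, orderOf_pow_of_dvd hp.out.ne_zero (hk ▸ dvd_pow_self p (Nat.succ_ne_zero j)), hk,
      pow_succ, Nat.mul_div_cancel _ hp.out.pos]
  have hcH : Nat.card H = p * p ^ j := by rw [Nat.card_zpowers, hk, pow_succ']
  have hgen : ∀ h ∈ H, h ∉ K → χ h = z := by
    intro h hh hhK
    obtain ⟨t, rfl⟩ := (isOfFinOrder_of_finite g).mem_powers_iff_mem_zpowers.2 hh
    have ht : ¬ p ∣ t := fun ⟨u, hu⟩ => hhK ⟨(u : ℤ), by simp [hu, pow_mul]⟩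
    have hco : t.Coprime (Nat.card P) := by
      obtain ⟨e, he⟩ := IsPGroup.iff_card.1 hP
      rw [he]
      exact Nat.Coprime.pow_right e (hp.out.coprime_iff_not_dvd.2 ht).symm
    obtain ⟨σ, hσ⟩ := CfsgLib.CharNormal.exists_ringEquiv_root_pow Nat.card_pos.ne' hco
    show χ (g ^ t) = _
    rw [← CfsgLib.CharNormal.ringEquiv_char_apply hσ hχ (orderOf_dvd_natCard g), hz, map_intCast]
  obtain ⟨a, ha⟩ := sum_res_nat hχ H
  obtain ⟨b, hb⟩ := sum_res_nat hχ K
  have hsplit : ∑ h : H, χ h = ∑ h : K, χ h + ((Nat.card H : ℂ) - Nat.card K) * z := by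
    have e1 : ∑ h : H, χ h = ∑ h ∈ Finset.univ.filter (· ∈ H), χ h :=
      (Finset.sum_subtype _ (by simp) _).symm
    have e2 : ∑ h : K, χ h = ∑ h ∈ Finset.univ.filter (· ∈ K), χ h :=
      (Finset.sum_subtype _ (by simp) _).symm
    have hsub : Finset.univ.filter (· ∈ K) ⊆ Finset.univ.filter (· ∈ H) := fun x hx => by
      simp only [Finset.mem_filter, Finset.mem_univ, true_and] at hx ⊢
      exact hKH hx
    rw [e1, e2, ← Finset.sum_sdiff hsub, add_comm]
    congr 1
    rw [Finset.sum_congr rfl (fun x hx => by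
      obtain ⟨h1, h2⟩ := Finset.mem_sdiff.1 hx
      simp only [Finset.mem_filter, Finset.mem_univ, true_and] at h1 h2
      exact hgen x h1 h2), Finset.sum_const, nsmul_eq_mul, Finset.card_sdiff_of_subset hsub,
      Nat.cast_sub (Finset.card_le_card hsub)]
    simp only [Nat.card_eq_fintype_card, Fintype.card_subtype]
  have hbn : b ≤ n := by
    have h1 : ‖∑ h : K, χ h‖ ≤ (Nat.card K : ℝ) * n := by
      refine (norm_sum_le _ _).trans ?_
      rw [Nat.card_eq_fintype_card, ← Finset.card_univ, ← nsmul_eq_mul]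
      refine Finset.sum_le_card_nsmul _ _ _ fun h _ => ?_
      have := norm_char_le hχ (h : P)
      rwa [hn, Complex.natCast_re] at this
    rw [hb, norm_mul, Complex.norm_natCast, Complex.norm_natCast] at h1
    have h2 : 0 < (Nat.card K : ℝ) := Nat.cast_pos.2 Nat.card_pos
    exact_mod_cast (mul_le_mul_iff_right₀ h2).1 h1
  have key : (p : ℤ) * a = b + ((p : ℤ) - 1) * z := by
    have h1 : (((p : ℤ) * (p ^ j : ℕ) * a : ℤ) : ℂ) = (((p ^ j : ℕ) * (b + ((p : ℤ) - 1) * z) : ℤ) : ℂ) := by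
      rw [hsplit, hb, hcH, hcK] at ha
      push_cast at ha ⊢
      linear_combination -ha
    have h2 : (p : ℤ) * (p ^ j : ℕ) * a = (p ^ j : ℕ) * (b + ((p : ℤ) - 1) * z) := by exact_mod_cast h1
    refine mul_left_cancel₀ (show ((p ^ j : ℕ) : ℤ) ≠ 0 by exact_mod_cast pow_ne_zero j hp.out.ne_zero) ?_
    rw [← h2]; ring
  have hzn : z < n := by
    have h1 := norm_char_le hχ g
    rw [hz, hn, Complex.natCast_re, Complex.norm_intCast] at h1
    have h2 : z ≤ n := by
      have : (z : ℝ) ≤ n := (le_abs_self _).trans h1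
      exact_mod_cast this
    refine lt_of_le_of_ne h2 fun e => hg (hfaith g ?_)
    rw [hz, hn, e, Int.cast_natCast]
  have hp2 : (2 : ℤ) ≤ p := by exact_mod_cast hp.out.two_le
  have hm1 : 1 ≤ m := by nlinarith
  obtain ⟨m', rfl⟩ := Int.eq_ofNat_of_zero_le (by omega : 0 ≤ m)
  refine ⟨m', Finset.mem_Icc.2 ⟨by exact_mod_cast hm1, ?_⟩, ?_⟩
  · rw [Nat.le_div_iff_mul_le (by have := hp.out.two_le; omega)]
    have h3 : (0 : ℤ) ≤ (p : ℤ) * a := by positivity
    have hb' : (b : ℤ) ≤ n := by exact_mod_cast hbn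
    have h4 : (p : ℤ) * ((m' : ℤ) * ((p : ℤ) - 1)) ≤ p * n := by nlinarith
    have h5 := Int.le_of_mul_le_mul_left h4 (by omega)
    have h6 : ((m' * (p - 1) : ℕ) : ℤ) ≤ n := by
      push_cast [Nat.cast_sub hp.out.one_le]; exact h5
    exact_mod_cast h6
  · rw [hz]
    congr 1
    linarith

/-- **Schur's bound.** -/
theorem schur_bound {χ : P → ℂ} (hχ : IsCharacter P χ) {n : ℕ} (hn : χ 1 = n) (hP : IsPGroup p P)
    (hfaith : ∀ g, χ g = χ 1 → g = 1) (hrat : ∀ g, ∃ z : ℤ, χ g = z) :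
    (Nat.card P).factorization p ≤ ∑ i ∈ Finset.range (n + 1), n / ((p - 1) * p ^ i) := by
  classical
  set t := n / (p - 1) with ht
  let f : Polynomial ℤ := ∏ m ∈ Finset.Icc 1 t, (Polynomial.X - Polynomial.C ((n : ℤ) - p * (m : ℤ)))
  have hsum : ∑ g : P, f.eval₂ (Int.castRingHom ℂ) (χ g) =
      ((∏ m ∈ Finset.Icc 1 t, (p * m) : ℕ) : ℂ) := by
    rw [Finset.sum_eq_single (1 : P)]
    · simp only [f, Polynomial.eval₂_finsetProd, Polynomial.eval₂_sub, Polynomial.eval₂_X, Polynomial.eval₂_C, hn]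
      push_cast
      exact Finset.prod_congr rfl fun m _ => by simp
    · intro g _ hg
      obtain ⟨m, hm, hv⟩ := rational_value hχ hn hP hfaith hrat hg
      simp only [f, Polynomial.eval₂_finsetProd]
      refine Finset.prod_eq_zero hm ?_
      simp [hv]
    · simp
  have hpow : ∀ k : ℕ, ∃ a : ℕ, ∑ g : P, χ g ^ k = (Nat.card P : ℂ) * a := by
    intro k
    have hk : IsCharacter P (χ ^ k) := by
      induction k with
      | zero => rw [pow_zero]; exact isCharacter_one (G := P)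
      | succ k ih => rw [pow_succ]; exact isCharacter_mul ih hχ
    obtain ⟨a, ha⟩ := sum_res_nat hk ⊤
    refine ⟨a, ?_⟩
    rw [Subgroup.card_top] at ha
    rw [← ha]
    exact Fintype.sum_equiv Subgroup.topEquiv.toEquiv.symm _ _ fun _ => rfl
  choose a ha using hpow
  have hint : ∑ g : P, f.eval₂ (Int.castRingHom ℂ) (χ g) =
      (Nat.card P : ℂ) * ((∑ k ∈ Finset.range (f.natDegree + 1), f.coeff k * (a k : ℤ) : ℤ) : ℂ) := by
    simp only [Polynomial.eval₂_eq_sum_range]
    rw [Finset.sum_comm]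
    push_cast
    rw [Finset.mul_sum]
    refine Finset.sum_congr rfl fun k _ => ?_
    rw [← Finset.mul_sum, ha, eq_intCast]
    ring
  rw [hsum] at hint
  have hdvd : Nat.card P ∣ ∏ m ∈ Finset.Icc 1 t, (p * m) := by
    have h2 : ((∏ m ∈ Finset.Icc 1 t, (p * m) : ℕ) : ℤ) =
        (Nat.card P : ℤ) * ∑ k ∈ Finset.range (f.natDegree + 1), f.coeff k * (a k : ℤ) := by exact_mod_cast hint
    exact_mod_cast Dvd.intro _ h2.symm
  have hprod : ∏ m ∈ Finset.Icc 1 t, (p * m) = p ^ t * t.factorial := by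
    rw [Finset.prod_mul_distrib, Finset.prod_const, Nat.card_Icc, Nat.add_sub_cancel,
      show Finset.Icc 1 t = Finset.Ico 1 (t + 1) by ext; simp, Finset.prod_Ico_id_eq_factorial]
  rw [hprod] at hdvd
  have hle := (Nat.factorization_le_iff_dvd Nat.card_pos.ne'
    (mul_ne_zero (pow_ne_zero _ hp.out.ne_zero) (Nat.factorial_ne_zero _))).2 hdvd p
  refine hle.trans ?_
  have htn : t ≤ n := Nat.div_le_self _ _
  rw [Nat.factorization_mul (pow_ne_zero _ hp.out.ne_zero) (Nat.factorial_ne_zero _), Finsupp.add_apply,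
    hp.out.factorization_pow, Finsupp.single_eq_same,
    Nat.factorization_factorial hp.out (b := n + 1) (lt_of_le_of_lt (Nat.log_le_self _ _) (by omega)),
    Finset.range_eq_Ico, Finset.sum_eq_sum_Ico_succ_bot (Nat.succ_pos n), pow_zero, mul_one]
  refine Nat.add_le_add le_rfl (le_of_eq (Finset.sum_congr rfl fun i _ => ?_))
  rw [ht, Nat.div_div_eq_div_mul]

end CfsgLib.BlockArith.Schur
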