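import Mathlib.GroupTheory.Sylow
import Mathlib.GroupTheory.PGroup
import Mathlib.GroupTheory.Abelianization.Defs
import Mathlib.GroupTheory.GroupAction.Quotient

/-!
# Elements of prime order with centraliser of prime order
-/

set_option autoImplicit false

namespace CfsgLib.BlockArith

variable {G : Type*} [Group G] [Finite G] {p : ℕ} [hp : Fact p.Prime] {x : G}

/-- The Sylow subgroup is generated by `x`. -/
theorem sylow_eq_zpowers (hx : orderOf x = p)
    (hC : Subgroup.centralizer ({x} : Set G) = Subgroup.zpowers x) :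
    ∃ P : Sylow p G, (P : Subgroup G) = Subgroup.zpowers x := by
  have hxp : IsPGroup p (Subgroup.zpowers x) := IsPGroup.of_card (n := 1) (by
    rw [Nat.card_zpowers, hx, pow_one])
  obtain ⟨P, hP⟩ := hxp.exists_le_sylow
  refine ⟨P, le_antisymm (fun y hy => ?_) hP⟩
  have hp1 : p ≠ 1 := hp.out.ne_one
  have hne : Nontrivial (P : Subgroup G) := by
    refine (Subgroup.nontrivial_iff_exists_ne_one _).mpr ⟨x, hP (Subgroup.mem_zpowers x), fun h => ?_⟩
    rw [h, orderOf_one] at hx
    exact absurd hx.symm hp.out.ne_one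
  have := P.2.center_nontrivial
  obtain ⟨⟨z, hz⟩, hz1⟩ := exists_ne (1 : Subgroup.center (P : Subgroup G))
  have hzc : ∀ w : (P : Subgroup G), Commute (w : G) (z : G) := fun w =>
    congrArg Subtype.val (Subgroup.mem_center_iff.mp hz w)
  have hzx : (z : G) ∈ Subgroup.zpowers x := hC ▸ Subgroup.mem_centralizer_singleton_iff.mpr
    (hzc ⟨x, hP (Subgroup.mem_zpowers x)⟩).symm.eq
  have hz1' : (z : G) ≠ 1 := fun h => hz1 (Subtype.ext (Subtype.ext h))
  have hxz : x ∈ Subgroup.zpowers (z : G) := by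
    have heq : Subgroup.zpowers (z : G) = Subgroup.zpowers x := by
      refine Subgroup.eq_of_le_of_card_ge (Subgroup.zpowers_le.mpr hzx) ?_
      rw [Nat.card_zpowers, Nat.card_zpowers, hx]
      have h1 : orderOf (z : G) ∣ p := (orderOf_dvd_of_mem_zpowers hzx).trans (dvd_of_eq hx)
      rcases hp.out.eq_one_or_self_of_dvd _ h1 with h | h
      · exact absurd (orderOf_eq_one_iff.mp h) hz1'
      · rw [h]
    exact heq ▸ Subgroup.mem_zpowers x
  rw [← hC, Subgroup.mem_centralizer_singleton_iff]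
  obtain ⟨k, hk⟩ := Subgroup.mem_zpowers_iff.mp hxz
  exact hk ▸ ((hzc ⟨y, hy⟩).zpow_right k).eq

variable {S : Subgroup G} [hS : S.Normal]

theorem commutator_le_of_dvd (hx : orderOf x = p)
    (hC : Subgroup.centralizer ({x} : Set G) = Subgroup.zpowers x) (hpS : p ∣ Nat.card S) :
    commutator G ≤ S := by
  obtain ⟨P, hP⟩ := sylow_eq_zpowers hx hC
  obtain ⟨y, hy⟩ := exists_prime_orderOf_dvd_card' p hpS
  have hPS : (P : Subgroup G) ≤ S := by
    have hyp : IsPGroup p (Subgroup.zpowers (y : G)) := IsPGroup.of_card (n := 1) (by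
      rw [Nat.card_zpowers, Subgroup.orderOf_coe, hy, pow_one])
    obtain ⟨Q, hQ⟩ := hyp.exists_le_sylow
    obtain ⟨g, hg⟩ := MulAction.exists_smul_eq G Q P
    intro w hw
    have hQc : Nat.card (Q : Subgroup G) = p := by
      rw [Q.card_eq_multiplicity, ← P.card_eq_multiplicity, hP, Nat.card_zpowers, hx]
    have hQy : Subgroup.zpowers (y : G) = (Q : Subgroup G) :=
      Subgroup.eq_of_le_of_card_ge hQ (by rw [hQc, Nat.card_zpowers, Subgroup.orderOf_coe, hy])
    have hQS : (Q : Subgroup G) ≤ S := hQy ▸ Subgroup.zpowers_le.mpr y.2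
    rw [← hg, Sylow.coe_subgroup_smul, Subgroup.mem_pointwise_smul_iff_inv_smul_mem] at hw
    have := hS.conj_mem _ (hQS hw) g
    simpa [MulAut.smul_def, mul_assoc] using this
  have htop : Subgroup.normalizer ((P : Subgroup G) : Set G) ⊔ S = ⊤ := by
    rw [eq_top_iff]
    have h := Sylow.normalizer_sup_eq_top (P.subtype hPS)
    rw [Sylow.coe_subtype, Subgroup.map_subgroupOf_eq_of_le hPS] at h
    rw [h]
  rw [commutator_def, Subgroup.commutator_le]
  intro a _ b _
  have hmem : ∀ u : G, ∃ n ∈ Subgroup.normalizer ((P : Subgroup G) : Set G),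
      (QuotientGroup.mk u : G ⧸ S) = QuotientGroup.mk n := by
    intro u
    obtain ⟨n, hn, s, hs, rfl⟩ := Subgroup.mem_sup_of_normal_right.mp (htop.ge (Subgroup.mem_top u))
    exact ⟨n, hn, QuotientGroup.eq.mpr (by simpa using hs)⟩
  obtain ⟨n, hn, hna⟩ := hmem a
  obtain ⟨m, hm, hmb⟩ := hmem b
  open scoped commutatorElement in
  rw [← QuotientGroup.eq_one_iff]
  have key : ⁅n, m⁆ ∈ S := by
    refine hPS ?_
    rw [hP, ← hC, Subgroup.mem_centralizer_singleton_iff]
    have hxP : x ∈ (P : Subgroup G) := hP ▸ Subgroup.mem_zpowers x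
    have act : ∀ u ∈ Subgroup.normalizer ((P : Subgroup G) : Set G), ∃ k : ℤ, u * x * u⁻¹ = x ^ k := by
      intro u hu
      have := (Subgroup.mem_normalizer_iff.mp hu x).mp hxP
      rw [hP] at this
      exact (Subgroup.mem_zpowers_iff.mp this).imp fun k hk => hk.symm
    obtain ⟨i, hi⟩ := act n hn
    obtain ⟨j, hj⟩ := act m hm
    obtain ⟨i', hi'⟩ := act n⁻¹ (inv_mem hn)
    obtain ⟨j', hj'⟩ := act m⁻¹ (inv_mem hm)
    rw [inv_inv] at hi' hj'
    have pw : ∀ (u : G) (k l : ℤ), u * x * u⁻¹ = x ^ k → u * x ^ l * u⁻¹ = x ^ (k * l) := by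
      intro u k l h
      rw [← conj_zpow, h, zpow_mul]
    have e1 : x ^ (i * i') = x := by
      rw [← pw n i i' hi, ← hi']; group
    have e2 : x ^ (j * j') = x := by
      rw [← pw m j j' hj, ← hj']; group
    have e3 : ⁅n, m⁆ * x * ⁅n, m⁆⁻¹ = x := by
      calc ⁅n, m⁆ * x * ⁅n, m⁆⁻¹
          = n * (m * (n⁻¹ * (m⁻¹ * x * m) * n) * m⁻¹) * n⁻¹ := by
            rw [commutatorElement_def]; group
        _ = x := by
            rw [hj', show n⁻¹ * x ^ j' * n = x ^ (i' * j') from by
              have := pw n⁻¹ i' j' (by rw [inv_inv]; exact hi')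
              rwa [inv_inv] at this]
            rw [pw m j _ hj, pw n i _ hi,
              show i * (j * (i' * j')) = i * i' * (j * j') by ring, zpow_mul, e1, e2]
    calc ⁅n, m⁆ * x = ⁅n, m⁆ * x * ⁅n, m⁆⁻¹ * ⁅n, m⁆ := by group
      _ = x * ⁅n, m⁆ := by rw [e3]
  rw [show ((⁅a, b⁆ : G) : G ⧸ S) = ⁅(a : G ⧸ S), (b : G ⧸ S)⁆ from map_commutatorElement (QuotientGroup.mk' S) a b,
    hna, hmb, ← show ((⁅n, m⁆ : G) : G ⧸ S) = ⁅(n : G ⧸ S), (m : G ⧸ S)⁆ from map_commutatorElement (QuotientGroup.mk' S) n m]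
  exact (QuotientGroup.eq_one_iff _).mpr key

/-- `S` meets the centraliser of `x` trivially. -/
theorem eq_one_of_commute (hx : orderOf x = p)
    (hC : Subgroup.centralizer ({x} : Set G) = Subgroup.zpowers x) (hpS : ¬ p ∣ Nat.card S)
    {s : G} (hs : s ∈ S) (hc : s * x = x * s) : s = 1 := by
  have h1 : s ∈ Subgroup.zpowers x := hC ▸ Subgroup.mem_centralizer_singleton_iff.mpr hc
  have h2 : orderOf s ∣ p := (orderOf_dvd_of_mem_zpowers h1).trans (dvd_of_eq hx)
  rcases hp.out.eq_one_or_self_of_dvd _ h2 with h | h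
  · exact orderOf_eq_one_iff.mp h
  · refine absurd ?_ hpS
    rw [← h]
    exact Subgroup.orderOf_dvd_natCard S hs

theorem quotient_self_centralizing (hx : orderOf x = p)
    (hC : Subgroup.centralizer ({x} : Set G) = Subgroup.zpowers x) (hpS : ¬ p ∣ Nat.card S) :
    Nat.card S ∣ Nat.card {H : Subgroup G // Nat.card H = p} ∧ Nat.card S % p = 1 ∧
      orderOf (QuotientGroup.mk x : G ⧸ S) = p ∧
      Subgroup.centralizer ({(QuotientGroup.mk x : G ⧸ S)} : Set (G ⧸ S)) =
        Subgroup.zpowers (QuotientGroup.mk x : G ⧸ S) := by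
  classical
  obtain ⟨P, hP⟩ := sylow_eq_zpowers hx hC
  have h1 := fun {s : G} => eq_one_of_commute (S := S) hx hC hpS (s := s)
  refine ⟨?_, ?_, ?_, ?_⟩
  · have hPc : Nat.card (P : Subgroup G) = p := by rw [hP, Nat.card_zpowers, hx]
    have hcard : Nat.card {H : Subgroup G // Nat.card H = p} = Nat.card (Sylow p G) := by
      refine (Nat.card_eq_of_bijective (fun Q : Sylow p G => (⟨(Q : Subgroup G), by
        rw [Q.card_eq_multiplicity, ← P.card_eq_multiplicity, hPc]⟩ : {H : Subgroup G // Nat.card H = p}))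
        ⟨fun Q R h => Sylow.ext (congrArg Subtype.val h :), fun H => ?_⟩).symm
      obtain ⟨Q, hQ⟩ := (IsPGroup.of_card (n := 1) (H.2.trans (pow_one p).symm)).exists_le_sylow
      exact ⟨Q, Subtype.ext (Subgroup.eq_of_le_of_card_ge hQ
        (by rw [H.2, Q.card_eq_multiplicity, ← P.card_eq_multiplicity, hPc])).symm⟩
    rw [hcard, P.card_eq_index_normalizer]
    have hdisj : S ⊓ Subgroup.normalizer ((P : Subgroup G) : Set G) = ⊥ := by
      rw [eq_bot_iff]
      intro s hsn
      obtain ⟨hs, hn⟩ := Subgroup.mem_inf.mp hsn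
      refine Subgroup.mem_bot.mpr (h1 hs ?_)
      have hsx : s * x * s⁻¹ ∈ Subgroup.zpowers x := by
        have := (Subgroup.mem_normalizer_iff.mp hn x).mp (by rw [hP]; exact Subgroup.mem_zpowers x)
        rwa [hP] at this
      have hk : s * x * s⁻¹ * x⁻¹ ∈ Subgroup.zpowers x := mul_mem hsx (inv_mem (Subgroup.mem_zpowers x))
      have hS' : s * x * s⁻¹ * x⁻¹ ∈ S := by
        have : s * (x * s⁻¹ * x⁻¹) ∈ S := mul_mem hs (hS.conj_mem _ (inv_mem hs) x)
        simpa [mul_assoc] using this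
      have hone : s * x * s⁻¹ * x⁻¹ = 1 := h1 hS' (by
        obtain ⟨k, hk⟩ := Subgroup.mem_zpowers_iff.mp hk
        rw [← hk]; exact ((Commute.refl x).zpow_left k).eq)
      calc s * x = s * x * s⁻¹ * x⁻¹ * (x * s) := by group
        _ = x * s := by rw [hone, one_mul]
    have hle := Subgroup.card_dvd_of_le (le_refl (S ⊔ Subgroup.normalizer ((P : Subgroup G) : Set G)))
    have hmul : Nat.card (S ⊔ Subgroup.normalizer ((P : Subgroup G) : Set G) : Subgroup G) =
        Nat.card S * Nat.card (Subgroup.normalizer ((P : Subgroup G) : Set G)) := by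
      have hinj : Function.Injective (fun q : S × Subgroup.normalizer ((P : Subgroup G) : Set G) =>
          (⟨(q.1 : G) * q.2, mul_mem (Subgroup.mem_sup_left q.1.2) (Subgroup.mem_sup_right q.2.2)⟩ :
            (S ⊔ Subgroup.normalizer ((P : Subgroup G) : Set G) : Subgroup G))) := by
        rintro ⟨a, b⟩ ⟨c, d⟩ h
        have h' : (a : G) * b = c * d := congrArg Subtype.val h
        have hm : (c : G)⁻¹ * a ∈ S ⊓ Subgroup.normalizer ((P : Subgroup G) : Set G) :=
          Subgroup.mem_inf.mpr ⟨mul_mem (inv_mem c.2) a.2, by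
            rw [show (c : G)⁻¹ * a = d * (b : G)⁻¹ by
              rw [eq_mul_inv_iff_mul_eq, mul_assoc, h', inv_mul_cancel_left]]
            exact mul_mem d.2 (inv_mem b.2)⟩
        rw [hdisj, Subgroup.mem_bot] at hm
        have hac : (a : G) = c := (inv_mul_eq_one.mp hm).symm
        rw [hac] at h'
        exact Prod.ext (Subtype.ext hac) (Subtype.ext (mul_left_cancel h'))
      rw [← Nat.card_prod]
      refine (Nat.card_eq_of_bijective _ ⟨hinj, fun u => ?_⟩).symm
      obtain ⟨a, ha, b, hb, hab⟩ := Subgroup.mem_sup_of_normal_left.mp u.2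
      exact ⟨(⟨a, ha⟩, ⟨b, hb⟩), Subtype.ext hab⟩
    have h2 : Nat.card S * Nat.card (Subgroup.normalizer ((P : Subgroup G) : Set G)) ∣
        (Subgroup.normalizer ((P : Subgroup G) : Set G)).index *
          Nat.card (Subgroup.normalizer ((P : Subgroup G) : Set G)) := by
      rw [← hmul, Subgroup.index_mul_card]
      exact Subgroup.card_subgroup_dvd_card _
    exact Nat.dvd_of_mul_dvd_mul_right Nat.card_pos h2
  · let _ : MulAction (Subgroup.zpowers x) S := MulAction.compHom S
      ((MulAut.conjNormal (G := G) (H := S)).comp (Subgroup.zpowers x).subtype)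
    have hfix : MulAction.fixedPoints (Subgroup.zpowers x) S = {1} := by
      ext s
      refine ⟨fun hs => ?_, fun hs g => ?_⟩
      · have h := congrArg Subtype.val (hs ⟨x, Subgroup.mem_zpowers x⟩)
        change (((MulAut.conjNormal (G := G) (H := S)) x s : S) : G) = (s : G) at h
        rw [MulAut.conjNormal_apply, mul_inv_eq_iff_eq_mul] at h
        exact Subtype.ext (h1 s.2 h.symm)
      · rw [Set.mem_singleton_iff.mp hs]
        exact map_one (MulAut.conjNormal (g : G))
    have hmod := (IsPGroup.of_card (p := p) (n := 1) (by rw [Nat.card_zpowers, hx, pow_one]) :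
      IsPGroup p (Subgroup.zpowers x)).card_modEq_card_fixedPoints S
    rw [hfix, Nat.card_coe_set_eq, Set.ncard_singleton] at hmod
    unfold Nat.ModEq at hmod
    rw [hmod, Nat.one_mod_eq_one.mpr hp.out.ne_one]
  · refine orderOf_eq_prime ?_ fun h => hpS ?_
    · rw [← QuotientGroup.mk_pow, ← hx, pow_orderOf_eq_one, QuotientGroup.mk_one]
    · rw [← hx]
      exact Subgroup.orderOf_dvd_natCard S ((QuotientGroup.eq_one_iff x).mp h)
  · ext q
    induction q using QuotientGroup.induction_on with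
    | H g => ?_
    refine ⟨fun hq => ?_, fun hq => ?_⟩
    · rw [Subgroup.mem_centralizer_singleton_iff] at hq
      have hgS : g * x * g⁻¹ * x⁻¹ ∈ S := by
        rw [← QuotientGroup.eq_one_iff, QuotientGroup.mk_mul, QuotientGroup.mk_mul, QuotientGroup.mk_mul,
          hq, QuotientGroup.mk_inv, QuotientGroup.mk_inv, mul_inv_cancel_right, mul_inv_cancel]
      let f : S → S := fun s => ⟨(s : G) * (x * (s : G)⁻¹ * x⁻¹),
        mul_mem s.2 (hS.conj_mem _ (inv_mem s.2) x)⟩
      have hinj : Function.Injective f := by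
        intro a b h
        have h' : (a : G) * (x * (a : G)⁻¹ * x⁻¹) = b * (x * (b : G)⁻¹ * x⁻¹) := congrArg Subtype.val h
        have hc : (b : G)⁻¹ * a * x = x * ((b : G)⁻¹ * a) := by
          calc (b : G)⁻¹ * a * x = (b : G)⁻¹ * ((a : G) * (x * (a : G)⁻¹ * x⁻¹)) * (x * a) := by group
            _ = x * ((b : G)⁻¹ * a) := by rw [h']; group
        exact Subtype.ext (inv_mul_eq_one.mp (h1 (mul_mem (inv_mem b.2) a.2) hc)).symm
      obtain ⟨s, hs⟩ := (Finite.injective_iff_surjective.mp hinj) ⟨_, hgS⟩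
      have hs' : (s : G) * (x * (s : G)⁻¹ * x⁻¹) = g * x * g⁻¹ * x⁻¹ := congrArg Subtype.val hs
      have hc : (s : G)⁻¹ * g * x = x * ((s : G)⁻¹ * g) := by
        calc (s : G)⁻¹ * g * x = (s : G)⁻¹ * (g * x * g⁻¹ * x⁻¹) * (x * g) := by group
          _ = x * ((s : G)⁻¹ * g) := by rw [← hs']; group
      have hmem : (s : G)⁻¹ * g ∈ Subgroup.zpowers x := hC ▸ Subgroup.mem_centralizer_singleton_iff.mpr hc
      obtain ⟨k, hk⟩ := Subgroup.mem_zpowers_iff.mp hmem
      refine Subgroup.mem_zpowers_iff.mpr ⟨k, ?_⟩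
      rw [← QuotientGroup.mk_zpow, hk, QuotientGroup.mk_mul, (QuotientGroup.eq_one_iff _).mpr (inv_mem s.2), one_mul]
    · obtain ⟨k, hk⟩ := Subgroup.mem_zpowers_iff.mp hq
      rw [← hk, Subgroup.mem_centralizer_singleton_iff]
      exact ((Commute.refl _).zpow_left k).eq

end CfsgLib.BlockArith
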