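import Cfsg.Agent.Lib.BlockArith.FreeSylowMain
import Cfsg.Agent.Lib.BlockArith.SelfCentral
import Cfsg.Agent.Lib.Char.Equiv
import Mathlib.RepresentationTheory.Invariants

/-!
Irreducible characters of degree `p - 1` with a self-centralising subgroup of order `p`.
-/

set_option autoImplicit false

noncomputable section

namespace CfsgLib.SelfCentralDegree

open Cfsg CfsgLib.Char CfsgLib.FreeSylow
open scoped ComplexConjugate Classical commutatorElement Pointwise IsMulCommutative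

universe u

theorem t_mul_relIndex {G : Type u} [Group G] [Finite G] {p : ℕ} [hpF : Fact p.Prime] {x : G}
    (hx : orderOf x = p) (hC : Subgroup.centralizer ({x} : Set G) = Subgroup.zpowers x) {t : ℕ}
    (ht : Nat.card {C : ConjClasses G // ∃ g ∈ C.carrier, orderOf g = p} = t) :
    t * (Subgroup.zpowers x).relIndex (Subgroup.normalizer (Subgroup.zpowers x : Set G)) = p - 1 := by
  classical
  have hp : p.Prime := hpF.out
  set X := Subgroup.zpowers x with hXdef
  have hXc : Nat.card X = p := by rw [Nat.card_zpowers, hx]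
  have hXp : IsPGroup p X := IsPGroup.of_card (n := 1) (by rw [hXc, pow_one])
  obtain ⟨S, hXS⟩ := hXp.exists_le_sylow
  have hcent : ∀ g : G, g * x = x * g → g ∈ X := fun g hg => by
    rw [← hC, Subgroup.mem_centralizer_singleton_iff]; exact hg
  have hxS : x ∈ (S : Subgroup G) := hXS (Subgroup.mem_zpowers x)
  have hSX : (S : Subgroup G) = X := by
    refine le_antisymm ?_ hXS
    have : Nontrivial (S : Subgroup G) :=
      ⟨⟨x, hxS⟩, 1, fun h => by
        have h1 : x = 1 := congrArg Subtype.val h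
        rw [h1, orderOf_one] at hx
        exact hp.ne_one hx.symm⟩
    have := S.isPGroup'.center_nontrivial
    obtain ⟨z, hz⟩ := exists_ne (1 : Subgroup.center (S : Subgroup G))
    have hzS : ∀ s ∈ (S : Subgroup G), (z.1.1 : G) * s = s * z.1.1 := fun s hs =>
      (congrArg Subtype.val (Subgroup.mem_center_iff.1 z.2 ⟨s, hs⟩)).symm
    have hzX : z.1.1 ∈ X := hcent _ (hzS x hxS)
    have hz1 : z.1.1 ≠ 1 := fun h => hz (Subtype.ext (Subtype.ext h))
    intro s hs
    apply hcent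
    have hxz : x ∈ Subgroup.zpowers z.1.1 := by
      have hle : Subgroup.zpowers z.1.1 ≤ X := Subgroup.zpowers_le.2 hzX
      have hdvd := Subgroup.card_dvd_of_le hle
      rw [hXc, Nat.card_zpowers] at hdvd
      rcases hp.eq_one_or_self_of_dvd _ hdvd with h | h
      · exact absurd (orderOf_eq_one_iff.1 h) hz1
      · rw [Subgroup.eq_of_le_of_card_ge hle (by rw [hXc, Nat.card_zpowers, h])]
        exact Subgroup.mem_zpowers x
    obtain ⟨m, hm⟩ := hxz
    rw [← hm]
    exact ((show Commute (z.1.1 : G) s from hzS s hs).zpow_left m).eq.symm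
  set N := Subgroup.normalizer (X : Set G) with hN
  have hXN : X ≤ N := Subgroup.le_normalizer
  set e := X.relIndex N with he
  have hgen : ∀ y ∈ X, y ≠ 1 → Subgroup.zpowers y = X := by
    intro y hy hy1
    have hle : Subgroup.zpowers y ≤ X := Subgroup.zpowers_le.2 hy
    have hdvd := Subgroup.card_dvd_of_le hle
    rw [hXc, Nat.card_zpowers] at hdvd
    rcases hp.eq_one_or_self_of_dvd _ hdvd with h | h
    · exact absurd (orderOf_eq_one_iff.1 h) hy1
    · exact Subgroup.eq_of_le_of_card_ge hle (by rw [hXc, Nat.card_zpowers, h])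
  have hcenty : ∀ y ∈ X, y ≠ 1 → ∀ g : G, g * y = y * g → g ∈ X := by
    intro y hy hy1 g hg
    apply hcent
    obtain ⟨m, hm⟩ : x ∈ Subgroup.zpowers y := by rw [hgen y hy hy1]; exact Subgroup.mem_zpowers x
    rw [← hm]
    exact ((show Commute g y from hg).zpow_right m).eq
  -- the fibres of `X ∖ 1 → classes` are the orbits of `N`
  let A := {y : X // (y : G) ≠ 1}
  let T := {C : ConjClasses G // ∃ g ∈ C.carrier, orderOf g = p}
  have hord : ∀ y : A, orderOf (y.1.1 : G) = p := fun y => by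
    rw [← Nat.card_zpowers, hgen _ y.1.2 y.2, hXc]
  let f : A → T := fun y => ⟨ConjClasses.mk y.1.1, y.1.1, ConjClasses.mem_carrier_mk, hord y⟩
  have hfib : ∀ c : T, Nat.card {y : A // f y = c} = e := by
    rintro ⟨C, g, hgC, hg⟩
    obtain ⟨h0, hh0⟩ : ∃ h0 : A, f h0 = ⟨C, g, hgC, hg⟩ := by
      have hgp : IsPGroup p (Subgroup.zpowers g) := IsPGroup.of_card (n := 1) (by rw [Nat.card_zpowers, hg, pow_one])
      obtain ⟨R, hR⟩ := hgp.exists_le_sylow
      obtain ⟨u, hu⟩ := MulAction.exists_smul_eq G R S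
      have huX : u * g * u⁻¹ ∈ X := by
        rw [← hSX, ← hu, Sylow.coe_subgroup_smul, Subgroup.mem_pointwise_smul_iff_inv_smul_mem]
        simp [MulAut.smul_def, hR (Subgroup.mem_zpowers g), mul_assoc]
      have hne : u * g * u⁻¹ ≠ 1 := fun h => by
        have hg1 : g = 1 := conj_eq_one_iff.1 h
        rw [hg1, orderOf_one] at hg
        exact hp.ne_one hg.symm
      refine ⟨⟨⟨u * g * u⁻¹, huX⟩, hne⟩, Subtype.ext ?_⟩
      show ConjClasses.mk (u * g * u⁻¹) = C
      rw [← ConjClasses.mem_carrier_iff_mk_eq.1 hgC]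
      exact ConjClasses.mk_eq_mk_iff_isConj.2 (isConj_iff.2 ⟨u⁻¹, by group⟩)
    rw [← hh0, he, Subgroup.relIndex, Subgroup.index]
    symm
    let φ : N → {y : A // f y = f h0} := fun n =>
      ⟨⟨⟨(n : G) * h0.1.1 * (n : G)⁻¹, (Subgroup.mem_normalizer_iff.1 n.2 _).1 h0.1.2⟩,
          fun h => h0.2 (conj_eq_one_iff.1 h)⟩,
        Subtype.ext (ConjClasses.mk_eq_mk_iff_isConj.2 (isConj_iff.2 ⟨(n : G)⁻¹, by group⟩))⟩
    refine Nat.card_congr (Equiv.ofBijective (Quotient.lift φ ?_) ⟨?_, ?_⟩)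
    · intro a b hab
      have hab' : (a : G)⁻¹ * b ∈ X := Subgroup.mem_subgroupOf.1 (QuotientGroup.leftRel_apply.1 hab)
      apply Subtype.ext
      apply Subtype.ext
      apply Subtype.ext
      show (a : G) * h0.1.1 * (a : G)⁻¹ = b * h0.1.1 * (b : G)⁻¹
      have hcm : ((a : G)⁻¹ * b) * h0.1.1 = h0.1.1 * ((a : G)⁻¹ * b) := by
        obtain ⟨i, hi⟩ := hab'
        obtain ⟨j, hj⟩ := h0.1.2
        rw [← hi, ← hj]
        exact ((Commute.refl x).zpow_zpow i j).eq
      calc (a : G) * h0.1.1 * (a : G)⁻¹ = a * (h0.1.1 * ((a : G)⁻¹ * b)) * (b : G)⁻¹ := by group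
        _ = a * (((a : G)⁻¹ * b) * h0.1.1) * (b : G)⁻¹ := by rw [hcm]
        _ = _ := by group
    · intro a b
      induction a using Quotient.inductionOn with | _ a =>
      induction b using Quotient.inductionOn with | _ b =>
      intro hab
      have h := congrArg (fun z : {y : A // f y = f h0} => (z.1.1.1 : G)) hab
      simp only [Quotient.lift_mk, φ] at h
      apply Quotient.sound
      apply QuotientGroup.leftRel_apply.2
      rw [Subgroup.mem_subgroupOf]
      refine hcenty _ h0.1.2 h0.2 ((a : G)⁻¹ * b) ?_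
      calc (a : G)⁻¹ * b * h0.1.1 = (a : G)⁻¹ * (b * h0.1.1 * (b : G)⁻¹) * b := by group
        _ = (a : G)⁻¹ * (a * h0.1.1 * (a : G)⁻¹) * b := by rw [h]
        _ = _ := by group
    · rintro ⟨y, hy⟩
      obtain ⟨u, hu⟩ := isConj_iff.1 (ConjClasses.mk_eq_mk_iff_isConj.1 (congrArg Subtype.val hy).symm)
      have hu' : u ∈ N := by
        rw [hN, Subgroup.mem_normalizer_iff]
        intro z
        have hmap : (Subgroup.zpowers h0.1.1).map (MulAut.conj u).toMonoidHom = X := by
          rw [MonoidHom.map_zpowers]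
          show Subgroup.zpowers (u * h0.1.1 * u⁻¹) = X
          rw [hu, hgen _ y.1.2 y.2]
        rw [hgen _ h0.1.2 h0.2] at hmap
        constructor
        · intro hz
          rw [← hmap]
          exact ⟨z, hz, rfl⟩
        · intro hz
          rw [← hmap] at hz
          obtain ⟨w, hw, hwz⟩ := hz
          rw [(MulAut.conj u).injective hwz] at hw
          exact hw
      exact ⟨Quotient.mk _ ⟨u, hu'⟩, Subtype.ext (Subtype.ext (Subtype.ext hu))⟩
  have hA : Nat.card A = p - 1 := by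
    have h1 : Nat.card {y : X // y ≠ 1} = p - 1 := by
      have : Fintype X := Fintype.ofFinite _
      rw [Nat.card_eq_fintype_card, Fintype.card_subtype_compl, Fintype.card_subtype_eq, ← Nat.card_eq_fintype_card,
        hXc]
    rw [← h1]
    exact Nat.card_congr (Equiv.subtypeEquivRight fun y =>
      ⟨fun h h' => h (by rw [h']; rfl), fun h h' => h (Subtype.ext h')⟩)
  have hte : t * e = p - 1 := by
    rw [← hA, ← ht, ← Nat.card_congr (Equiv.sigmaFiberEquiv f)]
    have : Fintype T := Fintype.ofFinite _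
    rw [Nat.card_sigma, Finset.sum_congr rfl (fun c _ => hfib c), Finset.sum_const, smul_eq_mul,
      Finset.card_univ, Nat.card_eq_fintype_card]
  exact hte

variable {G : Type u} [Group G] [Fintype G] {p : ℕ} [hp : Fact p.Prime] {P : Sylow p G}

theorem free_of_card_prime (hPc : Nat.card (P : Subgroup G) = p)
    (hCy : ∀ y : G, y ∈ (P : Subgroup G) → y ≠ 1 → Subgroup.centralizer ({y} : Set G) = (P : Subgroup G)) :
    Free P ∧ Subgroup.centralizer ((P : Subgroup G) : Set G) = (P : Subgroup G) := by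
  have : IsCyclic (P : Subgroup G) := isCyclic_of_prime_card hPc
  have hab : IsMulCommutative (P : Subgroup G) := IsCyclic.commGroup.mul_comm |> fun h => ⟨⟨h⟩⟩
  have hC : Subgroup.centralizer ((P : Subgroup G) : Set G) = (P : Subgroup G) := by
    refine le_antisymm (fun g hg => ?_) fun g hg => Subgroup.mem_centralizer_iff.mpr fun z hz =>
      congrArg Subtype.val (hab.is_comm.comm (⟨z, hz⟩ : (P : Subgroup G)) ⟨g, hg⟩)
    have : Nontrivial (P : Subgroup G) := Finite.one_lt_card_iff_nontrivial.mp (by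
      rw [hPc]; exact hp.out.one_lt)
    obtain ⟨y, hy⟩ := exists_ne (1 : (P : Subgroup G))
    rw [← hCy y y.2 fun h => hy (Subtype.ext h)]
    exact Subgroup.mem_centralizer_singleton_iff.mpr (Subgroup.mem_centralizer_iff.mp hg y y.2).symm
  refine ⟨⟨hab, fun y hy hy1 => ?_⟩, hC⟩
  rw [hCy y hy hy1, hC, inf_eq_left]
  exact Subgroup.le_normalizer

/-- Outside the principal block all values on `P` vanish off `1`. -/
theorem mem_principal_of_value (F : Free P) {M : Ideal AlgInt} [M.IsMaximal] (hM : IsPModular p M)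
    {y : G} (hy : y ∈ (P : Subgroup G)) (hy1 : y ≠ 1)
    (hCy : Subgroup.centralizer ({y} : Set G) = (P : Subgroup G)) (χ : IrrCharacter G)
    (hval : (χ : G → ℂ) y ≠ 0) : χ ∈ principalBlock M G := by
  have := Fintype.ofFinite (Subgroup.centralizer ({y} : Set G))
  have h := F.sum_section hM hy hy1 χ
  have hset : (Finset.univ.filter fun s : Subgroup.centralizer ({y} : Set G) => ¬ p ∣ orderOf s) = {1} := by
    ext s
    simp only [Finset.mem_filter, Finset.mem_univ, true_and, Finset.mem_singleton]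
    refine ⟨fun hs => ?_, fun hs => by simp [hs, hp.out.ne_one]⟩
    obtain ⟨k, hk⟩ := IsPGroup.iff_orderOf.mp P.2 ⟨s, hCy.le s.2⟩
    rw [Subgroup.orderOf_mk, Subgroup.orderOf_coe] at hk
    rw [← orderOf_eq_one_iff]
    cases k with
    | zero => simpa using hk
    | succ k => exact absurd (hk ▸ dvd_pow_self p k.succ_ne_zero) hs
  rw [hset, Finset.sum_singleton, Finset.card_singleton, Nat.cast_one, one_mul,
    Subgroup.coe_one, mul_one] at h
  by_contra hn
  rw [if_neg hn] at h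
  exact hval h

variable {χ : IrrCharacter G}

/-- The multiplicities on `P`. -/
theorem exists_mult [IsMulCommutative (P : Subgroup G)] (hPc : Nat.card (P : Subgroup G) = p) (hχ : (χ : G → ℂ) 1 = (p : ℂ) - 1)
    (lam : (P : Subgroup G) →* ℂˣ) : ∃ k : ℕ,
    (p : ℂ) - 1 + ∑ y ∈ Finset.univ.erase (1 : (P : Subgroup G)),
      (χ : G → ℂ) (y : G) * ((lam y⁻¹ : ℂˣ) : ℂ) = (p : ℂ) * k := by
  obtain ⟨k, hk⟩ := classInner_char_nat (isCharacter_res (P : Subgroup G) (isCharacter_of_isIrr χ.2))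
    (isCharacter_linFun lam).1
  refine ⟨k, ?_⟩
  rw [classInner_def, hPc, inv_mul_eq_iff_eq_mul₀ (Nat.cast_ne_zero.mpr hp.out.ne_zero),
    ← Finset.add_sum_erase _ _ (Finset.mem_univ (1 : (P : Subgroup G)))] at hk
  rw [← hk]
  congr 1
  · simp [linFun_apply, hχ]
  · refine Finset.sum_congr rfl fun y _ => ?_
    rw [linFun_apply, conj_hom]

theorem sum_erase_hom [IsMulCommutative (P : Subgroup G)] (lam : (P : Subgroup G) →* ℂˣ) :
    ∑ y ∈ Finset.univ.erase (1 : (P : Subgroup G)), ((lam y⁻¹ : ℂˣ) : ℂ) =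
      (if lam = 1 then (Nat.card (P : Subgroup G) : ℂ) else 0) - 1 := by
  rw [Finset.sum_erase_eq_sub (Finset.mem_univ _), ← sum_eval_hom lam]
  congr 1
  · exact Fintype.sum_equiv (Equiv.inv _) _ _ fun y => rfl
  · simp

theorem exists_hom_ne_one (hPc : Nat.card (P : Subgroup G) = p) :
    ∃ lam : (P : Subgroup G) →* ℂˣ, lam ≠ 1 := by
  have : IsCyclic (P : Subgroup G) := isCyclic_of_prime_card hPc
  let _ : CommGroup (P : Subgroup G) := IsCyclic.commGroup
  have : Nontrivial (P : Subgroup G) := Finite.one_lt_card_iff_nontrivial.mp (by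
    rw [hPc]; exact hp.out.one_lt)
  obtain ⟨y, hy⟩ := exists_ne (1 : (P : Subgroup G))
  obtain ⟨φ, hφ⟩ := CommGroup.exists_apply_ne_one_of_hasEnoughRootsOfUnity _ ℂ hy
  exact ⟨φ, fun h => hφ (by rw [h]; rfl)⟩

/-- If `χ` is constant on `P` off `1` then the constant is `p - 1` or `-1`. -/
theorem const_value [IsMulCommutative (P : Subgroup G)] (hPc : Nat.card (P : Subgroup G) = p) (hχ : (χ : G → ℂ) 1 = (p : ℂ) - 1)
    {a : ℂ} (ha : ∀ y : (P : Subgroup G), y ≠ 1 → (χ : G → ℂ) (y : G) = a) :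
    a = (p : ℂ) - 1 ∨ a = -1 := by
  have key : ∀ lam : (P : Subgroup G) →* ℂˣ, ∃ k : ℕ,
      (p : ℂ) - 1 + a * ((if lam = 1 then (p : ℂ) else 0) - 1) = (p : ℂ) * k := by
    intro lam
    obtain ⟨k, hk⟩ := exists_mult hPc hχ lam
    refine ⟨k, ?_⟩
    rw [Finset.sum_congr rfl (g := fun y => a * ((lam y⁻¹ : ℂˣ) : ℂ)) fun y hy => by
      rw [ha y (Finset.mem_erase.mp hy).1], ← Finset.mul_sum, sum_erase_hom, hPc] at hk
    exact hk
  obtain ⟨lam, hlam⟩ := exists_hom_ne_one hPc
  obtain ⟨k0, h0⟩ := key 1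
  obtain ⟨k1, h1⟩ := key lam
  rw [if_pos rfl] at h0
  rw [if_neg hlam] at h1
  have hsum : (k0 : ℂ) + ((p : ℂ) - 1) * k1 = (p : ℂ) - 1 := by
    refine mul_left_cancel₀ (Nat.cast_ne_zero.mpr hp.out.ne_zero : (p : ℂ) ≠ 0) ?_
    linear_combination -h0 - ((p : ℂ) - 1) * h1
  have hsumN : (k0 : ℤ) + ((p : ℤ) - 1) * k1 = (p : ℤ) - 1 := by exact_mod_cast hsum
  have hk1 : k1 ≤ 1 := by
    by_contra hlt
    have : (2 : ℤ) ≤ k1 := by exact_mod_cast (by omega : 2 ≤ k1)
    nlinarith [(Nat.cast_nonneg k0 : (0 : ℤ) ≤ k0), (show (2 : ℤ) ≤ p by exact_mod_cast hp.out.two_le)]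
  interval_cases k1
  · left
    linear_combination -h1 + (Nat.cast_zero (R := ℂ)) * (p : ℂ)
  · right
    linear_combination -h1 + (Nat.cast_one (R := ℂ)) * (p : ℂ)

/-- The integral inequality that excludes the exceptional characters. -/
theorem not_exceptional {p m r : ℕ} {d δ A : ℤ} {k0 ko ki : ℕ} (hm : 1 < m) (hr : 3 ≤ r)
    (hp : (p : ℤ) = r * m + 1) (hA : 1 ≤ A) (hδ : δ = 1 ∨ δ = -1)
    (hnorm : (d - δ) ^ 2 + ((r : ℤ) - 1) * d ^ 2 + A = m + 1)
    (h0 : (k0 : ℤ) = ko + d) (ho : (p : ℤ) * ko = p - 1 - d - δ * m) (hi : (ki : ℤ) = ko + δ) : False := by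
  have hm' : (2 : ℤ) ≤ m := by exact_mod_cast hm
  have hr' : (3 : ℤ) ≤ r := by exact_mod_cast hr
  have h1 : (0 : ℤ) ≤ k0 := Nat.cast_nonneg _
  have h2 : (0 : ℤ) ≤ ki := Nat.cast_nonneg _
  have hd : d ^ 2 ≤ m := by nlinarith [sq_nonneg (d - δ), sq_nonneg d]
  have hd1 : d ≤ m := by nlinarith [sq_nonneg (d - 1)]
  have hd2 : -(m : ℤ) ≤ d := by nlinarith [sq_nonneg (d + 1)]
  rcases Nat.lt_or_ge ko 1 with h | h
  · obtain rfl : ko = 0 := by omega
    rcases hδ with rfl | rfl
    · have : d = ((r : ℤ) - 1) * m := by push_cast at ho; linarith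
      subst this
      nlinarith
    · push_cast at hi
  · have hko : (ko : ℤ) = 1 := by
      have h' : (1 : ℤ) ≤ ko := by exact_mod_cast h
      by_contra hne
      have : (2 : ℤ) ≤ ko := by omega
      rcases hδ with rfl | rfl <;> nlinarith
    rw [hko] at ho h0
    rcases hδ with rfl | rfl
    · have : d = -1 - (m : ℤ) := by linarith
      subst this
      nlinarith
    · have : d = (m : ℤ) - 1 := by linarith
      subst this
      nlinarith

set_option maxHeartbeats 1600000 in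
/-- All values on `P` off `1` are `-1`. -/
theorem value_eq_neg_one {M : Ideal AlgInt} [M.IsMaximal] (hM : IsPModular p M)
    (hPc : Nat.card (P : Subgroup G) = p)
    (hCy : ∀ y : G, y ∈ (P : Subgroup G) → y ≠ 1 → Subgroup.centralizer ({y} : Set G) = (P : Subgroup G))
    (hp3 : 3 ≤ p) {m t : ℕ}
    (hm : (Subgroup.centralizer ((P : Subgroup G) : Set G)).relIndex
      (Subgroup.normalizer ((P : Subgroup G) : Set G)) = m)
    (ht : t * m = p - 1) (hto : Odd t) (hχ : (χ : G → ℂ) 1 = (p : ℂ) - 1) :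
    ∀ y : (P : Subgroup G), y ≠ 1 → (χ : G → ℂ) (y : G) = -1 := by
  obtain ⟨F, hC⟩ := free_of_card_prime hPc hCy
  have := F.hab
  have hne : Nontrivial (P : Subgroup G) := Finite.one_lt_card_iff_nontrivial.mp (by
    rw [hPc]; exact hp.out.one_lt)
  obtain ⟨y₀, hy₀⟩ := exists_ne (1 : (P : Subgroup G))
  have hy₀' : (y₀ : G) ≠ 1 := fun h => hy₀ (Subtype.ext h)
  -- the value `p - 1` is impossible
  have hfinal : ∀ a : ℂ, (∀ y : (P : Subgroup G), y ≠ 1 → (χ : G → ℂ) (y : G) = a) →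
      a ≠ (p : ℂ) - 1 → ∀ y : (P : Subgroup G), y ≠ 1 → (χ : G → ℂ) (y : G) = -1 := by
    intro a ha hne y hy
    rw [ha y hy]
    exact (const_value hPc hχ ha).resolve_left hne
  have hcol : ∀ a : ℂ, a = (χ : G → ℂ) (y₀ : G) → a ≠ (p : ℂ) - 1 := by
    intro a ha he
    have h := second_orthogonality (y₀ : G) (y₀ : G)
    rw [if_pos (IsConj.refl _), hCy _ y₀.2 hy₀', hPc] at h
    have hre := congrArg Complex.re h
    rw [Complex.re_sum, Complex.natCast_re] at hre
    have h1 : ((χ : G → ℂ) (y₀ : G) * conj ((χ : G → ℂ) (y₀ : G))).re ≤ (p : ℝ) := by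
      rw [← hre]
      exact Finset.single_le_sum (f := fun ψ : IrrCharacter G => ((ψ : G → ℂ) (y₀ : G) * conj ((ψ : G → ℂ) (y₀ : G))).re)
        (fun ψ _ => by rw [Complex.mul_conj, Complex.ofReal_re]; exact Complex.normSq_nonneg _)
        (Finset.mem_univ χ)
    rw [← ha, he] at h1
    simp at h1
    have : (3 : ℝ) ≤ p := by exact_mod_cast hp3
    nlinarith
  have ht0 : 0 < t := hto.pos
  rcases (show t = 1 ∨ 3 ≤ t by obtain ⟨k, rfl⟩ := hto; omega) with rfl | ht3
  · -- `N` is transitive on `P` off `1`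
    rw [one_mul] at ht
    have := Fintype.ofFinite (autN P)
    have hinj : Function.Injective fun γ : autN P =>
        (⟨(γ : MulAut (P : Subgroup G)) y₀, (γ : MulAut (P : Subgroup G)).map_eq_one_iff.not.mpr hy₀⟩ :
          {y : (P : Subgroup G) // y ≠ 1}) := by
      intro γ δ h
      have h' : (γ : MulAut (P : Subgroup G)) y₀ = (δ : MulAut (P : Subgroup G)) y₀ := congrArg Subtype.val h
      refine Subtype.ext (inv_mul_eq_one.mp (F.eq_one_of_fixed
        (mul_mem (inv_mem δ.2) γ.2) hy₀ ?_)).symm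
      rw [MulAut.mul_apply, h', ← MulAut.mul_apply, inv_mul_cancel]
      rfl
    have hcard : Nat.card (autN P) = Nat.card {y : (P : Subgroup G) // y ≠ 1} := by
      rw [card_autN hm, ht, Nat.card_eq_fintype_card, Fintype.card_subtype_compl, Fintype.card_subtype_eq,
        ← Nat.card_eq_fintype_card, hPc]
    have hsurj := ((Nat.bijective_iff_injective_and_card _).mpr ⟨hinj, hcard⟩).2
    refine hfinal _ (fun y hy => ?_) (hcol _ rfl)
    obtain ⟨γ, hγ⟩ := hsurj ⟨y, hy⟩
    obtain ⟨n, -, hn⟩ := mem_autN_iff.mp γ.2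
    rw [← show (γ : MulAut (P : Subgroup G)) y₀ = y from congrArg Subtype.val hγ, hn y₀,
      isClassFunction_of_isIrr χ.2 (y₀ : G) n]
  have hm1 : 1 < m := by
    by_contra hlt
    interval_cases m
    · omega
    · have := hp.out.eq_two_or_odd'
      rcases this with h | h
      · omega
      · obtain ⟨a, ha⟩ := h
        obtain ⟨b, hb⟩ := hto
        omega
  have hm2 : m + 1 < p := by nlinarith [Nat.sub_add_cancel hp.out.one_le]
  have := Fintype.ofFinite (autN P)
  obtain ⟨s, X, Y, -, hB, -, -, -, ⟨χ₁, hχ₁, -⟩, a, d, δ, ζ, hδ, hX, -, hYs, -, hYv, hnorm, -, -⟩ :=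
    F.exists_structure hM (by rw [hPc]; exact hp.out.ne_one) hm hm1 (by rw [hPc]; exact hm2)
  have hval0 : ∃ y : (P : Subgroup G), y ≠ 1 ∧ (χ : G → ℂ) (y : G) ≠ 0 := by
    by_contra hc
    push Not at hc
    obtain ⟨k, hk⟩ := exists_mult (χ := χ) hPc hχ 1
    rw [Finset.sum_eq_zero fun y hy => by rw [hc y (Finset.mem_erase.mp hy).1, zero_mul], add_zero] at hk
    have h1 : (p : ℤ) - 1 = (p : ℤ) * k := by exact_mod_cast hk
    have h2 : (p : ℤ) ∣ 1 := ⟨1 - k, by linarith⟩
    exact hp.out.not_dvd_one (by exact_mod_cast h2)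
  obtain ⟨y₁, hy₁, hv⟩ := hval0
  have hy₁' : (y₁ : G) ≠ 1 := fun h => hy₁ (Subtype.ext h)
  have hmemB : χ ∈ X ∪ Y := hB ▸ mem_principal_of_value F hM y₁.2 hy₁' (hCy _ y₁.2 hy₁') χ hv
  have hpp : ∀ y : (P : Subgroup G), IsPPart p (y : G) (y : G) := fun y =>
    ⟨1, mul_one _, Commute.one_right _, CfsgLib.NilBlock.exists_pow_of_mem P.2 y.2,
      by rw [orderOf_one]; exact hp.out.not_dvd_one⟩
  rcases hmemB with hχX | hχY
  · refine hfinal (a χ : ℂ) (fun y hy => (hX χ hχX).2 _ _ (hpp y) y.2 fun h => hy (Subtype.ext h))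
      (hcol _ ((hX χ hχX).2 _ _ (hpp y₀) y₀.2 hy₀').symm)
  exfalso
  obtain ⟨ψ, hψ, rfl⟩ := hYs χ hχY
  obtain ⟨S, hS⟩ : ∃ S : Finset ((P : Subgroup G) →* ℂˣ), S = orbD ψ := ⟨_, rfl⟩
  have hSc : S.card = m := by
    rw [hS, orbD, Finset.card_image_of_injective _ (F.orbD_inj hψ), Finset.card_univ,
      ← Nat.card_eq_fintype_card, card_autN hm]
  have h1S : (1 : (P : Subgroup G) →* ℂˣ) ∉ S := by
    rw [hS]
    intro h
    obtain ⟨γ, -, hγ⟩ := Finset.mem_image.mp h
    refine hψ (MonoidHom.ext fun w => ?_)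
    have h2 := DFunLike.congr_fun hγ ((γ : MulAut (P : Subgroup G))⁻¹ w)
    simpa using h2
  have hset : {ψ' : ↥(P : Subgroup G) →* ℂˣ | ∃ n : G, n ∈ Subgroup.normalizer ((P : Subgroup G) : Set G) ∧
      ∀ w w' : ↥(P : Subgroup G), (w' : G) = n * w * n⁻¹ → ψ' w' = ψ w} = ↑S := by
    rw [hS]
    ext ψ'
    simp only [Set.mem_setOf_eq, Finset.coe_image, orbD, Set.mem_image, Finset.coe_univ, Set.mem_univ, true_and]
    constructor
    · rintro ⟨n, hn, h⟩
      set γ : autN P := ⟨_, ⟨⟨n, hn⟩, rfl⟩⟩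
      refine ⟨γ⁻¹, MonoidHom.ext fun v => ?_⟩
      have h1 := h (((γ⁻¹ : autN P) : MulAut (P : Subgroup G)) v) v ?_
      · exact h1.symm
      · show (v : G) = ((((P : Subgroup G).normalizerMonoidHom ⟨n, hn⟩)
          (((P : Subgroup G).normalizerMonoidHom ⟨n, hn⟩)⁻¹ v) : (P : Subgroup G)) : G)
        rw [MulAut.apply_inv_self]
    · rintro ⟨γ, rfl⟩
      obtain ⟨n, hn, hn'⟩ := mem_autN_iff.mp (γ⁻¹).2
      refine ⟨n, hn, fun v v' hv => ?_⟩
      rw [show v' = ((γ⁻¹ : autN P) : MulAut (P : Subgroup G)) v from Subtype.ext (hv.trans (hn' v).symm)]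
      refine congrArg ψ ?_
      show (γ : MulAut (P : Subgroup G)) (((γ⁻¹ : autN P) : MulAut (P : Subgroup G)) v) = v
      rw [← MulAut.mul_apply, ← Subgroup.coe_mul, mul_inv_cancel]
      rfl
  have hYval : ∀ y : (P : Subgroup G), y ≠ 1 → (ζ ψ : G → ℂ) (y : G) =
      (d : ℂ) + (δ : ℂ) * ∑ φ ∈ S, ((φ y : ℂˣ) : ℂ) := fun y hy => by
    rw [hYv ψ hψ _ y (hpp y) fun h => hy (Subtype.ext h), hset, finsum_mem_coe_finset]
  have key : ∀ lam : (P : Subgroup G) →* ℂˣ, ∃ k : ℕ,
      (p : ℂ) - 1 + (d : ℂ) * ((if lam = 1 then (p : ℂ) else 0) - 1) +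
        (δ : ℂ) * ((if lam ∈ S then (p : ℂ) else 0) - m) = (p : ℂ) * k := by
    intro lam
    obtain ⟨k, hk⟩ := exists_mult hPc hχ lam
    refine ⟨k, ?_⟩
    rw [← hk, add_assoc]
    congr 1
    rw [Finset.sum_congr rfl (g := fun y => (d : ℂ) * ((lam y⁻¹ : ℂˣ) : ℂ) +
      (δ : ℂ) * ∑ φ ∈ S, (((φ * lam⁻¹) y : ℂˣ) : ℂ)) fun y hy => by
        rw [hYval y (Finset.mem_erase.mp hy).1, add_mul, mul_assoc, Finset.sum_mul]
        simp [MonoidHom.mul_apply], Finset.sum_add_distrib, ← Finset.mul_sum, ← Finset.mul_sum,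
      sum_erase_hom, hPc, Finset.sum_comm]
    congr 2
    rw [Finset.sum_congr rfl (g := fun φ => (if lam = φ then (p : ℂ) else 0) - 1) fun φ _ => ?_,
      Finset.sum_sub_distrib, Finset.sum_ite_eq, Finset.sum_const, hSc, nsmul_one]
    rw [Finset.sum_erase_eq_sub (Finset.mem_univ _), sum_eval_hom, hPc, map_one, Units.val_one]
    congr 1
    exact if_congr ⟨fun h => MonoidHom.ext fun z => (mul_inv_eq_one.mp (DFunLike.congr_fun h z)).symm,
      fun h => MonoidHom.ext fun z => by simp [h]⟩ rfl rfl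
  have : Finite ((P : Subgroup G) →* ℂˣ) := finite_hom
  have := Fintype.ofFinite ((P : Subgroup G) →* ℂˣ)
  obtain ⟨lo, hlo1, hloS⟩ : ∃ lo : (P : Subgroup G) →* ℂˣ, lo ≠ 1 ∧ lo ∉ S := by
    by_contra hc
    push Not at hc
    have hsub : (Finset.univ : Finset ((P : Subgroup G) →* ℂˣ)) ⊆ insert 1 S := fun φ _ => by
      by_cases h : φ = 1
      · exact Finset.mem_insert.mpr (Or.inl h)
      · exact Finset.mem_insert_of_mem (hc φ h)
    have h := Finset.card_le_card hsub
    rw [Finset.card_univ, ← Nat.card_eq_fintype_card, card_hom, hPc, Finset.card_insert_of_notMem h1S, hSc] at h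
    omega
  obtain ⟨k0, e0⟩ := key 1
  obtain ⟨ko, eo⟩ := key lo
  obtain ⟨ki, ei⟩ := key ψ
  rw [if_pos rfl, if_neg h1S] at e0
  rw [if_neg hlo1, if_neg hloS] at eo
  rw [if_neg hψ, if_pos (show ψ ∈ S by rw [hS]; exact mem_orbD_self ψ)] at ei
  have hpZ : (p : ℂ) ≠ 0 := Nat.cast_ne_zero.mpr hp.out.ne_zero
  have h0 : (k0 : ℂ) = ko + d := mul_left_cancel₀ hpZ (by linear_combination -e0 + eo)
  have hi : (ki : ℂ) = ko + δ := mul_left_cancel₀ hpZ (by linear_combination -ei + eo)
  have ho : (p : ℂ) * ko = p - 1 - d - δ * m := by linear_combination -eo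
  have hA : 1 ≤ ∑ᶠ χ ∈ X, a χ ^ 2 := by
    rw [finsum_mem_eq_finite_toFinset_sum _ (Set.toFinite X)]
    refine le_trans ?_ (Finset.single_le_sum (f := fun χ => a χ ^ 2) (fun χ _ => sq_nonneg _)
      ((Set.toFinite X).mem_toFinset.mpr hχ₁))
    have := sq_pos_of_ne_zero (hX χ₁ hχ₁).1
    omega
  have hdiv : ((Nat.card (P : Subgroup G) : ℤ) - 1) / (m : ℤ) = t := by
    rw [hPc, show (p : ℤ) - 1 = (t : ℤ) * m by rw [← Nat.cast_mul, ht]; omega,
      Int.mul_ediv_cancel _ (by omega)]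
  rw [hdiv] at hnorm
  exact not_exceptional (d := d) (δ := δ) (r := t) (p := p) hm1 ht3
    (by rw [← Nat.cast_mul, ht]; omega) hA hδ hnorm
    (by exact_mod_cast h0) (by exact_mod_cast ho) (by exact_mod_cast hi)

/-- A linear character of value `-1`. -/
theorem exists_det_neg_one [IsMulCommutative (P : Subgroup G)] (hPc : Nat.card (P : Subgroup G) = p)
    (hCy : ∀ y : G, y ∈ (P : Subgroup G) → y ≠ 1 → Subgroup.centralizer ({y} : Set G) = (P : Subgroup G))
    {m t : ℕ} (hm : (Subgroup.centralizer ((P : Subgroup G) : Set G)).relIndex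
      (Subgroup.normalizer ((P : Subgroup G) : Set G)) = m)
    (ht : t * m = p - 1) (hto : Odd t) (hme : Even m) (hχ : (χ : G → ℂ) 1 = (p : ℂ) - 1)
    (hval : ∀ y : (P : Subgroup G), y ≠ 1 → (χ : G → ℂ) (y : G) = -1) :
    ∃ (f : G →* ℂˣ) (g : G), f g = -1 := by
  have hcyc : IsCyclic (P : Subgroup G) := isCyclic_of_prime_card hPc
  have : Fact (Nat.card (P : Subgroup G)).Prime := ⟨by rw [hPc]; exact hp.out⟩
  have : IsCyclic (MulAut (P : Subgroup G)) :=
    isCyclic_of_surjective (IsCyclic.mulAutMulEquiv (P : Subgroup G)).symm.toMonoidHom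
      (IsCyclic.mulAutMulEquiv (P : Subgroup G)).symm.surjective
  obtain ⟨γ, hγ⟩ := IsCyclic.exists_generator (α := autN P)
  have hγo : orderOf γ = m := by rw [orderOf_eq_card_of_forall_mem_zpowers hγ, card_autN hm]
  obtain ⟨⟨n₀, hn₀⟩, hn₀γ⟩ := γ.2
  obtain ⟨hF, hC⟩ := free_of_card_prime hPc hCy
  have hm0 : 0 < m := hγo ▸ orderOf_pos γ
  have hmp : Nat.Coprime p m := (hp.out.coprime_iff_not_dvd).mpr fun h => by
    have := Nat.le_of_dvd hm0 h
    have : m ≤ t * m := Nat.le_mul_of_pos_left m hto.pos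
    have := hp.out.one_lt
    omega
  set n := n₀ ^ p with hn
  have hpow : ∀ k : ℕ, (P : Subgroup G).normalizerMonoidHom ⟨n₀ ^ k, pow_mem hn₀ k⟩ =
      ((γ ^ k : autN P) : MulAut (P : Subgroup G)) := fun k => by
    rw [SubgroupClass.coe_pow, ← hn₀γ, ← map_pow]
    rfl
  have hPin : ∀ k : ℕ, n₀ ^ k ∈ (P : Subgroup G) ↔ m ∣ k := fun k => by
    rw [← hγo, orderOf_dvd_iff_pow_eq_one]
    constructor
    · intro h
      refine Subtype.ext ?_
      rw [← hpow, Subgroup.coe_one, ← MonoidHom.mem_ker, Subgroup.normalizerMonoidHom_ker,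
        Subgroup.mem_subgroupOf, hC]
      exact h
    · intro h
      have h1 := hpow k
      rw [h, Subgroup.coe_one, ← MonoidHom.mem_ker, Subgroup.normalizerMonoidHom_ker,
        Subgroup.mem_subgroupOf, hC] at h1
      exact h1
  have hnm : n ^ m = 1 := by
    have hmem := (hPin m).mpr dvd_rfl
    have h1 : (⟨n₀ ^ m, hmem⟩ : (P : Subgroup G)) ^ p = 1 :=
      orderOf_dvd_iff_pow_eq_one.mp (dvd_trans (orderOf_dvd_natCard _) (dvd_of_eq hPc))
    rw [hn, ← pow_mul, mul_comm, pow_mul]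
    exact congrArg Subtype.val h1
  have hout : ∀ k : ℕ, ¬ m ∣ k → n ^ k ∉ (P : Subgroup G) := fun k hk h => by
    rw [hn, ← pow_mul, hPin] at h
    exact hk (hmp.symm.dvd_of_dvd_mul_left h)
  obtain ⟨dχ, ρ, -, hρ⟩ := χ.2
  -- `χ` vanishes at the powers outside `P`
  have hvanish : ∀ k : ℕ, ¬ m ∣ k → (χ : G → ℂ) (n ^ k) = 0 := by
    intro k hk
    set g := n ^ k with hg
    have hgN : g ∈ Subgroup.normalizer ((P : Subgroup G) : Set G) := pow_mem (pow_mem hn₀ p) k
    have hcoset : ∀ y : (P : Subgroup G), (χ : G → ℂ) (g * (y : G)) = (χ : G → ℂ) g := by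
      let f : ↥(P : Subgroup G) → ↥(P : Subgroup G) := fun u => ⟨g⁻¹ * (u : G) * g * (u : G)⁻¹,
        mul_mem (((Subgroup.mem_normalizer_iff''.mp hgN) (u : G)).mp u.2) (inv_mem u.2)⟩
      have hinj : Function.Injective f := by
        intro u v h
        have h' : g⁻¹ * (u : G) * g * (u : G)⁻¹ = g⁻¹ * (v : G) * g * (v : G)⁻¹ := congrArg Subtype.val h
        by_contra hne
        have hw : (v : G)⁻¹ * u ≠ 1 := fun h1 => hne (Subtype.ext (inv_mul_eq_one.mp h1).symm)
        have hwP : (v : G)⁻¹ * u ∈ (P : Subgroup G) := mul_mem (inv_mem v.2) u.2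
        have hcuv : (u : G) * (v : G) = v * u :=
          congrArg Subtype.val (mul_comm u v)
        have hgc : g ∈ Subgroup.centralizer ({(v : G)⁻¹ * u} : Set G) := by
          rw [Subgroup.mem_centralizer_singleton_iff]
          have h2 : g⁻¹ * ((v : G)⁻¹ * u) * g = (v : G)⁻¹ * u := by
            calc g⁻¹ * ((v : G)⁻¹ * u) * g =
                (g⁻¹ * (v : G) * g)⁻¹ * (g⁻¹ * (u : G) * g * (u : G)⁻¹) * u := by group
              _ = (g⁻¹ * (v : G) * g)⁻¹ * (g⁻¹ * (v : G) * g * (v : G)⁻¹) * u := by rw [h']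
              _ = (v : G)⁻¹ * u := by group
          calc g * ((v : G)⁻¹ * u) = g * (g⁻¹ * ((v : G)⁻¹ * u) * g) := by rw [h2]
            _ = (v : G)⁻¹ * u * g := by group
        rw [hCy _ hwP hw] at hgc
        exact hout k hk hgc
      intro y
      obtain ⟨u, hu⟩ := (Finite.injective_iff_surjective.mp hinj) y
      have hu' : g⁻¹ * (u : G) * g * (u : G)⁻¹ = (y : G) := congrArg Subtype.val hu
      rw [← hu', show g * (g⁻¹ * (u : G) * g * (u : G)⁻¹) = (u : G) * g * (u : G)⁻¹ by group,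
        isClassFunction_of_isIrr χ.2 g (u : G)]
    have : Invertible (Fintype.card (P : Subgroup G) : ℂ) :=
      invertibleOfNonzero (Nat.cast_ne_zero.mpr Fintype.card_ne_zero)
    set σ : Representation ℂ (P : Subgroup G) (Fin dχ → ℂ) := ρ.comp (P : Subgroup G).subtype
    have htr : ∀ f : Module.End ℂ (Fin dχ → ℂ), LinearMap.trace ℂ _ (f ∘ₗ σ.averageMap) =
        ⅟(Fintype.card (P : Subgroup G) : ℂ) * ∑ y : (P : Subgroup G), LinearMap.trace ℂ _ (f ∘ₗ σ y) := by
      intro f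
      have havg : σ.averageMap = ⅟(Fintype.card (P : Subgroup G) : ℂ) • ∑ y : (P : Subgroup G), σ y := by
        rw [Representation.averageMap, GroupAlgebra.average, map_smul, map_sum]
        simp [Representation.asAlgebraHom_of]
      rw [havg, LinearMap.comp_smul, map_smul, smul_eq_mul, ← Module.End.mul_eq_comp, Finset.mul_sum, map_sum]
      rfl
    have h0 : ∑ y : (P : Subgroup G), (χ : G → ℂ) (y : G) = 0 := by
      rw [← Finset.add_sum_erase _ _ (Finset.mem_univ (1 : (P : Subgroup G))), Subgroup.coe_one, hχ,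
        Finset.sum_congr rfl fun y hy => hval y (Finset.mem_erase.mp hy).1, Finset.sum_const,
        Finset.card_erase_of_mem (Finset.mem_univ _), Finset.card_univ, ← Nat.card_eq_fintype_card, hPc,
        nsmul_eq_mul, Nat.cast_sub hp.out.one_le]
      push_cast
      ring
    have hzero : σ.averageMap = 0 := by
      have h1 := (Representation.isProj_averageMap σ).trace
      have h2 := htr LinearMap.id
      simp only [LinearMap.id_comp] at h2
      rw [h2, show ∑ y : (P : Subgroup G), LinearMap.trace ℂ _ (σ y) = 0 by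
        rw [← h0]; exact Finset.sum_congr rfl fun y _ => (congrFun hρ (y : G)), mul_zero] at h1
      have hbot : σ.invariants = ⊥ := Submodule.finrank_eq_zero.mp (by exact_mod_cast h1.symm)
      refine LinearMap.ext fun v => ?_
      have := σ.averageMap_invariant v
      rw [hbot, Submodule.mem_bot] at this
      exact this
    have h3 := htr (ρ g)
    rw [hzero, LinearMap.comp_zero, map_zero, show ∑ y : (P : Subgroup G), LinearMap.trace ℂ _ (ρ g ∘ₗ σ y) =
      ∑ _y : (P : Subgroup G), (χ : G → ℂ) g from Finset.sum_congr rfl fun y _ => by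
        rw [← hcoset y, ← hρ, Representation.character, map_mul]; rfl,
      Finset.sum_const, Finset.card_univ, nsmul_eq_mul, ← mul_assoc, invOf_mul_self, one_mul] at h3
    exact h3.symm
  -- the eigenvalues of `n`
  obtain ⟨b, z, hz⟩ := exists_eigenbasis_of_pow_eq_one ρ n hm0.ne' hnm
  have hsum : ∀ k : ℕ, (χ : G → ℂ) (n ^ k) = ∑ i, z i ^ k := fun k => by
    rw [← hρ]
    exact trace_eq_sum_eigen b _ _ fun i => apply_pow_eigen ρ b n z (fun j => (hz j).2) k i
  have : NeZero m := ⟨hm0.ne'⟩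
  set ω := Complex.exp (2 * Real.pi * Complex.I / (m : ℂ)) with hω
  have hωp : IsPrimitiveRoot ω m := Complex.isPrimitiveRoot_exp m hm0.ne'
  have hk : ∀ i, ∃ j, j < m ∧ ω ^ j = z i := fun i => hωp.eq_pow_of_pow_eq_one (hz i).1
  choose j hj hjz using hk
  have hcount : ∀ l, l < m → (Finset.univ.filter fun i => j i = l).card = t := by
    intro l hl
    have hwne : ω ^ l ≠ 0 := pow_ne_zero _ (hωp.ne_zero hm0.ne')
    have h1 : ∀ i, ∑ k ∈ Finset.range m, (z i / ω ^ l) ^ k = if j i = l then (m : ℂ) else 0 := by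
      intro i
      split_ifs with h
      · rw [← hjz, h, div_self hwne]
        simp
      · have hne : z i / ω ^ l ≠ 1 := fun h' => h (hωp.pow_inj (hj i) hl
          ((hjz i).trans ((div_eq_one_iff_eq hwne).mp h')))
        rw [geom_sum_eq hne, div_pow, (hz i).1, ← pow_mul, mul_comm, pow_mul, hωp.pow_eq_one, one_pow,
          div_one, sub_self, zero_div]
    have h2 : ∑ k ∈ Finset.range m, ∑ i, (z i / ω ^ l) ^ k = (p : ℂ) - 1 := by
      rw [Finset.sum_eq_single_of_mem 0 (Finset.mem_range.mpr hm0) fun k hk hk0 => by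
        rw [Finset.sum_congr rfl fun i _ => div_pow (z i) _ k, ← Finset.sum_div, ← hsum,
          hvanish k fun hd => hk0 (Nat.eq_zero_of_dvd_of_lt hd (Finset.mem_range.mp hk)), zero_div]]
      rw [Finset.sum_congr rfl fun i _ => pow_zero _, ← hχ, show (χ : G → ℂ) 1 = (χ : G → ℂ) (n ^ 0) by
        rw [pow_zero], hsum 0]
      simp
    rw [Finset.sum_comm, Finset.sum_congr rfl fun i _ => h1 i, ← Finset.sum_filter, Finset.sum_const,
      nsmul_eq_mul, show ((p : ℂ) - 1) = ((t * m : ℕ) : ℂ) by rw [ht, Nat.cast_sub hp.out.one_le, Nat.cast_one],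
      Nat.cast_mul] at h2
    exact_mod_cast mul_right_cancel₀ (Nat.cast_ne_zero.mpr hm0.ne') h2
  have hprod : ∏ i, z i = -1 := by
    rw [Finset.prod_congr rfl (g := fun i => ω ^ j i) fun i _ => (hjz i).symm,
      ← Finset.prod_fiberwise_of_maps_to (t := Finset.range m) (g := j) fun i _ => Finset.mem_range.mpr (hj i)]
    rw [Finset.prod_congr rfl (g := fun l => (ω ^ l) ^ t) fun l hl => by
      rw [Finset.prod_congr rfl fun i hi => by rw [(Finset.mem_filter.mp hi).2], Finset.prod_const,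
        hcount l (Finset.mem_range.mp hl)],
      Finset.prod_pow, Finset.prod_pow_eq_pow_sum]
    obtain ⟨c, hc⟩ := hme
    have hc2 : ω ^ c = -1 := by
      refine (mul_self_eq_one_iff.mp (by rw [← pow_add, ← hc, hωp.pow_eq_one])).resolve_left ?_
      exact hωp.pow_ne_one_of_pos_of_lt (by omega) (by omega)
    have hs : ∑ l ∈ Finset.range m, l = c * (m - 1) := by
      rw [Finset.sum_range_id, hc, show (c + c) * (c + c - 1) = 2 * (c * (c + c - 1)) by ring,
        Nat.mul_div_cancel_left _ two_pos]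
    rw [hs, pow_mul, hc2, ← pow_mul]
    refine Odd.neg_one_pow (Nat.odd_mul.mpr ⟨?_, hto⟩)
    exact ⟨c - 1, by omega⟩
  refine ⟨detHom ρ, n, Units.ext ?_⟩
  rw [detHom_apply, ← LinearMap.det_toMatrix b, show LinearMap.toMatrix b b (ρ n) = Matrix.diagonal z from
    Matrix.ext fun a c => by
      rw [LinearMap.toMatrix_apply, (hz c).2, map_smul, Finsupp.smul_apply, Module.Basis.repr_self,
        Finsupp.single_apply, Matrix.diagonal_apply]
      by_cases h : a = c
      · subst h; simp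
      · simp [h, Ne.symm h], Matrix.det_diagonal, hprod]
  simp

end CfsgLib.SelfCentralDegree
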