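import Cfsg.Agent.Lib.BlockArith.SelfCentral
import Cfsg.Agent.Lib.Cores.Coprime

/-!
The derived series of a group with a self-centralising subgroup of prime order.
-/

set_option autoImplicit false

namespace CfsgLib.SelfCentralDerived

open Subgroup Cfsg CfsgLib.BlockArith
open scoped commutatorElement Pointwise

variable {G : Type*} [Group G] [Finite G] {p : ℕ} [hp : Fact p.Prime] {x : G}
  (hx : orderOf x = p) (hC : centralizer ({x} : Set G) = zpowers x)

theorem not_dvd_card_core (p : ℕ) [hp : Fact p.Prime] : ¬ p ∣ Nat.card (pPrimeCore p G) := fun h =>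
  hp.out.not_dvd_one (CfsgLib.Cores.coprime_card_pPrimeCore (G := G) p ▸ Nat.dvd_gcd h dvd_rfl)

include hx in
theorem zpowers_card : Nat.card (zpowers x) = p := by rw [Nat.card_zpowers, hx]

include hx hC in
theorem eq_commutator_of_not_dvd {S : Subgroup G} [hS : S.Normal] (hpS : ¬ p ∣ Nat.card S)
    {s : G} (hs : s ∈ S) : ∃ u ∈ S, ⁅u, x⁆ = s := by
  let f : S → S := fun u => ⟨⁅(u : G), x⁆, by
    rw [commutatorElement_def, mul_assoc, mul_assoc]
    exact mul_mem u.2 (by simpa [mul_assoc] using hS.conj_mem _ (inv_mem u.2) x)⟩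
  have hinj : Function.Injective f := by
    intro a b h
    have h' : ⁅(a : G), x⁆ = ⁅(b : G), x⁆ := congrArg Subtype.val h
    rw [commutatorElement_def, commutatorElement_def, mul_left_inj] at h'
    refine Subtype.ext (inv_mul_eq_one.mp (eq_one_of_commute hx hC hpS (mul_mem (inv_mem b.2) a.2) ?_)).symm
    calc (b : G)⁻¹ * a * x = (b : G)⁻¹ * ((a : G) * x * (a : G)⁻¹) * a := by group
      _ = (b : G)⁻¹ * ((b : G) * x * (b : G)⁻¹) * a := by rw [h']
      _ = x * ((b : G)⁻¹ * a) := by group
  obtain ⟨u, hu⟩ := Finite.surjective_of_injective hinj ⟨s, hs⟩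
  exact ⟨u, u.2, congrArg Subtype.val hu⟩

include hx hC in
theorem core_le_commutator : pPrimeCore p G ≤ commutator G := fun s hs => by
  obtain ⟨u, -, rfl⟩ := eq_commutator_of_not_dvd hx hC (not_dvd_card_core p) hs
  rw [commutator_def]
  exact commutator_mem_commutator (mem_top u) (mem_top x)

include hx hC in
theorem card_subgroups_eq (P : Sylow p G) (hP : (P : Subgroup G) = zpowers x) :
    Nat.card {H : Subgroup G // Nat.card H = p} = Nat.card (Sylow p G) := by
  have hPc : Nat.card (P : Subgroup G) = p := by rw [hP, zpowers_card hx]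
  refine (Nat.card_eq_of_bijective (fun Q : Sylow p G => (⟨(Q : Subgroup G), by
    rw [Q.card_eq_multiplicity, ← P.card_eq_multiplicity, hPc]⟩ : {H : Subgroup G // Nat.card H = p}))
    ⟨fun Q R h => Sylow.ext (congrArg Subtype.val h :), fun H => ?_⟩).symm
  obtain ⟨Q, hQ⟩ := (IsPGroup.of_card (n := 1) (H.2.trans (pow_one p).symm)).exists_le_sylow
  exact ⟨Q, Subtype.ext (eq_of_le_of_card_ge hQ
    (by rw [H.2, Q.card_eq_multiplicity, ← P.card_eq_multiplicity, hPc])).symm⟩

include hx in
theorem mem_of_dvd {S : Subgroup G} [hS : S.Normal] (P : Sylow p G) (hP : (P : Subgroup G) = zpowers x)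
    (hpS : p ∣ Nat.card S) : x ∈ S := by
  obtain ⟨y, hy⟩ := exists_prime_orderOf_dvd_card' p hpS
  have hyp : IsPGroup p (zpowers (y : G)) := IsPGroup.of_card (n := 1) (by
    rw [Nat.card_zpowers, orderOf_coe, hy, pow_one])
  obtain ⟨Q, hQ⟩ := hyp.exists_le_sylow
  have hQy : zpowers (y : G) = (Q : Subgroup G) := eq_of_le_of_card_ge hQ (by
    rw [Q.card_eq_multiplicity, ← P.card_eq_multiplicity, hP, zpowers_card hx, Nat.card_zpowers,
      orderOf_coe, hy])
  obtain ⟨g, hg⟩ := MulAction.exists_smul_eq G Q P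
  have hxP : x ∈ (P : Subgroup G) := hP ▸ mem_zpowers x
  rw [← hg, Sylow.coe_subgroup_smul, mem_pointwise_smul_iff_inv_smul_mem] at hxP
  have := hS.conj_mem _ ((hQy ▸ zpowers_le.mpr y.2 : (Q : Subgroup G) ≤ S) hxP) g
  simpa [MulAut.smul_def, mul_assoc] using this

include hx hC in
theorem commutator_eq_core (h : ¬ p ∣ Nat.card (commutator G)) : commutator G = pPrimeCore p G :=
  le_antisymm (CfsgLib.Cores.le_pPrimeCore ((hp.out.coprime_iff_not_dvd.mpr h).symm))
    (core_le_commutator hx hC)

include hx hC in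
/-- A subgroup between the core and `G'` normalised by `G'`. -/
theorem eq_commutator_of_normalized {K : Subgroup G} (hKG : K ≤ commutator G)
    (hn : (K.subgroupOf (commutator G)).Normal) (hle : pPrimeCore p G ≤ K)
    (hne : K ≠ pPrimeCore p G) : K = commutator G := by
  obtain ⟨P, hP⟩ := sylow_eq_zpowers hx hC
  have hsub : K.IsSubnormal :=
    IsSubnormal.trans hKG hn.isSubnormal (Normal.isSubnormal inferInstance)
  have hpK : p ∣ Nat.card K := by
    by_contra h
    exact hne (le_antisymm
      (CfsgLib.Cores.le_pPrimeCore_of_isSubnormal hsub ((hp.out.coprime_iff_not_dvd.mpr h).symm)) hle)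
  have hxG : x ∈ commutator G := mem_of_dvd hx P hP (hpK.trans (card_dvd_of_le hKG))
  have hXG : (P : Subgroup G) ≤ commutator G := hP ▸ zpowers_le.mpr hxG
  obtain ⟨y, hy⟩ := exists_prime_orderOf_dvd_card' p hpK
  have hyG : IsPGroup p (zpowers (⟨(y : G), hKG y.2⟩ : commutator G)) := IsPGroup.of_card (n := 1) (by
    rw [Nat.card_zpowers, orderOf_mk, orderOf_coe, hy, pow_one])
  obtain ⟨Q, hQ⟩ := hyG.exists_le_sylow
  have hQc : Nat.card (Q : Subgroup (commutator G)) = p := by
    rw [Q.card_eq_multiplicity, ← (P.subtype hXG).card_eq_multiplicity, Sylow.coe_subtype,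
      Nat.card_congr (subgroupOfEquivOfLe hXG).toEquiv, hP, zpowers_card hx]
  have hQK : (Q : Subgroup (commutator G)) ≤ K.subgroupOf (commutator G) := by
    rw [← eq_of_le_of_card_ge hQ (by rw [hQc, Nat.card_zpowers, orderOf_mk, orderOf_coe, hy])]
    exact zpowers_le.mpr (show (⟨(y : G), hKG y.2⟩ : commutator G) ∈ _ from mem_subgroupOf.mpr y.2)
  -- every conjugate of `x` lies in `K`
  have hall : ∀ g : G, g * x * g⁻¹ ∈ K := by
    intro g
    have hgG : g * x * g⁻¹ ∈ commutator G := (inferInstance : (commutator G).Normal).conj_mem _ hxG g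
    have hgp : IsPGroup p (zpowers (⟨g * x * g⁻¹, hgG⟩ : commutator G)) := IsPGroup.of_card (n := 1) (by
      rw [Nat.card_zpowers, orderOf_mk, ← MulAut.conj_apply, MulEquiv.orderOf_eq, hx, pow_one])
    obtain ⟨R, hR⟩ := hgp.exists_le_sylow
    obtain ⟨a, ha⟩ := MulAction.exists_smul_eq (commutator G) Q R
    have h1 := hR (mem_zpowers _)
    rw [← ha, Sylow.coe_subgroup_smul, mem_pointwise_smul_iff_inv_smul_mem] at h1
    have h2 := hn.conj_mem _ (hQK h1) a
    rw [mem_subgroupOf] at h2
    simpa [MulAut.smul_def, mul_assoc] using h2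
  have hL : normalClosure ({x} : Set G) ≤ K := by
    rw [normalClosure, closure_le]
    intro z hz
    obtain ⟨w, hw, hwz⟩ := Group.mem_conjugatesOfSet_iff.mp hz
    rw [Set.mem_singleton_iff] at hw
    subst hw
    obtain ⟨g, rfl⟩ := isConj_iff.mp hwz
    exact hall g
  refine le_antisymm hKG ((commutator_le_of_dvd hx hC ?_).trans hL)
  rw [← hx, ← orderOf_mk (H := normalClosure ({x} : Set G)) x (subset_normalClosure rfl)]
  exact orderOf_dvd_natCard _

include hx hC in
theorem simple_quotient (h : p ∣ Nat.card (commutator G))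
    [hn : ((pPrimeCore p G).subgroupOf (commutator G)).Normal] :
    IsSimpleGroup (↥(commutator G) ⧸ (pPrimeCore p G).subgroupOf (commutator G)) := by
  set S := (pPrimeCore p G).subgroupOf (commutator G) with hSdef
  have : Nontrivial (↥(commutator G) ⧸ S) := by
    rw [QuotientGroup.nontrivial_iff]
    intro htop
    rw [hSdef, subgroupOf_eq_top] at htop
    exact not_dvd_card_core (G := G) p (h.trans (card_dvd_of_le htop))
  refine ⟨fun H hH => ?_⟩
  have hK : (H.comap (QuotientGroup.mk' S)).Normal := hH.comap _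
  set K := (H.comap (QuotientGroup.mk' S)).map (commutator G).subtype with hKdef
  have hKs : K.subgroupOf (commutator G) = H.comap (QuotientGroup.mk' S) :=
    comap_map_eq_self_of_injective (commutator G).subtype_injective _
  have hle : pPrimeCore p G ≤ K := fun s hs => by
    refine ⟨⟨s, core_le_commutator hx hC hs⟩, ?_, rfl⟩
    show QuotientGroup.mk' S _ ∈ H
    rw [show QuotientGroup.mk' S ⟨s, core_le_commutator hx hC hs⟩ = 1 from
      (QuotientGroup.eq_one_iff _).mpr (mem_subgroupOf.mpr hs)]
    exact one_mem H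
  by_cases hne : K = pPrimeCore p G
  · left
    rw [← map_comap_eq_self_of_surjective (QuotientGroup.mk'_surjective S) H, ← hKs, hne]
    exact QuotientGroup.map_mk'_self S
  · right
    rw [← map_comap_eq_self_of_surjective (QuotientGroup.mk'_surjective S) H, ← hKs,
      eq_commutator_of_normalized (K := K) hx hC (map_subtype_le _) (hKs.symm ▸ hK :) hle hne, subgroupOf_self,
      map_top_of_surjective _ (QuotientGroup.mk'_surjective S)]

include hx hC in
theorem card_core_of_derived_ne (h : p ∣ Nat.card (commutator G))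
    (hne : derivedSeries G 2 ≠ derivedSeries G 1) :
    derivedSeries G 2 = pPrimeCore p G ∧ Nat.card (commutator G) = p * Nat.card (pPrimeCore p G) ∧
      Nat.card (pPrimeCore p G) = Nat.card {H : Subgroup G // Nat.card H = p} := by
  obtain ⟨P, hP⟩ := sylow_eq_zpowers hx hC
  have hd1 : derivedSeries G 1 = commutator G := derivedSeries_one G
  have hd2 : derivedSeries G 2 = ⁅commutator G, commutator G⁆ := by
    rw [show (2 : ℕ) = 1 + 1 from rfl, derivedSeries_succ, hd1]
  set K := pPrimeCore p G with hKdef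
  have hxG : x ∈ commutator G := mem_of_dvd hx P hP h
  rw [hd1] at hne
  have h2n : (derivedSeries G 2).Normal := derivedSeries_normal G 2
  have h2 : derivedSeries G 2 = K := by
    refine le_antisymm (CfsgLib.Cores.le_pPrimeCore ((hp.out.coprime_iff_not_dvd.mpr fun hd => ?_).symm))
      fun s hs => ?_
    · refine hne (le_antisymm ?_ (commutator_le_of_dvd hx hC hd))
      rw [hd2]
      exact commutator_le_self _
    · obtain ⟨u, hu, rfl⟩ := eq_commutator_of_not_dvd hx hC (not_dvd_card_core p) hs
      rw [hd2]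
      exact commutator_mem_commutator (core_le_commutator hx hC hu) hxG
  obtain ⟨hdvd, -, hox, hCq⟩ := quotient_self_centralizing (S := K) hx hC (not_dvd_card_core p)
  have hmap : (commutator G).map (QuotientGroup.mk' K) = zpowers (QuotientGroup.mk' K x) := by
    refine le_antisymm ?_ (zpowers_le.mpr (mem_map_of_mem _ hxG))
    rintro _ ⟨g, hg, rfl⟩
    show (g : G ⧸ K) ∈ zpowers (x : G ⧸ K)
    rw [← hCq, mem_centralizer_singleton_iff, ← QuotientGroup.mk_mul, ← QuotientGroup.mk_mul,
      QuotientGroup.eq]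
    have hinv : g * x * g⁻¹ * x⁻¹ ∈ K := by
      rw [← h2, hd2]
      exact commutator_mem_commutator hg hxG
    have h3 := inv_mem ((inferInstance : K.Normal).conj_mem _ hinv (x * g)⁻¹)
    simpa [mul_assoc] using h3
  have hcard : Nat.card (commutator G) = p * Nat.card K := by
    rw [← relIndex_bot_left (commutator G),
      ← relIndex_mul_relIndex ⊥ K (commutator G) bot_le (core_le_commutator hx hC), relIndex_bot_left,
      mul_comm]
    congr 1
    have hc := congrArg (fun H : Subgroup (G ⧸ K) => Nat.card H) hmap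
    rw [Nat.card_zpowers] at hc
    rw [← hox]
    refine Eq.trans ?_ hc
    rw [← relIndex_bot_left ((commutator G).map _),
      show (⊥ : Subgroup (G ⧸ K)) = K.map (QuotientGroup.mk' K) from (QuotientGroup.map_mk'_self K).symm,
      relIndex_map_map, QuotientGroup.ker_mk', sup_idem, sup_eq_left.mpr (core_le_commutator hx hC)]
  refine ⟨h2, hcard, Nat.dvd_antisymm hdvd ?_⟩
  -- all subgroups of order `p` lie in `G'`
  have hsub : ∀ H : {H : Subgroup G // Nat.card H = p}, H.1 ≤ commutator G := fun H => by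
    obtain ⟨Q, hQ⟩ := (IsPGroup.of_card (n := 1) (H.2.trans (pow_one p).symm)).exists_le_sylow
    obtain ⟨g, hg⟩ := MulAction.exists_smul_eq G P Q
    intro z hz
    have hzQ := hQ hz
    rw [← hg, Sylow.coe_subgroup_smul, mem_pointwise_smul_iff_inv_smul_mem, hP] at hzQ
    have := (inferInstance : (commutator G).Normal).conj_mem _ (zpowers_le.mpr hxG hzQ) g
    simpa [MulAut.smul_def, mul_assoc] using this
  have hXG : (P : Subgroup G) ≤ commutator G := hP ▸ zpowers_le.mpr hxG
  set P' := P.subtype hXG
  have hc1 : Nat.card {H : Subgroup G // Nat.card H = p} = Nat.card (Sylow p (commutator G)) := by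
    have hP'c : Nat.card (P' : Subgroup (commutator G)) = p := by
      rw [Sylow.coe_subtype, Nat.card_congr (subgroupOfEquivOfLe hXG).toEquiv, hP, zpowers_card hx]
    refine (Nat.card_eq_of_bijective (fun Q : Sylow p (commutator G) =>
      (⟨(Q : Subgroup (commutator G)).map (commutator G).subtype, by
        rw [card_map_of_injective (commutator G).subtype_injective, Q.card_eq_multiplicity,
          ← P'.card_eq_multiplicity, hP'c]⟩ : {H : Subgroup G // Nat.card H = p}))
      ⟨fun Q R h => Sylow.ext (map_injective (commutator G).subtype_injective (congrArg Subtype.val h)),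
        fun H => ?_⟩).symm
    have hHp : IsPGroup p (H.1.subgroupOf (commutator G)) := IsPGroup.of_card (n := 1) (by
      rw [Nat.card_congr (subgroupOfEquivOfLe (hsub H)).toEquiv, H.2, pow_one])
    obtain ⟨Q, hQ⟩ := hHp.exists_le_sylow
    refine ⟨Q, Subtype.ext ?_⟩
    show (Q : Subgroup (commutator G)).map (commutator G).subtype = H.1
    rw [← eq_of_le_of_card_ge hQ (by
      rw [Q.card_eq_multiplicity, ← P'.card_eq_multiplicity, hP'c,
        Nat.card_congr (subgroupOfEquivOfLe (hsub H)).toEquiv, H.2]), map_subgroupOf_eq_of_le (hsub H)]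
  rw [hc1, P'.card_eq_index_normalizer]
  have hidx : ((P' : Subgroup (commutator G))).index = Nat.card K := by
    have h1 := (P' : Subgroup (commutator G)).card_mul_index
    rw [hcard, Sylow.coe_subtype, Nat.card_congr (subgroupOfEquivOfLe hXG).toEquiv,
      show Nat.card (P : Subgroup G) = p by rw [hP, zpowers_card hx]] at h1
    rw [Sylow.coe_subtype]
    exact Nat.eq_of_mul_eq_mul_left hp.out.pos h1
  rw [← hidx]
  exact index_dvd_of_le le_normalizer

include hx hC in
theorem derived_ne_of_normal (h : p ∣ Nat.card (commutator G)) {S : Subgroup G} [hS : S.Normal]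
    (hSc : Nat.card S = Nat.card {H : Subgroup G // Nat.card H = p}) (hpS : ¬ p ∣ Nat.card S) :
    derivedSeries G 2 ≠ derivedSeries G 1 := by
  obtain ⟨P, hP⟩ := sylow_eq_zpowers hx hC
  rw [card_subgroups_eq hx hC P hP] at hSc
  have hxP : x ∈ (P : Subgroup G) := hP ▸ mem_zpowers x
  -- `S` is transitive on the Sylow subgroups
  have hinj : ∀ a b : S, (a : G) • P = (b : G) • P → (b : G)⁻¹ * a = 1 := by
    intro a b hab
    have hn : ((b : G)⁻¹ * a) • P = P := by
      rw [mul_smul, hab, inv_smul_smul]
    have hm : (b : G)⁻¹ * a ∈ S := mul_mem (inv_mem b.2) a.2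
    generalize (b : G)⁻¹ * a = s at hn hm ⊢
    have hnorm := (mem_normalizer_iff.mp (Sylow.smul_eq_iff_mem_normalizer.mp hn) x).mp hxP
    rw [hP] at hnorm
    have h1 : s * x * s⁻¹ * x⁻¹ ∈ zpowers x := mul_mem hnorm (inv_mem (mem_zpowers x))
    have h2 : s * x * s⁻¹ * x⁻¹ ∈ S := by
      have := mul_mem hm (hS.conj_mem _ (inv_mem hm) x)
      simpa [mul_assoc] using this
    have h3 : s * x * s⁻¹ * x⁻¹ = 1 := eq_one_of_commute hx hC hpS h2 (by
      obtain ⟨k, hk⟩ := mem_zpowers_iff.mp h1
      rw [← hk]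
      exact ((Commute.refl x).zpow_left k).eq)
    refine eq_one_of_commute hx hC hpS hm ?_
    calc s * x = s * x * s⁻¹ * x⁻¹ * (x * s) := by group
      _ = x * s := by rw [h3, one_mul]
  have hinj' : Function.Injective fun s : S => ((s : G) • P : Sylow p G) := fun a b hab =>
    Subtype.ext (inv_mul_eq_one.mp (hinj a b hab)).symm
  have hsurj := ((Nat.bijective_iff_injective_and_card _).mpr ⟨hinj', hSc⟩).2
  set L := zpowers x ⊔ S
  have hL : normalClosure ({x} : Set G) ≤ L := by
    rw [normalClosure, closure_le]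
    intro z hz
    obtain ⟨w, hw, hwz⟩ := Group.mem_conjugatesOfSet_iff.mp hz
    rw [Set.mem_singleton_iff] at hw
    subst hw
    obtain ⟨g, rfl⟩ := isConj_iff.mp hwz
    obtain ⟨s, hs⟩ := hsurj (g • P)
    have h1 : g * w * g⁻¹ ∈ ((g • P : Sylow p G) : Subgroup G) := by
      rw [Sylow.coe_subgroup_smul, mem_pointwise_smul_iff_inv_smul_mem]
      simpa [MulAut.smul_def, mul_assoc] using hxP
    rw [← show (s : G) • P = g • P from hs, Sylow.coe_subgroup_smul,
      mem_pointwise_smul_iff_inv_smul_mem, hP] at h1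
    have h2 : (s : G)⁻¹ * (g * w * g⁻¹) * (s : G) ∈ L := mem_sup_left (by
      simpa [MulAut.smul_def, mul_assoc] using h1)
    have h3 := mul_mem (mul_mem (mem_sup_right (S := zpowers w) s.2) h2)
      (inv_mem (mem_sup_right (S := zpowers w) s.2))
    simpa [mul_assoc] using h3
  have hGL : commutator G ≤ L := (commutator_le_of_dvd hx hC (by
    rw [← hx, ← orderOf_mk (H := normalClosure ({x} : Set G)) x (subset_normalClosure rfl)]
    exact orderOf_dvd_natCard _)).trans hL
  have hLS : ⁅L, L⁆ ≤ S := by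
    have himg : L.map (QuotientGroup.mk' S) = zpowers (QuotientGroup.mk' S x) := by
      rw [Subgroup.map_sup, MonoidHom.map_zpowers, QuotientGroup.map_mk'_self, sup_bot_eq]
    rw [← QuotientGroup.ker_mk' S, ← Subgroup.map_eq_bot_iff, map_commutator, himg, eq_bot_iff,
      commutator_le]
    intro a ha b hb
    obtain ⟨i, rfl⟩ := mem_zpowers_iff.mp ha
    obtain ⟨j, rfl⟩ := mem_zpowers_iff.mp hb
    rw [mem_bot, commutatorElement_eq_one_iff_mul_comm]
    exact ((Commute.refl _).zpow_zpow i j).eq
  intro heq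
  rw [show (2 : ℕ) = 1 + 1 from rfl, derivedSeries_succ, derivedSeries_one] at heq
  exact hpS (h.trans (card_dvd_of_le (heq ▸ (commutator_mono hGL hGL).trans hLS)))

end CfsgLib.SelfCentralDerived
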