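import Cfsg.Agent.Lib.BlockArith.RankTrace

/-!
# The norms of a subsection add up to the rank of its block
-/

set_option autoImplicit false

noncomputable section

namespace CfsgLib.BlockArith

open Cfsg CfsgLib.Blocks
open scoped ComplexConjugate

variable {G : Type*} [Group G] [Fintype G] {M : Ideal AlgInt} [M.IsMaximal] {p : ℕ} [hp : Fact p.Prime]

omit [M.IsMaximal] hp in
theorem conjugators_eq (g h : G) [DecidableEq G] [Decidable (IsConj g h)] :
    (if IsConj g h then (Nat.card (Subgroup.centralizer ({g} : Set G)) : ℂ) else 0) =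
      ∑ w : G, if w * g * w⁻¹ = h then (1 : ℂ) else 0 := by
  classical
  split_ifs with hc
  · obtain ⟨v, hv⟩ := isConj_iff.mp hc
    rw [← Finset.sum_filter, Finset.sum_const, nsmul_eq_mul, mul_one, Nat.cast_inj,
      ← Nat.card_eq_finsetCard]
    refine Nat.card_congr
      { toFun := fun c => ⟨v * c.1, Finset.mem_filter.mpr ⟨Finset.mem_univ _, by
          rw [← hv, show v * c.1 * g * (v * c.1)⁻¹ = v * (c.1 * g * c.1⁻¹) * v⁻¹ by group,
            mul_inv_eq_iff_eq_mul.mpr (Subgroup.mem_centralizer_singleton_iff.mp c.2)]⟩⟩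
        invFun := fun w => ⟨v⁻¹ * w.1, Subgroup.mem_centralizer_singleton_iff.mpr (by
          have hw := (Finset.mem_filter.mp w.2).2.trans hv.symm
          calc v⁻¹ * w.1 * g = v⁻¹ * (w.1 * g * w.1⁻¹) * w.1 := by group
            _ = v⁻¹ * (v * g * v⁻¹) * w.1 := by rw [hw]
            _ = g * (v⁻¹ * w.1) := by group)⟩
        left_inv := fun c => by ext; simp
        right_inv := fun w => by ext; simp }
  · exact (Finset.sum_eq_zero fun w _ => if_neg fun h' => hc (isConj_iff.mpr ⟨w, h'⟩)).symm

omit [M.IsMaximal] hp in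
theorem blockKer_conj_right (B : Set (IrrCharacter G)) (s c w : G) :
    blockKer p B s (w * c * w⁻¹) = blockKer p B s c := by
  classical
  simp only [blockKer, Matrix.of_apply,
    show orderOf (w * c * w⁻¹) = orderOf c from (SemiconjBy.conj_mk w c).orderOf_eq.symm]
  split_ifs
  · rfl
  · refine congrArg _ (Finset.sum_congr rfl fun χ _ => ?_)
    rw [CfsgLib.Char.isClassFunction_of_isIrr χ.2 c w]

variable {x : G} [Fintype (Subgroup.centralizer ({x} : Set G))]

omit hp in
theorem blockPart_regular_eq (hM : IsPModular p M)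
    {b : Set (IrrCharacter (Subgroup.centralizer ({x} : Set G)))} (hb : IsPBlock M b)
    (f : Subgroup.centralizer ({x} : Set G) → ℂ) {s : Subgroup.centralizer ({x} : Set G)}
    (hs : ¬ p ∣ orderOf s) : blockPart b f s = ∑ c, blockKer p b s c * f c := by
  classical
  rw [show ∑ c, blockKer p b s c * f c = (blockKer p b).mulVec f s from rfl, blockKer_mulVec,
    pRegularPart_apply, if_neg hs]
  exact blockPart_congr_regular hM hb hs fun c hc => by rw [pRegularPart_apply, if_neg hc]

/-- Second orthogonality inside a `p`-section. -/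
theorem sum_section_mul (hx : ∃ k : ℕ, orderOf x = p ^ k)
    (b : Set (IrrCharacter (Subgroup.centralizer ({x} : Set G))))
    (s c : Subgroup.centralizer ({x} : Set G)) (hc : ¬ p ∣ orderOf c) :
    ∑ c' : Subgroup.centralizer ({x} : Set G), blockKer p b s c' *
      (∑ χ : IrrCharacter G, (χ : G → ℂ) (x * (c : G)) * (χ : G → ℂ) (x⁻¹ * (c' : G))) =
      (Nat.card (Subgroup.centralizer ({x} : Set G)) : ℂ) * blockKer p b s c⁻¹ := by
  classical
  let _ : Fintype (Subgroup.centralizer ({x} : Set G)) := inferInstance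
  have h1 : ∀ c' : Subgroup.centralizer ({x} : Set G), blockKer p b s c' *
      (∑ χ : IrrCharacter G, (χ : G → ℂ) (x * (c : G)) * (χ : G → ℂ) (x⁻¹ * (c' : G))) =
      ∑ w : Subgroup.centralizer ({x} : Set G), if w * c * w⁻¹ = c'⁻¹ then blockKer p b s c' else 0 := by
    intro c'
    by_cases hc' : p ∣ orderOf c'
    · rw [show blockKer p b s c' = 0 by simp [blockKer, hc']]
      simp
    have hcomm := commute_of_mem_centralizer c'
    rw [show (∑ χ : IrrCharacter G, (χ : G → ℂ) (x * (c : G)) * (χ : G → ℂ) (x⁻¹ * (c' : G))) =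
        ∑ χ : IrrCharacter G, (χ : G → ℂ) (x * (c : G)) * conj ((χ : G → ℂ) (x * (c'⁻¹ : G))) from
      Finset.sum_congr rfl fun χ _ => by
        rw [← CfsgLib.Char.char_inv (CfsgLib.Char.isCharacter_of_isIrr χ.2), mul_inv_rev, inv_inv,
          hcomm.inv_left.eq],
      CfsgLib.Char.second_orthogonality, conjugators_eq, Finset.mul_sum]
    have hp1 : IsPPart p (x * (c : G)) x :=
      isPPart_mul (commute_of_mem_centralizer c) hx (by rwa [Subgroup.orderOf_coe])
    have hp2 : IsPPart p (x * (c'⁻¹ : G)) x :=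
      isPPart_mul hcomm.inv_right hx (by rwa [orderOf_inv, Subgroup.orderOf_coe])
    have hmem : ∀ w : G, w * (x * (c : G)) * w⁻¹ = x * (c'⁻¹ : G) →
        w ∈ Subgroup.centralizer ({x} : Set G) := fun w hw => by
      have h := isPPart_unique (hw ▸ isPPart_conj hp1 w) hp2
      exact Subgroup.mem_centralizer_singleton_iff.mpr (mul_inv_eq_iff_eq_mul.mp h)
    rw [← Finset.sum_subset (Finset.subset_univ
      (Finset.univ.map (Function.Embedding.subtype fun w => w ∈ Subgroup.centralizer ({x} : Set G)))),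
      Finset.sum_map]
    · refine Finset.sum_congr rfl fun w _ => ?_
      rw [mul_ite, mul_one, mul_zero]
      refine if_congr ?_ rfl rfl
      show (w : G) * (x * (c : G)) * (w : G)⁻¹ = x * (c'⁻¹ : G) ↔ _
      have hw := (commute_of_mem_centralizer w).eq
      rw [show (w : G) * (x * (c : G)) * (w : G)⁻¹ = x * ((w : G) * (c : G) * (w : G)⁻¹) by
        rw [← mul_assoc, ← hw]; group, mul_right_inj, Subtype.ext_iff]
      simp
    · intro w _ hw
      rw [if_neg, mul_zero]
      exact fun h => hw (Finset.mem_map.mpr ⟨⟨w, hmem w h⟩, Finset.mem_univ _, rfl⟩)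
  simp only [h1]
  rw [Finset.sum_comm, Nat.card_eq_fintype_card, ← Finset.card_univ, ← nsmul_eq_mul, ← Finset.sum_const]
  refine Finset.sum_congr rfl fun w _ => ?_
  rw [Finset.sum_eq_single (w * c * w⁻¹)⁻¹, inv_inv, if_pos rfl,
    show (w * c * w⁻¹)⁻¹ = w * c⁻¹ * w⁻¹ by group, blockKer_conj_right]
  · intro c' _ hne
    exact if_neg fun h => hne (by rw [h, inv_inv])
  · simp

theorem subsection_norms (hM : IsPModular p M) (hx : ∃ k : ℕ, orderOf x = p ^ k)
    {B : Set (IrrCharacter G)} {b : Set (IrrCharacter (Subgroup.centralizer ({x} : Set G)))}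
    (hind : IsInducedBlock M (Subgroup.centralizer ({x} : Set G)) b B) :
    ∑ᶠ χ ∈ B, ∑ᶠ s : Subgroup.centralizer ({x} : Set G),
      pRegularPart p (blockPart b fun c => (χ : G → ℂ) (x * (c : G))) s *
        blockPart b (fun c => (χ : G → ℂ) (x⁻¹ * (c : G))) s⁻¹ =
      (Nat.card (Subgroup.centralizer ({x} : Set G)) : ℂ) * (blockRank p b : ℂ) := by
  classical
  have hb := hind.1
  let T : IrrCharacter G → ℂ := fun χ => ∑ s : Subgroup.centralizer ({x} : Set G),
    pRegularPart p (blockPart b fun c => (χ : G → ℂ) (x * (c : G))) s *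
      blockPart b (fun c => (χ : G → ℂ) (x⁻¹ * (c : G))) s⁻¹
  have h0 : ∀ χ : IrrCharacter G, χ ∉ B → T χ = 0 := by
    intro χ hχ
    refine Finset.sum_eq_zero fun s _ => ?_
    rw [pRegularPart_apply]
    split_ifs with hs
    · rw [zero_mul]
    · rw [second_main hM hx (mem_blockOf_self χ) (isPBlock_blockOf χ) hb (fun h => hχ (by
        rw [inducedBlock_unique _ hind h]; exact mem_blockOf_self χ)) hs, zero_mul]
  rw [finsum_mem_def, finsum_eq_sum_of_fintype]
  simp only [finsum_eq_sum_of_fintype]
  rw [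
    show (∑ χ : IrrCharacter G, B.indicator T χ) = ∑ χ : IrrCharacter G, T χ from
      Finset.sum_congr rfl fun χ _ => by
        by_cases hχ : χ ∈ B
        · exact Set.indicator_of_mem hχ T
        · rw [Set.indicator_of_notMem hχ, h0 χ hχ]]
  -- expand the block parts
  have hT : ∀ χ : IrrCharacter G, T χ = ∑ s : Subgroup.centralizer ({x} : Set G),
      ∑ c : Subgroup.centralizer ({x} : Set G), ∑ c' : Subgroup.centralizer ({x} : Set G),
        blockKer p b s c * (blockKer p b s⁻¹ c' * ((χ : G → ℂ) (x * (c : G)) * (χ : G → ℂ) (x⁻¹ * (c' : G)))) := by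
    intro χ
    refine Finset.sum_congr rfl fun s _ => ?_
    rw [pRegularPart_apply]
    split_ifs with hs
    · rw [zero_mul]
      exact (Finset.sum_eq_zero fun c _ => Finset.sum_eq_zero fun c' _ => by
        rw [show blockKer p b s c = 0 by simp [blockKer, hs], zero_mul]).symm
    · rw [blockPart_regular_eq hM hb _ hs, blockPart_regular_eq hM hb _ (by rwa [orderOf_inv]),
        Finset.sum_mul_sum]
      exact Finset.sum_congr rfl fun c _ => Finset.sum_congr rfl fun c' _ => by ring
  simp only [hT]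
  rw [Finset.sum_comm, blockRank_eq_trace hM hb, Finset.mul_sum]
  refine Finset.sum_congr rfl fun s _ => ?_
  rw [Finset.sum_comm, ← blockKer_sum_mul hM hb s s, Finset.mul_sum]
  refine Finset.sum_congr rfl fun c _ => ?_
  rw [Finset.sum_comm]
  by_cases hc : p ∣ orderOf c
  · rw [show blockKer p b s c = 0 by simp [blockKer, hc]]
    simp
  simp only [← Finset.mul_sum]
  rw [sum_section_mul hx b s⁻¹ c hc, blockKer_inv]
  ring

/-- The same for any name of the centraliser. -/
theorem subsection_norms' (hM : IsPModular p M) (hx : ∃ k : ℕ, orderOf x = p ^ k)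
    {H : Subgroup G} (hH : H = Subgroup.centralizer ({x} : Set G))
    {B : Set (IrrCharacter G)} {b : Set (IrrCharacter H)} (hind : IsInducedBlock M H b B) :
    ∑ᶠ χ ∈ B, ∑ᶠ s : H, pRegularPart p (blockPart b fun c => (χ : G → ℂ) (x * (c : G))) s *
        blockPart b (fun c => (χ : G → ℂ) (x⁻¹ * (c : G))) s⁻¹ =
      (Nat.card H : ℂ) * (blockRank p b : ℂ) := by
  subst hH
  exact subsection_norms hM hx hind

end CfsgLib.BlockArith
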