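import Cfsg.Agent.Lib.BlockArith.TwoAverage

/-!
# Bounds from a subsection of a two-block

* `two_heightZero_bound`: odd averages `A χ ≥ k₀(B) / q` on height zero, total at most `q l(b)`;
* `two_major_bound`: `3 k₀(B) + 2 ∑ 2^h ≤ 3 · 2^d` for a major subsection with `l(b) ≤ 3`.
-/

set_option autoImplicit false

noncomputable section

namespace CfsgLib.BlockArith

open Cfsg CfsgLib.Char CfsgLib.Blocks
open scoped ComplexConjugate

variable {G : Type*} [Group G] [Fintype G] {M : Ideal AlgInt} [M.IsMaximal]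
  {x : G} [Fintype (Subgroup.centralizer ({x} : Set G))]
  {B : Set (IrrCharacter G)} {b : Set (IrrCharacter (Subgroup.centralizer ({x} : Set G)))}
  [DecidablePred (· ∈ B)]

theorem exists_two_avg (hM : IsPModular 2 M) (hx : ∃ k : ℕ, orderOf x = 2 ^ k)
    (hind : IsInducedBlock M (Subgroup.centralizer ({x} : Set G)) b B) :
    ∃ A : IrrCharacter G → ℤ,
      (∀ χ ∈ B, 0 ≤ A χ) ∧
      (∀ χ ∈ B, ∀ (s : Finset (IrrCharacter G)), (∀ ψ ∈ s, ψ ∈ B) → ∀ N : IrrCharacter G → ℕ,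
        (∀ ψ ∈ s, ∃ w : ℂ, IsIntegral ℤ w ∧ w ≠ 0 ∧ contrib 2 x b χ ψ = (N ψ : ℂ) * w) →
        ((∑ ψ ∈ s, N ψ ^ 2 : ℕ) : ℤ) ≤ ((2 ^ blockDefect 2 b : ℕ) : ℤ) * A χ) ∧
      (∀ χ ∈ B, blockHeight 2 B (χ : G → ℂ) = 0 → Odd (A χ) ∧
        ((Finset.univ.filter fun ψ : IrrCharacter G => ψ ∈ B ∧ blockHeight 2 B (ψ : G → ℂ) = 0).card : ℤ)
          ≤ ((2 ^ blockDefect 2 b : ℕ) : ℤ) * A χ) ∧
      (∀ χ ∈ B, ∀ N : ℕ, ∀ w : ℂ, ∀ hw : IsIntegral ℤ w, contrib 2 x b χ χ = (N : ℂ) * w →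
        N ≠ 0 → res M ⟨w, algInt_le_locRing M hw⟩ = 0 → ∃ a : ℤ, A χ = N * a ∧ Even a) ∧
      ∑ χ ∈ Finset.univ.filter (fun χ : IrrCharacter G => χ ∈ B), A χ =
        ((2 ^ blockDefect 2 b * blockRank 2 b : ℕ) : ℤ) := by
  classical
  have := Fact.mk Nat.prime_two
  obtain ⟨n, hn⟩ := id hx
  obtain ⟨ζ, hζ, hxn⟩ := exists_pow_eq_one_of_orderOf hn
  obtain ⟨S, hS⟩ := exists_galois_family hζ
  obtain ⟨A, hA, hres, hsum⟩ := exists_diag_avg hM hind hζ hS hxn
  refine ⟨A, fun χ hχ => ?_, fun χ hχ s hs N hw => sum_sq_le_avg hM hx hind (hA χ) s hs N hw,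
    fun χ hχ h0 => ⟨?_, ?_⟩, fun χ hχ N w hw hc hN hr => ?_, hsum⟩
  · have h := sum_sq_le_avg hM hx hind (hA χ) ∅ (by simp) (fun _ => 0) (by simp)
    simp only [Finset.sum_empty, Nat.cast_zero] at h
    exact nonneg_of_mul_nonneg_right h (by positivity)
  · have : CharP (Res M) 2 := res_charP M hM
    obtain ⟨v, hv, L, hL, hf⟩ := exists_heightVec hM hx hind
    rw [← Int.not_even_iff_odd]
    intro he
    have h2 := hf χ χ
    rw [hres χ (isIntegral_contrib hM hind.1 χ χ), (CharP.intCast_eq_zero_iff (Res M) 2 (A χ)).mpr (by exact_mod_cast he.two_dvd),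
      zero_mul] at h2
    exact mul_ne_zero (hv χ hχ h0) (mul_ne_zero (hv χ hχ h0) hL) h2.symm
  · have h := sum_sq_le_avg hM hx hind (hA χ)
      (Finset.univ.filter fun ψ : IrrCharacter G => ψ ∈ B ∧ blockHeight 2 B (ψ : G → ℂ) = 0)
      (fun ψ hψ => (Finset.mem_filter.mp hψ).2.1) (fun _ => 1) fun ψ hψ =>
        ⟨_, isIntegral_contrib hM hind.1 χ ψ,
          contrib_ne_zero hM hx hind hχ h0 (Finset.mem_filter.mp hψ).2.1 (Finset.mem_filter.mp hψ).2.2,
          by simp⟩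
    simpa using h
  · have hN0 : (N : ℂ) ≠ 0 := Nat.cast_ne_zero.mpr hN
    have hwm : w ∈ IntermediateField.adjoin ℚ ({ζ} : Set ℂ) := by
      rw [show w = (N : ℂ)⁻¹ * contrib 2 x b χ χ by rw [hc, inv_mul_cancel_left₀ hN0]]
      exact mul_mem (inv_mem (_root_.natCast_mem _ _)) (contrib_mem_adjoin hM hind.1 hζ hxn χ χ)
    have hwc : conj w = w := by
      have h1 := (contrib_conj (p := 2) (x := x) (b := b) χ χ).symm
      rw [hc, map_mul, Complex.conj_natCast] at h1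
      exact mul_left_cancel₀ hN0 h1
    obtain ⟨a, ha, har⟩ := exists_avg hM hζ hS hwm hw hwc
    refine ⟨a, ?_, ?_⟩
    · have h1 := hA χ
      simp only [hc, map_mul, map_natCast] at h1
      rw [← Finset.mul_sum, ha, mul_left_comm] at h1
      exact_mod_cast (mul_left_cancel₀ (Nat.cast_ne_zero.mpr (Nat.two_pow_pos n).ne') h1).symm
    · have : CharP (Res M) 2 := res_charP M hM
      rw [hr] at har
      exact even_iff_two_dvd.mpr (by exact_mod_cast (CharP.intCast_eq_zero_iff (Res M) 2 a).mp har.symm)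

/-- The bound of a subsection on the characters of height zero. -/
theorem two_heightZero_bound (hM : IsPModular 2 M) (hx : ∃ k : ℕ, orderOf x = 2 ^ k)
    (hind : IsInducedBlock M (Subgroup.centralizer ({x} : Set G)) b B) {k : ℕ}
    (hk : k = Nat.card {χ : IrrCharacter G // χ ∈ B ∧ blockHeight 2 B (χ : G → ℂ) = 0}) :
    (Odd (Nat.sqrt (blockRank 2 b)) → k ≤ Nat.sqrt (blockRank 2 b) * 2 ^ blockDefect 2 b) ∧
    (¬ Odd (Nat.sqrt (blockRank 2 b)) →
      (Nat.sqrt (blockRank 2 b) + 1) * k ≤ blockRank 2 b * 2 ^ blockDefect 2 b) ∧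
    (blockRank 2 b ≤ 3 → k ≤ 2 ^ blockDefect 2 b) := by
  classical
  obtain ⟨A, hA0, -, hA1, -, hsum⟩ := exists_two_avg hM hx hind
  set s := Finset.univ.filter fun χ : IrrCharacter G => χ ∈ B ∧ blockHeight 2 B (χ : G → ℂ) = 0
  obtain rfl : k = s.card := by rw [hk, Nat.card_eq_fintype_card, Fintype.card_subtype]
  set q := 2 ^ blockDefect 2 b
  set l := blockRank 2 b
  have hq : 0 < q := Nat.two_pow_pos _
  have hle : ∀ a : ℕ, (∀ χ ∈ s, (a : ℤ) ≤ A χ) → a * s.card ≤ q * l := by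
    intro a ha
    have h1 : ((a * s.card : ℕ) : ℤ) ≤ ∑ χ ∈ s, A χ := by
      rw [Nat.cast_mul, mul_comm, ← nsmul_eq_mul]
      exact Finset.card_nsmul_le_sum _ _ _ ha
    have h2 : ∑ χ ∈ s, A χ ≤ ((q * l : ℕ) : ℤ) := hsum ▸
      Finset.sum_le_sum_of_subset_of_nonneg
        (fun χ hχ => Finset.mem_filter.mpr ⟨Finset.mem_univ _, (Finset.mem_filter.mp hχ).2.1⟩)
        (fun χ hχ _ => hA0 χ (Finset.mem_filter.mp hχ).2)
    exact_mod_cast h1.trans h2
  have hge : ∀ r : ℕ, r * q < s.card → ∀ χ ∈ s, (r : ℤ) + 1 ≤ A χ ∧ Odd (A χ) := by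
    intro r hr χ hχ
    obtain ⟨h1, h2⟩ := hA1 χ (Finset.mem_filter.mp hχ).2.1 (Finset.mem_filter.mp hχ).2.2
    refine ⟨?_, h1⟩
    by_contra hc
    have h4 : (q : ℤ) * A χ ≤ (q : ℤ) * (r : ℤ) := by gcongr; omega
    have h5 : ((r * q : ℕ) : ℤ) < (s.card : ℤ) := by exact_mod_cast hr
    push_cast at h5
    linarith [mul_comm (q : ℤ) (r : ℤ)]
  have hsq := Nat.sqrt_le l
  have hlt := Nat.lt_succ_sqrt l
  have hodd : Odd (Nat.sqrt l) → s.card ≤ Nat.sqrt l * q := by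
    intro ho
    by_contra hc
    push Not at hc
    have h1 := hle (Nat.sqrt l + 2) fun χ hχ => by
      obtain ⟨h2, h3⟩ := hge _ hc χ hχ
      obtain ⟨i, hi⟩ := h3
      obtain ⟨j, hj⟩ := ho
      push_cast
      omega
    have h2 : (Nat.sqrt l + 2) * (Nat.sqrt l * q + 1) ≤ q * l :=
      le_trans (Nat.mul_le_mul_left _ hc) h1
    nlinarith
  refine ⟨hodd, fun he => ?_, fun h3 => ?_⟩
  · rcases Nat.lt_or_ge ((Nat.sqrt l - 1) * q) s.card with h | h
    · rw [mul_comm l]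
      refine hle _ fun χ hχ => ?_
      obtain ⟨h2, i, hi⟩ := hge _ h χ hχ
      obtain ⟨j, hj⟩ := Nat.not_odd_iff_even.mp he
      push_cast
      omega
    · calc (Nat.sqrt l + 1) * s.card ≤ (Nat.sqrt l + 1) * ((Nat.sqrt l - 1) * q) := Nat.mul_le_mul_left _ h
        _ ≤ l * q := by
          rw [← mul_assoc]
          refine Nat.mul_le_mul_right _ ?_
          generalize Nat.sqrt l = r at hsq ⊢
          rcases r with _ | r
          · simp
          · rw [Nat.add_sub_cancel]; nlinarith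
  · rcases Nat.eq_zero_or_pos l with h0 | h0
    · rcases s.card.eq_zero_or_pos with hs | hs
      · omega
      · have h1 := hle 1 fun χ hχ => by
          have := (hge 0 (by simpa using hs) χ hχ).1
          omega
        rw [h0, mul_zero] at h1
        omega
    · have h1 : Nat.sqrt l = 1 := Nat.eq_sqrt'.mpr (by constructor <;> nlinarith) |>.symm
      have := hodd (h1 ▸ odd_one)
      rwa [h1, one_mul] at this

/-- The bound of a major subsection with at most three Brauer characters. -/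
theorem two_major_bound (hM : IsPModular 2 M) (hx : ∃ k : ℕ, orderOf x = 2 ^ k)
    (hind : IsInducedBlock M (Subgroup.centralizer ({x} : Set G)) b B)
    (hd : blockDefect 2 b = blockDefect 2 B) (hl : blockRank 2 b ≤ 3) :
    3 * (Finset.univ.filter fun χ : IrrCharacter G => χ ∈ B ∧ blockHeight 2 B (χ : G → ℂ) = 0).card +
      2 * ∑ χ ∈ Finset.univ.filter (fun χ : IrrCharacter G => χ ∈ B ∧ 1 ≤ blockHeight 2 B (χ : G → ℂ)),
        2 ^ blockHeight 2 B (χ : G → ℂ) ≤ 3 * 2 ^ blockDefect 2 B := by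
  classical
  have := Fact.mk Nat.prime_two
  obtain ⟨-, hB, -⟩ := (isInducedBlock_iff _).mp hind
  obtain ⟨A, hA0, hrow, hA1, hdiv, hsum⟩ := exists_two_avg hM hx hind
  let h : IrrCharacter G → ℕ := fun χ => blockHeight 2 B (χ : G → ℂ)
  set t := Finset.univ.filter fun χ : IrrCharacter G => χ ∈ B with ht
  have hts : (Finset.univ.filter fun χ : IrrCharacter G => χ ∈ B ∧ blockHeight 2 B (χ : G → ℂ) = 0) =
      t.filter fun χ => h χ = 0 := by rw [ht, Finset.filter_filter]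
  have htp : (Finset.univ.filter fun χ : IrrCharacter G => χ ∈ B ∧ 1 ≤ blockHeight 2 B (χ : G → ℂ)) =
      t.filter fun χ => ¬ h χ = 0 := by
    rw [ht, Finset.filter_filter]
    exact Finset.filter_congr fun χ _ => and_congr_right fun _ =>
      (show 1 ≤ h χ ↔ ¬ h χ = 0 by omega)
  rw [hts, htp]
  rw [hd] at hrow hA1 hsum
  by_cases hone : ∃ χ ∈ t, h χ = 0 ∧ A χ = 1
  · obtain ⟨χ, hχ, h0, hAχ⟩ := hone
    have hχB := (Finset.mem_filter.mp hχ).2
    have hr := hrow χ hχB t (fun ψ hψ => (Finset.mem_filter.mp hψ).2) (fun ψ => 2 ^ h ψ) fun ψ hψ =>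
      contrib_height hM hx hind hd hχB h0 (Finset.mem_filter.mp hψ).2
    rw [hAχ, mul_one] at hr
    have hr' : ∑ ψ ∈ t, (2 ^ h ψ) ^ 2 ≤ 2 ^ blockDefect 2 B := by exact_mod_cast hr
    rw [← Finset.sum_filter_add_sum_filter_not t (fun ψ => h ψ = 0),
      Finset.sum_congr rfl (s₁ := t.filter fun ψ => h ψ = 0) (g := fun _ => 1) fun ψ hψ => by
        rw [(Finset.mem_filter.mp hψ).2]; rfl,
      Finset.sum_const, smul_eq_mul, mul_one] at hr'
    have h2 : 2 * ∑ χ ∈ t.filter (fun χ => ¬ h χ = 0), 2 ^ h χ ≤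
        3 * ∑ χ ∈ t.filter (fun χ => ¬ h χ = 0), (2 ^ h χ) ^ 2 := by
      rw [Finset.mul_sum, Finset.mul_sum]
      refine Finset.sum_le_sum fun χ _ => ?_
      have : 1 ≤ 2 ^ h χ := Nat.one_le_two_pow
      nlinarith
    show 3 * _ + 2 * ∑ χ ∈ t.filter (fun χ => ¬ h χ = 0), 2 ^ h χ ≤ _
    omega
  · push Not at hone
    have h3 : ∀ χ ∈ t, (if h χ = 0 then 3 else 2 * 2 ^ h χ : ℕ) ≤ A χ := by
      intro χ hχ
      have hχB := (Finset.mem_filter.mp hχ).2
      split_ifs with h0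
      · obtain ⟨⟨i, hi⟩, hk⟩ := hA1 χ hχB h0
        have := hA0 χ hχB
        have := hone χ hχ h0
        push_cast
        omega
      · obtain ⟨η, hη, hη0⟩ := exists_height_zero hM hB
        obtain ⟨w₀, hw₀, hne, hc₀⟩ := contrib_height hM hx hind hd hη hη0 hχB
        have hpos : 0 < A χ := by
          have h1 := hrow χ hχB {η} (by simpa using hη) (fun _ => 1) fun ψ hψ => by
            obtain rfl : ψ = η := Finset.mem_singleton.mp hψ
            refine ⟨_, isIntegral_contrib hM hind.1 χ ψ, ?_, by simp⟩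
            rw [contrib_conj ψ χ, hc₀]
            exact (map_ne_zero_iff _ (starRingEnd ℂ).injective).mpr
              (mul_ne_zero (Nat.cast_ne_zero.mpr (pow_ne_zero _ two_ne_zero)) hne)
          simp only [Finset.sum_singleton, one_pow, Nat.cast_one] at h1
          by_contra hc
          have h5 : ((2 ^ blockDefect 2 B : ℕ) : ℤ) * A χ ≤ 0 :=
            mul_nonpos_iff.mpr (Or.inl ⟨by positivity, not_lt.mp hc⟩)
          omega
        obtain ⟨w, hw, hc, hr⟩ := contrib_dvd hM hx hind hd hχB hχB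
        obtain ⟨a, ha, i, rfl⟩ := hdiv χ hχB (2 ^ h χ) w hw hc (pow_ne_zero _ two_ne_zero) (hr h0)
        have hi : 0 < i := by
          by_contra hc'
          have : ((2 ^ h χ : ℕ) : ℤ) * (i + i) ≤ 0 :=
            mul_nonpos_iff.mpr (Or.inl ⟨by positivity, by omega⟩)
          omega
        have : ((2 ^ h χ : ℕ) : ℤ) * 2 ≤ ((2 ^ h χ : ℕ) : ℤ) * (i + i) := by gcongr; omega
        push_cast at ha this ⊢
        linarith
    have h4 := Finset.sum_le_sum h3
    rw [hsum, ← Nat.cast_sum, Nat.cast_le,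
      ← Finset.sum_filter_add_sum_filter_not t (fun ψ => h ψ = 0),
      Finset.sum_congr rfl (s₁ := t.filter fun ψ => h ψ = 0) (g := fun _ => 3) (fun ψ hψ => if_pos (Finset.mem_filter.mp hψ).2),
      Finset.sum_congr rfl (s₁ := t.filter fun ψ => ¬ h ψ = 0) (g := fun ψ => 2 * 2 ^ h ψ) (fun ψ hψ => if_neg (Finset.mem_filter.mp hψ).2),
      Finset.sum_const, smul_eq_mul, ← Finset.mul_sum] at h4
    have := Nat.mul_le_mul_left (2 ^ blockDefect 2 B) hl
    show 3 * _ + 2 * ∑ χ ∈ t.filter (fun χ => ¬ h χ = 0), 2 ^ h χ ≤ _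
    linarith

end CfsgLib.BlockArith
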