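import Cfsg.Agent.Lib.BlockArith.TwoAverage

/-!
# Two-blocks with a major subsection of small corank

* `sum_sq_le_avg_off`: the row bound with the square of the diagonal average;
* `card_le_of_major_rank_ge`: `k(B) ≤ l(b) + 3` implies `k(B) ≤ 2 ^ d`.
-/

set_option autoImplicit false

noncomputable section

namespace CfsgLib.BlockArith

open Cfsg CfsgLib.Char CfsgLib.Blocks
open scoped ComplexConjugate

variable {G : Type*} [Group G] [Fintype G] {M : Ideal AlgInt} [M.IsMaximal]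
  {x : G} [Fintype (Subgroup.centralizer ({x} : Set G))]
  {B : Set (IrrCharacter G)} {b : Set (IrrCharacter (Subgroup.centralizer ({x} : Set G)))}

section avg

variable {n : ℕ} {ζ : ℂ} {S : Fin (2 ^ n) → (ℂ ≃+* ℂ)}

/-- The row bound away from the diagonal: the diagonal takes at least the square of its average. -/
theorem sum_sq_le_avg_off (hM : IsPModular 2 M) (hx : ∃ k : ℕ, orderOf x = 2 ^ k)
    (hind : IsInducedBlock M (Subgroup.centralizer ({x} : Set G)) b B) {χ : IrrCharacter G} {A : ℤ}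
    (hA : ∑ i, S i (contrib 2 x b χ χ) = ((2 ^ n : ℕ) : ℂ) * (A : ℂ))
    (hχ : χ ∈ B) (s : Finset (IrrCharacter G)) (hsB : ∀ ψ ∈ s, ψ ∈ B) (hsχ : χ ∉ s) (N : IrrCharacter G → ℕ)
    (hw : ∀ ψ ∈ s, ∃ w : ℂ, IsIntegral ℤ w ∧ w ≠ 0 ∧ contrib 2 x b χ ψ = (N ψ : ℂ) * w) :
    ((∑ ψ ∈ s, N ψ ^ 2 : ℕ) : ℤ) + A ^ 2 ≤ ((2 ^ blockDefect 2 b : ℕ) : ℤ) * A := by
  classical
  have := Fact.mk Nat.prime_two
  choose! w hwi hw0 hwc using hw
  have hcomm : ∀ (σ : ℂ ≃+* ℂ), ∀ ψ ∈ s, N ψ ≠ 0 → σ (w ψ * conj (w ψ)) =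
      ((Complex.normSq (σ (w ψ)) : ℝ) : ℂ) := by
    intro σ ψ hψ hN
    have hm : σ (conj (w ψ)) = conj (σ (w ψ)) := by
      have h1 : σ (conj (contrib 2 x b χ ψ)) = conj (σ (contrib 2 x b χ ψ)) :=
        contrib_mem_conjCommute σ χ ψ
      rw [hwc ψ hψ, map_mul, map_mul, map_mul, map_mul, Complex.conj_natCast, map_natCast,
        Complex.conj_natCast] at h1
      exact mul_left_cancel₀ (Nat.cast_ne_zero.mpr hN) h1
    rw [map_mul, hm, Complex.mul_conj]
  set s' := s.filter fun ψ => N ψ ≠ 0 with hs'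
  obtain ⟨τ, hτ⟩ := exists_conjugate_sum_ge (s' ×ˢ (Finset.univ : Finset (Fin (2 ^ n))))
    (fun a => S a.2 (w a.1 * conj (w a.1))) (fun a => N a.1 ^ 2)
    (fun a ha => by
      have := (Finset.mem_filter.mp (Finset.mem_product.mp ha).1).1
      exact map_isIntegral_int _ ((hwi _ this).mul (map_isIntegral_int (starRingEnd ℂ) (hwi _ this))))
    (fun a ha => by
      have := (Finset.mem_filter.mp (Finset.mem_product.mp ha).1).1
      exact (map_ne_zero_iff _ (S a.2).injective).mpr (mul_ne_zero (hw0 _ this)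
        ((map_ne_zero_iff _ (starRingEnd ℂ).injective).mpr (hw0 _ this))))
    (fun a ha σ => by
      obtain ⟨h1, h2⟩ := Finset.mem_filter.mp (Finset.mem_product.mp ha).1
      exact ⟨_, Complex.normSq_nonneg _, hcomm ((S a.2).trans σ) _ h1 h2⟩)
  have hl : ∀ a ∈ s' ×ˢ (Finset.univ : Finset (Fin (2 ^ n))),
      ((N a.1 ^ 2 : ℕ) : ℝ) * (τ (S a.2 (w a.1 * conj (w a.1)))).re =
        Complex.normSq (((S a.2).trans τ) (contrib 2 x b χ a.1)) := by
    intro a ha
    obtain ⟨h1, h2⟩ := Finset.mem_filter.mp (Finset.mem_product.mp ha).1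
    rw [show τ (S a.2 (w a.1 * conj (w a.1))) = ((S a.2).trans τ) (w a.1 * conj (w a.1)) from rfl,
      hcomm _ _ h1 h2, Complex.ofReal_re, hwc _ h1, map_mul, map_natCast, Complex.normSq_mul,
      Complex.normSq_natCast]
    push_cast
    ring
  rw [Finset.sum_congr rfl hl] at hτ
  have hrow : ∀ i, ∑ ψ ∈ Finset.univ.filter (fun ψ : IrrCharacter G => ψ ∈ B),
      Complex.normSq (((S i).trans τ) (contrib 2 x b χ ψ)) =
      (τ (S i (((2 ^ blockDefect 2 b : ℕ) : ℂ) * contrib 2 x b χ χ))).re := fun i => by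
    rw [← RingEquiv.trans_apply, ← sum_normSq_row hM hx hind, Complex.ofReal_re]
  have h4 : ∑ i, (τ (S i (((2 ^ blockDefect 2 b : ℕ) : ℂ) * contrib 2 x b χ χ))).re =
      ((2 ^ n : ℕ) : ℝ) * ((((2 ^ blockDefect 2 b : ℕ) : ℤ) * A : ℤ) : ℝ) := by
    simp only [map_mul, map_natCast, Complex.mul_re, Complex.natCast_re, Complex.natCast_im,
      zero_mul, sub_zero]
    rw [← Finset.mul_sum, ← Complex.re_sum, ← map_sum, hA, map_mul, map_natCast, map_intCast,
      show ((2 ^ n : ℕ) : ℂ) * (A : ℂ) = ((((2 ^ n : ℕ) : ℤ) * A : ℤ) : ℂ) by push_cast; ring,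
      Complex.intCast_re]
    push_cast
    ring
  -- the diagonal
  set r : Fin (2 ^ n) → ℝ := fun i => (((S i).trans τ) (contrib 2 x b χ χ)).re with hr
  have hrsum : ∑ i, r i = ((2 ^ n : ℕ) : ℝ) * (A : ℝ) := by
    simp only [hr, RingEquiv.trans_apply]
    rw [← Complex.re_sum, ← map_sum, hA, map_mul, map_natCast, map_intCast,
      show ((2 ^ n : ℕ) : ℂ) * (A : ℂ) = ((((2 ^ n : ℕ) : ℤ) * A : ℤ) : ℂ) by push_cast; ring,
      Complex.intCast_re]
    push_cast
    ring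
  have hdiag : ((2 ^ n : ℕ) : ℝ) * (A : ℝ) ^ 2 ≤
      ∑ i, Complex.normSq (((S i).trans τ) (contrib 2 x b χ χ)) := by
    refine le_trans ?_ (Finset.sum_le_sum fun i _ => show r i * r i ≤ _ by
      rw [Complex.normSq_apply]; exact le_add_of_nonneg_right (mul_self_nonneg _))
    have h0 : 0 ≤ ∑ i, (r i - (A : ℝ)) ^ 2 := Finset.sum_nonneg fun i _ => sq_nonneg _
    simp only [sub_sq, Finset.sum_add_distrib, Finset.sum_sub_distrib, Finset.sum_const, Finset.card_univ,
      Fintype.card_fin, nsmul_eq_mul] at h0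
    rw [← Finset.sum_mul, ← Finset.mul_sum, hrsum] at h0
    simp only [← pow_two]
    linarith
  have h5 : ((2 ^ n : ℕ) : ℝ) * (((∑ ψ ∈ s, N ψ ^ 2 : ℕ) : ℝ) + (A : ℝ) ^ 2) ≤
      ((2 ^ n : ℕ) : ℝ) * ((((2 ^ blockDefect 2 b : ℕ) : ℤ) * A : ℤ) : ℝ) := by
    rw [← h4, ← Finset.sum_congr rfl fun i _ => hrow i, mul_add]
    refine le_trans (add_le_add (le_trans (le_of_eq ?_) hτ) hdiag) ?_
    · rw [Finset.sum_product, hs', ← Finset.sum_filter_ne_zero (s := s) (f := fun ψ => N ψ ^ 2)]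
      rw [show (s.filter fun ψ => N ψ ^ 2 ≠ 0) = s.filter fun ψ => N ψ ≠ 0 by
        refine Finset.filter_congr fun ψ _ => ?_
        simp]
      push_cast
      simp [Finset.mul_sum]
    · rw [Finset.sum_product_right, ← Finset.sum_add_distrib]
      refine Finset.sum_le_sum fun i _ => ?_
      rw [add_comm, ← Finset.sum_insert (f := fun ψ => Complex.normSq (((S i).trans τ) (contrib 2 x b χ ψ)))
        (show χ ∉ s' from fun h => hsχ (Finset.mem_filter.mp h).1)]
      refine Finset.sum_le_sum_of_subset_of_nonneg ?_ fun ψ _ _ => Complex.normSq_nonneg _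
      intro ψ hψ
      refine Finset.mem_filter.mpr ⟨Finset.mem_univ _, ?_⟩
      rcases Finset.mem_insert.mp hψ with rfl | h
      · exact hχ
      · exact hsB ψ (Finset.mem_filter.mp h).1
  exact_mod_cast le_of_mul_le_mul_left h5 (Nat.cast_pos.mpr (Nat.two_pow_pos n))

end avg

/-- A two-block with a major subsection whose rank falls short of the number of characters by at
most three has at most `2 ^ d` characters. -/
theorem card_le_of_major_rank_ge (hM : IsPModular 2 M) (hx : ∃ k : ℕ, orderOf x = 2 ^ k)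
    (hind : IsInducedBlock M (Subgroup.centralizer ({x} : Set G)) b B)
    (hd : blockDefect 2 b = blockDefect 2 B) (hr : Nat.card B ≤ blockRank 2 b + 3) :
    Nat.card B ≤ 2 ^ blockDefect 2 B := by
  classical
  have := Fact.mk Nat.prime_two
  obtain ⟨-, hB, -⟩ := (isInducedBlock_iff _).mp hind
  obtain ⟨j, hj⟩ := id hx
  obtain ⟨ζ, hζ, hxn⟩ := exists_pow_eq_one_of_orderOf hj
  obtain ⟨S, hS⟩ := exists_galois_family hζ
  obtain ⟨A, hA, hres, hsum⟩ := exists_diag_avg hM hind hζ hS hxn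
  obtain ⟨χ₀, hχ₀, h00⟩ := exists_height_zero hM hB
  set q := 2 ^ blockDefect 2 B with hq
  set F := Finset.univ.filter (fun χ : IrrCharacter G => χ ∈ B) with hF
  have hFc : F.card = Nat.card B := by
    rw [hF, Nat.card_eq_fintype_card, ← Fintype.card_subtype]
  by_contra hlt
  push Not at hlt
  -- the complementary averages
  have hrow : ∀ χ ∈ B, ∀ s : Finset (IrrCharacter G), (∀ ψ ∈ s, ψ ∈ B) → χ ∉ s →
      (∀ ψ ∈ s, contrib 2 x b χ ψ ≠ 0) → (s.card : ℤ) + A χ ^ 2 ≤ (q : ℤ) * A χ := by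
    intro χ hχ s hs hχs hne
    have h := sum_sq_le_avg_off hM hx hind (hA χ) hχ s hs hχs (fun _ => 1) fun ψ hψ =>
      ⟨_, isIntegral_contrib hM hind.1 χ ψ, hne ψ hψ, by simp⟩
    rw [hd, ← hq] at h
    simpa using h
  have hne0 : ∀ χ ∈ B, blockHeight 2 B (χ : G → ℂ) = 0 → ∀ ψ ∈ B, contrib 2 x b χ ψ ≠ 0 := by
    intro χ hχ h0 ψ hψ
    obtain ⟨w, -, hw, he⟩ := contrib_height hM hx hind hd hχ h0 hψ
    rw [he]
    exact mul_ne_zero (Nat.cast_ne_zero.mpr (pow_ne_zero _ two_ne_zero)) hw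
  have hbounds : ∀ χ ∈ B, 0 < A χ ∧ A χ < q := by
    intro χ hχ
    obtain ⟨ψ, hψ, hψχ, hne⟩ : ∃ ψ ∈ B, ψ ≠ χ ∧ contrib 2 x b χ ψ ≠ 0 := by
      by_cases h0 : blockHeight 2 B (χ : G → ℂ) = 0
      · have h1 : 1 < F.card := by
          rw [hFc]; exact lt_of_le_of_lt (Nat.one_le_two_pow) hlt
        obtain ⟨ψ, hψ, hne⟩ := Finset.exists_mem_ne h1 χ
        exact ⟨ψ, (Finset.mem_filter.mp hψ).2, hne, hne0 χ hχ h0 ψ (Finset.mem_filter.mp hψ).2⟩
      · refine ⟨χ₀, hχ₀, fun e => h0 (e ▸ h00), fun e => hne0 χ₀ hχ₀ h00 χ hχ ?_⟩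
        rw [contrib_conj (χ := χ) (ψ := χ₀), e, map_zero]
    have h := hrow χ hχ {ψ} (fun η hη => by rw [Finset.mem_singleton.mp hη]; exact hψ)
      (by simpa using Ne.symm hψχ) (fun η hη => by rw [Finset.mem_singleton.mp hη]; exact hne)
    rw [Finset.card_singleton, Nat.cast_one] at h
    constructor <;> nlinarith
  have hqeven : 2 ∣ q := by
    refine dvd_pow_self 2 fun h => ?_
    have := hbounds χ₀ hχ₀
    rw [hq, h, pow_zero, Nat.cast_one] at this
    omega
  have hge : ∀ χ ∈ F, 3 ≤ (q : ℤ) - A χ := by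
    intro χ hχF
    have hχ : χ ∈ B := (Finset.mem_filter.mp hχF).2
    obtain ⟨hA0, hAq⟩ := hbounds χ hχ
    have h2q : (2 : ℤ) ∣ (q : ℤ) := by exact_mod_cast hqeven
    have : CharP (Res M) 2 := res_charP M hM
    by_cases h0 : blockHeight 2 B (χ : G → ℂ) = 0
    · have hodd : Odd (A χ) := by
        obtain ⟨v, hv, L, hL, hf⟩ := exists_heightVec hM hx hind
        rw [← Int.not_even_iff_odd]
        intro he
        have h2 := hf χ χ
        rw [hres χ (isIntegral_contrib hM hind.1 χ χ),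
          (CharP.intCast_eq_zero_iff (Res M) 2 (A χ)).mpr (by exact_mod_cast he.two_dvd), zero_mul] at h2
        exact mul_ne_zero (hv χ hχ h0) (mul_ne_zero (hv χ hχ h0) hL) h2.symm
      obtain ⟨c, hc⟩ := hodd
      obtain ⟨c', hc'⟩ := h2q
      by_contra hsmall
      have hA1 : A χ = (q : ℤ) - 1 := by omega
      have h := hrow χ hχ (F.erase χ) (fun ψ hψ => (Finset.mem_filter.mp (Finset.mem_erase.mp hψ).2).2)
        (Finset.notMem_erase _ _)
        (fun ψ hψ => hne0 χ hχ h0 ψ (Finset.mem_filter.mp (Finset.mem_erase.mp hψ).2).2)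
      rw [Finset.card_erase_of_mem hχF, hFc, hA1, Nat.cast_sub (by omega : 1 ≤ Nat.card B)] at h
      have hcast : (q : ℤ) + 1 ≤ (Nat.card B : ℤ) := by exact_mod_cast hlt
      push_cast at h
      nlinarith
    · obtain ⟨w, hw, hwe, hwr⟩ := contrib_dvd hM hx hind hd hχ hχ
      have hN : ((2 ^ blockHeight 2 B (χ : G → ℂ) : ℕ) : ℂ) ≠ 0 :=
        Nat.cast_ne_zero.mpr (pow_ne_zero _ two_ne_zero)
      have hwm : w ∈ IntermediateField.adjoin ℚ ({ζ} : Set ℂ) := by
        rw [show w = ((2 ^ blockHeight 2 B (χ : G → ℂ) : ℕ) : ℂ)⁻¹ * contrib 2 x b χ χ by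
          rw [hwe, inv_mul_cancel_left₀ hN]]
        exact mul_mem (inv_mem (_root_.natCast_mem _ _)) (contrib_mem_adjoin hM hind.1 hζ hxn χ χ)
      have hwc : conj w = w := by
        have h1 := (contrib_conj (p := 2) (x := x) (b := b) χ χ).symm
        rw [hwe, map_mul, Complex.conj_natCast] at h1
        exact mul_left_cancel₀ hN h1
      obtain ⟨a, ha, har⟩ := exists_avg hM hζ hS hwm hw hwc
      rw [hwr h0] at har
      have h2a : (2 : ℤ) ∣ a := by exact_mod_cast (CharP.intCast_eq_zero_iff (Res M) 2 a).mp har.symm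
      have hAa : A χ = ((2 ^ blockHeight 2 B (χ : G → ℂ) : ℕ) : ℤ) * a := by
        have h1 := hA χ
        simp only [hwe, map_mul, map_natCast] at h1
        rw [← Finset.mul_sum, ha, mul_left_comm] at h1
        exact_mod_cast (mul_left_cancel₀ (Nat.cast_ne_zero.mpr (Nat.two_pow_pos j).ne') h1).symm
      have h4A : (4 : ℤ) ∣ A χ := by
        rw [hAa, show (4 : ℤ) = 2 * 2 by norm_num]
        refine mul_dvd_mul ?_ h2a
        exact_mod_cast (dvd_pow_self 2 h0)
      have hd2 : 2 ≤ blockDefect 2 B := by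
        by_contra hsmall
        have hle : q ≤ 2 := by
          rw [hq]
          exact le_trans (Nat.pow_le_pow_right two_pos (show blockDefect 2 B ≤ 1 by omega)) (by norm_num)
        obtain ⟨c, hc⟩ := h4A
        omega
      have h4q : (4 : ℤ) ∣ (q : ℤ) := by
        exact_mod_cast (show 2 ^ 2 ∣ 2 ^ blockDefect 2 B from pow_dvd_pow 2 hd2)
      obtain ⟨c, hc⟩ := h4A
      obtain ⟨c', hc'⟩ := h4q
      omega
  have h3 : ∑ _χ ∈ F, (3 : ℤ) ≤ ∑ χ ∈ F, ((q : ℤ) - A χ) := Finset.sum_le_sum hge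
  rw [Finset.sum_sub_distrib, Finset.sum_const, Finset.sum_const, hF, hsum, ← hF, hFc, hd, ← hq,
    nsmul_eq_mul, nsmul_eq_mul] at h3
  have h4 : (Nat.card B : ℤ) ≤ (blockRank 2 b : ℤ) + 3 := by exact_mod_cast hr
  have h5 : (q : ℤ) + 1 ≤ (Nat.card B : ℤ) := by exact_mod_cast hlt
  push_cast at h3
  nlinarith

end CfsgLib.BlockArith
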