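import Cfsg.Agent.Lib.BlockArith.Blichfeldt

/-!
# An element with two eigenvalues less than sixty degrees apart

* `mem_pair_of_power_sums`: power sums that determine two values;
* `conj_commute`: the conjugates of an element with eigenvalues `1`, `ζ`, `|ζ - 1| < 1`, commute.
-/

set_option autoImplicit false

noncomputable section

open scoped ComplexConjugate

namespace CfsgLib.BlockArith.TwoEigen

open Polynomial CfsgLib.BlockArith.Blichfeldt

theorem conj_root {p : ℕ} (hp : 0 < p) {w : ℂ} (hw : w ^ p = 1) : w ^ (p - 1) = conj w := by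
  have hn : conj w * w = 1 := by
    rw [← Complex.normSq_eq_conj_mul_self, Complex.normSq_eq_norm_sq, Complex.norm_eq_one_of_pow_eq_one hw hp.ne']
    simp
  calc w ^ (p - 1) = (conj w * w) * w ^ (p - 1) := by rw [hn, one_mul]
    _ = conj w * (w ^ (p - 1 + 1)) := by rw [pow_succ']; ring
    _ = conj w := by rw [Nat.sub_add_cancel hp, hw, mul_one]

/-- Power sums determine the two values. -/
theorem mem_pair_of_power_sums {p : ℕ} (hp : 0 < p) {ι : Type*} (s : Finset ι) (w : ι → ℂ) {e : ℕ} (he : e ≠ 0)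
    (hw : ∀ i ∈ s, w i ^ p = 1) {ω : ℂ} (hω : ω ^ p = 1) {a b : ℂ}
    (hsum : ∀ k : ℕ, (e : ℂ) * ∑ i ∈ s, w i ^ k = a * ω ^ k + b) {i : ι} (hi : i ∈ s) : w i = 1 ∨ w i = ω := by
  let F : ℂ[X] := (X - C 1) * (X - C ω) * ((X ^ (p - 1) - C 1) * (X ^ (p - 1) - C (conj ω)))
  have hval : ∀ z : ℂ, z ^ p = 1 → F.eval z = ((Complex.normSq (z - 1) * Complex.normSq (z - ω) : ℝ) : ℂ) := by
    intro z hz
    simp only [F, eval_mul, eval_sub, eval_pow, eval_X, eval_C, conj_root hp hz]
    push_cast
    rw [Complex.normSq_eq_conj_mul_self, Complex.normSq_eq_conj_mul_self, map_sub, map_sub, map_one]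
    ring
  have h0 : (e : ℂ) * ∑ j ∈ s, F.eval (w j) = 0 := by
    simp only [eval_eq_sum_range]
    rw [Finset.sum_comm, Finset.mul_sum]
    calc ∑ k ∈ Finset.range (F.natDegree + 1), (e : ℂ) * ∑ j ∈ s, F.coeff k * w j ^ k
        = ∑ k ∈ Finset.range (F.natDegree + 1), F.coeff k * (a * ω ^ k + b * (1 : ℂ) ^ k) := by
          refine Finset.sum_congr rfl fun k _ => ?_
          rw [← Finset.mul_sum, mul_left_comm, hsum, one_pow, mul_one]
      _ = a * F.eval ω + b * F.eval 1 := by
          rw [eval_eq_sum_range, eval_eq_sum_range, Finset.mul_sum, Finset.mul_sum, ← Finset.sum_add_distrib]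
          exact Finset.sum_congr rfl fun k _ => by ring
      _ = 0 := by rw [hval _ hω, hval _ (one_pow p)]; simp
  rw [mul_eq_zero, or_iff_right (Nat.cast_ne_zero.2 he), Finset.sum_congr rfl fun j hj => hval _ (hw j hj),
    ← Complex.ofReal_sum, Complex.ofReal_eq_zero,
    Finset.sum_eq_zero_iff_of_nonneg fun j _ => mul_nonneg (Complex.normSq_nonneg _) (Complex.normSq_nonneg _)] at h0
  rcases mul_eq_zero.1 (h0 i hi) with h | h
  · exact Or.inl (sub_eq_zero.1 (Complex.normSq_eq_zero.1 h))
  · exact Or.inr (sub_eq_zero.1 (Complex.normSq_eq_zero.1 h))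

variable {G : Type*} [Group G] [Fintype G] {n : ℕ} (ρ : Representation ℂ G (Fin n → ℂ))

/-- Conjugates of such an element commute. -/
theorem conj_commute (hinj : Function.Injective ρ) {p : ℕ} (hp : 0 < p) {s : G} (hs : s ^ p = 1) {ζ : ℂ}
    (hζ : ζ ^ p = 1) (hζ1 : ζ ≠ 1) (hnear : Complex.normSq (ζ - 1) < 1)
    (hquad : ∀ x, ρ s (ρ s x - x) = ζ • (ρ s x - x)) (g : G) : Commute s (g * s * g⁻¹) := by
  have hζ0 : ζ ≠ 0 := fun h => by rw [h, zero_pow hp.ne'] at hζ; exact zero_ne_one hζ
  have hcc : conj ζ * ζ = 1 := by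
    rw [← conj_root hp hζ, ← pow_succ, Nat.sub_add_cancel hp, hζ]
  have hd : ζ - 1 ≠ 0 := sub_ne_zero.2 hζ1
  let A : (Fin n → ℂ) → Fin n → ℂ := fun x => (ζ - 1)⁻¹ • (ρ s x - x)
  let U : (Fin n → ℂ) → Fin n → ℂ := fun x => x - A x
  have hA : ∀ x, ρ s (A x) = ζ • A x := fun x => by
    simp only [A, map_smul, hquad, smul_smul, mul_comm]
  have hU : ∀ x, ρ s (U x) = U x := fun x => by
    simp only [U, map_sub, hA]
    simp only [A, smul_smul]
    ext i
    simp only [Pi.sub_apply, Pi.smul_apply, smul_eq_mul]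
    field_simp
    ring
  have hdiff : ∀ x, ρ s x - x = (ζ - 1) • A x := fun x => by
    simp only [A, smul_smul, mul_inv_cancel₀ hd, one_smul]
  have horth : ∀ x y, avgInner ρ (U x) (A y) = 0 := fun x y => by
    have h := avgInner_act ρ s (U x) (A y)
    rw [hU, hA, avgInner_smul_right] at h
    exact (mul_eq_zero.1 (show (ζ - 1) * avgInner ρ (U x) (A y) = 0 by rw [sub_mul, h, one_mul, sub_self])).resolve_left hd
  have hnorm : ∀ x, avgNorm ρ x = avgNorm ρ (A x) + avgNorm ρ (U x) := fun x => by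
    have e : avgInner ρ (U x) (U x) = avgInner ρ x x - avgInner ρ (A x) x - avgInner ρ (U x) (A x) := by
      show avgInner ρ (x - A x) (x - A x) = _
      rw [avgInner_sub_right, avgInner_sub_left]
    have h1 : avgInner ρ (A x) (U x) = 0 := by rw [← avgInner_conj, horth, map_zero]
    have h2 : avgInner ρ (A x) x = avgInner ρ (A x) (A x) := by
      have : avgInner ρ (A x) (U x) = avgInner ρ (A x) x - avgInner ρ (A x) (A x) := avgInner_sub_right ρ _ _ _
      rw [h1] at this
      exact sub_eq_zero.1 this.symm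
    rw [← Complex.ofReal_inj]
    push_cast
    rw [← avgInner_self, ← avgInner_self, ← avgInner_self, e, horth, h2]
    ring
  have hsmul : ∀ (c : ℂ) x, avgNorm ρ (c • x) = Complex.normSq c * avgNorm ρ x := fun c x => by
    rw [← Complex.ofReal_inj, ← avgInner_self, avgInner_smul_left, avgInner_smul_right, avgInner_self,
      Complex.ofReal_mul, Complex.normSq_eq_conj_mul_self]
    ring
  have hκ1 : ∀ x, avgNorm ρ (twist ρ 1 s x - x) ≤ Complex.normSq (ζ - 1) * avgNorm ρ x := fun x => by
    rw [twist_apply, one_smul, hdiff, hsmul]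
    exact mul_le_mul_of_nonneg_left (by rw [hnorm x]; linarith [avgNorm_nonneg ρ (U x)]) (Complex.normSq_nonneg _)
  have hκc : ∀ x, avgNorm ρ (twist ρ (conj ζ) s x - x) ≤ Complex.normSq (ζ - 1) * avgNorm ρ x := fun x => by
    have e : twist ρ (conj ζ) s x - x = (conj ζ - 1) • U x := by
      rw [twist_apply, show ρ s x = x + (ζ - 1) • A x by rw [← hdiff]; abel]
      ext i
      simp only [U, Pi.sub_apply, Pi.smul_apply, Pi.add_apply, smul_eq_mul]
      linear_combination (A x i) * hcc
    rw [e, hsmul, show Complex.normSq (conj ζ - 1) = Complex.normSq (ζ - 1) by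
      rw [← Complex.normSq_conj, map_sub, Complex.conj_conj, map_one]]
    exact mul_le_mul_of_nonneg_left (by rw [hnorm x]; linarith [avgNorm_nonneg ρ (A x)]) (Complex.normSq_nonneg _)
  refine hinj ?_
  show ρ (s * (g * s * g⁻¹)) = ρ (g * s * g⁻¹ * s)
  rw [map_mul ρ s, map_mul ρ (g * s * g⁻¹) s]
  apply LinearMap.ext
  intro x
  set T := ρ (g * s * g⁻¹) with hT
  show ρ s (T x) = T (ρ s x)
  have h1 : ρ s (T (U x)) = T (U x) := by
    have h := fixed_stable ρ (c := 1) (by simp) hp (one_pow p) hs (Complex.normSq_nonneg _) hnear hκ1 g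
      (w := U x) (by rw [twist_apply, one_smul, hU])
    simpa only [twist_apply, one_smul] using h
  have h2 : ρ s (T (A x)) = ζ • T (A x) := by
    have h := fixed_stable ρ (c := conj ζ) (by rw [Complex.conj_conj, mul_comm]; exact hcc) hp
      (by rw [← map_pow, hζ, map_one]) hs (Complex.normSq_nonneg _) hnear hκc g
      (w := A x) (by rw [twist_apply, hA, smul_smul, hcc, one_smul])
    simp only [twist_apply, map_smul, smul_smul] at h
    have h' := congrArg (fun v => (ζ * ζ) • v) h
    simp only [smul_smul] at h'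
    rw [show ζ * ζ * (conj ζ * conj ζ) = (conj ζ * ζ) * (conj ζ * ζ) by ring, hcc, one_mul, one_smul,
      show ζ * ζ * conj ζ = ζ by rw [mul_assoc, mul_comm ζ (conj ζ), hcc, mul_one]] at h'
    exact h'
  have hx : x = U x + A x := by simp [U]
  have hsx : ρ s x = U x + ζ • A x := by conv_lhs => rw [hx, map_add, hU, hA]
  rw [hsx, map_add T, map_smul T]
  conv_lhs => rw [hx]
  rw [map_add T, map_add, h1, h2]

end CfsgLib.BlockArith.TwoEigen
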