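import Cfsg.Agent.Lib.BlockArith.Averaging
import Mathlib.LinearAlgebra.Matrix.Trace
import Mathlib.LinearAlgebra.Matrix.Determinant.Basic

/-!
# A projection given by a binary integral form

* `card_le_of_sum`: a weighted averaging bound;
* `two_form_bound`: if `q` times a projection of trace `2 q` is `U A Uᴴ` with `A` a positive definite
  integral binary form and `U` integral, with the usual height conditions, then it has at most `q` rows.
-/

set_option autoImplicit false

noncomputable section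

namespace CfsgLib.BlockArith

open Matrix
open scoped ComplexConjugate

/-- If each row carries weight at least `m`, then `m` times the number of rows is at most the total. -/
theorem card_le_of_sum {ι : Type*} [Fintype ι] {κ : Type*} [Fintype κ] (m q : ℕ) (f : ι → κ → ℂ)
    (w : ι → κ → ℕ) (hint : ∀ i k, IsIntegral ℤ (f i k))
    (hnn : ∀ i k, ∀ σ : ℂ ≃+* ℂ, ∃ r : ℝ, 0 ≤ r ∧ σ (f i k) = (r : ℂ))
    (hm : ∀ i, m ≤ ∑ k, if f i k = 0 then 0 else w i k)
    (htot : ∑ i, ∑ k, (w i k : ℂ) * f i k = (q : ℂ)) : m * Fintype.card ι ≤ q := by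
  classical
  set s := (Finset.univ ×ˢ Finset.univ : Finset (ι × κ)).filter fun a => f a.1 a.2 ≠ 0 with hs
  obtain ⟨σ, hσ⟩ := exists_conjugate_sum_ge s (fun a => f a.1 a.2) (fun a => w a.1 a.2)
    (fun a _ => hint _ _) (fun a ha => (Finset.mem_filter.mp ha).2) (fun a _ => hnn _ _)
  have h1 : m * Fintype.card ι ≤ ∑ a ∈ s, w a.1 a.2 := by
    rw [hs, Finset.sum_filter, Finset.sum_product]
    refine le_trans (le_of_eq ?_) (Finset.sum_le_sum fun i _ => (hm i).trans_eq ?_)
    · rw [Finset.sum_const, Finset.card_univ, smul_eq_mul, mul_comm]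
    · exact Finset.sum_congr rfl fun k _ => by split_ifs <;> simp_all
  have h2 : ∑ a ∈ s, (w a.1 a.2 : ℝ) * (σ (f a.1 a.2)).re = q := by
    rw [hs, Finset.sum_filter, Finset.sum_product]
    have h3 := congrArg Complex.re (congrArg σ htot)
    simp only [map_sum, map_mul, map_natCast, Complex.re_sum, Complex.natCast_re] at h3
    rw [← h3]
    exact Finset.sum_congr rfl fun i _ => Finset.sum_congr rfl fun k _ => by split_ifs <;> simp_all
  rw [h2] at hσ
  exact h1.trans (by exact_mod_cast hσ)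

theorem normSq_conjugate {z : ℂ} (hz : ∀ σ : ℂ ≃+* ℂ, σ (conj z) = conj (σ z)) (σ : ℂ ≃+* ℂ) :
    ∃ r : ℝ, 0 ≤ r ∧ σ (z * conj z) = (r : ℂ) :=
  ⟨Complex.normSq (σ z), Complex.normSq_nonneg _, by rw [map_mul, hz σ, Complex.mul_conj]⟩

theorem isIntegral_mul_conj {z : ℂ} (hz : IsIntegral ℤ z) : IsIntegral ℤ (z * conj z) :=
  hz.mul (map_isIntegral_int (starRingEnd ℂ) hz)

/-- The value of the form. -/
def twoForm {ι : Type*} (α β γ : ℤ) (u v : ι → ℂ) (i j : ι) : ℂ :=
  (α : ℂ) * (u i * conj (u j)) + (β : ℂ) * (u i * conj (v j) + v i * conj (u j)) +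
    (γ : ℂ) * (v i * conj (v j))

variable {ι : Type*} [Fintype ι]

/-- The Gram entries are proportional to the inverse form. -/
theorem two_form_gram {α β γ : ℤ} {q : ℕ} (hq : 0 < q) (u v : ι → ℂ)
    (hMM : ∀ i j, ∑ k, twoForm α β γ u v i k * twoForm α β γ u v k j =
      (q : ℂ) * twoForm α β γ u v i j)
    (htr : ∑ i, twoForm α β γ u v i i = ((2 * q : ℕ) : ℂ)) :
    ((α * γ - β ^ 2 : ℤ) : ℂ) * ∑ i, u i * conj (u i) = (q : ℂ) * γ ∧
    ((α * γ - β ^ 2 : ℤ) : ℂ) * ∑ i, v i * conj (v i) = (q : ℂ) * α ∧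
    ((α * γ - β ^ 2 : ℤ) : ℂ) * ∑ i, (u i * conj (v i) + v i * conj (u i)) = -2 * (q : ℂ) * β := by
  classical
  let U : Matrix ι (Fin 2) ℂ := Matrix.of fun i => ![u i, v i]
  let A : Matrix (Fin 2) (Fin 2) ℂ := !![(α : ℂ), β; β, γ]
  let N : Matrix ι ι ℂ := U * A * Uᴴ
  have hN : ∀ i j, N i j = twoForm α β γ u v i j := fun i j => by
    simp [N, U, A, twoForm, Matrix.mul_apply, Fin.sum_univ_two]
    ring
  have hNN : N * N = (q : ℂ) • N := by
    ext i j
    rw [Matrix.mul_apply, Matrix.smul_apply, smul_eq_mul, hN]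
    simp only [hN]
    exact hMM i j
  set X : Matrix (Fin 2) (Fin 2) ℂ := Uᴴ * U * A with hX
  have hX3 : X * X * X = (q : ℂ) • (X * X) := by
    have e1 : X * X * X = Uᴴ * (N * N) * (U * A) := by simp only [hX, N, Matrix.mul_assoc]
    have e2 : X * X = Uᴴ * N * (U * A) := by simp only [hX, N, Matrix.mul_assoc]
    rw [e1, e2, hNN, Matrix.mul_smul, Matrix.smul_mul]
  have htX : X 0 0 + X 1 1 = 2 * (q : ℂ) := by
    have h1 : N.trace = X.trace := by
      rw [show N = U * (A * Uᴴ) from Matrix.mul_assoc _ _ _, Matrix.trace_mul_comm, hX,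
        Matrix.trace_mul_comm (Uᴴ * U), Matrix.mul_assoc]
    rw [Matrix.trace_fin_two] at h1
    rw [← h1, Matrix.trace, ← Nat.cast_two, ← Nat.cast_mul, ← htr]
    exact Finset.sum_congr rfl fun i _ => hN i i
  set δ := X 0 0 * X 1 1 - X 0 1 * X 1 0 with hδ
  have hCH : X * X = (2 * (q : ℂ)) • X - δ • 1 := by
    ext i j
    fin_cases i <;> fin_cases j <;>
      simp [Matrix.mul_apply, Fin.sum_univ_two, hδ, ← htX] <;> ring
  have hq0 : (q : ℂ) ≠ 0 := Nat.cast_ne_zero.mpr hq.ne'
  have h4 : (2 * (q : ℂ) ^ 2 - δ) • X = ((q : ℂ) * δ) • (1 : Matrix (Fin 2) (Fin 2) ℂ) := by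
    have h5 : X * X * X = (2 * (q : ℂ)) • (X * X) - δ • X := by
      conv_lhs => rw [hCH]
      rw [Matrix.sub_mul, Matrix.smul_mul, Matrix.smul_mul, Matrix.one_mul]
    rw [hX3] at h5
    ext i j
    have h6 := congrFun (congrFun h5 i) j
    have h7 := congrFun (congrFun hCH i) j
    simp only [Matrix.sub_apply, Matrix.smul_apply, smul_eq_mul] at h6 h7 ⊢
    linear_combination (-1 : ℂ) * h6 - (q : ℂ) * h7
  have hne : 2 * (q : ℂ) ^ 2 - δ ≠ 0 := fun h0 => by
    rw [h0, zero_smul] at h4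
    have h8 := congrFun (congrFun h4 0) 0
    simp only [Matrix.zero_apply, Matrix.smul_apply, Matrix.one_apply_eq, smul_eq_mul, mul_one] at h8
    rw [sub_eq_zero] at h0
    rw [← h0] at h8
    exact mul_ne_zero hq0 (mul_ne_zero two_ne_zero (pow_ne_zero 2 hq0)) h8.symm
  have hent : ∀ i j, X i j = if i = j then (q : ℂ) * δ / (2 * (q : ℂ) ^ 2 - δ) else 0 := fun i j => by
    have h8 := congrFun (congrFun h4 i) j
    simp only [Matrix.smul_apply, smul_eq_mul, Matrix.one_apply] at h8
    split_ifs with hij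
    · rw [if_pos hij, mul_one] at h8
      rw [eq_div_iff hne, mul_comm, h8]
    · rw [if_neg hij, mul_zero] at h8
      exact (mul_eq_zero.mp h8).resolve_left hne
  have h00 : X 0 0 = q := by
    have h9 := htX
    rw [hent 0 0, hent 1 1, if_pos rfl, if_pos rfl] at h9
    rw [hent 0 0, if_pos rfl]
    linear_combination h9 / 2
  have h11 : X 1 1 = q := by linear_combination htX - h00
  have h01 : X 0 1 = 0 := by rw [hent]; simp
  have h10 : X 1 0 = 0 := by rw [hent]; simp
  simp [hX, U, A, Matrix.mul_apply, Fin.sum_univ_two] at h00 h11 h01 h10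
  have e1 : ∀ a b : ι → ℂ, ∑ i, conj (a i) * b i = ∑ i, b i * conj (a i) := fun a b =>
    Finset.sum_congr rfl fun i _ => mul_comm _ _
  simp only [e1] at h00 h11 h01 h10
  push_cast
  rw [Finset.sum_add_distrib]
  refine ⟨?_, ?_, ?_⟩
  · linear_combination (γ : ℂ) * h00 - (β : ℂ) * h01
  · linear_combination (α : ℂ) * h11 - (β : ℂ) * h10
  · linear_combination (α : ℂ) * h01 - (β : ℂ) * h00 + (γ : ℂ) * h10 - (β : ℂ) * h11

variable {p : ℕ}

/-- A positive definite form has nonnegative conjugate values. -/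
theorem twoForm_self_nonneg {α β γ : ℤ} (hα : 0 < α) (hD : 0 < α * γ - β ^ 2) {u v : ι → ℂ}
    (hu : ∀ (σ : ℂ ≃+* ℂ) i, σ (conj (u i)) = conj (σ (u i)))
    (hv : ∀ (σ : ℂ ≃+* ℂ) i, σ (conj (v i)) = conj (σ (v i))) (σ : ℂ ≃+* ℂ) (i : ι) :
    ∃ r : ℝ, 0 ≤ r ∧ σ (twoForm α β γ u v i i) = (r : ℂ) := by
  have hα' : (0 : ℝ) < (α : ℝ) := by exact_mod_cast hα
  have hD' : (0 : ℝ) < ((α * γ - β ^ 2 : ℤ) : ℝ) := by exact_mod_cast hD
  refine ⟨(Complex.normSq ((α : ℂ) * σ (u i) + (β : ℂ) * σ (v i)) +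
    ((α * γ - β ^ 2 : ℤ) : ℝ) * Complex.normSq (σ (v i))) / (α : ℝ),
    div_nonneg (add_nonneg (Complex.normSq_nonneg _) (mul_nonneg hD'.le (Complex.normSq_nonneg _))) hα'.le, ?_⟩
  rw [Complex.ofReal_div, Complex.ofReal_intCast, eq_div_iff (by exact_mod_cast hα.ne'),
    Complex.ofReal_add, Complex.ofReal_mul, Complex.ofReal_intCast, ← Complex.mul_conj, ← Complex.mul_conj]
  simp only [twoForm, map_add, map_mul, map_intCast, hu σ, hv σ]
  push_cast
  ring

/-- The bound, given a reduced form. -/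
theorem two_form_bound_reduced {α β γ : ℤ} (hα : 0 < α) (hD : 0 < α * γ - β ^ 2)
    (h1 : 2 * |β| ≤ α) (h2 : 2 * |β| ≤ γ) {q : ℕ} (hq : 0 < q) (hp : 2 ≤ p) (h : ι → ℕ)
    (u v : ι → ℂ) (huI : ∀ i, IsIntegral ℤ (u i)) (hvI : ∀ i, IsIntegral ℤ (v i))
    (hu : ∀ (σ : ℂ ≃+* ℂ) i, σ (conj (u i)) = conj (σ (u i)))
    (hv : ∀ (σ : ℂ ≃+* ℂ) i, σ (conj (v i)) = conj (σ (v i)))
    (hMM : ∀ i j, ∑ k, twoForm α β γ u v i k * twoForm α β γ u v k j =
      (q : ℂ) * twoForm α β γ u v i j)
    (htr : ∑ i, twoForm α β γ u v i i = ((2 * q : ℕ) : ℂ))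
    (hne : ∀ i j, h i = 0 → twoForm α β γ u v i j ≠ 0)
    (hdiv : ∀ i, ∃ w : ℂ, IsIntegral ℤ w ∧ w ≠ 0 ∧ twoForm α β γ u v i i = ((p ^ h i : ℕ) : ℂ) * w) :
    Fintype.card ι ≤ q := by
  classical
  obtain ⟨hA, hC, hB⟩ := two_form_gram hq u v hMM htr
  have hγ : 0 < γ := by nlinarith
  have hnz : ∀ i, u i ≠ 0 ∨ v i ≠ 0 := fun i => by
    by_contra hh
    push Not at hh
    obtain ⟨w, -, hw, he⟩ := hdiv i
    have hp0 : ((p ^ h i : ℕ) : ℂ) ≠ 0 := Nat.cast_ne_zero.mpr (pow_ne_zero _ (by omega : p ≠ 0))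
    have h00 : twoForm α β γ u v i i = 0 := by simp [twoForm, hh.1, hh.2]
    rw [he] at h00
    exact mul_ne_zero hp0 hw h00
  by_cases hb : β = 0
  · subst hb
    by_cases hcase : ∃ i, h i = 0 ∧ (u i = 0 ∨ v i = 0)
    · obtain ⟨i₀, h0, hz⟩ := hcase
      have key : ∀ (a : ℤ) (w : ι → ℂ), 0 < a → (∀ i, IsIntegral ℤ (w i)) →
          (∀ (σ : ℂ ≃+* ℂ) i, σ (conj (w i)) = conj (σ (w i))) → (∀ i, w i ≠ 0) →
          (a : ℂ) * ∑ i, w i * conj (w i) = (q : ℂ) → Fintype.card ι ≤ q := by
        intro a w ha hwI hw hwne hsum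
        have := card_le_of_sum (m := a.toNat) q (fun i (_ : Unit) => w i * conj (w i)) (fun _ _ => a.toNat)
          (fun i _ => isIntegral_mul_conj (hwI i)) (fun i _ σ => normSq_conjugate (fun τ => hw τ i) σ)
          (fun i => by simp [hwne i]) (by
            rw [← hsum, Finset.mul_sum]
            refine Finset.sum_congr rfl fun i _ => ?_
            rw [Fintype.sum_unique, ← Int.cast_natCast, Int.toNat_of_nonneg ha.le])
        exact le_trans (Nat.le_mul_of_pos_left _ (by omega)) this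
      rcases hz with hz | hz
      · refine key γ v hγ hvI hv (fun j hj => hne i₀ j h0 (by simp [twoForm, hz, hj])) ?_
        refine mul_left_cancel₀ (Int.cast_ne_zero.mpr hα.ne' : (α : ℂ) ≠ 0) ?_
        push_cast at hC
        linear_combination hC
      · refine key α u hα huI hu (fun j hj => hne i₀ j h0 (by simp [twoForm, hz, hj])) ?_
        refine mul_left_cancel₀ (Int.cast_ne_zero.mpr hγ.ne' : (γ : ℂ) ≠ 0) ?_
        push_cast at hA
        linear_combination hA
    · push Not at hcase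
      choose w hwI hw0 hwe using hdiv
      have hww : ∀ i, ∀ σ : ℂ ≃+* ℂ, ∃ r : ℝ, 0 ≤ r ∧ σ (w i) = (r : ℂ) := fun i σ => by
        obtain ⟨r, hr, he⟩ := twoForm_self_nonneg hα hD hu hv σ i
        have hpp : (0 : ℝ) < ((p ^ h i : ℕ) : ℝ) := Nat.cast_pos.mpr (pow_pos (by omega) _)
        refine ⟨r / ((p ^ h i : ℕ) : ℝ), div_nonneg hr hpp.le, ?_⟩
        rw [hwe i, map_mul, map_natCast] at he
        rw [Complex.ofReal_div, ← he, Complex.ofReal_natCast,
          mul_div_cancel_left₀ _ (Nat.cast_ne_zero.mpr (pow_ne_zero _ (by omega : p ≠ 0)))]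
      have := card_le_of_sum (m := 2) (2 * q)
        (fun i (k : Fin 2) => if h i = 0 then ![u i * conj (u i), v i * conj (v i)] k else ![w i, 0] k)
        (fun i k => if h i = 0 then ![α.toNat, γ.toNat] k else p ^ h i)
        (fun i k => by
          split_ifs <;> fin_cases k <;>
            simp only [Fin.zero_eta, Fin.mk_one, Matrix.cons_val_zero, Matrix.cons_val_one]
          exacts [isIntegral_mul_conj (huI i), isIntegral_mul_conj (hvI i), hwI i, isIntegral_zero])
        (fun i k σ => by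
          split_ifs <;> fin_cases k <;>
            simp only [Fin.zero_eta, Fin.mk_one, Matrix.cons_val_zero, Matrix.cons_val_one]
          exacts [normSq_conjugate (fun τ => hu τ i) σ, normSq_conjugate (fun τ => hv τ i) σ, hww i σ,
            ⟨0, le_rfl, by simp⟩])
        (fun i => by
          rw [Fin.sum_univ_two]
          by_cases h0 : h i = 0
          · obtain ⟨hu0, hv0⟩ := hcase i h0
            simp only [if_pos h0, Matrix.cons_val_zero, Matrix.cons_val_one]
            rw [if_neg (mul_ne_zero hu0 ((map_ne_zero_iff _ (starRingEnd ℂ).injective).mpr hu0)),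
              if_neg (mul_ne_zero hv0 ((map_ne_zero_iff _ (starRingEnd ℂ).injective).mpr hv0))]
            omega
          · simp only [if_neg h0, Matrix.cons_val_zero, Matrix.cons_val_one]
            rw [if_neg (hw0 i), if_pos trivial, add_zero]
            exact hp.trans (Nat.le_self_pow h0 p))
        (by
          rw [← htr]
          refine Finset.sum_congr rfl fun i _ => ?_
          rw [Fin.sum_univ_two]
          by_cases h0 : h i = 0
          · simp only [if_pos h0, Matrix.cons_val_zero, Matrix.cons_val_one]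
            rw [← Int.cast_natCast, Int.toNat_of_nonneg hα.le, ← Int.cast_natCast,
              Int.toNat_of_nonneg hγ.le]
            simp [twoForm]
          · simp only [if_neg h0, Matrix.cons_val_zero, Matrix.cons_val_one]
            rw [hwe i, mul_zero, add_zero])
      omega
  · set ε : ℤ := β.sign with hε
    have hεb : ε * β = |β| := Int.sign_mul_self_eq_abs β
    have hε2 : ε * ε = 1 := by rw [hε, ← Int.sign_mul, Int.sign_eq_one_of_pos (mul_self_pos.mpr hb)]
    have hεc : (ε : ℂ) * (ε : ℂ) = 1 := by exact_mod_cast hε2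
    have hεbc : (ε : ℂ) * (β : ℂ) = ((|β| : ℤ) : ℂ) := by exact_mod_cast hεb
    set N : ℤ := α + γ - |β| with hN
    set D : ℤ := α * γ - β ^ 2 with hDdef
    have hND : N ≤ D := by
      have hb1 : 1 ≤ |β| := Int.one_le_abs hb
      have hsq : β ^ 2 = |β| ^ 2 := (sq_abs β).symm
      rw [hN, hDdef, hsq]
      nlinarith [mul_le_mul (show 2 * |β| - 1 ≤ α - 1 by omega) (show 2 * |β| - 1 ≤ γ - 1 by omega)
        (by omega) (by omega), mul_nonneg (show (0 : ℤ) ≤ |β| by omega) (show (0 : ℤ) ≤ |β| - 1 by omega)]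
    have hN0 : 0 ≤ N := by
      have := abs_nonneg β
      omega
    have key := card_le_of_sum (m := 2 * D.toNat) (2 * q * N.toNat)
      (fun i (k : Fin 3) => ![u i * conj (u i), v i * conj (v i),
        (u i + (ε : ℂ) * v i) * conj (u i + (ε : ℂ) * v i)] k)
      (fun _ _ => D.toNat)
      (fun i k => by
        fin_cases k
        exacts [isIntegral_mul_conj (huI i), isIntegral_mul_conj (hvI i),
          isIntegral_mul_conj ((huI i).add (isIntegral_algebraMap.mul (hvI i)))])
      (fun i k σ => by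
        fin_cases k
        exacts [normSq_conjugate (fun τ => hu τ i) σ, normSq_conjugate (fun τ => hv τ i) σ,
          normSq_conjugate (fun τ => by simp [hu τ i, hv τ i]) σ])
      (fun i => by
        have hε0 : (ε : ℂ) ≠ 0 := fun h0 => by simp [h0] at hεc
        rw [Fin.sum_univ_three]
        simp only [Matrix.cons_val_zero, Matrix.cons_val_one, Matrix.cons_val_two, Matrix.head_cons,
          Matrix.tail_cons, mul_eq_zero, map_eq_zero, or_self]
        rcases hnz i with hu0 | hv0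
        · by_cases hv0 : v i = 0
          · simp [hu0, hv0]
            omega
          · simp [hu0, hv0]
            omega
        · by_cases hu0 : u i = 0
          · simp [hu0, hv0, hε0]
            omega
          · simp [hu0, hv0]
            omega)
      (by
        have e : ∀ i, ∑ k : Fin 3, (D.toNat : ℂ) * ![u i * conj (u i), v i * conj (v i),
            (u i + (ε : ℂ) * v i) * conj (u i + (ε : ℂ) * v i)] k =
            (D : ℂ) * (2 * (u i * conj (u i)) + 2 * (v i * conj (v i)) +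
              (ε : ℂ) * (u i * conj (v i) + v i * conj (u i))) := fun i => by
          rw [← Finset.mul_sum, Fin.sum_univ_three, ← Int.cast_natCast, Int.toNat_of_nonneg hD.le]
          simp only [Matrix.cons_val_zero, Matrix.cons_val_one, Matrix.cons_val_two, Matrix.head_cons,
            Matrix.tail_cons, map_add, map_mul, map_intCast]
          linear_combination (D : ℂ) * (v i * conj (v i)) * hεc
        rw [Finset.sum_congr rfl fun i _ => e i, ← Finset.mul_sum, Finset.sum_add_distrib,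
          Finset.sum_add_distrib, ← Finset.mul_sum, ← Finset.mul_sum, ← Finset.mul_sum, mul_add, mul_add]
        push_cast
        rw [← Int.cast_natCast N.toNat, Int.toNat_of_nonneg hN0, hN]
        push_cast
        linear_combination 2 * hA + 2 * hC + (ε : ℂ) * hB - 2 * (q : ℂ) * hεbc)
    have h3 : N.toNat ≤ D.toNat := Int.toNat_le_toNat hND
    have h4 : 2 * D.toNat * Fintype.card ι ≤ 2 * D.toNat * q := key.trans (by nlinarith)
    exact Nat.le_of_mul_le_mul_left h4 (by omega)

/-- `k ≤ q` for a binary form. -/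
theorem two_form_bound {α β γ : ℤ} (hα : 0 < α) (hD : 0 < α * γ - β ^ 2) {q : ℕ} (hq : 0 < q)
    (hp : 2 ≤ p) (h : ι → ℕ) (u v : ι → ℂ) (huI : ∀ i, IsIntegral ℤ (u i)) (hvI : ∀ i, IsIntegral ℤ (v i))
    (hu : ∀ (σ : ℂ ≃+* ℂ) i, σ (conj (u i)) = conj (σ (u i)))
    (hv : ∀ (σ : ℂ ≃+* ℂ) i, σ (conj (v i)) = conj (σ (v i)))
    (hMM : ∀ i j, ∑ k, twoForm α β γ u v i k * twoForm α β γ u v k j =
      (q : ℂ) * twoForm α β γ u v i j)
    (htr : ∑ i, twoForm α β γ u v i i = ((2 * q : ℕ) : ℂ))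
    (hne : ∀ i j, h i = 0 → twoForm α β γ u v i j ≠ 0)
    (hdiv : ∀ i, ∃ w : ℂ, IsIntegral ℤ w ∧ w ≠ 0 ∧ twoForm α β γ u v i i = ((p ^ h i : ℕ) : ℂ) * w) :
    Fintype.card ι ≤ q := by
  obtain ⟨n, hn⟩ : ∃ n : ℕ, (α + γ).toNat = n := ⟨_, rfl⟩
  induction n using Nat.strong_induction_on generalizing α β γ u v with
  | _ n ih =>
  have hγ : 0 < γ := by nlinarith
  set ε : ℤ := β.sign with hε
  have hεb : ε * β = |β| := Int.sign_mul_self_eq_abs β
  have hεc : ∀ σ : ℂ ≃+* ℂ, σ (conj (ε : ℂ)) = conj (σ (ε : ℂ)) := fun σ => by simp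
  by_cases h1 : 2 * |β| ≤ α
  · by_cases h2 : 2 * |β| ≤ γ
    · exact two_form_bound_reduced hα hD h1 h2 hq hp h u v huI hvI hu hv hMM htr hne hdiv
    · push Not at h2
      have hb : β ≠ 0 := fun h0 => by simp [h0] at h2; omega
      have hεε : ε * ε = 1 := by rw [hε, ← Int.sign_mul, Int.sign_eq_one_of_pos (mul_self_pos.mpr hb)]
      -- replace `v` by `v + ε u`
      have heq : ∀ i j, twoForm (α - 2 * (ε * β) + γ) (β - ε * γ) γ u (fun k => v k + (ε : ℂ) * u k) i j =
          twoForm α β γ u v i j := fun i j => by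
        have : (ε : ℂ) * (ε : ℂ) = 1 := by exact_mod_cast hεε
        simp only [twoForm, map_add, map_mul, map_intCast]
        push_cast
        linear_combination ((α : ℂ) * 0 - (γ : ℂ) * (u i * conj (u j))) * this
      have hD' : (α - 2 * (ε * β) + γ) * γ - (β - ε * γ) ^ 2 = α * γ - β ^ 2 := by
        linear_combination -(γ ^ 2) * hεε
      exact ih _ (by omega) (α := α - 2 * (ε * β) + γ) (β := β - ε * γ) (γ := γ)
        (by nlinarith) (hD' ▸ hD) u (fun k => v k + (ε : ℂ) * u k) huI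
        (fun i => (hvI i).add (isIntegral_algebraMap.mul (huI i))) hu
        (fun σ i => by simp [hu σ i, hv σ i])
        (by simpa only [heq] using hMM) (by simpa only [heq] using htr) (by simpa only [heq] using hne)
        (by simpa only [heq] using hdiv) rfl
  · push Not at h1
    have hb : β ≠ 0 := fun h0 => by simp [h0] at h1; omega
    have hεε : ε * ε = 1 := by rw [hε, ← Int.sign_mul, Int.sign_eq_one_of_pos (mul_self_pos.mpr hb)]
    -- replace `u` by `u + ε v`
    have heq : ∀ i j, twoForm α (β - ε * α) (γ - 2 * (ε * β) + α) (fun k => u k + (ε : ℂ) * v k) v i j =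
        twoForm α β γ u v i j := fun i j => by
      have : (ε : ℂ) * (ε : ℂ) = 1 := by exact_mod_cast hεε
      simp only [twoForm, map_add, map_mul, map_intCast]
      push_cast
      linear_combination (-(α : ℂ) * (v i * conj (v j))) * this
    have hD' : α * (γ - 2 * (ε * β) + α) - (β - ε * α) ^ 2 = α * γ - β ^ 2 := by
      linear_combination -(α ^ 2) * hεε
    exact ih _ (by omega) (α := α) (β := β - ε * α) (γ := γ - 2 * (ε * β) + α) hα (hD' ▸ hD)
      (fun k => u k + (ε : ℂ) * v k) v (fun i => (huI i).add (isIntegral_algebraMap.mul (hvI i))) hvI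
      (fun σ i => by simp [hu σ i, hv σ i]) hv
      (by simpa only [heq] using hMM) (by simpa only [heq] using htr) (by simpa only [heq] using hne)
      (by simpa only [heq] using hdiv) rfl

end CfsgLib.BlockArith
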