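import Mathlib

/-!
# Squares in Sylow 2-subgroups of wreath shape

* `sqPart L`: the elements of `L` whose square lies in `⁅L, L⁆`, a subgroup.
* `wreathSub`: the image of `W ^ ι ⋊ S` in an ambient group.
* `le_sqPart_of_split`, `le_sqPart_of_swap`: two criteria for `L ≤ sqPart L`.
-/

set_option autoImplicit false

namespace CfsgLib.WreathSquares

variable {G : Type*} [Group G]

/-- `x ↦ x ^ 2` modulo the derived subgroup. -/
def sqHom (L : Subgroup G) : L →* Abelianization L := (powMonoidHom 2).comp Abelianization.of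

/-- The elements of `L` whose square lies in `⁅L, L⁆`. -/
def sqPart (L : Subgroup G) : Subgroup G := (sqHom L).ker.map L.subtype

theorem mem_sqPart_iff {L : Subgroup G} {x : G} :
    x ∈ sqPart L ↔ x ∈ L ∧ x ^ 2 ∈ ⁅L, L⁆ := by
  have hk : ∀ y : L, y ∈ (sqHom L).ker ↔ (y : G) ^ 2 ∈ ⁅L, L⁆ := fun y => by
    rw [← Subgroup.map_subtype_commutator, ← Subgroup.coe_pow,
      show ((y ^ 2 : L) : G) = L.subtype (y ^ 2) from rfl,
      Subgroup.mem_map_iff_mem L.subtype_injective]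
    rw [MonoidHom.mem_ker, ← Abelianization.ker_of, MonoidHom.mem_ker, map_pow]
    rfl
  constructor
  · rintro ⟨y, hy, rfl⟩
    exact ⟨y.2, (hk y).1 hy⟩
  · exact fun ⟨h1, h2⟩ => ⟨⟨x, h1⟩, (hk ⟨x, h1⟩).2 h2, rfl⟩

theorem sqPart_le (L : Subgroup G) : sqPart L ≤ L := fun _ h => (mem_sqPart_iff.1 h).1

theorem mem_sqPart_of_sq_eq_one {L : Subgroup G} {x : G} (hx : x ∈ L) (h : x ^ 2 = 1) :
    x ∈ sqPart L := mem_sqPart_iff.2 ⟨hx, h ▸ one_mem _⟩

theorem mem_sqPart_of_inverted {L : Subgroup G} {x y : G} (hx : x ∈ L) (hy : y ∈ L)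
    (h : y * x * y⁻¹ = x⁻¹) : x ∈ sqPart L := by
  refine mem_sqPart_iff.2 ⟨hx, ?_⟩
  have := Subgroup.commutator_mem_commutator hx hy
  rw [commutatorElement_def, mul_assoc x, mul_assoc x] at this
  have e : y * x⁻¹ * y⁻¹ = x := by
    calc y * x⁻¹ * y⁻¹ = (y * x * y⁻¹)⁻¹ := by group
      _ = x := by rw [h, inv_inv]
  rwa [e, ← pow_two] at this

theorem mem_sqPart_of_mono {L M : Subgroup G} (hLM : M ≤ L) {x : G} (h : x ∈ sqPart M) :
    x ∈ sqPart L := by
  obtain ⟨h1, h2⟩ := mem_sqPart_iff.1 h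
  exact mem_sqPart_iff.2 ⟨hLM h1, Subgroup.commutator_mono hLM hLM h2⟩

theorem mem_sqPart_map {A : Type*} [Group A] (f : A →* G) {M : Subgroup A} {x : A}
    (h : x ∈ sqPart M) : f x ∈ sqPart (M.map f) := by
  obtain ⟨h1, h2⟩ := mem_sqPart_iff.1 h
  refine mem_sqPart_iff.2 ⟨Subgroup.mem_map_of_mem f h1, ?_⟩
  rw [← map_pow, ← Subgroup.map_commutator]
  exact Subgroup.mem_map_of_mem f h2

theorem le_sqPart_iff {L : Subgroup G} :
    L ≤ sqPart L ↔ ∀ x : L, x ^ 2 ∈ commutator L := by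
  constructor
  · intro h x
    have h2 := (mem_sqPart_iff.1 (h x.2)).2
    rw [← Subgroup.map_subtype_commutator] at h2
    obtain ⟨y, hy, he⟩ := h2
    rwa [show x ^ 2 = y from L.subtype_injective (by rw [he]; rfl)]
  · intro h x hx
    refine mem_sqPart_iff.2 ⟨hx, ?_⟩
    rw [← Subgroup.map_subtype_commutator]
    exact ⟨_, h ⟨x, hx⟩, rfl⟩

theorem le_sqPart_map {A : Type*} [Group A] (f : A →* G) {M : Subgroup A} (h : M ≤ sqPart M) :
    M.map f ≤ sqPart (M.map f) := by
  rintro _ ⟨x, hx, rfl⟩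
  exact mem_sqPart_map f (h hx)

theorem le_sqPart_of_map {A : Type*} [Group A] (f : A →* G) (hf : Function.Injective f)
    {M : Subgroup A} (h : M.map f ≤ sqPart (M.map f)) : M ≤ sqPart M := by
  intro x hx
  have h2 := (mem_sqPart_iff.1 (h (Subgroup.mem_map_of_mem f hx))).2
  rw [← map_pow, ← Subgroup.map_commutator, Subgroup.mem_map_iff_mem hf] at h2
  exact mem_sqPart_iff.2 ⟨hx, h2⟩

theorem sq_mem_sylow_of_card [Finite G] (K : Subgroup G)
    (hK : Nat.card K = 2 ^ (Nat.card G).factorization 2) (h : K ≤ sqPart K) (P : Sylow 2 G)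
    (x : (P : Subgroup G)) : x ^ 2 ∈ commutator (P : Subgroup G) := by
  haveI : Fact (Nat.Prime 2) := ⟨Nat.prime_two⟩
  refine le_sqPart_iff.1 ?_ x
  obtain ⟨g, hg⟩ := MulAction.exists_smul_eq G (Sylow.ofCard K hK) P
  rw [← hg]
  exact le_sqPart_map (MulAut.conj g).toMonoidHom h

/-- The intersection with a normal subgroup of a Sylow subgroup, pulled back. -/
theorem card_comap_eq [Finite G] {H : Type*} [Group H] [Finite H] (f : H →* G)
    (hf : Function.Injective f) [hn : f.range.Normal] (K : Subgroup G)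
    (hK : Nat.card K = 2 ^ (Nat.card G).factorization 2) :
    Nat.card (K.comap f) = 2 ^ (Nat.card H).factorization 2 := by
  haveI : Fact (Nat.Prime 2) := ⟨Nat.prime_two⟩
  set S := Sylow.ofCard K hK with hS
  have hp : IsPGroup 2 (K.comap f) := IsPGroup.comap_of_injective S.2 f hf
  obtain ⟨R, hR⟩ := hp.exists_le_sylow
  suffices (R : Subgroup H) = K.comap f by rw [← this]; exact R.card_eq_multiplicity
  refine (Subgroup.eq_of_le_of_card_ge hR ?_).symm
  obtain ⟨T, hT⟩ := (R.2.map f).exists_le_sylow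
  obtain ⟨g, hg⟩ := MulAction.exists_smul_eq G S T
  have h1 : (R : Subgroup H).map f ≤ ((K.comap f).map f).map (MulAut.conj g).toMonoidHom := by
    intro x hx
    have hxT := hT hx
    rw [← hg] at hxT
    obtain ⟨k, hk, rfl⟩ := hxT
    obtain ⟨y, -, hy⟩ := hx
    refine ⟨k, ?_, rfl⟩
    have hkr : k ∈ f.range := by
      have h2 := hn.conj_mem _ ⟨y, rfl⟩ g⁻¹
      rw [hy] at h2
      simpa [MulAut.conj, mul_assoc] using h2
    rw [Subgroup.map_comap_eq]
    exact ⟨hkr, hk⟩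
  calc Nat.card (R : Subgroup H)
      = Nat.card ((R : Subgroup H).map f) := (Subgroup.card_map_of_injective hf).symm
    _ ≤ _ := Subgroup.card_le_of_le h1
    _ = Nat.card (K.comap f) := by
      rw [Subgroup.card_map_of_injective (MulAut.conj g).injective,
        Subgroup.card_map_of_injective hf]

section Wreath

variable {ι : Type*} [Fintype ι] [DecidableEq ι] {A : Type*} [Group A]
  (B : (ι → A) →* G) (P : Equiv.Perm ι →* G)
  (hrel : ∀ w a, P w * B a = B (fun i => a (w.symm i)) * P w)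
  (W : Subgroup A) (S : Subgroup (Equiv.Perm ι))

/-- The image of the wreath product of `W` by `S`. -/
def wreathSub : Subgroup G where
  carrier := {g | ∃ a : ι → A, (∀ i, a i ∈ W) ∧ ∃ w ∈ S, g = B a * P w}
  one_mem' := ⟨1, fun _ => one_mem _, 1, S.one_mem, by simp⟩
  mul_mem' := by
    rintro _ _ ⟨a, ha, v, hv, rfl⟩ ⟨b, hb, w, hw, rfl⟩
    refine ⟨a * fun i => b (v.symm i), fun i => mul_mem (ha i) (hb _), v * w,
      S.mul_mem hv hw, ?_⟩
    rw [map_mul, map_mul, mul_assoc (B a), ← mul_assoc (P v), hrel]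
    simp only [mul_assoc]
  inv_mem' := by
    rintro _ ⟨a, ha, v, hv, rfl⟩
    refine ⟨fun i => a⁻¹ (v⁻¹.symm i), fun i => inv_mem (ha _), v⁻¹, S.inv_mem hv, ?_⟩
    rw [_root_.mul_inv_rev, ← map_inv, ← map_inv, hrel]

theorem base_mem_wreathSub {a : ι → A} (ha : ∀ i, a i ∈ W) : B a ∈ wreathSub B P hrel W S :=
  ⟨a, ha, 1, S.one_mem, by simp⟩

theorem perm_mem_wreathSub {w : Equiv.Perm ι} (hw : w ∈ S) : P w ∈ wreathSub B P hrel W S :=
  ⟨1, fun _ => one_mem _, w, hw, by simp⟩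

theorem single_mem {i : ι} {x : A} (hx : x ∈ W) (j : ι) : (Pi.mulSingle i x : ι → A) j ∈ W := by
  by_cases h : j = i
  · subst h; simpa using hx
  · simpa [h] using one_mem _

theorem card_wreathSub (hdis : ∀ z w, B z = P w → z = 1 ∧ w = 1) :
    Nat.card (wreathSub B P hrel W S) = Nat.card W ^ Fintype.card ι * Nat.card S := by
  have hb : Nat.card ((ι → W) × S) = Nat.card (wreathSub B P hrel W S) := by
    refine Nat.card_eq_of_bijective (fun x => (⟨B (fun i => (x.1 i : A)) * P x.2,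
      _, fun i => (x.1 i).2, x.2.1, x.2.2, rfl⟩ : wreathSub B P hrel W S)) ⟨?_, ?_⟩
    · intro x y h
      have h1 : B (fun i => (x.1 i : A)) * P x.2 = B (fun i => (y.1 i : A)) * P y.2 :=
        congrArg Subtype.val h
      have h3 : B ((fun i => (y.1 i : A))⁻¹ * fun i => (x.1 i : A)) = P (y.2.1 * x.2.1⁻¹) := by
        rw [map_mul, map_inv, map_mul, map_inv]
        calc (B fun i => (y.1 i : A))⁻¹ * B (fun i => (x.1 i : A))
            = (B fun i => (y.1 i : A))⁻¹ * (B (fun i => (x.1 i : A)) * P x.2) * (P x.2)⁻¹ := by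
              group
          _ = _ := by rw [h1]; group
      obtain ⟨hz, hw⟩ := hdis _ _ h3
      refine Prod.ext (funext fun i => Subtype.ext ?_) (Subtype.ext ?_)
      · exact (inv_mul_eq_one.mp (congrFun hz i)).symm
      · exact (mul_inv_eq_one.mp hw).symm
    · rintro ⟨_, a, ha, w, hw, rfl⟩
      exact ⟨(fun i => ⟨a i, ha i⟩, ⟨w, hw⟩), rfl⟩
  rw [← hb, Nat.card_prod, Nat.card_pi, Finset.prod_const, Finset.card_univ]

/-- `W` splits as `W₁ ⋊ ⟨s⟩` and the squares in `W₁` are in `⁅W₁, W₁⁆`. -/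
theorem le_sqPart_of_split {T : Set (Equiv.Perm ι)} (hT : Subgroup.closure T = S)
    (hinv : ∀ t ∈ T, t ^ 2 = 1) {W₁ : Subgroup A} (hW₁W : W₁ ≤ W) (hW₁ : W₁ ≤ sqPart W₁)
    {s : A} (hs2 : s ^ 2 = 1) (hs : s ∈ W) (hcase : ∀ x ∈ W, x ∈ W₁ ∨ x * s ∈ W₁)
    {L : Subgroup G} (hLK : L ≤ wreathSub B P hrel W S) (hP : ∀ w ∈ S, P w ∈ L)
    (hB : ∀ i, ∀ x ∈ W₁, B (Pi.mulSingle i x) ∈ L) : L ≤ sqPart L := by
  have hperm : S ≤ (sqPart L).comap P := by
    rw [← hT, Subgroup.closure_le]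
    intro t ht
    exact mem_sqPart_of_sq_eq_one (hP t (hT ▸ Subgroup.subset_closure ht))
      (by rw [← map_pow, hinv t ht, map_one])
  intro g hg
  obtain ⟨a, ha, w, hw, rfl⟩ := hLK hg
  refine mul_mem ?_ (hperm hw)
  have haL : B a ∈ L := by simpa using mul_mem hg (inv_mem (hP w hw))
  classical
  let b : ι → A := fun i => if a i ∈ W₁ then 1 else s
  have hb2 : b ^ 2 = 1 := funext fun i => by
    by_cases h : a i ∈ W₁ <;> simp [b, h, hs2]
  have hab : ∀ i, (a * b) i ∈ W₁ := fun i => by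
    by_cases h : a i ∈ W₁
    · simpa [b, h] using h
    · simpa [b, h] using (hcase _ (ha i)).resolve_left h
  have h1 : B (a * b) ∈ sqPart L := by
    show a * b ∈ (sqPart L).comap B
    refine Subgroup.pi_mem_of_mulSingle_mem (a * b) fun i => ?_
    have hm : W₁.map (B.comp (MonoidHom.mulSingle (fun _ : ι => A) i)) ≤ L := by
      rintro _ ⟨x, hx, rfl⟩
      exact hB i x hx
    exact mem_sqPart_of_mono hm (mem_sqPart_map _ (hW₁ (hab i)))
  have h2 : B b ∈ sqPart L := by
    refine mem_sqPart_of_sq_eq_one ?_ (by rw [← map_pow, hb2, map_one])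
    have : B b = (B a)⁻¹ * B (a * b) := by rw [map_mul, inv_mul_cancel_left]
    rw [this]
    exact mul_mem (inv_mem haL) (sqPart_le L h1)
  have h3 : a * b * b = a := by rw [mul_assoc, ← pow_two, hb2, mul_one]
  rw [← h3, map_mul]
  exact mul_mem h1 h2

end Wreath

section Swap

variable {ι : Type*} [Fintype ι] [DecidableEq ι] {A : Type*} [CommGroup A]
  (B : (ι → A) →* G) (P : Equiv.Perm ι →* G)
  (hrel : ∀ w a, P w * B a = B (fun i => a (w.symm i)) * P w)
  (W : Subgroup A) (S : Subgroup (Equiv.Perm ι))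

/-- `S` exchanges any two points and is generated by involutions, `χ` is the product on the base. -/
theorem le_sqPart_of_swap [Nonempty ι] {T : Set (Equiv.Perm ι)} (hT : Subgroup.closure T = S)
    (hinv : ∀ t ∈ T, t ^ 2 = 1) (χ : G →* A) (hχB : ∀ a, χ (B a) = ∏ i, a i)
    (hχP : ∀ w ∈ S, χ (P w) ∈ W) (hroot : ∀ v ∈ W, v ^ 2 = 1 → ∃ z ∈ W, z ^ 2 = v)
    (hswap : ∀ i j, ∃ w ∈ S, w i = j ∧ w j = i) :
    wreathSub B P hrel W S ⊓ χ.ker ≤ sqPart (wreathSub B P hrel W S ⊓ χ.ker) := by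
  classical
  obtain ⟨i₀⟩ := ‹Nonempty ι›
  set L := wreathSub B P hrel W S ⊓ χ.ker with hL
  -- lifts of permutations
  let lift : Equiv.Perm ι → G := fun w => B (Pi.mulSingle i₀ (χ (P w))⁻¹) * P w
  have hlift : ∀ w ∈ S, lift w ∈ L := fun w hw => by
    refine ⟨mul_mem (base_mem_wreathSub B P hrel W S (single_mem W (inv_mem (hχP w hw))))
      (perm_mem_wreathSub B P hrel W S hw), ?_⟩
    show χ (B (Pi.mulSingle i₀ (χ (P w))⁻¹) * P w) = 1
    rw [map_mul, hχB, Finset.prod_pi_mulSingle', if_pos (Finset.mem_univ _), inv_mul_cancel]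
  have hd : ∀ i j : ι, ∀ x ∈ W, B (Pi.mulSingle i x * Pi.mulSingle j x⁻¹) ∈ sqPart L := by
    intro i j x hx
    have hmem : B (Pi.mulSingle i x * Pi.mulSingle j x⁻¹) ∈ L := by
      refine ⟨base_mem_wreathSub B P hrel W S fun k =>
        mul_mem (single_mem W hx k) (single_mem W (inv_mem hx) k), ?_⟩
      show χ (B _) = 1
      rw [hχB]
      simp [Finset.prod_mul_distrib]
    obtain ⟨w, hw, hwi, hwj⟩ := hswap i j
    refine mem_sqPart_of_inverted hmem (hlift w hw) ?_
    have hsi : w.symm i = j := by rw [Equiv.symm_apply_eq, hwj]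
    have hsj : w.symm j = i := by rw [Equiv.symm_apply_eq, hwi]
    have e : (fun k => (Pi.mulSingle i x * Pi.mulSingle j x⁻¹ : ι → A) (w.symm k)) =
        (Pi.mulSingle i x * Pi.mulSingle j x⁻¹)⁻¹ := by
      funext k
      simp only [Pi.mul_apply, Pi.inv_apply, Pi.mulSingle_apply, Equiv.symm_apply_eq, hwi, hwj]
      by_cases h1 : k = i <;> by_cases h2 : k = j <;> simp [h1, h2] <;> simp_all
    have key : ∀ c : ι → A, lift w * B c * (lift w)⁻¹ = B (fun k => c (w.symm k)) := fun c => by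
      have := hrel w c
      simp only [lift]
      rw [mul_assoc (B _) (P w), this, _root_.mul_inv_rev, mul_assoc (B _) (_ * P w),
        mul_assoc (B fun i => c (w.symm i)), mul_inv_cancel_left, ← B.map_inv, ← B.map_mul, ← B.map_mul]
      congr 1
      funext k
      simp [mul_comm, mul_left_comm]
    rw [key, e, map_inv]
  have hperm : ∀ w ∈ S, ∃ g ∈ sqPart L, ∃ a : ι → A, (∀ i, a i ∈ W) ∧ g = B a * P w := by
    intro w hw
    rw [← hT] at hw
    induction hw using Subgroup.closure_induction with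
    | one => exact ⟨1, one_mem _, 1, fun _ => one_mem _, by simp⟩
    | mul x y _ _ hx hy =>
      obtain ⟨g, hg, a, ha, rfl⟩ := hx
      obtain ⟨g', hg', b, hb, rfl⟩ := hy
      refine ⟨_, mul_mem hg hg', a * fun i => b (x.symm i), fun i => mul_mem (ha i) (hb _), ?_⟩
      rw [map_mul, map_mul, mul_assoc (B a), ← mul_assoc (P x), hrel]
      simp only [mul_assoc]
    | inv x _ hx =>
      obtain ⟨g, hg, a, ha, rfl⟩ := hx
      refine ⟨_, inv_mem hg, fun i => a⁻¹ (x⁻¹.symm i), fun i => inv_mem (ha _), ?_⟩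
      rw [_root_.mul_inv_rev, ← map_inv, ← map_inv, hrel]
    | mem t ht =>
      have htS : t ∈ S := hT ▸ Subgroup.subset_closure ht
      refine ⟨lift t, mem_sqPart_iff.2 ⟨hlift t htS, ?_⟩, _,
        single_mem W (inv_mem (hχP t htS)), rfl⟩
      set v := (χ (P t))⁻¹ with hv
      have hv2 : v ^ 2 = 1 := by
        rw [hv, inv_pow, ← map_pow, ← map_pow, hinv t ht, map_one, map_one, inv_one]
      have ht2 : P t * P t = 1 := by rw [← map_mul, ← pow_two, hinv t ht, map_one]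
      have e : lift t ^ 2 = B (Pi.mulSingle i₀ v * fun k => (Pi.mulSingle i₀ v : ι → A) (t.symm k)) := by
        simp only [lift, ← hv, pow_two]
        rw [mul_assoc (B _), ← mul_assoc (P t), hrel, mul_assoc _ (P t), ht2, mul_one, map_mul]
      have e2 : (fun k => (Pi.mulSingle i₀ v : ι → A) (t.symm k)) = Pi.mulSingle (t i₀) v := by
        funext k
        simp [Pi.mulSingle_apply, Equiv.symm_apply_eq]
      rw [e, e2]
      by_cases h : t i₀ = i₀
      · rw [h, ← Pi.mulSingle_mul, ← pow_two, hv2, Pi.mulSingle_one, map_one]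
        exact one_mem _
      · obtain ⟨z, hz, hzv⟩ := hroot v (inv_mem (hχP t htS)) hv2
        have h2 := (mem_sqPart_iff.1 (hd i₀ (t i₀) z hz)).2
        have hv' : (z⁻¹) ^ 2 = v := by
          rw [inv_pow, hzv]; exact inv_eq_of_mul_eq_one_right (by rw [← pow_two, hv2])
        rwa [← map_pow, mul_pow, ← Pi.mulSingle_pow, ← Pi.mulSingle_pow, hzv, hv'] at h2
  -- the base
  have hbase : ∀ a : ι → A, (∀ i, a i ∈ W) → B a ∈ L → B a ∈ sqPart L := by
    intro a ha haL
    have hpr : ∏ i, a i = 1 := by rw [← hχB]; exact haL.2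
    let ψ : (ι → A) →* G :=
      { toFun := fun c => B (c * Pi.mulSingle i₀ (∏ i, c i)⁻¹)
        map_one' := by simp
        map_mul' := fun c d => by
          rw [← map_mul]
          congr 1
          rw [show (∏ i, (c * d) i)⁻¹ = (∏ i, c i)⁻¹ * (∏ i, d i)⁻¹ by
            simp [Finset.prod_mul_distrib, mul_comm], Pi.mulSingle_mul]
          exact mul_mul_mul_comm _ _ _ _ }
    have h1 : a ∈ (sqPart L).comap ψ := by
      refine Subgroup.pi_mem_of_mulSingle_mem a fun i => ?_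
      show B (Pi.mulSingle i (a i) * Pi.mulSingle i₀ (∏ k, (Pi.mulSingle i (a i) : ι → A) k)⁻¹) ∈
        sqPart L
      rw [Finset.prod_pi_mulSingle', if_pos (Finset.mem_univ _)]
      exact hd i i₀ _ (ha i)
    have h2 : ψ a ∈ sqPart L := h1
    simpa [ψ, hpr] using h2
  intro g hg
  obtain ⟨a, ha, w, hw, rfl⟩ := hg.1
  obtain ⟨g₁, hg₁, b, hb, rfl⟩ := hperm w hw
  have h : B a * P w * (B b * P w)⁻¹ = B (a * b⁻¹) := by
    rw [map_mul, map_inv]; group
  have hmem : B (a * b⁻¹) ∈ L := h ▸ mul_mem hg (inv_mem (sqPart_le L hg₁))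
  have h2 : B (a * b⁻¹) * (B b * P w) ∈ sqPart L :=
    mul_mem (hbase (a * b⁻¹) (fun i => mul_mem (ha i) (inv_mem (hb i))) hmem) hg₁
  rwa [← h, inv_mul_cancel_right] at h2

end Swap

end CfsgLib.WreathSquares
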